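import Cfsg.Agent.CHEV.McL1
import Cfsg.Agent.CLAS.SpAlt
import Cfsg.Agent.CLAS.SLBasic
import Cfsg.Agent.INV.BaerSuzuki
import Cfsg.Prelude.Def_Solvable

/-!
# McLaughlin's theorem: linear groups generated by full transvection groups
-/

set_option autoImplicit false
set_option linter.unusedSectionVars false

open Module Cfsg CL.Witt

namespace CL.McL

variable {F V : Type*} [Field F] [AddCommGroup V] [Module F V]

/-- the stabiliser of the chain `0 ≤ A ≤ B ≤ V` -/
def unip (A B : Submodule F V) : Subgroup (V ≃ₗ[F] V) where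
  carrier := {g | (∀ v, g v - v ∈ B) ∧ (∀ v ∈ B, g v - v ∈ A) ∧ ∀ v ∈ A, g v = v}
  one_mem' := ⟨by simp, by simp, by simp⟩
  mul_mem' := by
    rintro g h ⟨g1, g2, g3⟩ ⟨h1, h2, h3⟩
    refine ⟨fun v => ?_, fun v hv => ?_, fun v hv => ?_⟩
    · simpa using add_mem (g1 (h v)) (h1 v)
    · simpa using add_mem (g2 (h v) (by simpa using add_mem (h1 v) hv)) (h2 v hv)
    · simp [h3 v hv, g3 v hv]
  inv_mem' := by
    rintro g ⟨g1, g2, g3⟩
    have e : ∀ v, g (g⁻¹ v) = v := fun v => g.apply_symm_apply v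
    have k1 : ∀ v, g⁻¹ v - v ∈ B := fun v => by simpa [e] using neg_mem (g1 (g⁻¹ v))
    refine ⟨k1, fun v hv => ?_, fun v hv => ?_⟩
    · simpa [e] using neg_mem (g2 (g⁻¹ v) (by simpa using add_mem (k1 v) hv))
    · conv_lhs => rw [← g3 v hv]
      exact g.symm_apply_apply v

theorem mem_unip {A B : Submodule F V} {g : V ≃ₗ[F] V} : g ∈ unip A B ↔
    (∀ v, g v - v ∈ B) ∧ (∀ v ∈ B, g v - v ∈ A) ∧ ∀ v ∈ A, g v = v := Iff.rfl

theorem isPGroup_unip (p : ℕ) [Fact p.Prime] [CharP F p] (A B : Submodule F V) :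
    IsPGroup p (unip A B) := by
  rintro ⟨g, g1, g2, g3⟩
  refine ⟨2, Subtype.ext ?_⟩
  show g ^ p ^ 2 = 1
  rcases subsingleton_or_nontrivial V with hV | hV
  · ext v; exact Subsingleton.elim _ _
  have : CharP (Module.End F V) p :=
    charP_of_injective_algebraMap (algebraMap F (Module.End F V)).injective p
  have h3 : ((g : Module.End F V) - 1) ^ 3 = 0 := by
    ext v
    have := g3 _ (g2 _ (g1 v))
    simp only [map_sub] at this
    simp only [pow_succ, pow_zero, one_mul, Module.End.mul_apply, LinearMap.sub_apply,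
      Module.End.one_apply, LinearEquiv.coe_coe, map_sub, LinearMap.zero_apply]
    rw [sub_eq_zero, this]
  have h4 : ((g : Module.End F V) - 1) ^ p ^ 2 = 0 := by
    refine pow_eq_zero_of_le ?_ h3
    have := (Fact.out : p.Prime).two_le
    nlinarith
  rw [sub_pow_char_pow_of_commute _ _ (Commute.one_right _), one_pow, sub_eq_zero] at h4
  apply LinearEquiv.toLinearMap_injective
  exact (map_pow (LinearEquiv.automorphismGroup.toLinearMapMonoidHom (R := F) (M := V)) g _).trans h4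

theorem conj_mem_unip {A B : Submodule F V} {g h : V ≃ₗ[F] V} (hg : g ∈ unip A B) (hA : h ∈ stab A)
    (hB : h ∈ stab B) : h * g * h⁻¹ ∈ unip A B := by
  have e : ∀ v, h (h⁻¹ v) = v := fun v => h.apply_symm_apply v
  have hA' := inv_mem hA
  have hB' := inv_mem hB
  refine ⟨fun v => ?_, fun v hv => ?_, fun v hv => ?_⟩
  · simpa [e] using (hB _).1 (hg.1 (h⁻¹ v))
  · simpa [e] using (hA _).1 (hg.2.1 (h⁻¹ v) ((hB' v).1 hv))
  · rw [LinearEquiv.mul_apply, LinearEquiv.mul_apply, hg.2.2 _ ((hA' v).1 hv), e]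

/-- `t` is the transvection with centre `x` and axis `φ` -/
def IsTv (t : V ≃ₗ[F] V) (x : V) (φ : Dual F V) : Prop := ∀ v, t v = v + φ v • x

theorem IsTv.conj {t : V ≃ₗ[F] V} {x : V} {φ : Dual F V} (h : IsTv t x φ) (g : V ≃ₗ[F] V) :
    IsTv (g * t * g⁻¹) (g x) (φ ∘ₗ (g⁻¹ : V ≃ₗ[F] V)) := by
  intro v
  have e : ∀ v, g (g⁻¹ v) = v := fun v => g.apply_symm_apply v
  rw [LinearEquiv.mul_apply, LinearEquiv.mul_apply, h, map_add, map_smul, e]
  rfl

theorem IsTv.inv {t : V ≃ₗ[F] V} {x : V} {φ : Dual F V} (h : IsTv t x φ) (h0 : φ x = 0) :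
    IsTv t⁻¹ x (-φ) := by
  intro v
  apply t.injective
  have e : ∀ v, t (t⁻¹ v) = v := fun v => t.apply_symm_apply v
  rw [e, h]
  simp [h0]

theorem IsTv.ext {t t' : V ≃ₗ[F] V} {x : V} {φ : Dual F V} (h : IsTv t x φ) (h' : IsTv t' x φ) :
    t = t' := LinearEquiv.ext fun v => by rw [h, h']

theorem IsTv.commute {t t' : V ≃ₗ[F] V} {x y : V} {φ ψ : Dual F V} (h : IsTv t x φ)
    (h' : IsTv t' y ψ) (h1 : φ y = 0) (h2 : ψ x = 0) : Commute t t' := by
  refine LinearEquiv.ext fun v => ?_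
  rw [LinearEquiv.mul_apply, LinearEquiv.mul_apply, h, h', h', h]
  simp [h1, h2]
  abel

/-- the transvections in `H` -/
def Tr (H : Subgroup (V ≃ₗ[F] V)) (x : V) (φ : Dual F V) : Prop :=
  x ≠ 0 ∧ φ ≠ 0 ∧ φ x = 0 ∧ ∃ t ∈ H, IsTv t x φ

/-- the group generated by the transvections of a system -/
def grp (C : V → Dual F V → Prop) : Subgroup (V ≃ₗ[F] V) :=
  Subgroup.closure {t | ∃ x φ, C x φ ∧ IsTv t x φ}

/-- the common fixed space of a system -/
def fix (C : V → Dual F V → Prop) : Submodule F V := (cen F (fun φ x => C x φ)).dualCoannihilator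

theorem mem_fix {C : V → Dual F V → Prop} {v : V} : v ∈ fix C ↔ ∀ x φ, C x φ → φ v = 0 := by
  rw [fix, Submodule.mem_dualCoannihilator]
  refine ⟨fun h x φ hx => h φ (mem_cen (S := fun φ x => C x φ) hx), fun h φ hφ => ?_⟩
  induction hφ using Submodule.span_induction with
  | mem φ hφ => obtain ⟨x, hx⟩ := hφ; exact h x φ hx
  | zero => simp
  | add _ _ _ _ h1 h2 => simp [h1, h2]
  | smul _ _ _ h1 => simp [h1]

theorem apply_of_mem_fix {C : V → Dual F V → Prop} {g : V ≃ₗ[F] V} (hg : g ∈ grp C) {v : V}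
    (hv : v ∈ fix C) : g v = v := by
  induction hg using Subgroup.closure_induction with
  | mem t ht =>
    obtain ⟨x, φ, hx, ht⟩ := ht
    rw [ht, mem_fix.1 hv x φ hx, zero_smul, add_zero]
  | one => rfl
  | mul _ _ _ _ h1 h2 => rw [LinearEquiv.mul_apply, h2, h1]
  | inv t _ h1 =>
    conv_lhs => rw [← h1]
    exact t.symm_apply_apply v

/-- evaluation pairing -/
abbrev ev (F V : Type*) [Field F] [AddCommGroup V] [Module F V] : V →ₗ[F] Dual F V →ₗ[F] F :=
  Dual.eval F V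

variable {H : Subgroup (V ≃ₗ[F] V)}

theorem Tr.conj {x : V} {φ : Dual F V} (h : Tr H x φ) {g : V ≃ₗ[F] V} (hg : g ∈ H) :
    Tr H (g x) (φ ∘ₗ (g⁻¹ : V ≃ₗ[F] V)) := by
  obtain ⟨h1, h2, h3, t, ht, h4⟩ := h
  have e : ∀ v, g⁻¹ (g v) = v := fun v => g.symm_apply_apply v
  refine ⟨by simpa using h1, fun h5 => h2 (LinearMap.ext fun v => ?_), ?_, _,
    mul_mem (mul_mem hg ht) (inv_mem hg), h4.conj g⟩
  · simpa [e] using LinearMap.congr_fun h5 (g v)
  · simpa [e] using h3

/-- unions of one or no component -/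
structure IsComp (H : Subgroup (V ≃ₗ[F] V)) (C : V → Dual F V → Prop) : Prop where
  tr : ∀ {x φ}, C x φ → Tr H x φ
  cl : ∀ {x φ y ψ}, C x φ → Tr H y ψ → ψ x ≠ 0 ∨ φ y ≠ 0 → C y ψ
  conn : ∀ {x φ y ψ}, C x φ → C y ψ → Relation.ReflTransGen (NAdj (ev F V) (Tr H)) (x, φ) (y, ψ)

theorem IsComp.of_path {C : V → Dual F V → Prop} (hC : IsComp H C) {p q : V × Dual F V}
    (hp : C p.1 p.2) (h : Relation.ReflTransGen (NAdj (ev F V) (Tr H)) p q) :
    C q.1 q.2 ∧ Relation.ReflTransGen (NAdj (ev F V) C) p q := by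
  induction h with
  | refl => exact ⟨hp, .refl⟩
  | tail _ h1 ih =>
    have := hC.cl ih.1 h1.2.1 h1.2.2
    exact ⟨this, ih.2.tail ⟨ih.1, this, h1.2.2⟩⟩

theorem IsComp.eq {C C' : V → Dual F V → Prop} (hC : IsComp H C) (hC' : IsComp H C') {x : V}
    {φ : Dual F V} (h : C x φ) (h' : C' x φ) : C = C' := by
  ext y ψ
  exact ⟨fun hy => (hC'.of_path (p := (x, φ)) h' (hC.conn h hy)).1,
    fun hy => (hC.of_path (p := (x, φ)) h (hC'.conn h' hy)).1⟩

theorem isComp_bot : IsComp H (fun _ _ => False) := ⟨False.elim, False.elim, False.elim⟩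

theorem exists_isComp {x : V} {φ : Dual F V} (h : Tr H x φ) : ∃ C, IsComp H C ∧ C x φ := by
  have hs : ∀ {p q : V × Dual F V}, Relation.ReflTransGen (NAdj (ev F V) (Tr H)) p q →
      Relation.ReflTransGen (NAdj (ev F V) (Tr H)) q p := by
    intro p q hpq
    induction hpq with
    | refl => exact .refl
    | tail _ h1 ih => exact .head ⟨h1.2.1, h1.1, h1.2.2.symm⟩ ih
  exact ⟨fun y ψ => Tr H y ψ ∧ Relation.ReflTransGen (NAdj (ev F V) (Tr H)) (x, φ) (y, ψ),
    ⟨fun h => h.1, fun h1 h2 h3 => ⟨h2, h1.2.tail ⟨h1.1, h2, h3⟩⟩,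
      fun h1 h2 => (hs h1.2).trans h2.2⟩, h, .refl⟩

theorem IsComp.orth {C C' : V → Dual F V → Prop} (hC : IsComp H C) (hC' : IsComp H C') (hne : C ≠ C')
    {x y : V} {φ ψ : Dual F V} (h : C x φ) (h' : C' y ψ) : ψ x = 0 := by
  by_contra h1
  exact hne (hC.eq hC' (hC.cl h (hC'.tr h') (Or.inl h1)) h')

theorem IsComp.cen_le_fix {C C' : V → Dual F V → Prop} (hC : IsComp H C) (hC' : IsComp H C')
    (hne : C ≠ C') : cen F C ≤ fix C' := by
  rw [cen, Submodule.span_le]
  rintro x ⟨φ, hx⟩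
  exact mem_fix.2 fun y ψ hy => hC.orth hC' hne hx hy

theorem IsComp.grp_le {C : V → Dual F V → Prop} (hC : IsComp H C) : grp C ≤ H := by
  rw [grp, Subgroup.closure_le]
  rintro t ⟨x, φ, hx, ht⟩
  obtain ⟨-, -, -, t', ht', h⟩ := hC.tr hx
  exact (h.ext ht) ▸ ht'

theorem IsComp.commute {C C' : V → Dual F V → Prop} (hC : IsComp H C) (hC' : IsComp H C')
    (hne : C ≠ C') {a b : V ≃ₗ[F] V} (ha : a ∈ grp C) (hb : b ∈ grp C') : a * b = b * a := by
  have : grp C ≤ Subgroup.centralizer (grp C' : Set (V ≃ₗ[F] V)) := by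
    rw [grp, Subgroup.closure_le]
    rintro t ⟨x, φ, hx, ht⟩
    rw [SetLike.mem_coe, grp, Subgroup.centralizer_closure, Subgroup.mem_centralizer_iff]
    rintro t' ⟨y, ψ, hy, ht'⟩
    exact ht'.commute ht (hC.orth hC' hne hx hy) (hC'.orth hC hne.symm hy hx)
  exact (this ha b hb).symm

section fin

variable [Finite V]

theorem IsComp.le_stab_cen {C : V → Dual F V → Prop} (hC : IsComp H C) (hgen : H ≤ grp (Tr H)) :
    H ≤ stab (cen F C) := by
  refine hgen.trans ((Subgroup.closure_le _).2 ?_)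
  rintro t ⟨y, ψ, hy, ht⟩
  refine mem_stab_of_le fun v hv => ?_
  rw [ht]
  obtain ⟨C', hC', h1⟩ := exists_isComp hy
  by_cases h : C = C'
  · exact add_mem hv (Submodule.smul_mem _ _ (mem_cen (h ▸ h1)))
  · simpa [mem_fix.1 (hC.cen_le_fix hC' h hv) y ψ h1] using hv

theorem IsComp.le_stab_fix {C : V → Dual F V → Prop} (hC : IsComp H C) (hgen : H ≤ grp (Tr H)) :
    H ≤ stab (fix C) := by
  refine hgen.trans ((Subgroup.closure_le _).2 ?_)
  rintro t ⟨y, ψ, hy, ht⟩
  refine mem_stab_of_le fun v hv => ?_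
  rw [ht]
  obtain ⟨C', hC', h1⟩ := exists_isComp hy
  by_cases h : C' = C
  · simpa [mem_fix.1 hv y ψ (h ▸ h1)] using hv
  · exact add_mem hv (Submodule.smul_mem _ _ (hC'.cen_le_fix hC h (mem_cen h1)))

variable {p : ℕ} [Fact p.Prime] [CharP F p] (hOp : pCore p H = ⊥)
include hOp

theorem Tr.nbr {x : V} {φ : Dual F V} (h : Tr H x φ) : ∃ y ψ, Tr H y ψ ∧ ψ x ≠ 0 ∧ φ y ≠ 0 := by
  by_contra hcon
  push Not at hcon
  have : Finite (V ≃ₗ[F] V) :=
    Finite.of_injective (fun g : V ≃ₗ[F] V => (g : V → V)) DFunLike.coe_injective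
  have key : ∀ {x y : V} {φ ψ : Dual F V} {t t' : H}, IsTv t.1 x φ → IsTv t'.1 y ψ → φ x = 0 →
      ψ y = 0 → φ y = 0 → IsPGroup p (Subgroup.closure ({t, t'} : Set H)) := by
    intro x y φ ψ t t' ht ht' h1 h2 h3
    have hx : x ∈ Submodule.span F {x, y} := Submodule.subset_span (by simp)
    have hy : y ∈ Submodule.span F {x, y} := Submodule.subset_span (by simp)
    have hy' := Submodule.mem_span_singleton_self (R := F) y
    refine ((isPGroup_unip p (F ∙ y) (Submodule.span F {x, y})).comap_subtype (K := H)).to_le ?_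
    rw [Subgroup.closure_le]
    rintro _ (rfl | rfl)
    · refine ⟨fun v => ?_, fun v hv => ?_, fun v hv => ?_⟩
      · simpa [ht v] using Submodule.smul_mem _ _ hx
      · obtain ⟨a, b, rfl⟩ := Submodule.mem_span_pair.1 hv
        simp [ht _, h1, h3]
      · obtain ⟨a, rfl⟩ := Submodule.mem_span_singleton.1 hv
        simp [ht _, h3]
    · refine ⟨fun v => ?_, fun v hv => ?_, fun v hv => ?_⟩
      · simpa [ht' v] using Submodule.smul_mem _ _ hy
      · simpa [ht' v] using Submodule.smul_mem _ _ hy'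
      · obtain ⟨a, rfl⟩ := Submodule.mem_span_singleton.1 hv
        simp [ht' _, h2]
  obtain ⟨t, ht, h4⟩ := h.2.2.2
  obtain ⟨N, hN, hp, hmem⟩ := CL.Inv.baer_suzuki_exists_normal (p := p) (x := (⟨t, ht⟩ : H)) fun g => by
    have h5 := h.conj g.2
    have h6 : IsTv (g * ⟨t, ht⟩ * g⁻¹ : H).1 _ _ := h4.conj g.1
    by_cases h7 : (φ ∘ₗ (g.1⁻¹ : V ≃ₗ[F] V)) x = 0
    · rw [Set.pair_comm]
      exact key h6 h4 h5.2.2.1 h.2.2.1 h7
    · exact key h4 h6 h.2.2.1 h5.2.2.1 (hcon _ _ h5 h7)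
  have h5 : N ≤ pCore p H := le_sSup ⟨hN, hp⟩
  have h6 : t = 1 := congrArg (fun z : H => z.1) (Subgroup.mem_bot.1 (hOp ▸ h5 hmem))
  refine h.2.1 (LinearMap.ext fun v => ?_)
  have := h4 v
  simpa [h6, h.1] using this

variable (hgen : H ≤ grp (Tr H)) (hfull : ∀ x φ, Tr H x φ → ∀ a : F, a ≠ 0 → Tr H x (a • φ))
include hgen hfull

theorem IsComp.ts {C : V → Dual F V → Prop} (hC : IsComp H C) : TS (ev F V) C where
  orth hx := (hC.tr hx).2.2.1
  smul {x φ a b} hx ha hb := by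
    obtain ⟨y, ψ, hy, h1, h2⟩ := (hC.tr hx).nbr hOp
    refine hC.cl (hC.cl hx hy (Or.inl h1)) ?_ (Or.inl (by simp [hb, h2]))
    obtain ⟨h3, h4, h5, t, ht, h6⟩ := hfull _ _ (hC.tr hx) (a * b) (mul_ne_zero ha hb)
    refine ⟨smul_ne_zero ha h3, smul_ne_zero hb (hC.tr hx).2.1, by simp [(hC.tr hx).2.2.1], t, ht,
      fun v => ?_⟩
    rw [h6]; simp only [LinearMap.smul_apply, smul_eq_mul, smul_smul]; ring_nf
  add_left {x x' φ} hx hx' h0 := by
    obtain ⟨y, ψ, hy, h1, h2⟩ := (hC.tr hx).nbr hOp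
    refine hC.cl (hC.cl hx hy (Or.inl h1)) ?_ (Or.inl h2)
    obtain ⟨-, h4, h5, t, ht, h6⟩ := hC.tr hx
    obtain ⟨-, -, h5', t', ht', h6'⟩ := hC.tr hx'
    refine ⟨h0, h4, by simp [h5, h5'], t * t', mul_mem ht ht', fun v => ?_⟩
    rw [LinearEquiv.mul_apply, h6, h6']; simp [h5']; abel
  add_right {x φ φ'} hx hx' h0 := by
    obtain ⟨y, ψ, hy, h1, h2⟩ := (hC.tr hx).nbr hOp
    refine hC.cl (hC.cl hx hy (Or.inl h1)) ?_ (Or.inr h1)
    obtain ⟨h3, -, h5, t, ht, h6⟩ := hC.tr hx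
    obtain ⟨-, -, h5', t', ht', h6'⟩ := hC.tr hx'
    refine ⟨h3, h0, by simp [h5, h5'], t * t', mul_mem ht ht', fun v => ?_⟩
    rw [LinearEquiv.mul_apply, h6, h6']; simp [h5, add_smul]; abel
  conj {x φ y ψ} c hx hy := by
    by_cases hc : c = 0
    · simpa [hc] using hx
    by_cases h0 : ψ x = 0 ∧ φ y = 0
    · simpa [h0.1, h0.2] using hx
    obtain ⟨-, -, h5, t, ht, h6⟩ := hfull _ _ (hC.tr hy) c hc
    have h7 := (hC.tr hx).conj ht
    have e1 : t x = x + (c * ψ x) • y := by rw [h6]; simp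
    have e2 : φ ∘ₗ (t⁻¹ : V ≃ₗ[F] V) = φ - (c * φ y) • ψ := by
      ext v
      rw [LinearMap.comp_apply, LinearEquiv.coe_coe, h6.inv h5]
      simp; ring
    rw [e1, e2] at h7
    refine hC.cl hy h7 ?_
    have h8 := (hC.tr hy).2.2.1
    rw [not_and_or] at h0
    simpa [h8] using h0.symm
  nbr hx := by
    obtain ⟨y, ψ, hy, h1, h2⟩ := (hC.tr hx).nbr hOp
    exact ⟨y, ψ, hC.cl hx hy (Or.inl h1), h1, h2⟩
  conn hx hy := (hC.of_path hx (hC.conn hx hy)).2
  inj {x φ x' φ'} hx hx' h1 h2 := by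
    obtain ⟨h3, h4, h5, t, ht, h6⟩ := hC.tr hx
    obtain ⟨-, -, h5', t', ht', h6'⟩ := hC.tr hx'
    have h7 : ∀ v ∈ cen F C, φ v = φ' v := by
      intro v hv
      have : cen F C ≤ LinearMap.ker (φ - φ') := by
        rw [cen, Submodule.span_le]
        rintro y ⟨ψ, hy⟩
        exact h2 y ψ hy
      exact sub_eq_zero.1 (this hv)
    have h8 : x - x' ∈ fix C := mem_fix.2 h1
    have hN : ((unip (cen F C ⊓ fix C) (cen F C)).subgroupOf H).Normal := by
      refine ⟨fun n hn g => conj_mem_unip hn ?_ (hC.le_stab_cen hgen g.2)⟩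
      intro v
      exact and_congr (hC.le_stab_cen hgen g.2 v) (hC.le_stab_fix hgen g.2 v)
    have hle : (unip (cen F C ⊓ fix C) (cen F C)).subgroupOf H ≤ pCore p H :=
      le_sSup ⟨hN, (isPGroup_unip p _ _).comap_subtype⟩
    have e : ∀ v, (t * t'⁻¹) v - v = φ v • x - φ' v • x' := by
      intro v
      rw [LinearEquiv.mul_apply, h6, h6'.inv h5']
      simp [h7 x' (mem_cen hx'), h5']
      abel
    have hm : t * t'⁻¹ ∈ unip (cen F C ⊓ fix C) (cen F C) := by
      refine ⟨fun v => ?_, fun v hv => ?_, fun v hv => ?_⟩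
      · rw [e]
        exact sub_mem (Submodule.smul_mem _ _ (mem_cen hx)) (Submodule.smul_mem _ _ (mem_cen hx'))
      · rw [e, ← h7 v hv, ← smul_sub]
        exact Submodule.smul_mem _ _ ⟨sub_mem (mem_cen hx) (mem_cen hx'), h8⟩
      · rw [← sub_eq_zero, e, mem_fix.1 hv.2 x φ hx, mem_fix.1 hv.2 x' φ' hx']; simp
    have h9 : t * t'⁻¹ = 1 := congrArg (fun z : H => z.1)
      (Subgroup.mem_bot.1 (hOp ▸ hle (show (⟨_, mul_mem ht (inv_mem ht')⟩ : H) ∈ _ from hm)))
    have e' : ∀ v, φ v • x = φ' v • x' := fun v => by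
      rw [← sub_eq_zero, ← e, h9]; simp
    obtain ⟨y, ψ, hy, -, h11⟩ := (hC.tr hx).nbr hOp
    have h12 := e' y
    rw [← h7 y (mem_cen (hC.cl hx hy (Or.inr h11)))] at h12
    have h13 : x = x' := smul_right_injective V h11 h12
    subst h13
    exact ⟨rfl, LinearMap.ext fun v => smul_left_injective F h3 (e' v)⟩

variable (h3 : ∃ a : F, a ≠ 0 ∧ a ≠ 1)
include h3

theorem IsComp.isCompl {C : V → Dual F V → Prop} (hC : IsComp H C) : IsCompl (cen F C) (fix C) := by
  have hts := hC.ts hOp hgen hfull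
  constructor
  · rw [Submodule.disjoint_def]
    exact fun v hv hv' => hts.rad h3 hv (mem_fix.1 hv')
  · rw [codisjoint_iff, ← Subspace.dualAnnihilator_inj, Submodule.dualAnnihilator_top,
      Submodule.dualAnnihilator_sup_eq, fix, Subspace.dualCoannihilator_dualAnnihilator_eq,
      eq_bot_iff]
    rintro φ ⟨h1, h2⟩
    exact hts.flip.rad h3 h2 fun ψ y hy => (Submodule.mem_dualAnnihilator φ).1 h1 y (mem_cen hy)

end fin

/-- restriction to an invariant subspace -/
def res (K : Subgroup (V ≃ₗ[F] V)) (W : Submodule F V) (h : K ≤ stab W) : K →* (W ≃ₗ[F] W) where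
  toFun g := g.1.ofSubmodules W W (mem_stab_iff_map.1 (h g.2))
  map_one' := by ext; rfl
  map_mul' _ _ := by ext; rfl

theorem res_apply {K : Subgroup (V ≃ₗ[F] V)} {W : Submodule F V} (h : K ≤ stab W) (g : K) (v : W) :
    (res K W h g v : V) = g.1 v := rfl

theorem res_range_le {C : V → Dual F V → Prop} {W : Submodule F V} (h : grp C ≤ stab W)
    {M : Subgroup (W ≃ₗ[F] W)}
    (hM : ∀ x φ, C x φ → ∀ f : W ≃ₗ[F] W, (∀ v : W, (f v : V) = v + φ v • x) → f ∈ M) :
    (res _ W h).range ≤ M := by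
  rintro _ ⟨⟨g, hg⟩, rfl⟩
  induction hg using Subgroup.closure_induction with
  | mem t ht =>
    obtain ⟨x, φ, hx, ht'⟩ := ht
    exact hM x φ hx _ fun v => ht' v
  | one => exact (map_one (res _ W h)).symm ▸ M.one_mem
  | mul a b ha hb h1 h2 => exact (map_mul (res _ W h) ⟨a, ha⟩ ⟨b, hb⟩).symm ▸ M.mul_mem h1 h2
  | inv a ha h1 => exact (map_inv (res _ W h) ⟨a, ha⟩).symm ▸ M.inv_mem h1

theorem mem_of_det_eq_one [FiniteDimensional F V] {M : Subgroup (V ≃ₗ[F] V)}
    (hM : ∀ (φ : Dual F V) (x : V) (h : φ x = 0), LinearEquiv.transvection h ∈ M) {f : V ≃ₗ[F] V}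
    (hf : LinearMap.det (f : V →ₗ[F] V) = 1) : f ∈ M := by
  classical
  let b := Module.finBasis F V
  let e := Matrix.SpecialLinearGroup.toLin_equiv b
  have := CL.SL.eq_top_of_transvection_mem
    (M.comap (SpecialLinearGroup.toLinearEquiv.comp e.toMonoidHom)) fun i j hij c => by
      have h0 : (c • b.coord j) (b i) = 0 := by simp [hij]
      have : (SpecialLinearGroup.toLinearEquiv.comp e.toMonoidHom)
          (Matrix.SpecialLinearGroup.transvection hij c) = LinearEquiv.transvection h0 := by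
        apply LinearEquiv.toLinearMap_injective
        refine b.ext fun k => ?_
        show Matrix.toLin b b (Matrix.SpecialLinearGroup.transvection hij c) (b k) = _
        rw [Matrix.toLin_self, Matrix.SpecialLinearGroup.transvection_coe]
        simp [Matrix.one_apply, Matrix.single_apply, add_smul, Finset.sum_add_distrib, ite_and,
          LinearMap.transvection.apply, Finsupp.single_apply, eq_comm]
      rw [Subgroup.mem_comap, this]
      exact hM _ _ _
  have h1 : e.symm ⟨f, by rw [← Units.val_inj, LinearEquiv.coe_det, hf]; rfl⟩ ∈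
      M.comap (SpecialLinearGroup.toLinearEquiv.comp e.toMonoidHom) := this ▸ Subgroup.mem_top _
  rw [Subgroup.mem_comap, MonoidHom.comp_apply, MulEquiv.coe_toMonoidHom, e.apply_symm_apply] at h1
  exact h1

section main

variable [Finite V] {p : ℕ} [Fact p.Prime] [CharP F p] (hOp : pCore p H = ⊥)
  (hgen : H ≤ grp (Tr H)) (hfull : ∀ x φ, Tr H x φ → ∀ a : F, a ≠ 0 → Tr H x (a • φ))
  (h3 : ∃ a : F, a ≠ 0 ∧ a ≠ 1)
include hOp hgen hfull h3

theorem IsComp.range_res {C : V → Dual F V → Prop} (hC : IsComp H C) (h : grp C ≤ stab (cen F C)) :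
    ((res _ _ h).range : Set (cen F C ≃ₗ[F] cen F C)) =
        {f : cen F C ≃ₗ[F] cen F C | LinearMap.det (f : cen F C →ₗ[F] cen F C) = 1} ∨
      ∃ B : LinearMap.BilinForm F (cen F C), B.IsAlt ∧ B.Nondegenerate ∧
        ((res _ _ h).range : Set (cen F C ≃ₗ[F] cen F C)) = {f | ∀ x y, B (f x) (f y) = B x y} := by
  have hts := hC.ts hOp hgen hfull
  have hco := hC.isCompl hOp hgen hfull h3
  have hmem : ∀ x φ, C x φ → ∀ f : cen F C ≃ₗ[F] cen F C, (∀ v, (f v : V) = v + φ v • x) →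
      f ∈ (res _ _ h).range := by
    intro x φ hx f hf
    obtain ⟨-, -, -, t, -, ht⟩ := hC.tr hx
    exact ⟨⟨t, Subgroup.subset_closure ⟨x, φ, hx, ht⟩⟩,
      LinearEquiv.ext fun v => Subtype.ext ((ht v).trans (hf v).symm)⟩
  rcases hts.main h3 with h1 | ⟨h1, b, hb1, hb2, hb3⟩
  · left
    apply Set.Subset.antisymm
    · have : (res _ _ h).range ≤ (LinearEquiv.det : (cen F C ≃ₗ[F] cen F C) →* Fˣ).ker := by
        refine res_range_le h fun x φ hx f hf => ?_
        have h0 : (φ ∘ₗ (cen F C).subtype) ⟨x, mem_cen hx⟩ = 0 := hts.orth hx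
        have : f = LinearEquiv.transvection h0 := LinearEquiv.ext fun v => Subtype.ext (hf v)
        rw [this, MonoidHom.mem_ker, LinearEquiv.transvection.det_eq_one]
      intro f hf
      have h2 := this hf
      rw [MonoidHom.mem_ker, ← Units.val_inj, LinearEquiv.coe_det] at h2
      exact h2
    · intro f hf
      refine mem_of_det_eq_one (fun φ x h0 => ?_) hf
      by_cases hx0 : x = 0
      · subst hx0
        rw [LinearEquiv.transvection.of_right_eq_zero]; exact one_mem _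
      by_cases hφ0 : φ = 0
      · subst hφ0
        rw [LinearEquiv.transvection.of_left_eq_zero]; exact one_mem _
      let φ' : Dual F V := φ ∘ₗ (cen F C).projectionOnto _ hco
      have e : ∀ v : cen F C, φ' v = φ v := fun v => by simp [φ']
      refine hmem x φ' (h1 x x.2 φ' ?_ (by simpa using hx0) (fun h4 => hφ0 (LinearMap.ext fun v => ?_))
        ((e x).trans h0)) _ fun v => ?_
      · rw [← Subspace.dualCoannihilator_dualAnnihilator_eq (W := cen F fun φ x => C x φ),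
          Submodule.mem_dualAnnihilator]
        intro v hv
        simp [φ', Submodule.projectionOnto_apply_of_mem_right hco hv]
      · rw [← e, h4]; rfl
      · rw [e]; rfl
  · right
    let B : LinearMap.BilinForm F (cen F C) := (cen F C).subtype.dualMap ∘ₗ b
    have hB : ∀ v w : cen F C, B v w = b v w := fun _ _ => rfl
    have halt : B.IsAlt := hb2
    have hnd : (Form.ofAlt B halt).Nondeg := by
      intro v hv
      refine Subtype.ext (hts.rad h3 v.2 fun y ψ hy => ?_)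
      obtain ⟨a, ha, h4⟩ := hb3 ⟨y, mem_cen hy⟩ ψ hy
      have h5 := h4 v
      rw [hb1] at h5
      have h6 : b v y = 0 := hv ⟨y, mem_cen hy⟩
      simpa [h6, ha] using h5
    refine ⟨B, halt, (Form.nondeg_iff _).1 hnd, Set.Subset.antisymm ?_ ?_⟩
    · have : (res _ _ h).range ≤ (Form.ofAlt B halt).O := by
        refine res_range_le h fun x φ hx f hf => ?_
        obtain ⟨a, ha, h4⟩ := hb3 ⟨x, mem_cen hx⟩ φ hx
        have : f = (Form.ofAlt B halt).tv ⟨x, mem_cen hx⟩ a⁻¹ := by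
          refine LinearEquiv.ext fun v => Subtype.ext ?_
          have h5 : (Form.ofAlt B halt).B ⟨x, mem_cen hx⟩ v = a * φ v := h4 v
          rw [hf, Form.tv_apply, h5, inv_mul_cancel_left₀ ha]; rfl
        rw [this]; exact Form.tv_mem_O _ _ _
      intro f hf
      exact (this hf).B_eq
    · intro f hf
      refine hnd.O_le_of_tv (fun v c => ?_) ((Form.alt_isIsom_iff _ _ _).2 hf)
      by_cases hv0 : v = 0
      · rw [hv0, Form.tv_zero_left]; exact one_mem _
      by_cases hc0 : c = 0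
      · rw [hc0, Form.tv_zero]; exact one_mem _
      obtain ⟨θ, hθ⟩ := h1 v v.2 (by simpa using hv0)
      obtain ⟨a, ha, h4⟩ := hb3 v θ hθ
      refine hmem v _ (hts.smul_right hθ (mul_ne_zero hc0 ha)) _ fun w => ?_
      have h5 : (Form.ofAlt B halt).B v w = a * θ w := h4 w
      rw [Form.tv_apply, h5, ← mul_assoc]; rfl

theorem mclaughlin [Finite F] :
    ∃ (n : ℕ) (W : Fin (n + 1) → Submodule F V) (K : Fin n → Subgroup (V ≃ₗ[F] V)),
      1 ≤ n ∧ DirectSum.IsInternal W ∧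
      (∀ h ∈ H, ∀ i, (W i).map (h : V →ₗ[F] V) = W i) ∧
      (∀ j, K j ≤ H ∧ ((K j).subgroupOf H).Normal) ∧ ⨆ j, K j = H ∧
      (∀ j, K j ⊓ (⨆ j' ∈ {j' : Fin n | j' ≠ j}, K j') = ⊥) ∧
      (∀ j j', j ≠ j' → ∀ a ∈ K j, ∀ b ∈ K j', a * b = b * a) ∧
      (∀ j, ∀ h ∈ K j, ∀ i : Fin (n + 1), i ≠ j.succ → ∀ v ∈ W i, h v = v) ∧
      (∀ j, ∃ ρ : ↥(K j) →* (↥(W j.succ) ≃ₗ[F] ↥(W j.succ)),
        (∀ (h : ↥(K j)) (v : ↥(W j.succ)), ((ρ h v : ↥(W j.succ)) : V) = (h : V ≃ₗ[F] V) (v : V)) ∧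
        ((ρ.range : Set (↥(W j.succ) ≃ₗ[F] ↥(W j.succ))) =
            {f : ↥(W j.succ) ≃ₗ[F] ↥(W j.succ) |
              LinearMap.det (f : ↥(W j.succ) →ₗ[F] ↥(W j.succ)) = 1} ∨
          ∃ B : LinearMap.BilinForm F ↥(W j.succ), B.IsAlt ∧ B.Nondegenerate ∧
            (ρ.range : Set (↥(W j.succ) ≃ₗ[F] ↥(W j.succ))) =
              {f : ↥(W j.succ) ≃ₗ[F] ↥(W j.succ) | ∀ x y, B (f x) (f y) = B x y})) := by
  classical
  have : Finite (Dual F V) :=
    Finite.of_injective (fun g : Dual F V => (g : V → F)) DFunLike.coe_injective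
  obtain ⟨n, ⟨e⟩⟩ := Finite.exists_equiv_fin {C : V → Dual F V → Prop // IsComp H C}
  let C : Fin n → V → Dual F V → Prop := fun j => (e.symm j).1
  have hC : ∀ j, IsComp H (C j) := fun j => (e.symm j).2
  have hne : ∀ {j j'}, j ≠ j' → C j ≠ C j' := fun h h' => h (e.symm.injective (Subtype.ext h'))
  have hex : ∀ x φ, Tr H x φ → ∃ j, C j x φ := by
    intro x φ hx
    obtain ⟨C', hC', h1⟩ := exists_isComp hx
    exact ⟨e ⟨C', hC'⟩, by simpa [C] using h1⟩
  have hco : ∀ j, IsCompl (cen F (C j)) (fix (C j)) := fun j => (hC j).isCompl hOp hgen hfull h3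
  have hfix : ∀ j, fix (Tr H) ≤ fix (C j) := fun j v hv =>
    mem_fix.2 fun x φ hx => mem_fix.1 hv x φ ((hC j).tr hx)
  have hsup : ⨆ j, grp (C j) = H := by
    refine le_antisymm (iSup_le fun j => (hC j).grp_le) (hgen.trans ((Subgroup.closure_le _).2 ?_))
    rintro t ⟨x, φ, hx, ht⟩
    obtain ⟨j, hj⟩ := hex x φ hx
    exact le_iSup (fun j => grp (C j)) j (Subgroup.subset_closure ⟨x, φ, hj, ht⟩)
  let W : Fin (n + 1) → Submodule F V := Fin.cons (fix (Tr H)) fun j => cen F (C j)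
  have hW0 : W 0 = fix (Tr H) := rfl
  have hWs : ∀ j, W j.succ = cen F (C j) := fun j => rfl
  have hWfix : ∀ j i, i ≠ j.succ → W i ≤ fix (C j) := by
    intro j i
    refine Fin.cases (fun _ => hfix j) (fun i hi => ?_) i
    exact (hC i).cen_le_fix (hC j) (hne fun h => hi (by rw [h]))
  let P : V →ₗ[F] V := ∑ j, (cen F (C j)).projection _ (hco j)
  have hP : ∀ v, P v = ∑ j, (cen F (C j)).projection _ (hco j) v := fun v => by simp [P]
  refine ⟨n, W, fun j => grp (C j), Fin.pos_iff_nonempty.2 ⟨e ⟨_, isComp_bot⟩⟩, ?_, ?_, ?_, hsup, ?_,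
    fun j j' h a ha b hb => (hC j).commute (hC j') (hne h) ha hb,
    fun j g hg i hi v hv => apply_of_mem_fix hg (hWfix j i hi hv), fun j => ?_⟩
  · rw [DirectSum.isInternal_submodule_iff_iSupIndep_and_iSup_eq_top]
    constructor
    · intro i
      refine Fin.cases ?_ (fun j => ?_) i
      · have h1 : (⨆ j, ⨆ (_ : j ≠ 0), W j) ≤ LinearMap.eqLocus P LinearMap.id := by
          refine iSup₂_le fun j => Fin.cases (fun h => absurd rfl h) (fun j _ v hv => ?_) j
          show P v = v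
          rw [hP, Finset.sum_eq_single j, Submodule.projection_apply_of_mem_left (hco j) hv]
          · intro i _ hi
            exact Submodule.projection_apply_of_mem_right _
              ((hC j).cen_le_fix (hC i) (hne (Ne.symm hi)) hv)
          · simp
        rw [Submodule.disjoint_def]
        intro v hv hv'
        have h2 : P v = v := h1 hv'
        rw [← h2, hP]
        exact Finset.sum_eq_zero fun j _ => Submodule.projection_apply_of_mem_right _ (hfix j hv)
      · exact (hco j).disjoint.mono_right (iSup₂_le fun i hi => hWfix j i hi)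
    · rw [eq_top_iff]
      intro v _
      have h1 : v - P v ∈ W 0 := by
        refine mem_fix.2 fun x φ hx => ?_
        obtain ⟨j, hj⟩ := hex x φ hx
        rw [hP, map_sub, map_sum, Finset.sum_eq_single j, ← map_sub,
          ← Submodule.projection_eq_self_sub_projection]
        · exact mem_fix.1 (Submodule.projection_apply_mem _ _) x φ hj
        · intro i _ hi
          exact mem_fix.1 ((hC i).cen_le_fix (hC j) (hne hi) (Submodule.projection_apply_mem _ _))
            x φ hj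
        · simp
      have h2 : P v ∈ iSup W := by
        rw [hP]
        exact Submodule.sum_mem _ fun j _ => le_iSup W j.succ (Submodule.projection_apply_mem _ _)
      simpa using add_mem (le_iSup W 0 h1) h2
  · intro g hg i
    rw [← mem_stab_iff_map]
    refine Fin.cases ?_ (fun j => (hC j).le_stab_cen hgen hg) i
    exact mem_stab_of_le fun v hv => by rwa [apply_of_mem_fix (hgen hg) hv]
  · intro j
    refine ⟨(hC j).grp_le, Subgroup.normal_subgroupOf_of_le_normalizer ?_⟩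
    rw [← hsup]
    refine iSup_le fun i => ?_
    by_cases h : i = j
    · rw [h]; exact Subgroup.le_normalizer
    · refine le_trans (fun a ha => Subgroup.mem_centralizer_iff.2 fun b hb => ?_)
        (Subgroup.centralizer_le_normalizer _)
      exact (hC j).commute (hC i) (hne (Ne.symm h)) hb ha
  · intro j
    rw [eq_bot_iff]
    rintro g ⟨hg, hg'⟩
    have h1 : (⨆ j' ∈ {j' : Fin n | j' ≠ j}, grp (C j')) ≤
        fixingSubgroup (V ≃ₗ[F] V) (cen F (C j) : Set V) :=
      iSup₂_le fun i hi a ha => (mem_fixingSubgroup_iff _).2 fun v hv =>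
        apply_of_mem_fix ha ((hC j).cen_le_fix (hC i) (hne (Ne.symm hi)) hv)
    have h2 := (mem_fixingSubgroup_iff _).1 (h1 hg')
    rw [Subgroup.mem_bot]
    refine LinearEquiv.ext fun v => ?_
    rw [← Submodule.projection_add_projection_eq_self (hco j) v, map_add, map_add,
      apply_of_mem_fix hg (Submodule.projection_apply_mem (hco j).symm v)]
    exact congrArg (· + _) (h2 _ (Submodule.projection_apply_mem (hco j) v))
  · have h : grp (C j) ≤ stab (cen F (C j)) := (hC j).grp_le.trans ((hC j).le_stab_cen hgen)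
    exact ⟨res _ _ h, fun _ _ => rfl, (hC j).range_res hOp hgen hfull h3 h⟩

end main

end CL.McL
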