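import Mathlib
import Cfsg.Agent.CHEV.PSLin
import Cfsg.Agent.CLAS.U3Syl

/-!
Recognition of `PSU(3, q)`, `q` even, from coordinates on `Q` in which `t` acts by the unitary formula.
-/

set_option autoImplicit false
open Cfsg MulAction

namespace CL.PS

theorem nonempty_equiv_quot_of_rel {H L : Type*} [Group H] [Group L] (R : L → H → Prop)
    (hmul : ∀ m m' g g', R m g → R m' g' → R (m * m') (g * g'))
    (huniq : ∀ m g g', R m g → R m g' → g = g') (h1 : ∀ g, ∃ m, R m g) (h2 : ∀ m, ∃ g, R m g)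
    (N : Subgroup L) [N.Normal] (hN : ∀ m, m ∈ N ↔ R m 1) : Nonempty (H ≃* L ⧸ N) := by
  choose ψ hψ using h2
  let φ : L →* H := MonoidHom.mk' ψ fun m n => huniq _ _ _ (hψ _) (hmul _ _ _ _ (hψ m) (hψ n))
  have hφ : Function.Surjective φ := fun g => by
    obtain ⟨m, hm⟩ := h1 g
    exact ⟨m, huniq _ _ _ (hψ m) hm⟩
  have hker : φ.ker = N := by
    ext m
    rw [MonoidHom.mem_ker, hN]
    exact ⟨fun e => by rw [← e]; exact hψ m, fun e => huniq _ _ _ (hψ m) e⟩
  exact ⟨(QuotientGroup.quotientKerEquivOfSurjective φ hφ).symm.trans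
    (QuotientGroup.quotientMulEquivOfEq hker)⟩

open Module CL.Witt CL.SqField CL.Uni CL.U3

variable {G Ω : Type*} [Group G] [MulAction G Ω] {a : Ω} {t : G} {Q : Subgroup G}

theorem recog_of_model [FaithfulSMul G Ω] (hS : IsRankOneSetup G Ω a t Q) {E : Type*} [Field E]
    [Fintype E] [CharP E 2] {q : ℕ} (hE : Fintype.card E = q ^ 2) (θ : Q ≃* S hE)
    (hθ : ∀ x : Q, x ≠ 1 → ∃ y : Q, t • (x : G) • t • a = (y : G) • t • a ∧
      (θ y).a * (θ x).b = (θ x).a ∧ (θ y).b * (θ x).b = 1) :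
    Nonempty (Lg t Q ≃* PSU 3 E q) := by
  classical
  let f := std hE (Fin 3)
  have hf : f.Nondeg := std_nondeg hE (Fin 3)
  have h3 : finrank E (Fin 3 → E) = 3 := by simp
  obtain ⟨u, hu0, hu⟩ := exists_isotropic (sig_ne_id hE) hf (by simp)
  obtain ⟨w, z, hw, huw, huz, hwz, hz⟩ := exists_triple hf h3.ge hu hu0
  have hwu : f.B w u = 1 := by rw [f.symm, huw, map_one, HT_ε, mul_one]
  have huu := f.B_self_eq_zero hu
  have hww := f.B_self_eq_zero hw
  have hzu := f.B_eq_zero_symm huz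
  have hzw := f.B_eq_zero_symm hwz
  have hzz : f.B z z = 1 := by rw [← f.herm_q, hz]
  have h2 : ∀ v : Fin 3 → E, v + v = 0 := fun v => by rw [← two_smul E, CharTwo.two_eq_zero, zero_smul]
  let e : S hE →* _ := emb hu huz hz
  have hew : ∀ x : S hE, e x w = w + x.a • z + x.b • u := fun x => by
    rw [emb_apply_apply, huw, hzw, one_mul, mul_zero, zero_add, mul_one, sub_eq_add_neg, ← neg_smul,
      CharTwo.neg_eq]
  have heu : ∀ x : S hE, e x u = u := fun x => by
    rw [emb_apply_apply, huu, hzu]; simp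
  have heSO : ∀ x, e x ∈ f.SO := fun x => Form.U_le_SO _ u (emb_mem_U hu huz hz x)
  have hok : f.EichOK (u + w) 0 1 := ⟨by rw [f.q_add, hu, hw, huw, HT_π]; simp [CharTwo.add_self_eq_zero],
    f.B_zero_right _, by rw [HT_π, f.q_zero]; simp [CharTwo.add_self_eq_zero]⟩
  let s := f.ei (u + w) 0 1
  have hs : ∀ v, s v = v + (f.B u v + f.B w v) • (u + w) := fun v => by
    rw [hok.ei_apply, f.B_zero_left, f.B_add_left, HT_ε, sub_eq_add_neg, ← neg_smul, CharTwo.neg_eq]
    simp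
  have hsu : s u = w := by rw [hs, huu, hwu, zero_add, one_smul, ← add_assoc, h2, zero_add]
  have hsw : s w = u := by rw [hs, huw, hww, add_zero, one_smul, add_comm, add_assoc, h2, add_zero]
  have hsz : s z = z := by rw [hs, huz, hwz]; simp
  have hsSO : s ∈ f.SO := f.ei_mem_SO _ _ _
  obtain ⟨vec, va, vb⟩ : ∃ vec : Ω → Fin 3 → E, vec a = u ∧ ∀ x : Q, vec ((x : G) • t • a) = e (θ x) w := by
    refine ⟨fun p => if h : p = a then u else
      e (θ ⟨(exists_Q_smul_b hS h).choose, (exists_Q_smul_b hS h).choose_spec.1⟩) w, dif_pos rfl,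
      fun x => ?_⟩
    have h := smul_ne_a (smul_a_of_mem_Q hS x.2) (t_smul_ne hS)
    simp only [dif_neg h]
    congr 3
    exact Subtype.ext (Q_smul_inj hS (exists_Q_smul_b hS h).choose_spec.1 x.2 (t_smul_ne hS)
      (exists_Q_smul_b hS h).choose_spec.2)
  have hcases : ∀ p : Ω, p = a ∨ ∃ x : Q, p = (x : G) • t • a := fun p => by
    by_cases h : p = a
    · exact Or.inl h
    · obtain ⟨x, hx, e⟩ := exists_Q_smul_b hS h
      exact Or.inr ⟨⟨x, hx⟩, e.symm⟩
  have b1 : ∀ x : S hE, f.B u (e x w) = 1 := fun x => by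
    simp only [hew, f.B_add_right, f.B_smul_right, huw, huz, huu]; simp
  have b2 : ∀ x : S hE, f.B z (e x w) = x.a := fun x => by
    simp only [hew, f.B_add_right, f.B_smul_right, hzw, hzz, hzu]; simp
  have b3 : ∀ x : S hE, f.B w (e x w) = x.b := fun x => by
    simp only [hew, f.B_add_right, f.B_smul_right, hww, hwz, hwu]; simp
  have vne : ∀ p, vec p ≠ 0 := fun p h => by
    rcases hcases p with rfl | ⟨x, rfl⟩
    · exact hu0 (va.symm.trans h)
    · have := b1 (θ x)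
      rw [← vb, h, f.B_zero_right] at this
      exact zero_ne_one this
  have vinj : ∀ (p p' : Ω) (c : E), vec p = c • vec p' → p = p' := fun p p' c h => by
    rcases hcases p with rfl | ⟨x, rfl⟩ <;> rcases hcases p' with rfl | ⟨y, rfl⟩
    · rfl
    · have := congrArg (f.B u) h
      rw [va, vb, huu, f.B_smul_right, b1, mul_one] at this
      rw [← this, zero_smul] at h
      exact absurd h (vne _)
    · have := congrArg (f.B u) h
      rw [va, vb, b1, f.B_smul_right, huu, mul_zero] at this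
      exact absurd this one_ne_zero
    · rw [vb, vb] at h
      have h1 := congrArg (f.B u) h
      rw [b1, f.B_smul_right, b1, mul_one] at h1
      rw [← h1, one_smul] at h
      have : θ x = θ y := S.ext (by rw [← b2, h, b2]) (by rw [← b3, h, b3])
      rw [θ.injective this]
  let R : ((Fin 3 → E) ≃ₗ[E] (Fin 3 → E)) → G → Prop :=
    fun m g => ∀ p, ∃ c : E, m (vec p) = c • vec (g • p)
  have Rne : ∀ (m : (Fin 3 → E) ≃ₗ[E] (Fin 3 → E)) p (c : E) v, m (vec p) = c • v → c ≠ 0 := by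
    rintro m p c v h rfl
    rw [zero_smul, m.map_eq_zero_iff] at h
    exact vne p h
  have Rone : R 1 1 := fun p => ⟨1, by simp⟩
  have Rmul : ∀ m m' g g', R m g → R m' g' → R (m * m') (g * g') := fun m m' g g' h h' p => by
    obtain ⟨c', hc'⟩ := h' p
    obtain ⟨c, hc⟩ := h (g' • p)
    exact ⟨c' * c, by rw [LinearEquiv.mul_apply, hc', map_smul, hc, smul_smul, mul_smul g]⟩
  have Rinv : ∀ m g, R m g → R m⁻¹ g⁻¹ := fun m g h p => by
    obtain ⟨c, hc⟩ := h (g⁻¹ • p)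
    refine ⟨c⁻¹, m.injective ?_⟩
    rw [map_smul, hc, smul_inv_smul, smul_smul, inv_mul_cancel₀ (Rne _ _ _ _ hc), one_smul]
    exact m.apply_symm_apply _
  have RQ : ∀ x : Q, R (e (θ x)) x := fun x p => by
    refine ⟨1, ?_⟩
    rcases hcases p with rfl | ⟨y, rfl⟩
    · rw [smul_a_of_mem_Q hS x.2, va, heu, one_smul]
    · rw [smul_smul (x : G), ← Subgroup.coe_mul, vb, vb, map_mul, map_mul, one_smul]; rfl
  have vb1 : vec (t • a) = w := by
    have := vb 1
    rwa [map_one, map_one, Subgroup.coe_one, one_smul] at this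
  have Rt : R s t := fun p => by
    rcases hcases p with rfl | ⟨x, rfl⟩
    · exact ⟨1, by rw [va, hsu, vb1, one_smul]⟩
    by_cases hx : x = 1
    · exact ⟨1, by rw [hx, Subgroup.coe_one, one_smul, vb1, t_smul_t_smul hS, va, hsw, one_smul]⟩
    obtain ⟨y, e1, e2, e3⟩ := hθ x hx
    refine ⟨(θ x).b, ?_⟩
    rw [e1, vb, vb, hew, hew, map_add, map_add, map_smul, map_smul, hsu, hsw, hsz, smul_add, smul_add,
      smul_smul, smul_smul, mul_comm _ (θ y).a, mul_comm _ (θ y).b, e2, e3, one_smul]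
    abel
  let M : Subgroup ((Fin 3 → E) ≃ₗ[E] (Fin 3 → E)) :=
    { carrier := {m | ∃ g ∈ Lg t Q, R m g}
      one_mem' := ⟨1, one_mem _, Rone⟩
      mul_mem' := fun ⟨g, hg, h⟩ ⟨g', hg', h'⟩ => ⟨_, mul_mem hg hg', Rmul _ _ _ _ h h'⟩
      inv_mem' := fun ⟨g, hg, h⟩ => ⟨_, inv_mem hg, Rinv _ _ h⟩ }
  let M' : Subgroup G :=
    { carrier := {g | ∃ m ∈ f.SO, R m g}
      one_mem' := ⟨1, one_mem _, Rone⟩
      mul_mem' := fun ⟨g, hg, h⟩ ⟨g', hg', h'⟩ => ⟨_, mul_mem hg hg', Rmul _ _ _ _ h h'⟩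
      inv_mem' := fun ⟨g, hg, h⟩ => ⟨_, inv_mem hg, Rinv _ _ h⟩ }
  have hM' : Lg t Q ≤ M' := Lg_le (fun x hx => ⟨_, heSO _, RQ ⟨x, hx⟩⟩) ⟨s, hsSO, Rt⟩
  have hMu : f.U u ≤ M := by
    rw [← range_emb hf h3 hu hw huw huz hwz hz]
    rintro _ ⟨x, rfl⟩
    obtain ⟨x, rfl⟩ := θ.surjective x
    exact ⟨x, mem_Lg_of_mem_Q x.2, RQ x⟩
  have hsM : s ∈ M := ⟨t, t_mem_Lg, Rt⟩
  have hMw : f.U w ≤ M := fun x hx => by
    have := hMu (hsw ▸ Form.conj_mem_U (f.SO_le_O hsSO) hx)
    rwa [M.mul_mem_cancel_right (inv_mem hsM), M.mul_mem_cancel_left hsM] at this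
  have hM : f.SO ≤ M := by
    rw [← E_eq_SO (sig_ne_id hE) hf, Form.E_le_iff]
    intro v hv0 hv
    by_cases h1 : f.B u v = 0
    · by_cases h2 : f.B w v = 0
      · obtain ⟨c, rfl⟩ := exists_eq_smul_of_perp hf h3 hu hw huw huz hwz hz h1 h2
        rw [f.q_smul, hz, mul_one, mul_eq_zero, map_eq_zero, or_self] at hv
        exact absurd (by rw [hv, zero_smul]) hv0
      · exact Form.U_le_of_B_ne hw hu hv (by rw [hwu]; exact one_ne_zero) h2 hMw hMu
    · exact Form.U_le_of_B_ne hu hw hv (by rw [huw]; exact one_ne_zero) h1 hMu hMw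
  obtain ⟨φ⟩ := nonempty_equiv_quot_of_rel (H := Lg t Q) (L := f.SO) (fun m g => R m g)
    (fun m m' g g' => Rmul _ _ _ _) (fun m g g' h h' => Subtype.ext (eq_of_smul_eq_smul (α := Ω) fun p => by
      obtain ⟨c, hc⟩ := h p
      obtain ⟨c', hc'⟩ := h' p
      refine vinj _ _ (c⁻¹ * c') ?_
      rw [mul_smul, ← hc', hc, smul_smul, inv_mul_cancel₀ (Rne _ _ _ _ hc), one_smul]))
    (fun g => let ⟨m, hm, h⟩ := hM' g.2; ⟨⟨m, hm⟩, h⟩) (fun m => let ⟨g, hg, h⟩ := hM m.2; ⟨⟨g, hg⟩, h⟩)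
    (Subgroup.center _) (fun m => by
      rw [mem_center_iff_scal (sig_ne_id hE) hf (by simp) Tv_le_SO]
      refine ⟨fun ⟨c, hc⟩ p => ⟨c, by rw [← hc, scal_apply, Subgroup.coe_one, one_smul]⟩, fun h => ?_⟩
      simp only [R, Subgroup.coe_one, one_smul] at h
      have hm := f.SO_le_O m.2
      obtain ⟨c1, k1⟩ := h a
      obtain ⟨c2, k2⟩ := h (t • a)
      have n1 := Rne _ _ _ _ k1
      have n2 := Rne _ _ _ _ k2
      rw [va] at k1
      rw [vb1] at k2
      obtain ⟨d, k3⟩ := exists_eq_smul_of_perp hf h3 hu hw huw huz hwz hz (v := m.1 z) (by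
        have := Form.mem_O_B hm u z
        rwa [k1, huz, f.B_smul_left, mul_eq_zero, map_eq_zero, or_iff_right n1] at this) (by
        have := Form.mem_O_B hm w z
        rwa [k2, hwz, f.B_smul_left, mul_eq_zero, map_eq_zero, or_iff_right n2] at this)
      obtain ⟨x, hx⟩ := S.exists_a hE 1
      obtain ⟨y, rfl⟩ := θ.surjective x
      have hb : (θ y).b ≠ 0 := fun h0 => by simpa [hx, h0, zero_pow_q hE] using (θ y).h
      obtain ⟨c3, k4⟩ := h ((y : G) • t • a)
      rw [vb, hew, map_add, map_add, map_smul, map_smul, k1, k2, k3, hx] at k4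
      have j1 := congrArg (f.B u) k4
      have j2 := congrArg (f.B z) k4
      have j3 := congrArg (f.B w) k4
      simp only [f.B_add_right, f.B_smul_right, huw, huz, huu, hzw, hzz, hzu, hww, hwz, hwu, mul_one,
        mul_zero, add_zero, zero_add, one_mul] at j1 j2 j3
      have j4 : c1 = c3 := mul_left_cancel₀ hb (j3.trans (mul_comm _ _))
      refine ⟨Units.mk0 c1 n1, LinearEquiv.ext fun v => ?_⟩
      obtain ⟨l1, l2⟩ := Form.hyp_proj hu hw huw v
      obtain ⟨c, hc⟩ := exists_eq_smul_of_perp hf h3 hu hw huw huz hwz hz l1 l2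
      rw [sub_sub, sub_eq_iff_eq_add] at hc
      rw [hc, scal_apply]
      simp only [map_add, map_smul, k1, k2, k3, Units.val_mk0, j1, j2, j4]
      module)
  exact ⟨φ.trans (Sp.quotientCenterCongr (suEquiv hE 3)).symm⟩

end CL.PS
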