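/-
Cartan matrices, positive roots and orbit data for the types G2, B2, D4, F4, E6, E7, E8, with
kernel-checked certificates.
-/
import Cfsg.Prelude.Def_ChevStructure
import Cfsg.Agent.CHEV.CoxCalc

set_option autoImplicit false

namespace CL.Cox.Calc

/-- Cartan matrix of type G2 -/
def AG2 : List (List ℤ) :=
  [[2, -3],
  [-1, 2]]

/-- symmetrising vector of type G2 -/
def dG2 : List ℤ := [1, 3]

/-- positive roots of type G2 -/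
def rootsG2 : List (List ℤ) :=
  [[0, 1], [1, 0], [1, 1], [2, 1],
  [3, 1], [3, 2]]

/-- long simple roots of type G2 -/
def clsG2 : List Bool := [false, true]

/-- exponent lists of type G2 -/
def expsG2 : List (List (ℕ × ℕ)) :=
  [[(0, 0), (1, 0), (1, 1), (2, 1), (2, 2), (3, 2)],
  [(0, 0), (0, 1)]]

theorem rootCheck_G2 : rootCheck 2 AG2 dG2 rootsG2 = true := by decide +kernel

theorem matCheck_G2 : matCheck 2 AG2 CoxeterMatrix.G₂ = true := by decide +kernel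

theorem coxCheck_G2 : ordCheck 2 AG2 ((List.finRange 2).map Fin.val) 6 = true := by
  decide +kernel

theorem chainCheck_G2 : chainCheck 2 AG2 clsG2 60 [0, 1] expsG2 = true := by
  decide +kernel

/-- Cartan matrix of type B2 -/
def AB2 : List (List ℤ) :=
  [[2, -2],
  [-1, 2]]

/-- symmetrising vector of type B2 -/
def dB2 : List ℤ := [1, 2]

/-- positive roots of type B2 -/
def rootsB2 : List (List ℤ) :=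
  [[0, 1], [1, 0], [1, 1], [2, 1]]

/-- long simple roots of type B2 -/
def clsB2 : List Bool := [false, true]

/-- exponent lists of type B2 -/
def expsB2 : List (List (ℕ × ℕ)) :=
  [[(0, 0), (1, 0), (1, 1), (2, 1)],
  [(0, 0), (0, 1)]]

theorem rootCheck_B2 : rootCheck 2 AB2 dB2 rootsB2 = true := by decide +kernel

theorem matCheck_B2 : matCheck 2 AB2 (CoxeterMatrix.B 2) = true := by decide +kernel

theorem coxCheck_B2 : ordCheck 2 AB2 ((List.finRange 2).map Fin.val) 4 = true := by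
  decide +kernel

theorem chainCheck_B2 : chainCheck 2 AB2 clsB2 60 [0, 1] expsB2 = true := by
  decide +kernel

/-- Cartan matrix of type D4 -/
def AD4 : List (List ℤ) :=
  [[2, -1, 0, 0],
  [-1, 2, -1, -1],
  [0, -1, 2, 0],
  [0, -1, 0, 2]]

/-- symmetrising vector of type D4 -/
def dD4 : List ℤ := [1, 1, 1, 1]

/-- positive roots of type D4 -/
def rootsD4 : List (List ℤ) :=
  [[0, 0, 0, 1], [0, 0, 1, 0], [0, 1, 0, 0], [1, 0, 0, 0],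
  [0, 1, 0, 1], [0, 1, 1, 0], [1, 1, 0, 0], [0, 1, 1, 1],
  [1, 1, 0, 1], [1, 1, 1, 0], [1, 1, 1, 1], [1, 2, 1, 1]]

/-- long simple roots of type D4 -/
def clsD4 : List Bool := [false, false, false, false]

/-- exponent lists of type D4 -/
def expsD4 : List (List (ℕ × ℕ)) :=
  [[(0, 0), (1, 0), (2, 0), (3, 0), (3, 0), (4, 0), (5, 0), (6, 0)],
  [(0, 0), (1, 0), (2, 0), (3, 0)],
  [(0, 0), (1, 0), (2, 0)],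
  [(0, 0), (1, 0)]]

theorem rootCheck_D4 : rootCheck 4 AD4 dD4 rootsD4 = true := by decide +kernel

theorem matCheck_D4 : matCheck 4 AD4 Cfsg.Lie.coxeterD4 = true := by decide +kernel

theorem coxCheck_D4 : ordCheck 4 AD4 ((List.finRange 4).map Fin.val) 6 = true := by
  decide +kernel

theorem chainCheck_D4 : chainCheck 4 AD4 clsD4 60 [0, 2, 3, 1] expsD4 = true := by
  decide +kernel

/-- Cartan matrix of type F4 -/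
def AF4 : List (List ℤ) :=
  [[2, -1, 0, 0],
  [-1, 2, -2, 0],
  [0, -1, 2, -1],
  [0, 0, -1, 2]]

/-- symmetrising vector of type F4 -/
def dF4 : List ℤ := [1, 1, 2, 2]

/-- positive roots of type F4 -/
def rootsF4 : List (List ℤ) :=
  [[0, 0, 0, 1], [0, 0, 1, 0], [0, 1, 0, 0], [1, 0, 0, 0],
  [0, 0, 1, 1], [0, 1, 1, 0], [1, 1, 0, 0], [0, 1, 1, 1],
  [0, 2, 1, 0], [1, 1, 1, 0], [0, 2, 1, 1], [1, 1, 1, 1],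
  [1, 2, 1, 0], [0, 2, 2, 1], [1, 2, 1, 1], [2, 2, 1, 0],
  [1, 2, 2, 1], [2, 2, 1, 1], [1, 3, 2, 1], [2, 2, 2, 1],
  [2, 3, 2, 1], [2, 4, 2, 1], [2, 4, 3, 1], [2, 4, 3, 2]]

/-- long simple roots of type F4 -/
def clsF4 : List Bool := [false, false, true, true]

/-- exponent lists of type F4 -/
def expsF4 : List (List (ℕ × ℕ)) :=
  [[(0, 0), (0, 1), (0, 2), (1, 2), (2, 2), (1, 3), (2, 3), (1, 4), (2, 4), (3, 3), (3, 4), (3, 4),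
   (3, 5), (3, 5), (3, 6), (4, 5), (4, 6), (5, 5), (5, 6), (4, 7), (5, 7), (6, 7), (6, 8), (6, 9)],
  [(0, 0), (1, 0), (2, 0), (2, 1), (3, 1), (4, 1)],
  [(0, 0), (0, 1), (1, 1), (1, 2)],
  [(0, 0), (1, 0)]]

theorem rootCheck_F4 : rootCheck 4 AF4 dF4 rootsF4 = true := by decide +kernel

theorem matCheck_F4 : matCheck 4 AF4 CoxeterMatrix.F₄ = true := by decide +kernel

theorem coxCheck_F4 : ordCheck 4 AF4 ((List.finRange 4).map Fin.val) 12 = true := by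
  decide +kernel

theorem chainCheck_F4 : chainCheck 4 AF4 clsF4 60 [3, 0, 2, 1] expsF4 = true := by
  decide +kernel

/-- Cartan matrix of type E6 -/
def AE6 : List (List ℤ) :=
  [[2, 0, -1, 0, 0, 0],
  [0, 2, 0, -1, 0, 0],
  [-1, 0, 2, -1, 0, 0],
  [0, -1, -1, 2, -1, 0],
  [0, 0, 0, -1, 2, -1],
  [0, 0, 0, 0, -1, 2]]

/-- symmetrising vector of type E6 -/
def dE6 : List ℤ := [1, 1, 1, 1, 1, 1]

/-- positive roots of type E6 -/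
def rootsE6 : List (List ℤ) :=
  [[0, 0, 0, 0, 0, 1], [0, 0, 0, 0, 1, 0], [0, 0, 0, 1, 0, 0], [0, 0, 1, 0, 0, 0],
  [0, 1, 0, 0, 0, 0], [1, 0, 0, 0, 0, 0], [0, 0, 0, 0, 1, 1], [0, 0, 0, 1, 1, 0],
  [0, 0, 1, 1, 0, 0], [0, 1, 0, 1, 0, 0], [1, 0, 1, 0, 0, 0], [0, 0, 0, 1, 1, 1],
  [0, 0, 1, 1, 1, 0], [0, 1, 0, 1, 1, 0], [0, 1, 1, 1, 0, 0], [1, 0, 1, 1, 0, 0],
  [0, 0, 1, 1, 1, 1], [0, 1, 0, 1, 1, 1], [0, 1, 1, 1, 1, 0], [1, 0, 1, 1, 1, 0],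
  [1, 1, 1, 1, 0, 0], [0, 1, 1, 1, 1, 1], [0, 1, 1, 2, 1, 0], [1, 0, 1, 1, 1, 1],
  [1, 1, 1, 1, 1, 0], [0, 1, 1, 2, 1, 1], [1, 1, 1, 1, 1, 1], [1, 1, 1, 2, 1, 0],
  [0, 1, 1, 2, 2, 1], [1, 1, 1, 2, 1, 1], [1, 1, 2, 2, 1, 0], [1, 1, 1, 2, 2, 1],
  [1, 1, 2, 2, 1, 1], [1, 1, 2, 2, 2, 1], [1, 1, 2, 3, 2, 1], [1, 2, 2, 3, 2, 1]]

/-- long simple roots of type E6 -/
def clsE6 : List Bool := [false, false, false, false, false, false]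

/-- exponent lists of type E6 -/
def expsE6 : List (List (ℕ × ℕ)) :=
  [[(0, 0), (1, 0), (2, 0), (3, 0), (4, 0), (4, 0), (5, 0), (5, 0), (6, 0), (6, 0), (7, 0), (7, 0),
   (8, 0), (8, 0), (8, 0), (9, 0), (9, 0), (10, 0), (10, 0), (11, 0), (11, 0), (12, 0), (12, 0), (13, 0),
   (14, 0), (15, 0), (16, 0)],
  [(0, 0), (1, 0), (2, 0), (3, 0), (4, 0), (4, 0), (5, 0), (6, 0), (7, 0), (8, 0)],
  [(0, 0), (1, 0), (2, 0), (3, 0), (3, 0), (4, 0), (5, 0), (6, 0)],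
  [(0, 0), (1, 0), (2, 0), (3, 0)],
  [(0, 0), (1, 0), (2, 0)],
  [(0, 0), (1, 0)]]

theorem rootCheck_E6 : rootCheck 6 AE6 dE6 rootsE6 = true := by decide +kernel

theorem matCheck_E6 : matCheck 6 AE6 CoxeterMatrix.E₆ = true := by decide +kernel

theorem coxCheck_E6 : ordCheck 6 AE6 ((List.finRange 6).map Fin.val) 12 = true := by
  decide +kernel

theorem chainCheck_E6 : chainCheck 6 AE6 clsE6 60 [5, 0, 1, 4, 3, 2] expsE6 = true := by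
  decide +kernel

/-- Cartan matrix of type E7 -/
def AE7 : List (List ℤ) :=
  [[2, 0, -1, 0, 0, 0, 0],
  [0, 2, 0, -1, 0, 0, 0],
  [-1, 0, 2, -1, 0, 0, 0],
  [0, -1, -1, 2, -1, 0, 0],
  [0, 0, 0, -1, 2, -1, 0],
  [0, 0, 0, 0, -1, 2, -1],
  [0, 0, 0, 0, 0, -1, 2]]

/-- symmetrising vector of type E7 -/
def dE7 : List ℤ := [1, 1, 1, 1, 1, 1, 1]

/-- positive roots of type E7 -/
def rootsE7 : List (List ℤ) :=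
  [[0, 0, 0, 0, 0, 0, 1], [0, 0, 0, 0, 0, 1, 0], [0, 0, 0, 0, 1, 0, 0], [0, 0, 0, 1, 0, 0, 0],
  [0, 0, 1, 0, 0, 0, 0], [0, 1, 0, 0, 0, 0, 0], [1, 0, 0, 0, 0, 0, 0], [0, 0, 0, 0, 0, 1, 1],
  [0, 0, 0, 0, 1, 1, 0], [0, 0, 0, 1, 1, 0, 0], [0, 0, 1, 1, 0, 0, 0], [0, 1, 0, 1, 0, 0, 0],
  [1, 0, 1, 0, 0, 0, 0], [0, 0, 0, 0, 1, 1, 1], [0, 0, 0, 1, 1, 1, 0], [0, 0, 1, 1, 1, 0, 0],
  [0, 1, 0, 1, 1, 0, 0], [0, 1, 1, 1, 0, 0, 0], [1, 0, 1, 1, 0, 0, 0], [0, 0, 0, 1, 1, 1, 1],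
  [0, 0, 1, 1, 1, 1, 0], [0, 1, 0, 1, 1, 1, 0], [0, 1, 1, 1, 1, 0, 0], [1, 0, 1, 1, 1, 0, 0],
  [1, 1, 1, 1, 0, 0, 0], [0, 0, 1, 1, 1, 1, 1], [0, 1, 0, 1, 1, 1, 1], [0, 1, 1, 1, 1, 1, 0],
  [0, 1, 1, 2, 1, 0, 0], [1, 0, 1, 1, 1, 1, 0], [1, 1, 1, 1, 1, 0, 0], [0, 1, 1, 1, 1, 1, 1],
  [0, 1, 1, 2, 1, 1, 0], [1, 0, 1, 1, 1, 1, 1], [1, 1, 1, 1, 1, 1, 0], [1, 1, 1, 2, 1, 0, 0],
  [0, 1, 1, 2, 1, 1, 1], [0, 1, 1, 2, 2, 1, 0], [1, 1, 1, 1, 1, 1, 1], [1, 1, 1, 2, 1, 1, 0],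
  [1, 1, 2, 2, 1, 0, 0], [0, 1, 1, 2, 2, 1, 1], [1, 1, 1, 2, 1, 1, 1], [1, 1, 1, 2, 2, 1, 0],
  [1, 1, 2, 2, 1, 1, 0], [0, 1, 1, 2, 2, 2, 1], [1, 1, 1, 2, 2, 1, 1], [1, 1, 2, 2, 1, 1, 1],
  [1, 1, 2, 2, 2, 1, 0], [1, 1, 1, 2, 2, 2, 1], [1, 1, 2, 2, 2, 1, 1], [1, 1, 2, 3, 2, 1, 0],
  [1, 1, 2, 2, 2, 2, 1], [1, 1, 2, 3, 2, 1, 1], [1, 2, 2, 3, 2, 1, 0], [1, 1, 2, 3, 2, 2, 1],
  [1, 2, 2, 3, 2, 1, 1], [1, 1, 2, 3, 3, 2, 1], [1, 2, 2, 3, 2, 2, 1], [1, 2, 2, 3, 3, 2, 1],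
  [1, 2, 2, 4, 3, 2, 1], [1, 2, 3, 4, 3, 2, 1], [2, 2, 3, 4, 3, 2, 1]]

/-- long simple roots of type E7 -/
def clsE7 : List Bool := [false, false, false, false, false, false, false]

/-- exponent lists of type E7 -/
def expsE7 : List (List (ℕ × ℕ)) :=
  [[(0, 0), (1, 0), (2, 0), (3, 0), (4, 0), (5, 0), (5, 0), (6, 0), (6, 0), (7, 0), (7, 0), (8, 0),
   (8, 0), (9, 0), (9, 0), (9, 0), (10, 0), (10, 0), (10, 0), (11, 0), (11, 0), (11, 0), (12, 0), (12, 0),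
   (12, 0), (13, 0), (13, 0), (13, 0), (14, 0), (14, 0), (14, 0), (15, 0), (15, 0), (15, 0), (16, 0), (16, 0),
   (16, 0), (17, 0), (17, 0), (17, 0), (18, 0), (18, 0), (18, 0), (19, 0), (19, 0), (20, 0), (20, 0), (21, 0),
   (21, 0), (22, 0), (22, 0), (23, 0), (24, 0), (25, 0), (26, 0), (27, 0)],
  [(0, 0), (1, 0), (2, 0), (3, 0), (4, 0), (4, 0), (5, 0), (5, 0), (6, 0), (6, 0), (7, 0), (7, 0),
   (8, 0), (8, 0), (8, 0), (9, 0), (9, 0), (10, 0), (10, 0), (11, 0), (11, 0), (12, 0), (12, 0), (13, 0),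
   (14, 0), (15, 0), (16, 0)],
  [(0, 0), (1, 0), (2, 0), (3, 0), (4, 0), (4, 0), (5, 0), (6, 0), (7, 0), (8, 0)],
  [(0, 0), (1, 0), (2, 0), (3, 0), (3, 0), (4, 0), (5, 0), (6, 0)],
  [(0, 0), (1, 0), (2, 0), (3, 0)],
  [(0, 0), (1, 0), (2, 0)],
  [(0, 0), (1, 0)]]

theorem rootCheck_E7 : rootCheck 7 AE7 dE7 rootsE7 = true := by decide +kernel

theorem matCheck_E7 : matCheck 7 AE7 CoxeterMatrix.E₇ = true := by decide +kernel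

theorem coxCheck_E7 : ordCheck 7 AE7 ((List.finRange 7).map Fin.val) 18 = true := by
  decide +kernel

theorem chainCheck_E7 : chainCheck 7 AE7 clsE7 60 [6, 5, 0, 1, 4, 3, 2] expsE7 = true := by
  decide +kernel

/-- Cartan matrix of type E8 -/
def AE8 : List (List ℤ) :=
  [[2, 0, -1, 0, 0, 0, 0, 0],
  [0, 2, 0, -1, 0, 0, 0, 0],
  [-1, 0, 2, -1, 0, 0, 0, 0],
  [0, -1, -1, 2, -1, 0, 0, 0],
  [0, 0, 0, -1, 2, -1, 0, 0],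
  [0, 0, 0, 0, -1, 2, -1, 0],
  [0, 0, 0, 0, 0, -1, 2, -1],
  [0, 0, 0, 0, 0, 0, -1, 2]]

/-- symmetrising vector of type E8 -/
def dE8 : List ℤ := [1, 1, 1, 1, 1, 1, 1, 1]

/-- positive roots of type E8 -/
def rootsE8 : List (List ℤ) :=
  [[0, 0, 0, 0, 0, 0, 0, 1], [0, 0, 0, 0, 0, 0, 1, 0], [0, 0, 0, 0, 0, 1, 0, 0], [0, 0, 0, 0, 1, 0, 0, 0],
  [0, 0, 0, 1, 0, 0, 0, 0], [0, 0, 1, 0, 0, 0, 0, 0], [0, 1, 0, 0, 0, 0, 0, 0], [1, 0, 0, 0, 0, 0, 0, 0],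
  [0, 0, 0, 0, 0, 0, 1, 1], [0, 0, 0, 0, 0, 1, 1, 0], [0, 0, 0, 0, 1, 1, 0, 0], [0, 0, 0, 1, 1, 0, 0, 0],
  [0, 0, 1, 1, 0, 0, 0, 0], [0, 1, 0, 1, 0, 0, 0, 0], [1, 0, 1, 0, 0, 0, 0, 0], [0, 0, 0, 0, 0, 1, 1, 1],
  [0, 0, 0, 0, 1, 1, 1, 0], [0, 0, 0, 1, 1, 1, 0, 0], [0, 0, 1, 1, 1, 0, 0, 0], [0, 1, 0, 1, 1, 0, 0, 0],
  [0, 1, 1, 1, 0, 0, 0, 0], [1, 0, 1, 1, 0, 0, 0, 0], [0, 0, 0, 0, 1, 1, 1, 1], [0, 0, 0, 1, 1, 1, 1, 0],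
  [0, 0, 1, 1, 1, 1, 0, 0], [0, 1, 0, 1, 1, 1, 0, 0], [0, 1, 1, 1, 1, 0, 0, 0], [1, 0, 1, 1, 1, 0, 0, 0],
  [1, 1, 1, 1, 0, 0, 0, 0], [0, 0, 0, 1, 1, 1, 1, 1], [0, 0, 1, 1, 1, 1, 1, 0], [0, 1, 0, 1, 1, 1, 1, 0],
  [0, 1, 1, 1, 1, 1, 0, 0], [0, 1, 1, 2, 1, 0, 0, 0], [1, 0, 1, 1, 1, 1, 0, 0], [1, 1, 1, 1, 1, 0, 0, 0],
  [0, 0, 1, 1, 1, 1, 1, 1], [0, 1, 0, 1, 1, 1, 1, 1], [0, 1, 1, 1, 1, 1, 1, 0], [0, 1, 1, 2, 1, 1, 0, 0],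
  [1, 0, 1, 1, 1, 1, 1, 0], [1, 1, 1, 1, 1, 1, 0, 0], [1, 1, 1, 2, 1, 0, 0, 0], [0, 1, 1, 1, 1, 1, 1, 1],
  [0, 1, 1, 2, 1, 1, 1, 0], [0, 1, 1, 2, 2, 1, 0, 0], [1, 0, 1, 1, 1, 1, 1, 1], [1, 1, 1, 1, 1, 1, 1, 0],
  [1, 1, 1, 2, 1, 1, 0, 0], [1, 1, 2, 2, 1, 0, 0, 0], [0, 1, 1, 2, 1, 1, 1, 1], [0, 1, 1, 2, 2, 1, 1, 0],
  [1, 1, 1, 1, 1, 1, 1, 1], [1, 1, 1, 2, 1, 1, 1, 0], [1, 1, 1, 2, 2, 1, 0, 0], [1, 1, 2, 2, 1, 1, 0, 0],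
  [0, 1, 1, 2, 2, 1, 1, 1], [0, 1, 1, 2, 2, 2, 1, 0], [1, 1, 1, 2, 1, 1, 1, 1], [1, 1, 1, 2, 2, 1, 1, 0],
  [1, 1, 2, 2, 1, 1, 1, 0], [1, 1, 2, 2, 2, 1, 0, 0], [0, 1, 1, 2, 2, 2, 1, 1], [1, 1, 1, 2, 2, 1, 1, 1],
  [1, 1, 1, 2, 2, 2, 1, 0], [1, 1, 2, 2, 1, 1, 1, 1], [1, 1, 2, 2, 2, 1, 1, 0], [1, 1, 2, 3, 2, 1, 0, 0],
  [0, 1, 1, 2, 2, 2, 2, 1], [1, 1, 1, 2, 2, 2, 1, 1], [1, 1, 2, 2, 2, 1, 1, 1], [1, 1, 2, 2, 2, 2, 1, 0],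
  [1, 1, 2, 3, 2, 1, 1, 0], [1, 2, 2, 3, 2, 1, 0, 0], [1, 1, 1, 2, 2, 2, 2, 1], [1, 1, 2, 2, 2, 2, 1, 1],
  [1, 1, 2, 3, 2, 1, 1, 1], [1, 1, 2, 3, 2, 2, 1, 0], [1, 2, 2, 3, 2, 1, 1, 0], [1, 1, 2, 2, 2, 2, 2, 1],
  [1, 1, 2, 3, 2, 2, 1, 1], [1, 1, 2, 3, 3, 2, 1, 0], [1, 2, 2, 3, 2, 1, 1, 1], [1, 2, 2, 3, 2, 2, 1, 0],
  [1, 1, 2, 3, 2, 2, 2, 1], [1, 1, 2, 3, 3, 2, 1, 1], [1, 2, 2, 3, 2, 2, 1, 1], [1, 2, 2, 3, 3, 2, 1, 0],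
  [1, 1, 2, 3, 3, 2, 2, 1], [1, 2, 2, 3, 2, 2, 2, 1], [1, 2, 2, 3, 3, 2, 1, 1], [1, 2, 2, 4, 3, 2, 1, 0],
  [1, 1, 2, 3, 3, 3, 2, 1], [1, 2, 2, 3, 3, 2, 2, 1], [1, 2, 2, 4, 3, 2, 1, 1], [1, 2, 3, 4, 3, 2, 1, 0],
  [1, 2, 2, 3, 3, 3, 2, 1], [1, 2, 2, 4, 3, 2, 2, 1], [1, 2, 3, 4, 3, 2, 1, 1], [2, 2, 3, 4, 3, 2, 1, 0],
  [1, 2, 2, 4, 3, 3, 2, 1], [1, 2, 3, 4, 3, 2, 2, 1], [2, 2, 3, 4, 3, 2, 1, 1], [1, 2, 2, 4, 4, 3, 2, 1],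
  [1, 2, 3, 4, 3, 3, 2, 1], [2, 2, 3, 4, 3, 2, 2, 1], [1, 2, 3, 4, 4, 3, 2, 1], [2, 2, 3, 4, 3, 3, 2, 1],
  [1, 2, 3, 5, 4, 3, 2, 1], [2, 2, 3, 4, 4, 3, 2, 1], [1, 3, 3, 5, 4, 3, 2, 1], [2, 2, 3, 5, 4, 3, 2, 1],
  [2, 2, 4, 5, 4, 3, 2, 1], [2, 3, 3, 5, 4, 3, 2, 1], [2, 3, 4, 5, 4, 3, 2, 1], [2, 3, 4, 6, 4, 3, 2, 1],
  [2, 3, 4, 6, 5, 3, 2, 1], [2, 3, 4, 6, 5, 4, 2, 1], [2, 3, 4, 6, 5, 4, 3, 1], [2, 3, 4, 6, 5, 4, 3, 2]]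

/-- long simple roots of type E8 -/
def clsE8 : List Bool := [false, false, false, false, false, false, false, false]

/-- exponent lists of type E8 -/
def expsE8 : List (List (ℕ × ℕ)) :=
  [[(0, 0), (1, 0), (2, 0), (3, 0), (4, 0), (5, 0), (6, 0), (6, 0), (7, 0), (7, 0), (8, 0), (8, 0),
   (9, 0), (9, 0), (10, 0), (10, 0), (10, 0), (11, 0), (11, 0), (11, 0), (12, 0), (12, 0), (12, 0), (12, 0),
   (13, 0), (13, 0), (13, 0), (13, 0), (14, 0), (14, 0), (14, 0), (14, 0), (15, 0), (15, 0), (15, 0), (15, 0),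
   (16, 0), (16, 0), (16, 0), (16, 0), (16, 0), (17, 0), (17, 0), (17, 0), (17, 0), (17, 0), (18, 0), (18, 0),
   (18, 0), (18, 0), (18, 0), (18, 0), (19, 0), (19, 0), (19, 0), (19, 0), (19, 0), (19, 0), (20, 0), (20, 0),
   (20, 0), (20, 0), (20, 0), (20, 0), (21, 0), (21, 0), (21, 0), (21, 0), (21, 0), (21, 0), (22, 0), (22, 0),
   (22, 0), (22, 0), (22, 0), (22, 0), (22, 0), (23, 0), (23, 0), (23, 0), (23, 0), (23, 0), (23, 0), (23, 0),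
   (24, 0), (24, 0), (24, 0), (24, 0), (24, 0), (24, 0), (24, 0), (25, 0), (25, 0), (25, 0), (25, 0), (25, 0),
   (25, 0), (25, 0), (26, 0), (26, 0), (26, 0), (26, 0), (26, 0), (26, 0), (26, 0), (27, 0), (27, 0), (27, 0),
   (27, 0), (27, 0), (27, 0), (27, 0), (28, 0), (28, 0), (28, 0), (28, 0), (28, 0), (28, 0), (28, 0), (28, 0),
   (29, 0), (29, 0), (29, 0), (29, 0), (29, 0), (29, 0), (29, 0), (29, 0), (30, 0), (30, 0), (30, 0), (30, 0),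
   (30, 0), (30, 0), (30, 0), (31, 0), (31, 0), (31, 0), (31, 0), (31, 0), (31, 0), (31, 0), (32, 0), (32, 0),
   (32, 0), (32, 0), (32, 0), (32, 0), (32, 0), (33, 0), (33, 0), (33, 0), (33, 0), (33, 0), (33, 0), (33, 0),
   (34, 0), (34, 0), (34, 0), (34, 0), (34, 0), (34, 0), (34, 0), (35, 0), (35, 0), (35, 0), (35, 0), (35, 0),
   (35, 0), (35, 0), (36, 0), (36, 0), (36, 0), (36, 0), (36, 0), (36, 0), (37, 0), (37, 0), (37, 0), (37, 0),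
   (37, 0), (37, 0), (38, 0), (38, 0), (38, 0), (38, 0), (38, 0), (38, 0), (39, 0), (39, 0), (39, 0), (39, 0),
   (39, 0), (39, 0), (40, 0), (40, 0), (40, 0), (40, 0), (40, 0), (41, 0), (41, 0), (41, 0), (41, 0), (41, 0),
   (42, 0), (42, 0), (42, 0), (42, 0), (43, 0), (43, 0), (43, 0), (43, 0), (44, 0), (44, 0), (44, 0), (44, 0),
   (45, 0), (45, 0), (45, 0), (45, 0), (46, 0), (46, 0), (46, 0), (47, 0), (47, 0), (47, 0), (48, 0), (48, 0),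
   (49, 0), (49, 0), (50, 0), (50, 0), (51, 0), (51, 0), (52, 0), (53, 0), (54, 0), (55, 0), (56, 0), (57, 0)],
  [(0, 0), (1, 0), (2, 0), (3, 0), (4, 0), (5, 0), (5, 0), (6, 0), (6, 0), (7, 0), (7, 0), (8, 0),
   (8, 0), (9, 0), (9, 0), (9, 0), (10, 0), (10, 0), (10, 0), (11, 0), (11, 0), (11, 0), (12, 0), (12, 0),
   (12, 0), (13, 0), (13, 0), (13, 0), (14, 0), (14, 0), (14, 0), (15, 0), (15, 0), (15, 0), (16, 0), (16, 0),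
   (16, 0), (17, 0), (17, 0), (17, 0), (18, 0), (18, 0), (18, 0), (19, 0), (19, 0), (20, 0), (20, 0), (21, 0),
   (21, 0), (22, 0), (22, 0), (23, 0), (24, 0), (25, 0), (26, 0), (27, 0)],
  [(0, 0), (1, 0), (2, 0), (3, 0), (4, 0), (4, 0), (5, 0), (5, 0), (6, 0), (6, 0), (7, 0), (7, 0),
   (8, 0), (8, 0), (8, 0), (9, 0), (9, 0), (10, 0), (10, 0), (11, 0), (11, 0), (12, 0), (12, 0), (13, 0),
   (14, 0), (15, 0), (16, 0)],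
  [(0, 0), (1, 0), (2, 0), (3, 0), (4, 0), (4, 0), (5, 0), (6, 0), (7, 0), (8, 0)],
  [(0, 0), (1, 0), (2, 0), (3, 0), (3, 0), (4, 0), (5, 0), (6, 0)],
  [(0, 0), (1, 0), (2, 0), (3, 0)],
  [(0, 0), (1, 0), (2, 0)],
  [(0, 0), (1, 0)]]

theorem rootCheck_E8 : rootCheck 8 AE8 dE8 rootsE8 = true := by decide +kernel

theorem matCheck_E8 : matCheck 8 AE8 CoxeterMatrix.E₈ = true := by decide +kernel

theorem coxCheck_E8 : ordCheck 8 AE8 ((List.finRange 8).map Fin.val) 30 = true := by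
  decide +kernel

theorem chainCheck_E8 : chainCheck 8 AE8 clsE8 60 [7, 6, 5, 0, 1, 4, 3, 2] expsE8 = true := by
  decide +kernel

end CL.Cox.Calc
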