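/-
The seven-dimensional representation of `G₂(K)` in characteristic `3`.
-/
import Mathlib
import Cfsg.Agent.CHEV.TwG2
import Cfsg.Agent.CHEV.Mat7

set_option autoImplicit false

namespace CL.Ree

open Cfsg.Lie CL.Chev Matrix

/-- entries of `x_r(t)` as lists of (exponent, coefficient) -/
def ent (D : ChevalleyDatum) (r : Fin D.nroots) (row col : D.Idx) : List (ℕ × ℤ) :=
  match col with
  | Sum.inl i =>
    (match row with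
     | Sum.inl i' => if i' = i then [(0, 1)] else []
     | Sum.inr u => if u = r then [(1, - ((D.cartanSR.getD i.val #[]).getD r.val 0))] else [])
  | Sum.inr s =>
    if s = r then (match row with | Sum.inr u => if u = r then [(0, 1)] else [] | Sum.inl _ => [])
    else if s.val = D.negIdx.getD r.val 0 then
      (match row with
       | Sum.inl i => [(1, (D.coroot.getD r.val #[]).getD i.val 0)]
       | Sum.inr u => if u = s then [(0, 1)] else if u = r then [(2, -1)] else [])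
    else
      (match row with
       | Sum.inl _ => []
       | Sum.inr u => (if u = s then [(0, 1)] else []) ++ D.chainCoeff r.val s.val u.val)

def evL {K : Type*} [Field K] (L : List (ℕ × ℤ)) (t : K) : K := (L.map fun km => ((km.2 : ℤ) : K) * t ^ km.1).sum

theorem xMat_eq_evL (D : ChevalleyDatum) {K : Type*} [Field K] (r : Fin D.nroots) (t : K) (row col : D.Idx) :
    D.xMat K r t row col = evL (ent D r row col) t := by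
  rcases col with i | s <;> rcases row with i' | u <;>
    simp only [ChevalleyDatum.xMat, ent, Matrix.of_apply] <;> split_ifs <;> simp [evL]

/-- coefficient of `t ^ k` mod 3 -/
def cf (L : List (ℕ × ℤ)) (k : ℕ) : ℤ := ((((L.filter fun x => x.1 = k).map Prod.snd).sum + 1) % 3) - 1

theorem evL_eq {K : Type*} [Field K] [CharP K 3] (L : List (ℕ × ℤ)) (h : ∀ x ∈ L, x.1 < 4) (t : K) :
    evL L t = cf L 0 + cf L 1 * t + cf L 2 * t ^ 2 + cf L 3 * t ^ 3 := by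
  have hc : ∀ a : ℤ, ((((a + 1) % 3) - 1 : ℤ) : K) = a := fun a => by
    have := CharP.intCast_eq_intCast_mod K 3 (a := a + 1)
    push_cast at this ⊢
    rw [← this]; ring
  simp only [cf, hc]
  induction L with
  | nil => simp [evL]
  | cons x L ih =>
    have h1 := ih fun y hy => h y (List.mem_cons_of_mem _ hy)
    have h2 := h x List.mem_cons_self
    obtain ⟨k, c⟩ := x
    simp only [evL, List.map_cons, List.sum_cons] at h1 ⊢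
    rw [h1]
    dsimp only at h2
    interval_cases k <;> simp [List.filter_cons] <;> ring

def e7 : Fin 7 → chevG2.Idx :=
  ![Sum.inr ⟨9, by decide⟩, Sum.inr ⟨8, by decide⟩, Sum.inr ⟨7, by decide⟩, Sum.inl ⟨0, by decide⟩,
    Sum.inr ⟨4, by decide⟩, Sum.inr ⟨3, by decide⟩, Sum.inr ⟨2, by decide⟩]

theorem ent_lt : ∀ (r : Fin chevG2.nroots) (i j : chevG2.Idx), ∀ x ∈ ent chevG2 r i j, x.1 < 4 := by
  decide +kernel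

theorem ent_out : ∀ (r : Fin chevG2.nroots) (i : chevG2.Idx) (j : Fin 7), (∀ l, e7 l ≠ i) →
    ∀ k < 4, cf (ent chevG2 r i (e7 j)) k = 0 := by
  decide +kernel


theorem e7_injective : Function.Injective e7 := by decide +kernel

variable {K : Type*} [Field K]

/-- the span of the basis vectors `e7 j` is invariant -/
def Inv7 (A : Matrix chevG2.Idx chevG2.Idx K) : Prop := ∀ i j, (∀ l, e7 l ≠ i) → A i (e7 j) = 0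

theorem sum_e7 {A : Matrix chevG2.Idx chevG2.Idx K} (hA : Inv7 A) (v : chevG2.Idx → K) (j : Fin 7) :
    ∑ k, v k * A k (e7 j) = ∑ l, v (e7 l) * A (e7 l) (e7 j) :=
  (Fintype.sum_of_injective e7 e7_injective _ _ (fun k hk => by
    rw [hA k j fun l hl => hk ⟨l, hl⟩, mul_zero]) fun _ => rfl).symm

theorem Inv7.mul {A B : Matrix chevG2.Idx chevG2.Idx K} (hA : Inv7 A) (hB : Inv7 B) : Inv7 (A * B) := by
  intro i j hi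
  rw [Matrix.mul_apply, sum_e7 hB]
  exact Finset.sum_eq_zero fun l _ => by rw [hA i l hi, zero_mul]

theorem Inv7.one : Inv7 (1 : Matrix chevG2.Idx chevG2.Idx K) := fun _ j hi =>
  Matrix.one_apply_ne (hi j).symm

theorem x_val (r : Rt chevG2) (t : K) (i j : chevG2.Idx) :
    ((((stG chevG2 K).x r t : chevG2.group K) : GL chevG2.Idx K) : Matrix chevG2.Idx chevG2.Idx K) i j =
      evL (ent chevG2 r i j) t := by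
  rw [stG_x, xg_val', ChevalleyDatum.x, dif_pos r.2, xMat_eq_evL]

variable [CharP K 3]

theorem inv7_x (r : Rt chevG2) (t : K) :
    Inv7 ((((stG chevG2 K).x r t : chevG2.group K) : GL chevG2.Idx K) : Matrix chevG2.Idx chevG2.Idx K) := by
  intro i j hi
  rw [x_val, evL_eq _ (ent_lt r _ _), ent_out r i j hi 0 (by norm_num), ent_out r i j hi 1 (by norm_num),
    ent_out r i j hi 2 (by norm_num), ent_out r i j hi 3 (by norm_num)]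
  simp

theorem inv7 (g : chevG2.group K) : Inv7 ((g : GL chevG2.Idx K) : Matrix chevG2.Idx chevG2.Idx K) := by
  have hg : g ∈ (stG chevG2 K).grp := stG_top.ge trivial
  induction hg using Subgroup.closure_induction'' with
  | mem x hx => obtain ⟨r, -, t, rfl⟩ := hx; exact inv7_x r t
  | inv_mem x hx => obtain ⟨r, -, t, rfl⟩ := hx; rw [← StData.x_neg]; exact inv7_x r _
  | one => exact Inv7.one
  | mul x y _ _ hx hy => exact hx.mul hy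

variable (K) in
/-- The seven-dimensional representation. -/
def rho7 : chevG2.group K →* Matrix (Fin 7) (Fin 7) K where
  toFun g := ((g : GL chevG2.Idx K) : Matrix chevG2.Idx chevG2.Idx K).submatrix e7 e7
  map_one' := Matrix.submatrix_one _ e7_injective
  map_mul' g g' := by
    ext i j
    rw [Matrix.mul_apply]
    exact sum_e7 (inv7 g') _ j

/-- coefficient tables -/
def c7 (r : Fin 12) (k : ℕ) : Matrix (Fin 7) (Fin 7) ℤ := Matrix.of fun i j => cf (ent chevG2 (rG2 r) (e7 i) (e7 j)) k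

theorem rho7_x (r : Fin 12) (t : K) {A B : Matrix (Fin 7) (Fin 7) ℤ}
    (h : c7 r 0 = 1 ∧ c7 r 1 = A ∧ c7 r 2 = B ∧ c7 r 3 = 0) :
    rho7 K ((stG chevG2 K).x (rG2 r) t) =
      Matrix.of fun i j => (((1 : Matrix (Fin 7) (Fin 7) ℤ) i j : ℤ) : K) + A i j * t + B i j * t ^ 2 := by
  obtain ⟨h0, rfl, rfl, h3⟩ := h
  ext i j
  have := congrFun (congrFun h3 i) j
  rw [← h0]
  refine (x_val _ _ _ _).trans ((evL_eq _ (ent_lt _ _ _) t).trans ?_)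
  rw [show cf (ent chevG2 (rG2 r) (e7 i) (e7 j)) 3 = 0 from this]
  simp [c7]

theorem x7_0 (t : K) : rho7 K ((stG chevG2 K).x (rG2 0) t) =
    !![1, 0, 0, 0, 0, 0, 0;
       0, 1, 0, 0, 0, 0, 0;
       0, 0, 1, 0, 0, 0, 0;
       0, 0, 0, 1, 0, 0, 0;
       0, 0, 0, 0, 1, 0, 0;
       -t, 0, 0, 0, 0, 1, 0;
       0, t, 0, 0, 0, 0, 1] := by
  rw [rho7_x 0 t
    (A := !![0, 0, 0, 0, 0, 0, 0; 0, 0, 0, 0, 0, 0, 0; 0, 0, 0, 0, 0, 0, 0; 0, 0, 0, 0, 0, 0, 0; 0, 0, 0, 0, 0, 0, 0; -1, 0, 0, 0, 0, 0, 0; 0, 1, 0, 0, 0, 0, 0])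
    (B := !![0, 0, 0, 0, 0, 0, 0; 0, 0, 0, 0, 0, 0, 0; 0, 0, 0, 0, 0, 0, 0; 0, 0, 0, 0, 0, 0, 0; 0, 0, 0, 0, 0, 0, 0; 0, 0, 0, 0, 0, 0, 0; 0, 0, 0, 0, 0, 0, 0])
    (by decide +kernel), one7, eta7 (Matrix.of _)]
  apply congr7 <;> simp

theorem x7_1 (t : K) : rho7 K ((stG chevG2 K).x (rG2 1) t) =
    !![1, 0, 0, 0, 0, 0, 0;
       0, 1, 0, 0, 0, 0, 0;
       0, 0, 1, 0, 0, 0, 0;
       0, 0, 0, 1, 0, 0, 0;
       -t, 0, 0, 0, 1, 0, 0;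
       0, 0, 0, 0, 0, 1, 0;
       0, 0, t, 0, 0, 0, 1] := by
  rw [rho7_x 1 t
    (A := !![0, 0, 0, 0, 0, 0, 0; 0, 0, 0, 0, 0, 0, 0; 0, 0, 0, 0, 0, 0, 0; 0, 0, 0, 0, 0, 0, 0; -1, 0, 0, 0, 0, 0, 0; 0, 0, 0, 0, 0, 0, 0; 0, 0, 1, 0, 0, 0, 0])
    (B := !![0, 0, 0, 0, 0, 0, 0; 0, 0, 0, 0, 0, 0, 0; 0, 0, 0, 0, 0, 0, 0; 0, 0, 0, 0, 0, 0, 0; 0, 0, 0, 0, 0, 0, 0; 0, 0, 0, 0, 0, 0, 0; 0, 0, 0, 0, 0, 0, 0])
    (by decide +kernel), one7, eta7 (Matrix.of _)]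
  apply congr7 <;> simp

theorem x7_2 (t : K) : rho7 K ((stG chevG2 K).x (rG2 2) t) =
    !![1, 0, 0, 0, 0, 0, 0;
       0, 1, 0, 0, 0, 0, 0;
       0, 0, 1, 0, 0, 0, 0;
       t, 0, 0, 1, 0, 0, 0;
       0, -t, 0, 0, 1, 0, 0;
       0, 0, t, 0, 0, 1, 0;
       -t ^ 2, 0, 0, t, 0, 0, 1] := by
  rw [rho7_x 2 t
    (A := !![0, 0, 0, 0, 0, 0, 0; 0, 0, 0, 0, 0, 0, 0; 0, 0, 0, 0, 0, 0, 0; 1, 0, 0, 0, 0, 0, 0; 0, -1, 0, 0, 0, 0, 0; 0, 0, 1, 0, 0, 0, 0; 0, 0, 0, 1, 0, 0, 0])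
    (B := !![0, 0, 0, 0, 0, 0, 0; 0, 0, 0, 0, 0, 0, 0; 0, 0, 0, 0, 0, 0, 0; 0, 0, 0, 0, 0, 0, 0; 0, 0, 0, 0, 0, 0, 0; 0, 0, 0, 0, 0, 0, 0; -1, 0, 0, 0, 0, 0, 0])
    (by decide +kernel), one7, eta7 (Matrix.of _)]
  apply congr7 <;> simp

theorem x7_3 (t : K) : rho7 K ((stG chevG2 K).x (rG2 3) t) =
    !![1, 0, 0, 0, 0, 0, 0;
       0, 1, 0, 0, 0, 0, 0;
       -t, 0, 1, 0, 0, 0, 0;
       0, -t, 0, 1, 0, 0, 0;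
       0, 0, 0, 0, 1, 0, 0;
       0, -t ^ 2, 0, -t, 0, 1, 0;
       0, 0, 0, 0, t, 0, 1] := by
  rw [rho7_x 3 t
    (A := !![0, 0, 0, 0, 0, 0, 0; 0, 0, 0, 0, 0, 0, 0; -1, 0, 0, 0, 0, 0, 0; 0, -1, 0, 0, 0, 0, 0; 0, 0, 0, 0, 0, 0, 0; 0, 0, 0, -1, 0, 0, 0; 0, 0, 0, 0, 1, 0, 0])
    (B := !![0, 0, 0, 0, 0, 0, 0; 0, 0, 0, 0, 0, 0, 0; 0, 0, 0, 0, 0, 0, 0; 0, 0, 0, 0, 0, 0, 0; 0, 0, 0, 0, 0, 0, 0; 0, -1, 0, 0, 0, 0, 0; 0, 0, 0, 0, 0, 0, 0])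
    (by decide +kernel), one7, eta7 (Matrix.of _)]
  apply congr7 <;> simp

theorem x7_4 (t : K) : rho7 K ((stG chevG2 K).x (rG2 4) t) =
    !![1, 0, 0, 0, 0, 0, 0;
       t, 1, 0, 0, 0, 0, 0;
       0, 0, 1, 0, 0, 0, 0;
       0, 0, -t, 1, 0, 0, 0;
       0, 0, -t ^ 2, -t, 1, 0, 0;
       0, 0, 0, 0, 0, 1, 0;
       0, 0, 0, 0, 0, -t, 1] := by
  rw [rho7_x 4 t
    (A := !![0, 0, 0, 0, 0, 0, 0; 1, 0, 0, 0, 0, 0, 0; 0, 0, 0, 0, 0, 0, 0; 0, 0, -1, 0, 0, 0, 0; 0, 0, 0, -1, 0, 0, 0; 0, 0, 0, 0, 0, 0, 0; 0, 0, 0, 0, 0, -1, 0])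
    (B := !![0, 0, 0, 0, 0, 0, 0; 0, 0, 0, 0, 0, 0, 0; 0, 0, 0, 0, 0, 0, 0; 0, 0, 0, 0, 0, 0, 0; 0, 0, -1, 0, 0, 0, 0; 0, 0, 0, 0, 0, 0, 0; 0, 0, 0, 0, 0, 0, 0])
    (by decide +kernel), one7, eta7 (Matrix.of _)]
  apply congr7 <;> simp

theorem x7_5 (t : K) : rho7 K ((stG chevG2 K).x (rG2 5) t) =
    !![1, 0, 0, 0, 0, 0, 0;
       0, 1, 0, 0, 0, 0, 0;
       0, t, 1, 0, 0, 0, 0;
       0, 0, 0, 1, 0, 0, 0;
       0, 0, 0, 0, 1, 0, 0;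
       0, 0, 0, 0, -t, 1, 0;
       0, 0, 0, 0, 0, 0, 1] := by
  rw [rho7_x 5 t
    (A := !![0, 0, 0, 0, 0, 0, 0; 0, 0, 0, 0, 0, 0, 0; 0, 1, 0, 0, 0, 0, 0; 0, 0, 0, 0, 0, 0, 0; 0, 0, 0, 0, 0, 0, 0; 0, 0, 0, 0, -1, 0, 0; 0, 0, 0, 0, 0, 0, 0])
    (B := !![0, 0, 0, 0, 0, 0, 0; 0, 0, 0, 0, 0, 0, 0; 0, 0, 0, 0, 0, 0, 0; 0, 0, 0, 0, 0, 0, 0; 0, 0, 0, 0, 0, 0, 0; 0, 0, 0, 0, 0, 0, 0; 0, 0, 0, 0, 0, 0, 0])
    (by decide +kernel), one7, eta7 (Matrix.of _)]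
  apply congr7 <;> simp

theorem x7_6 (t : K) : rho7 K ((stG chevG2 K).x (rG2 6) t) =
    !![1, 0, 0, 0, 0, 0, 0;
       0, 1, t, 0, 0, 0, 0;
       0, 0, 1, 0, 0, 0, 0;
       0, 0, 0, 1, 0, 0, 0;
       0, 0, 0, 0, 1, -t, 0;
       0, 0, 0, 0, 0, 1, 0;
       0, 0, 0, 0, 0, 0, 1] := by
  rw [rho7_x 6 t
    (A := !![0, 0, 0, 0, 0, 0, 0; 0, 0, 1, 0, 0, 0, 0; 0, 0, 0, 0, 0, 0, 0; 0, 0, 0, 0, 0, 0, 0; 0, 0, 0, 0, 0, -1, 0; 0, 0, 0, 0, 0, 0, 0; 0, 0, 0, 0, 0, 0, 0])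
    (B := !![0, 0, 0, 0, 0, 0, 0; 0, 0, 0, 0, 0, 0, 0; 0, 0, 0, 0, 0, 0, 0; 0, 0, 0, 0, 0, 0, 0; 0, 0, 0, 0, 0, 0, 0; 0, 0, 0, 0, 0, 0, 0; 0, 0, 0, 0, 0, 0, 0])
    (by decide +kernel), one7, eta7 (Matrix.of _)]
  apply congr7 <;> simp

theorem x7_7 (t : K) : rho7 K ((stG chevG2 K).x (rG2 7) t) =
    !![1, t, 0, 0, 0, 0, 0;
       0, 1, 0, 0, 0, 0, 0;
       0, 0, 1, t, -t ^ 2, 0, 0;
       0, 0, 0, 1, t, 0, 0;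
       0, 0, 0, 0, 1, 0, 0;
       0, 0, 0, 0, 0, 1, -t;
       0, 0, 0, 0, 0, 0, 1] := by
  rw [rho7_x 7 t
    (A := !![0, 1, 0, 0, 0, 0, 0; 0, 0, 0, 0, 0, 0, 0; 0, 0, 0, 1, 0, 0, 0; 0, 0, 0, 0, 1, 0, 0; 0, 0, 0, 0, 0, 0, 0; 0, 0, 0, 0, 0, 0, -1; 0, 0, 0, 0, 0, 0, 0])
    (B := !![0, 0, 0, 0, 0, 0, 0; 0, 0, 0, 0, 0, 0, 0; 0, 0, 0, 0, -1, 0, 0; 0, 0, 0, 0, 0, 0, 0; 0, 0, 0, 0, 0, 0, 0; 0, 0, 0, 0, 0, 0, 0; 0, 0, 0, 0, 0, 0, 0])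
    (by decide +kernel), one7, eta7 (Matrix.of _)]
  apply congr7 <;> simp

theorem x7_8 (t : K) : rho7 K ((stG chevG2 K).x (rG2 8) t) =
    !![1, 0, -t, 0, 0, 0, 0;
       0, 1, 0, t, 0, -t ^ 2, 0;
       0, 0, 1, 0, 0, 0, 0;
       0, 0, 0, 1, 0, t, 0;
       0, 0, 0, 0, 1, 0, t;
       0, 0, 0, 0, 0, 1, 0;
       0, 0, 0, 0, 0, 0, 1] := by
  rw [rho7_x 8 t
    (A := !![0, 0, -1, 0, 0, 0, 0; 0, 0, 0, 1, 0, 0, 0; 0, 0, 0, 0, 0, 0, 0; 0, 0, 0, 0, 0, 1, 0; 0, 0, 0, 0, 0, 0, 1; 0, 0, 0, 0, 0, 0, 0; 0, 0, 0, 0, 0, 0, 0])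
    (B := !![0, 0, 0, 0, 0, 0, 0; 0, 0, 0, 0, 0, -1, 0; 0, 0, 0, 0, 0, 0, 0; 0, 0, 0, 0, 0, 0, 0; 0, 0, 0, 0, 0, 0, 0; 0, 0, 0, 0, 0, 0, 0; 0, 0, 0, 0, 0, 0, 0])
    (by decide +kernel), one7, eta7 (Matrix.of _)]
  apply congr7 <;> simp

theorem x7_9 (t : K) : rho7 K ((stG chevG2 K).x (rG2 9) t) =
    !![1, 0, 0, -t, 0, 0, -t ^ 2;
       0, 1, 0, 0, -t, 0, 0;
       0, 0, 1, 0, 0, t, 0;
       0, 0, 0, 1, 0, 0, -t;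
       0, 0, 0, 0, 1, 0, 0;
       0, 0, 0, 0, 0, 1, 0;
       0, 0, 0, 0, 0, 0, 1] := by
  rw [rho7_x 9 t
    (A := !![0, 0, 0, -1, 0, 0, 0; 0, 0, 0, 0, -1, 0, 0; 0, 0, 0, 0, 0, 1, 0; 0, 0, 0, 0, 0, 0, -1; 0, 0, 0, 0, 0, 0, 0; 0, 0, 0, 0, 0, 0, 0; 0, 0, 0, 0, 0, 0, 0])
    (B := !![0, 0, 0, 0, 0, 0, -1; 0, 0, 0, 0, 0, 0, 0; 0, 0, 0, 0, 0, 0, 0; 0, 0, 0, 0, 0, 0, 0; 0, 0, 0, 0, 0, 0, 0; 0, 0, 0, 0, 0, 0, 0; 0, 0, 0, 0, 0, 0, 0])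
    (by decide +kernel), one7, eta7 (Matrix.of _)]
  apply congr7 <;> simp

theorem x7_10 (t : K) : rho7 K ((stG chevG2 K).x (rG2 10) t) =
    !![1, 0, 0, 0, -t, 0, 0;
       0, 1, 0, 0, 0, 0, 0;
       0, 0, 1, 0, 0, 0, t;
       0, 0, 0, 1, 0, 0, 0;
       0, 0, 0, 0, 1, 0, 0;
       0, 0, 0, 0, 0, 1, 0;
       0, 0, 0, 0, 0, 0, 1] := by
  rw [rho7_x 10 t
    (A := !![0, 0, 0, 0, -1, 0, 0; 0, 0, 0, 0, 0, 0, 0; 0, 0, 0, 0, 0, 0, 1; 0, 0, 0, 0, 0, 0, 0; 0, 0, 0, 0, 0, 0, 0; 0, 0, 0, 0, 0, 0, 0; 0, 0, 0, 0, 0, 0, 0])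
    (B := !![0, 0, 0, 0, 0, 0, 0; 0, 0, 0, 0, 0, 0, 0; 0, 0, 0, 0, 0, 0, 0; 0, 0, 0, 0, 0, 0, 0; 0, 0, 0, 0, 0, 0, 0; 0, 0, 0, 0, 0, 0, 0; 0, 0, 0, 0, 0, 0, 0])
    (by decide +kernel), one7, eta7 (Matrix.of _)]
  apply congr7 <;> simp

theorem x7_11 (t : K) : rho7 K ((stG chevG2 K).x (rG2 11) t) =
    !![1, 0, 0, 0, 0, -t, 0;
       0, 1, 0, 0, 0, 0, t;
       0, 0, 1, 0, 0, 0, 0;
       0, 0, 0, 1, 0, 0, 0;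
       0, 0, 0, 0, 1, 0, 0;
       0, 0, 0, 0, 0, 1, 0;
       0, 0, 0, 0, 0, 0, 1] := by
  rw [rho7_x 11 t
    (A := !![0, 0, 0, 0, 0, -1, 0; 0, 0, 0, 0, 0, 0, 1; 0, 0, 0, 0, 0, 0, 0; 0, 0, 0, 0, 0, 0, 0; 0, 0, 0, 0, 0, 0, 0; 0, 0, 0, 0, 0, 0, 0; 0, 0, 0, 0, 0, 0, 0])
    (B := !![0, 0, 0, 0, 0, 0, 0; 0, 0, 0, 0, 0, 0, 0; 0, 0, 0, 0, 0, 0, 0; 0, 0, 0, 0, 0, 0, 0; 0, 0, 0, 0, 0, 0, 0; 0, 0, 0, 0, 0, 0, 0; 0, 0, 0, 0, 0, 0, 0])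
    (by decide +kernel), one7, eta7 (Matrix.of _)]
  apply congr7 <;> simp

theorem rho7_injective : Function.Injective (rho7 K) := by
  have := isSimpleGroup_group (D := chevG2) (F := K) (by simp) fun _ => ⟨-1, by simp, fun h => by
    have h3 : (3 : K) = 0 := CharP.cast_eq_zero K 3
    have : (1 : K) = 0 := by linear_combination h3 + h
    exact one_ne_zero this⟩
  rw [← MonoidHom.ker_eq_bot_iff]
  refine (MonoidHom.normal_ker _).eq_bot_or_eq_top.resolve_right fun h => ?_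
  have h1 : rho7 K ((stG chevG2 K).x (rG2 7) 1) = 1 := (h.ge trivial : _ ∈ (rho7 K).ker)
  rw [x7_7] at h1
  simpa using congrFun (congrFun h1 0) 1

end CL.Ree
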