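/-
Small Ree groups: the centraliser of an involution and the Sylow 2-subgroups.
-/
import Mathlib
import Cfsg.Agent.CHEV.ReeBasic
import Cfsg.Agent.CHEV.SL2Hom
import Cfsg.Agent.CHEV.HallTor
import Cfsg.Agent.KSG.PSL2Basic
import Cfsg.Agent.KSG.SchurAsm
import Cfsg.Agent.INV.ElemAbGL
import Cfsg.Agent.INV.FusInv
import Cfsg.Agent.INV.Four

set_option autoImplicit false
set_option linter.unusedSectionVars false

namespace CL.Ree

open CL.SL2Hom CL.GL2 Matrix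
open scoped MatrixGroups

variable {F : Type*} [Field F] [CharP F 3]

/-- An element of order four of `SL₂`. -/
def iS : SL(2, F) := ⟨!![0, 1; -1, 0], by simp [det_fin_two_of]⟩

/-- A second element of order four of `SL₂(3)`. -/
def jS : SL(2, F) := ⟨!![-1, -1; -1, 1], by simp [det_fin_two_of]; grind⟩

theorem coe_iS : ((iS : SL(2, F)) : Matrix (Fin 2) (Fin 2) F) = !![0, 1; -1, 0] := rfl

theorem coe_jS : ((jS : SL(2, F)) : Matrix (Fin 2) (Fin 2) F) = !![-1, -1; -1, 1] := rfl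

theorem upper_mul_iS : upper (1 : F) * iS = jS * upper 1 := SL_ext_iff.mpr (by
  simp [coe_jS, coe_iS, coe_upper]; grind)

theorem nmat_one : nmat (1 : F) one_ne_zero = iS := SL_ext_iff.mpr (by simp [coe_nmat, coe_iS])

theorem iS_mul_iS : (iS : SL(2, F)) * iS = -1 := SL_ext_iff.mpr (by
  simp [coe_iS, mat_ext_iff])

theorem jS_mul_jS : (jS : SL(2, F)) * jS = -1 := SL_ext_iff.mpr (by
  simp [coe_jS, mat_ext_iff]; grind)

theorem jS_mul_iS : (jS : SL(2, F)) * iS = -(iS * jS) := SL_ext_iff.mpr (by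
  simp [coe_jS, coe_iS])

theorem upper_mul_jS : upper (1 : F) * jS = -(iS * jS) * upper 1 := SL_ext_iff.mpr (by
  simp [coe_jS, coe_iS, coe_upper]; grind)

theorem trace_iS : ((iS : SL(2, F)) : Matrix (Fin 2) (Fin 2) F).trace = 0 := by simp [coe_iS]

theorem not_isScal_iS : ¬ IsScal ((iS : SL(2, F)) : Matrix (Fin 2) (Fin 2) F) := fun h => by
  simpa [coe_iS] using h.1

theorem noEig_iS {σ : F →+* F} (tits : ∀ x, σ (σ x) = x ^ 3) :
    NoEig ((iS : SL(2, F)) : Matrix (Fin 2) (Fin 2) F) := by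
  rw [noEig_iff]
  intro c hc
  rw [cp_def, trace_iS, iS.2] at hc
  exact not_isSquare_neg_one tits ⟨c, by linear_combination -hc⟩

theorem eq_of_commute_iS_jS {A : SL(2, F)} (h1 : A * iS = iS * A) (h2 : A * jS = jS * A) : A = 1 ∨ A = -1 := by
  rw [← isScal_SL_iff]
  have e1 : A.1 * !![0, 1; -1, 0] = !![0, 1; -1, 0] * A.1 := SL_ext_iff.mp h1
  have e2 : A.1 * !![-1, -1; -1, 1] = !![-1, -1; -1, 1] * A.1 := SL_ext_iff.mp h2
  simp only [mat_ext_iff, mul_00, mul_01, mul_10, mul_11] at e1 e2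
  simp at e1 e2
  refine ⟨?_, ?_, ?_⟩ <;> grind

namespace Model

variable {σ : F →+* F} {G : Type*} [Group G] (M : Model σ G) [Finite F]

theorem rel : Rel (fun t => M.u 0 t 0) fun s => M.w * M.u 0 (-s) 0 * M.w where
  x_add s t := by rw [u_zero_mul, add_zero]
  y_add s t := by
    nth_rewrite 2 4 6 [← M.w_inv]
    rw [conj_mul, u_zero_mul, add_zero, neg_add]
  conj t ht u := by
    have h0 := σ_ne_zero (σ := σ) ht
    rw [nn, neg_neg, M.sl2 ht, ← inv_inv (Units.mk0 _ _), ← w_mul_h, _root_.mul_inv_rev, w_inv, mul_assoc M.w,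
      ← mul_assoc, mul_assoc M.w, h_conj_u]
    congr 3
    · simp
    · simp only [Units.val_inv_eq_inv_val, Units.val_mk0, map_inv₀, map_div₀, M.tits]
      field_simp
    · simp

/-- The homomorphism from `SL₂(q)` onto the derived subgroup of the centraliser of `ε`. -/
noncomputable def φ : SL(2, F) →* G := (exists_hom_of_finite M.rel).choose

theorem φ_upper (t : F) : M.φ (upper t) = M.u 0 t 0 := (exists_hom_of_finite M.rel).choose_spec.2.1 t

theorem φ_lower (t : F) : M.φ (lower t) = M.w * M.u 0 (-t) 0 * M.w :=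
  (exists_hom_of_finite M.rel).choose_spec.2.2.1 t

theorem φ_nmat {t : F} (ht : t ≠ 0) :
    M.φ (nmat t ht) = M.h (Units.mk0 (σ t / t) (div_ne_zero (σ_ne_zero ht) ht)) * M.w := by
  rw [nmat_eq, nn, map_mul, map_mul, φ_upper, φ_lower, neg_neg, M.sl2 ht]

theorem φ_iS : M.φ iS = M.w := by
  rw [← nmat_one, φ_nmat, show Units.mk0 (σ 1 / 1) _ = 1 from Units.ext (by simp), map_one, one_mul]

theorem φ_neg_one : M.φ (-1) = 1 := by rw [← iS_mul_iS, map_mul, φ_iS, w_mul_w]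

theorem φ_neg (A : SL(2, F)) : M.φ (-A) = M.φ A := by rw [← neg_one_mul, map_mul, φ_neg_one, one_mul]

theorem φ_of_zero {A : SL(2, F)} (hc : A 1 0 = 0) : M.φ A =
    M.h (Units.mk0 (σ (A 0 0) / A 0 0) (div_ne_zero (σ_ne_zero (ne_zero_of_eq_zero A hc)) (ne_zero_of_eq_zero A hc))) *
      M.u 0 (A 0 1 / A 0 0) 0 := by
  conv_lhs => rw [bruhat_zero A hc (ne_zero_of_eq_zero A hc)]
  rw [map_mul, map_mul, φ_nmat, φ_nmat, φ_upper, show Units.mk0 (σ (-1) / (-1)) _ = 1 from Units.ext (by simp),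
    map_one, one_mul, mul_assoc (M.h _), w_mul_w, mul_one]

theorem φ_not_mem_B {A : SL(2, F)} (hc : A 1 0 ≠ 0) : M.φ A ∉ M.B := by
  rw [bruhat_ne A hc, map_mul, map_mul, φ_nmat, φ_upper, φ_upper, M.B.mul_mem_cancel_right (M.u_mem_B _ _ _),
    M.B.mul_mem_cancel_left (M.u_mem_B _ _ _), M.B.mul_mem_cancel_left (M.h_mem_B _)]
  exact M.w_not_mem_B

theorem φ_mem_B_iff {A : SL(2, F)} : M.φ A ∈ M.B ↔ A 1 0 = 0 :=
  ⟨fun h => by_contra fun hc => M.φ_not_mem_B hc h,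
    fun h => M.φ_of_zero h ▸ mul_mem (M.h_mem_B _) (M.u_mem_B _ _ _)⟩

theorem eq_of_φ_eq_h {A : SL(2, F)} {l : Fˣ} (h : M.φ A = M.h l) :
    A 1 0 = 0 ∧ A 0 1 = 0 ∧ σ (A 0 0) = l * A 0 0 := by
  have hc := M.φ_mem_B_iff.mp (h ▸ M.h_mem_B l)
  have ha := ne_zero_of_eq_zero A hc
  rw [M.φ_of_zero hc, h_mul_u, ← one_mul (M.h l), ← M.u_zero] at h
  obtain ⟨⟨-, h1, -⟩, h2⟩ := M.u_mul_h_inj h
  subst h2
  exact ⟨hc, by simpa [ha] using h1, by simp [ha]⟩

theorem φ_eq_one_iff {A : SL(2, F)} : M.φ A = 1 ↔ A = 1 ∨ A = -1 := by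
  refine ⟨fun h => ?_, fun h => h.elim (fun h => h ▸ map_one _) fun h => h ▸ M.φ_neg_one⟩
  obtain ⟨h1, h2, h3⟩ := M.eq_of_φ_eq_h (l := 1) (h.trans (map_one _).symm)
  have hd := det_eq A
  rw [← isScal_SL_iff]
  refine ⟨h2, h1, ?_⟩
  change A 0 0 = A 1 1
  rcases M.eq_of_σ_eq (l := A 0 0) (by simpa using h3) with h | h | h <;> grind

theorem φ_eq_iff {A A' : SL(2, F)} : M.φ A = M.φ A' ↔ A = A' ∨ A = -A' := by
  rw [← mul_inv_eq_one, ← map_inv, ← map_mul, φ_eq_one_iff, mul_inv_eq_one, mul_inv_eq_iff_eq_mul, neg_one_mul]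

theorem φ_ne_ε (A : SL(2, F)) : M.φ A ≠ M.ε := fun h => by
  obtain ⟨h1, -, h3⟩ := M.eq_of_φ_eq_h h
  have ha := ne_zero_of_eq_zero A h1
  have h4 := M.tits (A 0 0)
  simp only [Units.val_neg, Units.val_one, neg_mul, one_mul] at h3
  rw [h3, map_neg, h3, neg_neg] at h4
  have h5 : A 0 0 = 1 ∨ A 0 0 = -1 := sq_eq_one_iff.mp (mul_left_cancel₀ ha (by linear_combination -h4))
  rcases h5 with h5 | h5 <;> rw [h5] at h3 <;> simp at h3 <;> grind

theorem φ_ne_ε_mul (A A' : SL(2, F)) : M.φ A ≠ M.ε * M.φ A' := fun h =>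
  M.φ_ne_ε (A * A'⁻¹) (by rw [map_mul, map_inv, h, mul_inv_cancel_right])

theorem ε_mul_φ (A : SL(2, F)) : M.ε * M.φ A = M.φ A * M.ε := by
  have h : M.φ.range ≤ Subgroup.centralizer {M.ε} := by
    rw [φ, (exists_hom_of_finite M.rel).choose_spec.1, sup_le_iff, Subgroup.closure_le, Subgroup.closure_le]
    constructor <;> rintro _ ⟨t, rfl⟩ <;> rw [SetLike.mem_coe, Subgroup.mem_centralizer_singleton_iff]
    · exact (M.ε_mul_u_y t).symm
    · rw [← mul_assoc, ← mul_assoc, ε_mul_w, mul_assoc M.w M.ε, ε_mul_u_y, mul_assoc, ← ε_mul_w]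
      simp only [mul_assoc]
  exact (Subgroup.mem_centralizer_singleton_iff.mp (h ⟨A, rfl⟩)).symm

theorem h_sq_mem_range (l : Fˣ) : ∃ A, M.h (l ^ 2) = M.φ A := by
  obtain ⟨t, ht⟩ := M.h_sq_w l
  refine ⟨upper t * lower (-t⁻¹) * upper t * iS, ?_⟩
  rw [map_mul, map_mul, map_mul, φ_upper, φ_lower, φ_iS, neg_neg, ht, mul_assoc, w_mul_w, mul_one]

/-- `g` lies over `A` in `⟨ε⟩ × PSL₂(q)`. -/
def Over (g : G) (A : SL(2, F)) : Prop := g = M.φ A ∨ g = M.ε * M.φ A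

variable {M}

theorem Over.mul {g g' : G} {A A' : SL(2, F)} (h : M.Over g A) (h' : M.Over g' A') : M.Over (g * g') (A * A') := by
  rcases h with rfl | rfl <;> rcases h' with rfl | rfl
  · exact Or.inl (map_mul _ _ _).symm
  · exact Or.inr (by rw [← mul_assoc, ← ε_mul_φ, mul_assoc, map_mul])
  · exact Or.inr (by rw [mul_assoc, map_mul])
  · exact Or.inl (by rw [ε_mul_φ, mul_assoc, ← mul_assoc M.ε, ε_mul_ε, one_mul, map_mul])

theorem Over.inv {g : G} {A : SL(2, F)} (h : M.Over g A) : M.Over g⁻¹ A⁻¹ := by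
  rcases h with rfl | rfl
  · exact Or.inl (map_inv _ _).symm
  · exact Or.inr (by rw [ε_mul_φ, _root_.mul_inv_rev, ε_inv, map_inv])

theorem Over.neg {g : G} {A : SL(2, F)} (h : M.Over g A) : M.Over g (-A) := by
  rwa [Over, φ_neg]

theorem Over.mul_self {g : G} {A : SL(2, F)} (h : M.Over g A) : g * g = M.φ (A * A) := by
  rcases h with rfl | rfl
  · exact (map_mul _ _ _).symm
  · rw [mul_assoc, ← mul_assoc (M.φ A), ← ε_mul_φ, ← mul_assoc, ← mul_assoc, ε_mul_ε, one_mul, map_mul]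

theorem Over.comm_ε {g : G} {A : SL(2, F)} (h : M.Over g A) : g * M.ε = M.ε * g := by
  rcases h with rfl | rfl
  · exact (M.ε_mul_φ A).symm
  · rw [mul_assoc, ← ε_mul_φ]

theorem Over.conj_φ {g : G} {A : SL(2, F)} (h : M.Over g A) (C : SL(2, F)) :
    g * M.φ C * g⁻¹ = M.φ (A * C * A⁻¹) := by
  rw [map_mul, map_mul, map_inv]
  rcases h with rfl | rfl
  · rfl
  · rw [_root_.mul_inv_rev, ε_inv, ← map_inv, mul_assoc M.ε, mul_assoc M.ε, ← mul_assoc, ← mul_assoc, mul_assoc M.ε,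
      ← map_mul, ← map_mul, ε_mul_φ, mul_assoc, ε_mul_ε, mul_one]

theorem Over.eq {g : G} {A A' : SL(2, F)} (h : M.Over g A) (h' : M.Over g A') : A = A' ∨ A = -A' := by
  rw [← M.φ_eq_iff]
  rcases h with rfl | rfl <;> rcases h' with h | h
  · exact h
  · exact absurd h (M.φ_ne_ε_mul _ _)
  · exact absurd h.symm (M.φ_ne_ε_mul _ _)
  · exact mul_left_cancel h

theorem Over.comm_iff {g g' : G} {A A' : SL(2, F)} (h : M.Over g A) (h' : M.Over g' A') :
    g * g' = g' * g ↔ A * A' = A' * A ∨ A * A' = -(A' * A) := by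
  refine ⟨fun e => (h.mul h').eq (e ▸ h'.mul h), fun e => ?_⟩
  rw [← M.φ_eq_iff, map_mul, map_mul] at e
  have e1 := M.ε_mul_φ A
  have e2 := M.ε_mul_φ A'
  change Commute _ _ at e e1 e2 ⊢
  rcases h with rfl | rfl <;> rcases h' with rfl | rfl
  exacts [e, e1.symm.mul_right e, e2.mul_left e,
    ((Commute.refl _).mul_right e2).mul_left (e1.symm.mul_right e)]

variable (M)

theorem over_φ (A : SL(2, F)) : M.Over (M.φ A) A := Or.inl rfl

theorem over_ε : M.Over M.ε 1 := Or.inr (by simp)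

theorem over_w : M.Over M.w iS := Or.inl M.φ_iS.symm

theorem exists_over_h (l : Fˣ) : ∃ A, M.Over (M.h l) A := by
  obtain ⟨k, rfl | rfl⟩ := exists_sq_or M.tits l
  · exact (M.h_sq_mem_range k).imp fun _ => Or.inl
  · exact (M.h_sq_mem_range k).imp fun _ h => Or.inr (by rw [h_neg, h])

theorem eq_of_mem_B_of_comm_ε {g : G} (hg : g ∈ M.B) (h : g * M.ε = M.ε * g) : ∃ y l, g = M.u 0 y 0 * M.h l := by
  obtain ⟨a, y, z, l, rfl⟩ := hg
  rw [mul_assoc, ← ε_mul_h, ← mul_assoc, ← mul_assoc, ε_mul_u, mul_left_inj, mul_left_inj, u_eq_iff] at h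
  obtain rfl : a = 0 := by grind
  obtain rfl : z = 0 := by grind
  exact ⟨y, l, rfl⟩

theorem exists_over {g : G} (h : g * M.ε = M.ε * g) : ∃ A, M.Over g A := by
  have key : ∀ g ∈ M.B, g * M.ε = M.ε * g → ∃ A, M.Over g A := fun g hg h => by
    obtain ⟨y, l, rfl⟩ := M.eq_of_mem_B_of_comm_ε hg h
    obtain ⟨A, hA⟩ := M.exists_over_h l
    exact ⟨_, (M.φ_upper y ▸ M.over_φ _).mul hA⟩
  rcases M.ε_smul_eq_iff.mp (M.smul_fix_of_commute h M.ε_smul_inf) with h1 | ⟨y, h1⟩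
  · exact key g (M.smul_inf_eq_inf.mp h1) h
  · have h2 := (M.φ_upper y ▸ M.over_φ (upper y)).mul M.over_w
    obtain ⟨A, hA⟩ := key ((M.u 0 y 0 * M.w)⁻¹ * g) (by rw [← smul_inf_eq_inf, mul_smul, h1, pt_eq, inv_smul_smul])
      (by rw [mul_assoc, h, ← mul_assoc, h2.inv.comm_ε, mul_assoc])
    exact ⟨_, by simpa only [mul_inv_cancel_left] using h2.mul hA⟩

theorem mem_centralizer_ε {g : G} : g ∈ Subgroup.centralizer {M.ε} ↔ ∃ A, M.Over g A := by
  rw [Subgroup.mem_centralizer_singleton_iff]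
  exact ⟨M.exists_over, fun ⟨_, h⟩ => h.comm_ε⟩

theorem ker_φ : M.φ.ker = Subgroup.center SL(2, F) := by
  ext A
  rw [MonoidHom.mem_ker, φ_eq_one_iff, mem_center_SL_iff']

theorem nonempty_centralizer_ε_equiv :
    Nonempty (Subgroup.centralizer {M.ε} ≃* Multiplicative (ZMod 2) × PSL(2, F)) := by
  let f : PSL(2, F) →* G := QuotientGroup.lift _ M.φ M.ker_φ.ge
  let e := CL.SchurC.zmodHom 2 M.ε (by rw [sq, ε_mul_ε])
  have he : ∀ i, e i = 1 ∧ i = 1 ∨ e i = M.ε := fun i => by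
    obtain rfl | rfl : i = 1 ∨ i = Multiplicative.ofAdd 1 := by revert i; decide
    exacts [Or.inl ⟨map_one _, rfl⟩, Or.inr (CL.SchurC.zmodHom_one _ _ _)]
  have hc : ∀ i A, Commute (e i) (f A) := fun i A => by
    obtain ⟨A, rfl⟩ := QuotientGroup.mk_surjective A
    rcases he i with h | h
    · rw [h.1]; exact Commute.one_left _
    · rw [h]; exact M.ε_mul_φ A
  have h1 : Function.Injective (e.noncommCoprod f hc) := by
    rw [injective_iff_map_eq_one]
    rintro ⟨i, A⟩ h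
    obtain ⟨A, rfl⟩ := QuotientGroup.mk_surjective A
    change e i * M.φ A = 1 at h
    rcases he i with ⟨h1, rfl⟩ | h1 <;> rw [h1] at h
    · rw [one_mul] at h
      exact Prod.ext rfl ((QuotientGroup.eq_one_iff _).mpr (M.ker_φ.le h))
    · exact absurd (by rw [map_one, h]) (M.φ_ne_ε_mul 1 A)
  have h2 : (e.noncommCoprod f hc).range = Subgroup.centralizer {M.ε} := by
    ext g
    rw [mem_centralizer_ε]
    constructor
    · rintro ⟨⟨i, A⟩, rfl⟩
      obtain ⟨A, rfl⟩ := QuotientGroup.mk_surjective A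
      refine ⟨A, ?_⟩
      change M.Over (e i * M.φ A) A
      rcases he i with ⟨h1, -⟩ | h1 <;> rw [h1]
      exacts [Or.inl (one_mul _), Or.inr rfl]
    · rintro ⟨A, rfl | rfl⟩
      · exact ⟨(1, A), by change e 1 * M.φ A = _; rw [map_one, one_mul]⟩
      · exact ⟨(Multiplicative.ofAdd 1, A), congrArg (· * M.φ A) (CL.SchurC.zmodHom_one _ _ _)⟩
  exact ⟨((MonoidHom.ofInjective h1).trans (MulEquiv.subgroupCongr h2)).symm⟩

theorem card_centralizer_ε :
    Nat.card (Subgroup.centralizer {M.ε}) = Nat.card F * (Nat.card F + 1) * (Nat.card F - 1) := by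
  classical
  have := Fintype.ofFinite F
  obtain ⟨e⟩ := M.nonempty_centralizer_ε_equiv
  rw [Nat.card_congr e.toEquiv, Nat.card_prod, Nat.card_eq_fintype_card (α := F), ← gcd_mul_card_PSL2,
    gcd_odd two_ne_zero']
  simp

include M in
/-- There are no elements of order four. -/
theorem sq_eq_one_of_pow_four {g : G} (h : g ^ 4 = 1) : g * g = 1 := by
  by_contra h1
  obtain ⟨k, hk⟩ := M.exists_conj_ε_eq h1 (by rw [← h]; simp [pow_succ, mul_assoc])
  obtain ⟨A, hA⟩ := (M.conj k).exists_over (g := g) (by rw [hk, mul_assoc])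
  exact (M.conj k).φ_ne_ε _ (hA.mul_self.symm.trans hk.symm)

include M in
theorem sq_eq_one_of_two_pow {g : G} {n : ℕ} (h : g ^ 2 ^ n = 1) : g * g = 1 := by
  induction n generalizing g with
  | zero => rw [show g = 1 by simpa using h, one_mul]
  | succ n ih =>
    have := ih (g := g ^ 2) (by rw [← pow_mul, ← pow_succ', h])
    exact M.sq_eq_one_of_pow_four (by rw [← this, ← pow_add])

include M in
theorem sq_eq_one_of_isPGroup {P : Subgroup G} (hP : IsPGroup 2 P) {g : G} (hg : g ∈ P) : g * g = 1 := by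
  obtain ⟨n, hn⟩ := hP ⟨g, hg⟩
  exact M.sq_eq_one_of_two_pow (congrArg Subtype.val hn)

include M in
theorem comm_of_isPGroup {P : Subgroup G} (hP : IsPGroup 2 P) {a b : G} (ha : a ∈ P) (hb : b ∈ P) : a * b = b * a := by
  have h1 := inv_eq_of_mul_eq_one_right (M.sq_eq_one_of_isPGroup hP (mul_mem ha hb))
  rw [← h1, _root_.mul_inv_rev, inv_eq_of_mul_eq_one_right (M.sq_eq_one_of_isPGroup hP ha),
    inv_eq_of_mul_eq_one_right (M.sq_eq_one_of_isPGroup hP hb)]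

include M in
theorem card_mod_eight : Nat.card F % 8 = 3 := by
  obtain ⟨m, hm⟩ := exists_card_eq M.tits
  rw [hm, pow_succ, pow_mul, Nat.mul_mod, Nat.pow_mod]
  simp

include M in
theorem card_sylow_two (P : Sylow 2 G) : Nat.card P = 8 := by
  have := M.finite_G
  obtain ⟨k, hk⟩ : ∃ k, Nat.card F = 8 * k + 3 := ⟨Nat.card F / 8, by have := M.card_mod_eight; omega⟩
  have h : Nat.card G = 2 ^ 3 * ((8 * k + 3) ^ 3 * (4 * k + 1) * (2 * (64 * k ^ 3 + 72 * k ^ 2 + 27 * k + 3) + 1)) := by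
    rw [M.card_G, hk, show 8 * k + 3 - 1 = 8 * k + 2 from rfl]; ring
  rw [P.card_eq_multiplicity, h, Nat.factorization_mul (by positivity) (by positivity),
    Nat.prime_two.factorization_pow, Finsupp.add_apply, Nat.factorization_eq_zero_of_not_dvd]
  · simp
  · rw [← even_iff_two_dvd, Nat.not_even_iff_odd]
    exact (Odd.mul (Odd.pow ⟨4 * k + 1, by ring⟩) ⟨2 * k, by ring⟩).mul (odd_two_mul_add_one _)

/-- A third involution. -/
noncomputable def t : G := M.φ jS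

theorem t_eq : M.t = M.u 0 1 0 * M.w * (M.u 0 1 0)⁻¹ := by
  rw [eq_mul_inv_iff_mul_eq, t, ← φ_upper, ← φ_iS, ← map_mul, ← map_mul, upper_mul_iS]

theorem over_t : M.Over M.t jS := M.over_φ _

theorem t_mul_t : M.t * M.t = 1 := by rw [M.over_t.mul_self, jS_mul_jS, φ_neg_one]

theorem t_mul_w : M.t * M.w = M.w * M.t := (M.over_t.comm_iff M.over_w).mpr (Or.inr jS_mul_iS)

theorem t_mul_ε : M.t * M.ε = M.ε * M.t := M.over_t.comm_ε

theorem u_mul_t : M.u 0 1 0 * M.t = M.w * M.t * M.u 0 1 0 := by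
  rw [t, ← φ_upper, ← φ_iS, ← map_mul, upper_mul_jS, map_mul, φ_neg, map_mul]

/-- A Sylow 2-subgroup. -/
def S : Subgroup G := Subgroup.centralizer {M.ε, M.w, M.t}

theorem mem_S {g : G} : g ∈ M.S ↔ g * M.ε = M.ε * g ∧ g * M.w = M.w * g ∧ g * M.t = M.t * g := by
  simp [S, Subgroup.mem_centralizer_iff, eq_comm]

theorem ε_mem_S : M.ε ∈ M.S := M.mem_S.mpr ⟨rfl, M.ε_mul_w, M.t_mul_ε.symm⟩

theorem w_mem_S : M.w ∈ M.S := M.mem_S.mpr ⟨M.ε_mul_w.symm, rfl, M.t_mul_w.symm⟩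

theorem t_mem_S : M.t ∈ M.S := M.mem_S.mpr ⟨M.t_mul_ε, M.t_mul_w, rfl⟩

theorem sq_eq_one_of_mem_S {g : G} (hg : g ∈ M.S) : g * g = 1 := by
  obtain ⟨h1, h2, h3⟩ := M.mem_S.mp hg
  obtain ⟨A, hA⟩ := M.exists_over h1
  rw [hA.comm_iff M.over_w] at h2
  rw [hA.comm_iff M.over_t] at h3
  have : A * A = 1 ∨ A * A = -1 := eq_of_commute_iS_jS
    (by rcases h2 with h | h <;> rw [mul_assoc, h] <;> simp [← mul_assoc, h])
    (by rcases h3 with h | h <;> rw [mul_assoc, h] <;> simp [← mul_assoc, h])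
  rwa [hA.mul_self, φ_eq_one_iff]

theorem isPGroup_S : IsPGroup 2 M.S := fun g => ⟨1, Subtype.ext (by simpa [sq] using M.sq_eq_one_of_mem_S g.2)⟩

theorem centralizer_S : Subgroup.centralizer (M.S : Set G) = M.S :=
  le_antisymm (fun _ hg => M.mem_S.mpr ⟨(hg _ M.ε_mem_S).symm, (hg _ M.w_mem_S).symm, (hg _ M.t_mem_S).symm⟩)
    fun _ hg _ hk => M.comm_of_isPGroup M.isPGroup_S hk hg

theorem exists_sylow_eq_S : ∃ P : Sylow 2 G, (P : Subgroup G) = M.S := by
  obtain ⟨P, hP⟩ := M.isPGroup_S.exists_le_sylow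
  exact ⟨P, le_antisymm (fun g hg => M.centralizer_S ▸ fun k hk => M.comm_of_isPGroup P.isPGroup' (hP hk) hg) hP⟩

theorem card_S : Nat.card M.S = 8 := by
  obtain ⟨P, hP⟩ := M.exists_sylow_eq_S
  rw [← hP, M.card_sylow_two]

theorem u_mem_normalizer_S : M.u 0 1 0 ∈ Subgroup.normalizer (M.S : Set G) := by
  have := M.finite_G
  refine Subgroup.mem_normalizer_fintype fun g hg => ?_
  have key : ∀ {a b : G}, b ∈ M.S → M.u 0 1 0 * b = a * M.u 0 1 0 →
      M.u 0 1 0 * g * (M.u 0 1 0)⁻¹ * a = a * (M.u 0 1 0 * g * (M.u 0 1 0)⁻¹) := fun {a b} hb h => by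
    rw [← mul_inv_eq_iff_eq_mul] at h
    rw [← h, conj_mul, conj_mul, M.comm_of_isPGroup M.isPGroup_S hg hb]
  refine M.mem_S.mpr ⟨key M.ε_mem_S (M.ε_mul_u_y 1).symm, key (mul_mem M.w_mem_S M.t_mem_S) ?_,
    key M.w_mem_S (by rw [t_eq]; group)⟩
  calc M.u 0 1 0 * (M.w * M.t) = M.t * (M.u 0 1 0 * M.t) := by rw [← mul_assoc, ← mul_assoc, t_eq]; group
    _ = M.w * M.u 0 1 0 := by rw [u_mul_t, ← mul_assoc, ← mul_assoc, t_mul_w, mul_assoc M.w, t_mul_t, mul_one]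

theorem card_normalizer_S : Nat.card (Subgroup.normalizer (M.S : Set G)) = 168 := by
  have := M.finite_G
  obtain ⟨P, hP⟩ := M.exists_sylow_eq_S
  set N := Subgroup.normalizer (M.S : Set G)
  have h1 : 8 * M.S.relIndex N = Nat.card N := by
    rw [← M.card_S, ← Nat.card_congr (Subgroup.subgroupOfEquivOfLe Subgroup.le_normalizer).toEquiv]
    exact Subgroup.card_mul_index _
  have h2 : M.S.relIndex N ∣ 168 := by
    have h := CL.FusInv.relIndex_dvd_card_mulAut M.S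
    rw [centralizer_S] at h
    obtain ⟨f, hf⟩ := CL.EAGL.exists_hom_gl (V := M.S) (p := 2) (n := 3)
      (fun x y => Subtype.ext (M.comm_of_isPGroup M.isPGroup_S x.2 y.2))
      (fun x => Subtype.ext (by simpa [sq] using M.sq_eq_one_of_mem_S x.2)) M.card_S.le
    refine h.trans ((Subgroup.card_dvd_of_injective f hf).trans (dvd_of_eq ?_))
    rw [Matrix.card_GL_field]
    simp [Fin.prod_univ_three]
  have h3 : ¬ 2 ∣ M.S.relIndex N := fun h =>
    P.not_dvd_index (hP ▸ h.trans (Subgroup.relIndex_dvd_index_of_le Subgroup.le_normalizer))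
  have h4 : 3 ∣ Nat.card N := by
    rw [← M.orderOf_of_mem_Y (M.u_mem_Y 1 0) (by simp [u_eq_one_iff])]
    exact N.orderOf_dvd_natCard M.u_mem_normalizer_S
  have h5 : 7 ∣ Nat.card N := by
    rw [← CL.HT.ncard_conj_mul N M.ε]
    refine Dvd.dvd.mul_right (dvd_of_eq ?_) _
    have : {y | ∃ n ∈ N, y = n⁻¹ * M.ε * n} = (M.S : Set G) \ {1} := by
      ext y
      constructor
      · rintro ⟨n, hn, rfl⟩
        exact ⟨by simpa using (Subgroup.mem_normalizer_iff.mp (inv_mem hn) _).mp M.ε_mem_S,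
          CL.Sz.inv_conj_ne_one n M.ε_ne_one⟩
      · rintro ⟨hy, hy1⟩
        obtain ⟨k, rfl⟩ := isConj_iff.mp (M.isConj_ε hy1 (M.sq_eq_one_of_mem_S hy))
        have hP' : (P : Set G) = M.S := congrArg (fun A : Subgroup G => (A : Set G)) hP
        obtain ⟨n, hn, e⟩ := P.conj_eq_normalizer_conj_of_mem_centralizer M.ε k⁻¹
          (by rw [hP', centralizer_S]; exact M.ε_mem_S) (by rw [hP', centralizer_S]; simpa using hy)
        exact ⟨n, by rwa [hP'] at hn, by simpa using e⟩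
    rw [this, Set.ncard_sdiff_singleton_of_mem M.S.one_mem, ← Nat.card_coe_set_eq]
    exact (congrArg (· - 1) M.card_S).symm
  have h6 : 21 ∣ M.S.relIndex N := Nat.Coprime.dvd_of_dvd_mul_left (by norm_num : Nat.Coprime 21 8)
    (h1 ▸ Nat.Coprime.mul_dvd_of_dvd_of_dvd (by norm_num : Nat.Coprime 3 7) h4 h5)
  have h7 : M.S.relIndex N ∣ 21 :=
    (Nat.Coprime.pow_right 3 ((Nat.prime_two.coprime_iff_not_dvd.mpr h3).symm)).dvd_of_dvd_mul_left h2
  rw [← h1, Nat.dvd_antisymm h7 h6]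

theorem conj_t (g : G) : (M.conj g).t = g * M.t * g⁻¹ := by
  rw [t_eq, t_eq, conj_u, conj_w]; group

theorem comm_conj_iff {g k a : G} : k * (g * a * g⁻¹) = g * a * g⁻¹ * k ↔ g⁻¹ * k * g * a = a * (g⁻¹ * k * g) := by
  rw [← Subgroup.mem_centralizer_singleton_iff, ← Subgroup.mem_centralizer_singleton_iff]
  simpa using CL.HT.centralizer_conj g⁻¹ a (g := k)

theorem mem_conj_S (g k : G) : k ∈ (M.conj g).S ↔ g⁻¹ * k * g ∈ M.S := by
  rw [mem_S, mem_S, conj_ε, conj_w, conj_t, comm_conj_iff, comm_conj_iff, comm_conj_iff]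

include M in
theorem exists_conj_S_eq (P : Sylow 2 G) : ∃ k : G, (M.conj k).S = P := by
  have := M.finite_G
  obtain ⟨Q, hQ⟩ := M.exists_sylow_eq_S
  obtain ⟨g, rfl⟩ := MulAction.exists_smul_eq G Q P
  refine ⟨g, Subgroup.ext fun k => ?_⟩
  rw [mem_conj_S, ← hQ]
  exact (CL.SylowAux.mem_smul_sylow_iff Q g k).symm

end Model

end CL.Ree
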