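/-
Small Ree groups: the tori of orders `q - 1` and `q + 1`.
-/
import Mathlib
import Cfsg.Agent.CHEV.ReeInv
import Cfsg.Agent.SOLV.CoprimeGen

set_option autoImplicit false
set_option linter.unusedSectionVars false

namespace CL.Ree

open CL.SL2Hom CL.GL2 CL.HT Matrix
open scoped MatrixGroups

variable {F : Type*} [Field F] [CharP F 3]

theorem mul_self_eq_iff {c : SL(2, F)} : c * c = 1 ∨ c * c = -1 ↔
    IsScal (c : Matrix (Fin 2) (Fin 2) F) ∨ (c : Matrix (Fin 2) (Fin 2) F).trace = 0 := by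
  rw [← isScal_SL_iff]
  change IsScal (c.1 * c.1) ↔ _
  rw [Matrix.trace_fin_two]
  simp only [IsScal, mul_00, mul_01, mul_10, mul_11]
  change _ ↔ (c.1 0 1 = 0 ∧ c.1 1 0 = 0 ∧ c.1 0 0 = c.1 1 1) ∨ c.1 0 0 + c.1 1 1 = 0
  grind

theorem reg_iS : Reg (iS : SL(2, F)) := fun h => by
  rw [trace_iS] at h
  exact two_ne_zero' (F := F) (by grind)

theorem coprime_quarter (k : ℕ) : (6 * k + 1).Coprime 18 := by
  have h2 : (6 * k + 1).Coprime 2 := Nat.coprime_two_right.mpr ⟨3 * k, by ring⟩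
  have h3 : (6 * k + 1).Coprime 3 := (Nat.prime_three.coprime_iff_not_dvd.mpr (by omega)).symm
  exact h2.mul_right (h3.mul_right h3)

namespace Model

variable {σ : F →+* F} {G : Type*} [Group G] (M : Model σ G) [Finite F]

include M in
theorem exists_card_eq_mul : ∃ k, Nat.card F = 24 * k + 3 := by
  have h1 := M.card_mod_eight
  have h2 := three_dvd_card (F := F)
  exact ⟨Nat.card F / 24, by omega⟩

include M in
theorem pow_eq_one_of_commute' {g y : G} {n : ℕ} (hg : g ^ 3 ^ n = 1) (h1 : g ≠ 1) (h : y * g = g * y) :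
    y ^ 18 = 1 := by
  obtain ⟨k, hk⟩ := M.exists_conj_mem_U hg
  have := M.pow_eq_one_of_commute hk (CL.Sz.inv_conj_ne_one k h1) (k := k⁻¹ * y * k) (by
    calc k⁻¹ * y * k * (k⁻¹ * g * k) = k⁻¹ * (y * g) * k := by group
      _ = _ := by rw [h]; group)
  rwa [inv_conj_pow, CL.Sz.inv_conj_eq_one_iff] at this

include M in
theorem not_three_dvd_card_centralizer {y : G} (hy : y ^ 18 ≠ 1) : ¬ 3 ∣ Nat.card (Subgroup.centralizer {y}) := by
  have := M.finite_G
  intro h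
  obtain ⟨g, hg⟩ := exists_prime_orderOf_dvd_card' (G := Subgroup.centralizer {y}) 3 h
  rw [← Subgroup.orderOf_coe] at hg
  exact hy (M.pow_eq_one_of_commute' (n := 1) (g := g) (by rw [pow_one, ← hg, pow_orderOf_eq_one])
    (fun e => by rw [e] at hg; simp at hg) (Subgroup.mem_centralizer_singleton_iff.mp g.2).symm)

/-! ### The split torus -/

/-- The subgroup of index two of `H`. -/
noncomputable def A₁ : Subgroup G := (powMonoidHom 2 : Fˣ →* Fˣ).range.map M.h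

theorem mem_A₁ {g : G} : g ∈ M.A₁ ↔ ∃ l, g = M.h (l ^ 2) :=
  ⟨by rintro ⟨_, ⟨l, rfl⟩, rfl⟩; exact ⟨l, rfl⟩, by rintro ⟨l, rfl⟩; exact ⟨_, ⟨l, rfl⟩, rfl⟩⟩

theorem A₁_le_H : M.A₁ ≤ M.H := Subgroup.map_le_range _ _

theorem card_A₁ : Nat.card M.A₁ = (Nat.card F - 1) / 2 := by
  obtain ⟨k, hk⟩ := M.exists_card_eq_mul
  rw [A₁, Subgroup.card_map_of_injective M.h_inj, IsCyclic.card_powMonoidHom_range, Nat.card_units,
    Nat.gcd_eq_right (by omega)]

theorem mul_self_ne_one_of_mem_A₁ {g : G} (hg : g ∈ M.A₁) (h1 : g ≠ 1) : g * g ≠ 1 := by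
  obtain ⟨l, rfl⟩ := M.mem_A₁.mp hg
  rw [Ne, h_mul_self_eq_one_iff]
  rintro (h | h)
  · exact h1 (h ▸ map_one _)
  · exact not_isSquare_neg_one M.tits ⟨l, by simpa [sq] using congrArg Units.val h.symm⟩

theorem tor_A₁ (hq : 3 < Nat.card F) : Tor M.A₁ M.H where
  cyc := haveI := M.isCyclic_H
    Subgroup.isCyclic_of_le M.A₁_le_H
  ne h := by
    obtain ⟨k, hk⟩ := M.exists_card_eq_mul
    have := M.card_A₁
    rw [h, Subgroup.card_bot] at this
    omega
  cent x hx h1 := M.centralizer_of_mem_H (M.A₁_le_H hx) (M.mul_self_ne_one_of_mem_A₁ hx h1)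
  comm _ ha _ hb := M.H_comm ha hb
  hall := by
    obtain ⟨k, hk⟩ := M.exists_card_eq_mul
    have h1 := M.A₁.card_mul_index
    have h2 : Nat.card M.A₁ = 12 * k + 1 := by rw [card_A₁]; omega
    rw [M.card_G, h2, hk, show 24 * k + 3 - 1 = 24 * k + 2 from rfl] at h1
    rw [h2, show M.A₁.index = 2 * (24 * k + 3) ^ 3 * ((24 * k + 3) ^ 3 + 1) from
      Nat.eq_of_mul_eq_mul_left (by omega : 0 < 12 * k + 1) (by rw [h1]; ring)]
    have h3 : (12 * k + 1).Coprime 2 := Nat.coprime_two_right.mpr ⟨6 * k, by ring⟩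
    refine (h3.mul_right (Nat.Coprime.pow_right 3 ?_)).mul_right ?_
    · rw [show 24 * k + 3 = 1 + (12 * k + 1) * 2 by ring, Nat.coprime_add_mul_left_right]; simp
    · rwa [show (24 * k + 3) ^ 3 + 1 = 2 + (12 * k + 1) * (2 * (576 * k ^ 2 + 168 * k + 13)) by ring,
        Nat.coprime_add_mul_left_right]

theorem normalizer_H (hq : 3 < Nat.card F) : Subgroup.normalizer (M.H : Set G) = M.N := by
  obtain ⟨⟨x, hx⟩, h1⟩ := Subgroup.ne_bot_iff_exists_ne_one.mp (M.tor_A₁ hq).ne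
  exact M.normalizer_eq_N le_rfl (M.A₁_le_H hx) (M.mul_self_ne_one_of_mem_A₁ hx fun e => h1 (Subtype.ext e))

/-! ### Subgroups of the centraliser of `ε` -/

/-- The preimage in `C(ε)` of the image of `K` in `PSL₂(q)`. -/
def ov (K : Subgroup SL(2, F)) : Subgroup G where
  carrier := {g | ∃ c ∈ K, M.Over g c}
  one_mem' := ⟨1, K.one_mem, Or.inl (map_one _).symm⟩
  mul_mem' := fun ⟨_, h1, h2⟩ ⟨_, h3, h4⟩ => ⟨_, mul_mem h1 h3, h2.mul h4⟩
  inv_mem' := fun ⟨_, h1, h2⟩ => ⟨_, inv_mem h1, h2.inv⟩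

theorem mem_ov {K : Subgroup SL(2, F)} {g : G} : g ∈ M.ov K ↔ ∃ c ∈ K, M.Over g c := Iff.rfl

theorem card_ov {K : Subgroup SL(2, F)} (hK : -1 ∈ K) : Nat.card (M.ov K) = Nat.card K := by
  classical
  have := M.finite_G
  have := Fintype.ofFinite (M.ov K)
  have := Fintype.ofFinite K
  have hn : ∀ c ∈ K, -c ∈ K := fun c hc => by simpa using mul_mem hK hc
  have key := Finset.card_mul_eq_card_mul (s := (Finset.univ : Finset (M.ov K))) (t := (Finset.univ : Finset K))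
    (fun (g : M.ov K) (c : K) => M.Over g.1 c.1) (m := 2) (n := 2) ?_ ?_
  · rw [Nat.card_eq_fintype_card, Nat.card_eq_fintype_card]
    simpa using key
  · rintro ⟨g, c, h1, h2⟩ -
    rw [Finset.card_eq_two]
    refine ⟨⟨c, h1⟩, ⟨-c, hn c h1⟩, fun h => ?_, ?_⟩
    · have h3 : (1 : SL(2, F)) = -1 := by simpa using congrArg (fun x : K => x.1 * c⁻¹) h
      exact neg_one_ne_one' (F := F) (by simpa using (congrFun (congrFun (SL_ext_iff.mp h3) 0) 0).symm)
    · ext x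
      simp only [Finset.mem_bipartiteAbove, Finset.mem_univ, true_and, Finset.mem_insert, Finset.mem_singleton,
        Subtype.ext_iff]
      exact ⟨fun h => h.eq h2, fun h => h.elim (fun h => h ▸ h2) fun h => h ▸ h2.neg⟩
  · rintro ⟨c, hc⟩ -
    rw [Finset.card_eq_two]
    refine ⟨⟨M.φ c, c, hc, Or.inl rfl⟩, ⟨M.ε * M.φ c, c, hc, Or.inr rfl⟩,
      fun h => M.φ_ne_ε_mul _ _ (congrArg Subtype.val h), ?_⟩
    ext x
    simp only [Finset.mem_bipartiteBelow, Finset.mem_univ, true_and, Finset.mem_insert, Finset.mem_singleton,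
      Subtype.ext_iff]
    rfl

variable {M} in
theorem Over.not_isScal {y : G} {c : SL(2, F)} (h : M.Over y c) (hy : y * y ≠ 1) :
    ¬ IsScal (c : Matrix (Fin 2) (Fin 2) F) ∧ (c : Matrix (Fin 2) (Fin 2) F).trace ≠ 0 := by
  rwa [h.mul_self, Ne, φ_eq_one_iff, mul_self_eq_iff, not_or] at hy

variable {M} in
theorem Over.mem_centSL {y g : G} {c b : SL(2, F)} (h : M.Over y c) (hy : y * y ≠ 1) (h' : M.Over g b)
    (e : g * y = y * g) : b ∈ centSL (c : Matrix (Fin 2) (Fin 2) F) := by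
  classical
  have := Fintype.ofFinite F
  rw [← pcent_eq_centSL two_ne_zero' (h.not_isScal hy).2, mem_pcent]
  exact (h'.comm_iff h).mp e

include M in
/-- The joint centraliser of an involution and an element of order greater than two is abelian. -/
theorem comm_of_comm {v y a b : G} (hv1 : v ≠ 1) (hv : v * v = 1) (hy : y * y ≠ 1) (h : y * v = v * y)
    (ha : a * v = v * a) (ha' : a * y = y * a) (hb : b * v = v * b) (hb' : b * y = y * b) : a * b = b * a := by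
  obtain ⟨k, rfl⟩ := M.exists_conj_ε_eq hv1 hv
  obtain ⟨c, hc⟩ := (M.conj k).exists_over h
  obtain ⟨A, hA⟩ := (M.conj k).exists_over ha
  obtain ⟨B, hB⟩ := (M.conj k).exists_over hb
  exact (hA.comm_iff hB).mpr (Or.inl (centSL_comm (hc.not_isScal hy).1 (hc.mem_centSL hy hA ha')
    (hc.mem_centSL hy hB hb')))

/-- The four-group `⟨ε, w⟩`. -/
def V : Subgroup G := Subgroup.closure {M.ε, M.w}

theorem orderOf_w : orderOf M.w = 2 := orderOf_eq_prime (by rw [sq, w_mul_w]) M.w_ne_one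

theorem isKleinFour_V : IsKleinFour M.V :=
  CL.Four.isKleinFour_closure M.orderOf_ε M.orderOf_w M.w_ne_ε.symm M.ε_mul_w

theorem mem_V {g : G} : g ∈ M.V ↔ g = 1 ∨ g = M.ε ∨ g = M.w ∨ g = M.ε * M.w :=
  CL.Four.mem_closure_pair_iff_of_commute M.ε_mul_ε M.w_mul_w M.ε_mul_w

theorem card_V : Nat.card M.V = 4 := M.isKleinFour_V.card_four

theorem ε_mem_V : M.ε ∈ M.V := M.mem_V.mpr (Or.inr (Or.inl rfl))

theorem w_mem_V : M.w ∈ M.V := M.mem_V.mpr (Or.inr (Or.inr (Or.inl rfl)))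

theorem sq_eq_one_of_mem_V {g : G} (hg : g ∈ M.V) : g * g = 1 := CL.Four.mul_self_of_mem M.isKleinFour_V hg

/-- The torus of order `q + 1`. -/
def D : Subgroup G := M.ov (centSL ((iS : SL(2, F)) : Matrix (Fin 2) (Fin 2) F))

theorem card_D : Nat.card M.D = Nat.card F + 1 := by
  have := Fintype.ofFinite F
  rw [D, M.card_ov (mem_centSL.mpr (by simp)), card_centSL_noEig (noEig_iS M.tits), Nat.card_eq_fintype_card]

theorem D_comm {a b : G} (ha : a ∈ M.D) (hb : b ∈ M.D) : a * b = b * a := by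
  obtain ⟨A, h1, h2⟩ := ha
  obtain ⟨B, h3, h4⟩ := hb
  exact (h2.comm_iff h4).mpr (Or.inl (centSL_comm not_isScal_iS h1 h3))

theorem V_le_D : M.V ≤ M.D := by
  rw [V, Subgroup.closure_le]
  rintro _ (rfl | rfl)
  exacts [⟨1, one_mem _, M.over_ε⟩, ⟨iS, rfl, M.over_w⟩]

theorem mem_V_of_sq {g : G} (hg : g ∈ M.D) (h : g * g = 1) : g ∈ M.V := by
  classical
  have := Fintype.ofFinite F
  obtain ⟨c, h1, h2⟩ := hg
  rw [h2.mul_self, φ_eq_one_iff, mul_self_eq_iff] at h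
  have h3 : M.φ c ∈ M.V := by
    rcases h with h | h
    · rw [M.φ_eq_one_iff.mpr (isScal_SL_iff.mp h)]; exact one_mem _
    · rcases reg_iS.eq_or_eq_inv h1 (h.trans trace_iS.symm) with rfl | rfl
      · exact M.φ_iS ▸ M.w_mem_V
      · rw [map_inv, φ_iS]; exact inv_mem M.w_mem_V
  rcases h2 with rfl | rfl
  exacts [h3, mul_mem M.ε_mem_V h3]

theorem mem_D_of_comm {y g : G} (hy : y ∈ M.D) (h2 : y * y ≠ 1) (h : g * M.ε = M.ε * g) (h' : g * y = y * g) :
    g ∈ M.D := by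
  obtain ⟨c, h3, h4⟩ := hy
  obtain ⟨b, hb⟩ := M.exists_over h
  exact ⟨b, centSL_eq_of_mem not_isScal_iS (h4.not_isScal h2).1 h3 ▸ h4.mem_centSL h2 hb h', hb⟩

theorem mem_D_of_comm' {v y g : G} (hv : v ∈ M.V) (hv1 : v ≠ 1) (hy : y ∈ M.D) (h2 : y * y ≠ 1) (h : g * v = v * g)
    (h' : g * y = y * g) : g ∈ M.D :=
  M.mem_D_of_comm hy h2 (M.comm_of_comm hv1 (M.sq_eq_one_of_mem_V hv) h2 (M.D_comm hy (M.V_le_D hv)) h h'
    (M.D_comm (M.V_le_D M.ε_mem_V) (M.V_le_D hv)) (M.D_comm (M.V_le_D M.ε_mem_V) hy)) h'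

/-- Squaring in the torus `D`. -/
def sqD : M.D →* G where
  toFun d := d * d
  map_one' := by simp
  map_mul' a b := by
    rw [Subgroup.coe_mul, mul_assoc, ← mul_assoc b.1, ← M.D_comm a.2 b.2]; simp only [mul_assoc]

/-- The subgroup of odd order of `D`. -/
def A₂ : Subgroup G := M.sqD.range

theorem mem_A₂ {g : G} : g ∈ M.A₂ ↔ ∃ d ∈ M.D, g = d * d :=
  ⟨fun ⟨d, h⟩ => ⟨d, d.2, h.symm⟩, fun ⟨d, h, e⟩ => ⟨⟨d, h⟩, e.symm⟩⟩

theorem A₂_le_D : M.A₂ ≤ M.D := fun _ ⟨d, h⟩ => h ▸ mul_mem d.2 d.2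

theorem card_A₂ : Nat.card M.A₂ = (Nat.card F + 1) / 4 := by
  have h : M.sqD.ker = M.V.subgroupOf M.D :=
    Subgroup.ext fun d => ⟨M.mem_V_of_sq d.2, M.sq_eq_one_of_mem_V⟩
  rw [← M.card_D, ← M.sqD.ker.card_mul_index, Subgroup.index_ker, h,
    Nat.card_congr (Subgroup.subgroupOfEquivOfLe M.V_le_D).toEquiv, card_V, Nat.mul_div_cancel_left _ four_pos]
  rfl

theorem isCyclic_A₂ : IsCyclic M.A₂ := by
  classical
  have := Fintype.ofFinite F
  have := (reg_iS (F := F)).isCyclic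
  obtain ⟨c, hc⟩ := IsCyclic.exists_generator (α := centSL ((iS : SL(2, F)) : Matrix (Fin 2) (Fin 2) F))
  refine M.A₂.isCyclic_iff_exists_zpowers_eq_top.mpr ⟨M.φ (c * c), le_antisymm ?_ ?_⟩
  · exact Subgroup.zpowers_le.mpr (M.mem_A₂.mpr ⟨_, ⟨c, c.2, M.over_φ _⟩, map_mul _ _ _⟩)
  · rintro _ ⟨⟨d, b, h1, h2⟩, rfl⟩
    obtain ⟨i, hi⟩ := Subgroup.mem_zpowers_iff.mp (hc ⟨b, h1⟩)
    refine Subgroup.mem_zpowers_iff.mpr ⟨i, ?_⟩
    rw [← map_zpow, (Commute.refl c.1).mul_zpow, show c.1 ^ i = b from congrArg Subtype.val hi]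
    exact h2.mul_self.symm

theorem coprime_card_A₂ : (Nat.card M.A₂).Coprime 18 := by
  obtain ⟨k, hk⟩ := M.exists_card_eq_mul
  rw [card_A₂, hk, show (24 * k + 3 + 1) / 4 = 6 * k + 1 by omega]
  exact coprime_quarter k

theorem pow_ne_one_of_mem_A₂ {y : G} (hy : y ∈ M.A₂) (h1 : y ≠ 1) : y ^ 18 ≠ 1 := fun h =>
  h1 (orderOf_eq_one_iff.mp (Nat.eq_one_of_dvd_coprimes M.coprime_card_A₂ (M.A₂.orderOf_dvd_natCard hy)
    (orderOf_dvd_of_pow_eq_one h)))

theorem centralizer_of_mem_D {y : G} (hy : y ∈ M.D) (h1 : y ^ 18 ≠ 1) : Subgroup.centralizer {y} = M.D := by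
  have := M.finite_G
  have h2 : y * y ≠ 1 := fun h => h1 (by rw [show 18 = 2 * 9 from rfl, pow_mul, sq, h, one_pow])
  have hD : M.D ≤ Subgroup.centralizer {y} := fun d hd =>
    Subgroup.mem_centralizer_singleton_iff.mpr (M.D_comm hd hy)
  refine le_antisymm ?_ hD
  set C := Subgroup.centralizer {y}
  have hV := M.V_le_D.trans hD
  have hP := CL.Four.isKleinFour_subgroupOf M.isKleinFour_V hV
  let P : Sylow 2 C := ⟨M.V.subgroupOf C, CL.Four.isPGroup hP, fun {Q} hQ h => le_antisymm (fun g hg => by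
    have hQ' := hQ.map C.subtype
    have hg' : (g : G) ∈ Q.map C.subtype := ⟨g, hg, rfl⟩
    exact M.mem_V_of_sq (M.mem_D_of_comm hy h2 (M.comm_of_isPGroup hQ' hg' ⟨⟨_, hV M.ε_mem_V⟩, h M.ε_mem_V, rfl⟩)
      (Subgroup.mem_centralizer_singleton_iff.mp g.2)) (M.sq_eq_one_of_isPGroup hQ' hg')) h⟩
  have hN : Subgroup.normalizer (P : Set C) ≤ Subgroup.centralizer (P : Set C) := by
    have h3 := CL.FusInv.relIndex_dvd_card_mulAut (P : Subgroup C)
    obtain ⟨f, hf⟩ := CL.EAGL.exists_hom_gl (V := (P : Subgroup C)) (p := 2) (n := 2)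
      (fun x y => Subtype.ext (CL.Four.comm_of_mem hP x.2 y.2))
      (fun x => Subtype.ext (by simpa [sq] using CL.Four.mul_self_of_mem hP x.2)) hP.card_four.le
    have h4 := h3.trans (Subgroup.card_dvd_of_injective f hf)
    rw [Matrix.card_GL_field] at h4
    simp only [ZMod.card, Fin.prod_univ_two] at h4
    have h5 := Subgroup.relIndex_dvd_index_of_le (Subgroup.centralizer_le_normalizer ((P : Subgroup C) : Set C))
    have h6 : (P : Subgroup C) ≤ Subgroup.centralizer (P : Subgroup C) := fun a ha b hb => CL.Four.comm_of_mem hP hb ha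
    rw [← Subgroup.relIndex_eq_one]
    refine Nat.eq_one_of_dvd_coprimes (a := 2 * 3) ?_ h4 dvd_rfl
    exact Nat.Coprime.mul_left (Nat.prime_two.coprime_iff_not_dvd.mpr fun h =>
      P.not_dvd_index ((h.trans h5).trans (Subgroup.index_dvd_of_le h6))) (Nat.prime_three.coprime_iff_not_dvd.mpr
        fun h => M.not_three_dvd_card_centralizer h1 ((h.trans h5).trans (Subgroup.index_dvd_card _)))
  have hK := MonoidHom.ker_transferSylow_isComplement' P hN
  set K := (MonoidHom.transferSylow P hN).ker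
  have := M.isKleinFour_V
  have : IsMulCommutative M.V := ⟨⟨fun a b => Subtype.ext (CL.Four.comm_of_mem this a.2 b.2)⟩⟩
  have hKD : K.map C.subtype ≤ M.D := by
    refine CL.coprime_le_of_forall_centralizer_le M.V _ _ IsKleinFour.not_isCyclic (fun v hv => ?_) ?_ ?_
    · refine Subgroup.mem_normalizer_fintype ?_
      rintro _ ⟨k, hk, rfl⟩
      exact ⟨_, (MonoidHom.normal_ker _).conj_mem k hk ⟨v, hV hv⟩, rfl⟩
    · rw [card_V, Subgroup.card_map_of_injective C.subtype_injective, ← hK.index_eq_card]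
      exact Nat.Coprime.pow_left 2 (Nat.prime_two.coprime_iff_not_dvd.mpr P.not_dvd_index)
    · rintro v hv hv1 _ ⟨⟨k, -, rfl⟩, hk⟩
      exact M.mem_D_of_comm' hv hv1 hy h2 (Subgroup.mem_centralizer_singleton_iff.mp hk)
        (Subgroup.mem_centralizer_singleton_iff.mp k.2)
  calc C = (K ⊔ P).map C.subtype := by rw [hK.sup_eq_top, ← MonoidHom.range_eq_map, Subgroup.range_subtype]
    _ ≤ M.D := by
      rw [Subgroup.map_sup]
      exact sup_le hKD ((Subgroup.map_comap_le _ _).trans M.V_le_D)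

theorem tor_A₂ (hq : 3 < Nat.card F) : Tor M.A₂ M.D where
  cyc := M.isCyclic_A₂
  ne h := by
    obtain ⟨k, hk⟩ := M.exists_card_eq_mul
    have := M.card_A₂
    rw [h, Subgroup.card_bot] at this
    omega
  cent x hx h1 := M.centralizer_of_mem_D (M.A₂_le_D hx) (M.pow_ne_one_of_mem_A₂ hx h1)
  comm _ ha _ hb := M.D_comm ha hb
  hall := by
    obtain ⟨k, hk⟩ := M.exists_card_eq_mul
    have h1 := M.A₂.card_mul_index
    have h2 : Nat.card M.A₂ = 6 * k + 1 := by rw [card_A₂]; omega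
    rw [M.card_G, h2, hk, show 24 * k + 3 - 1 = 24 * k + 2 from rfl] at h1
    rw [h2, show M.A₂.index = 2 ^ 2 * (24 * k + 3) ^ 3 * (24 * k + 2) * (576 * k ^ 2 + 120 * k + 7) from
      Nat.eq_of_mul_eq_mul_left (by omega : 0 < 6 * k + 1) (by rw [h1]; ring)]
    have h3 := (coprime_quarter k).coprime_dvd_right (by norm_num : 2 ∣ 18)
    have h4 := (coprime_quarter k).coprime_dvd_right (by norm_num : 3 ∣ 18)
    refine (((h3.pow_right 2).mul_right (Nat.Coprime.pow_right 3 ?_)).mul_right ?_).mul_right ?_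
    · exact Nat.Coprime.coprime_dvd_left (k := 24 * k + 3 + 1) ⟨4, by ring⟩ (by simp)
    · rw [show 24 * k + 2 = 2 * (12 * k + 1) by ring]
      refine h3.mul_right (Nat.Coprime.coprime_dvd_left (k := 12 * k + 1 + 1) ⟨2, by ring⟩ (by simp))
    · rwa [show 576 * k ^ 2 + 120 * k + 7 = 3 + (6 * k + 1) * (96 * k + 4) by ring, Nat.coprime_add_mul_left_right]

theorem normalizer_D_inf : Subgroup.normalizer (M.D : Set G) ⊓ Subgroup.centralizer {M.ε} = M.ov (pcent iS) := by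
  classical
  have := Fintype.ofFinite F
  have := M.finite_G
  ext g
  rw [Subgroup.mem_inf, mem_centralizer_ε]
  constructor
  · rintro ⟨h1, b, hb⟩
    refine ⟨b, ?_, hb⟩
    have h2 := M.mem_V.mp (M.mem_V_of_sq ((Subgroup.mem_normalizer_iff.mp h1 _).mp (M.V_le_D M.w_mem_V))
      (by rw [conj_mul, w_mul_w]; simp))
    rw [mem_pcent, ← hb.comm_iff M.over_w, ← mul_inv_eq_iff_eq_mul]
    rcases h2 with h | h | h | h
    · exact absurd (by simpa using h) M.w_ne_one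
    · rw [← φ_iS, hb.conj_φ] at h
      exact absurd h (M.φ_ne_ε _)
    · exact h
    · rw [← φ_iS, hb.conj_φ] at h
      exact absurd h (M.φ_ne_ε_mul _ _)
  · rintro ⟨b, h1, hb⟩
    rw [pcent_eq_normalizer two_ne_zero' trace_iS] at h1
    refine ⟨Subgroup.mem_normalizer_fintype ?_, b, hb⟩
    rintro d ⟨c, h2, hc⟩
    exact ⟨_, (Subgroup.mem_normalizer_iff.mp h1 _).mp h2, (hb.mul hc).mul hb.inv⟩

theorem card_ov_pcent : Nat.card (M.ov (pcent iS)) = 2 * (Nat.card F + 1) := by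
  classical
  have := Fintype.ofFinite F
  rw [M.card_ov (mem_pcent.mpr (Or.inl (by simp))), pcent_eq_normalizer two_ne_zero' trace_iS,
    reg_iS.card_normalizer, card_centSL_noEig (noEig_iS M.tits), Nat.card_eq_fintype_card]

theorem card_normalizer_D (hq : 3 < Nat.card F) :
    Nat.card (Subgroup.normalizer (M.D : Set G)) = 6 * (Nat.card F + 1) := by
  have := M.finite_G
  rw [← ncard_conj_mul _ M.ε, normalizer_D_inf, card_ov_pcent]
  have : {y | ∃ n ∈ Subgroup.normalizer (M.D : Set G), y = n⁻¹ * M.ε * n} = (M.V : Set G) \ {1} := by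
    ext y
    constructor
    · rintro ⟨n, hn, rfl⟩
      refine ⟨M.mem_V_of_sq (by
        simpa using (Subgroup.mem_normalizer_iff.mp (inv_mem hn) _).mp (M.V_le_D M.ε_mem_V)) ?_,
        CL.Sz.inv_conj_ne_one n M.ε_ne_one⟩
      rw [← sq, inv_conj_pow, sq, ε_mul_ε]; simp
    · rintro ⟨hy, hy1⟩
      obtain ⟨k, rfl⟩ := isConj_iff.mp (M.isConj_ε hy1 (M.sq_eq_one_of_mem_V hy))
      simpa using (M.tor_A₂ hq).exists_normalizer_conj (M.V_le_D M.ε_mem_V) (g := k⁻¹) (by simpa using M.V_le_D hy)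
  rw [this, Set.ncard_sdiff_singleton_of_mem M.V.one_mem, ← Nat.card_coe_set_eq,
    show Nat.card (M.V : Set G) = 4 from M.card_V]
  ring

end Model

end CL.Ree
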