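/-
Abstract (B,N)-pairs: the Weyl distance on `G ⧸ B` and the Hecke algebra as matrices.
-/
import Cfsg.Agent.CHEV.BNCount

set_option autoImplicit false

namespace CL.BN

open Cfsg CL.Cox Finset

variable {G : Type*} [Group G] (P : BNPair G)

/-- The Weyl distance between two chambers. -/
noncomputable def wdist (x y : G ⧸ P.B) : W P := δ P (x.out⁻¹ * y.out)

theorem wdist_mk (g h : G) : wdist P (g : G ⧸ P.B) (h : G ⧸ P.B) = δ P (g⁻¹ * h) := by
  obtain ⟨b, hb⟩ := QuotientGroup.mk_out_eq_mul P.B g
  obtain ⟨c, hc⟩ := QuotientGroup.mk_out_eq_mul P.B h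
  rw [wdist, hb, hc, mul_inv_rev, mul_assoc, δ_B_mul P (P.B.inv_mem b.2), ← mul_assoc,
    δ_mul_B P _ c.2]

theorem wdist_eq_one_iff {x y : G ⧸ P.B} : wdist P x y = 1 ↔ x = y := by
  rw [wdist, δ_eq_one_iff, ← QuotientGroup.eq, QuotientGroup.out_eq', QuotientGroup.out_eq']

theorem wdist_self (x : G ⧸ P.B) : wdist P x x = 1 := (wdist_eq_one_iff P).2 rfl

theorem wdist_comm (x y : G ⧸ P.B) : wdist P y x = (wdist P x y)⁻¹ := by
  rw [wdist, wdist, ← δ_inv, mul_inv_rev, inv_inv]

theorem wdist_smul (g : G) (x y : G ⧸ P.B) : wdist P (g • x) (g • y) = wdist P x y := by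
  induction x using QuotientGroup.induction_on with | _ x => ?_
  induction y using QuotientGroup.induction_on with | _ y => ?_
  rw [MulAction.Quotient.smul_mk, MulAction.Quotient.smul_mk, wdist_mk, wdist_mk]
  simp [mul_assoc]

theorem wdist_one (y : G ⧸ P.B) : wdist P ((1 : G) : G ⧸ P.B) y = δQ P y := by
  induction y using QuotientGroup.induction_on with | _ y => ?_
  rw [wdist_mk, δQ_mk, inv_one, one_mul]

theorem wdist_simple {x y : G ⧸ P.B} {s : P.S} (h : wdist P x y = sW P s) (z : G ⧸ P.B) :
    wdist P x z = sW P s * wdist P y z ∨ wdist P x z = wdist P y z := by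
  have := δ_simple_mul P h (y.out⁻¹ * z.out)
  rwa [mul_assoc, mul_inv_cancel_left] at this

theorem wdist_simple_of_lt {x y z : G ⧸ P.B} {s : P.S} (h : wdist P x y = sW P s)
    (hl : len (sW P) (wdist P y z) < len (sW P) (sW P s * wdist P y z)) :
    wdist P x z = sW P s * wdist P y z := by
  have := δ_simple_mul_of_lt P h hl
  rwa [mul_assoc, mul_inv_cancel_left] at this

theorem wdist_of_len_add (x y z : G ⧸ P.B)
    (hl : len (sW P) (wdist P x y * wdist P y z) =
      len (sW P) (wdist P x y) + len (sW P) (wdist P y z)) :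
    wdist P x z = wdist P x y * wdist P y z := by
  have := δ_mul_of_len_add P _ _ hl
  rwa [mul_assoc, mul_inv_cancel_left] at this

theorem wdist_comm_simple {x y : G ⧸ P.B} {s : P.S} (h : wdist P x y = sW P s) :
    wdist P y x = sW P s := by
  rw [wdist_comm, h, (gen P).inv_simple]

theorem exists_wdist_simple (x z : G ⧸ P.B) (s : P.S) :
    ∃ y, wdist P x y = sW P s ∧ wdist P y z = sW P s * wdist P x z := by
  induction x using QuotientGroup.induction_on with | _ x => ?_
  induction z using QuotientGroup.induction_on with | _ z => ?_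
  obtain ⟨b, hb, n, hn, b', hb', e, h⟩ := exists_bruhat P (x⁻¹ * z)
  refine ⟨((x * b * (s : G)⁻¹ : G) : G ⧸ P.B), ?_, ?_⟩
  · rw [wdist_mk, mul_assoc, inv_mul_cancel_left, δ_B_mul P hb, δ_inv, δ_S, (gen P).inv_simple]
  · have : (x * b * (s : G)⁻¹)⁻¹ * z = s * n * b' := by
      rw [mul_inv_rev, mul_inv_rev, inv_inv, mul_assoc, mul_assoc, e]; group
    rw [wdist_mk, wdist_mk, this, δ_mul_B P _ hb', δ_mul_of_mem_N P (P.subset s.2) hn, δ_S, h]

theorem eq_of_wdist_simple {x y y' z : G ⧸ P.B} {s : P.S} (h : wdist P x y = sW P s)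
    (h' : wdist P x y' = sW P s) (e : wdist P y z = wdist P y' z)
    (hl : len (sW P) (wdist P y z) < len (sW P) (sW P s * wdist P y z)) : y = y' := by
  rcases wdist_simple P (wdist_comm_simple P h') y with h1 | h1
  · rw [h, sW_mul_self, wdist_eq_one_iff] at h1
    exact h1.symm
  · rw [h] at h1
    have := wdist_simple_of_lt P h1 hl
    rw [← e, eq_comm, mul_eq_right] at this
    exact absurd this (sW_ne_one P s)

theorem card_wdist (x : G ⧸ P.B) (w : W P) :
    Nat.card {y : G ⧸ P.B // wdist P x y = w} = cellIdx P w := by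
  induction x using QuotientGroup.induction_on with | _ x => ?_
  refine Nat.card_congr (Equiv.subtypeEquiv (MulAction.toPerm x⁻¹) fun y => ?_)
  rw [← wdist_one, ← wdist_smul P x⁻¹, MulAction.Quotient.smul_mk, smul_eq_mul, inv_mul_cancel]
  rfl

variable {R : Type*} [CommRing R]

/-- The `G`-invariant matrix with entries `f (wdist x y)`. -/
noncomputable def hecke (f : W P → R) : Matrix (G ⧸ P.B) (G ⧸ P.B) R :=
  Matrix.of fun x y => f (wdist P x y)

omit [CommRing R] in
theorem hecke_apply (f : W P → R) (x y : G ⧸ P.B) : hecke P f x y = f (wdist P x y) := rfl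

theorem hecke_add (f g : W P → R) : hecke P (f + g) = hecke P f + hecke P g := rfl

theorem hecke_sub (f g : W P → R) : hecke P (f - g) = hecke P f - hecke P g := rfl

theorem hecke_smul (c : R) (f : W P → R) : hecke P (c • f) = c • hecke P f := rfl

theorem hecke_neg (f : W P → R) : hecke P (-f) = -hecke P f := rfl

open Classical in
/-- The standard basis element `T_w` of the Hecke algebra. -/
noncomputable def heckeT (R : Type*) [CommRing R] (w : W P) : Matrix (G ⧸ P.B) (G ⧸ P.B) R :=
  hecke P (Pi.single w 1)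

open Classical in
/-- Left multiplication by `T_s` on coefficient functions. -/
noncomputable def heckeL (s : P.S) (f : W P → R) : W P → R := fun w =>
  if len (sW P) w < len (sW P) (sW P s * w) then (cellIdx P (sW P s) : R) * f (sW P s * w)
  else f (sW P s * w) + ((cellIdx P (sW P s) : R) - 1) * f w

theorem heckeL_of_lt {s : P.S} (f : W P → R) {w : W P}
    (h : len (sW P) w < len (sW P) (sW P s * w)) :
    heckeL P s f w = (cellIdx P (sW P s) : R) * f (sW P s * w) := if_pos h

theorem heckeL_of_le {s : P.S} (f : W P → R) {w : W P}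
    (h : len (sW P) (sW P s * w) ≤ len (sW P) w) :
    heckeL P s f w = f (sW P s * w) + ((cellIdx P (sW P s) : R) - 1) * f w := if_neg (not_lt.2 h)

theorem heckeT_one [DecidableEq (G ⧸ P.B)] : heckeT P R 1 = 1 := by
  classical
  ext x y
  simp only [heckeT, hecke_apply, Pi.single_apply, wdist_eq_one_iff, Matrix.one_apply]

theorem hecke_eq_sum [Fintype (W P)] (f : W P → R) : hecke P f = ∑ w, f w • heckeT P R w := by
  classical
  ext x y
  simp [heckeT, hecke_apply, Matrix.sum_apply, Pi.single_apply]

variable [Fintype (G ⧸ P.B)]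

open Classical in
theorem card_filter_wdist (x : G ⧸ P.B) (w : W P) :
    (univ.filter fun y => wdist P x y = w).card = cellIdx P w := by
  rw [← card_wdist P x w, Nat.card_eq_fintype_card, Fintype.card_subtype]

theorem heckeT_mul_hecke (s : P.S) (f : W P → R) :
    heckeT P R (sW P s) * hecke P f = hecke P (heckeL P s f) := by
  classical
  ext x z
  have e : (heckeT P R (sW P s) * hecke P f) x z =
      ∑ y ∈ univ.filter (fun y => wdist P x y = sW P s), f (wdist P y z) := by
    simp [Matrix.mul_apply, heckeT, hecke_apply, Pi.single_apply, sum_filter]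
  rw [e, hecke_apply]
  by_cases hl : len (sW P) (wdist P x z) < len (sW P) (sW P s * wdist P x z)
  · rw [heckeL_of_lt P f hl, ← card_filter_wdist P x, ← nsmul_eq_mul, ← sum_const]
    refine sum_congr rfl fun y hy => ?_
    rw [wdist_simple_of_lt P (wdist_comm_simple P (mem_filter.1 hy).2) hl]
  · obtain ⟨y0, h1, h2⟩ := exists_wdist_simple P x z s
    have hy0 : y0 ∈ univ.filter (fun y => wdist P x y = sW P s) := by simp [h1]
    have hc := card_erase_add_one hy0
    rw [card_filter_wdist] at hc
    rw [heckeL_of_le P f (not_lt.1 hl), ← add_sum_erase _ _ hy0, h2, ← hc, Nat.cast_add,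
      Nat.cast_one, add_sub_cancel_right, ← nsmul_eq_mul, ← sum_const]
    congr 1
    refine sum_congr rfl fun y hy => ?_
    have hy1 := (mem_filter.1 (mem_of_mem_erase hy)).2
    rcases wdist_simple P (wdist_comm_simple P hy1) z with h3 | h3
    · refine absurd (eq_of_wdist_simple P hy1 h1 (h3.trans h2.symm) ?_) (ne_of_mem_erase hy)
      rw [h3, (gen P).simple_mul_simple_mul]
      have := (exch P).len_simple_mul s (wdist P x z)
      omega
    · rw [h3]

theorem heckeT_simple_mul {s : P.S} {w : W P} (hl : len (sW P) w < len (sW P) (sW P s * w)) :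
    heckeT P R (sW P s) * heckeT P R w = heckeT P R (sW P s * w) := by
  classical
  rw [heckeT.eq_1 P R w, heckeT_mul_hecke, heckeT]
  congr 1
  ext v
  have hne : ∀ v, v ≠ sW P s * w → sW P s * v ≠ w := fun v hv e =>
    hv (by rw [← e, (gen P).simple_mul_simple_mul])
  by_cases h1 : len (sW P) v < len (sW P) (sW P s * v)
  · have h2 : v ≠ sW P s * w := by
      rintro rfl
      rw [(gen P).simple_mul_simple_mul] at h1
      omega
    rw [heckeL_of_lt P _ h1, Pi.single_eq_of_ne h2, Pi.single_eq_of_ne (hne v h2), mul_zero]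
  · have h2 : v ≠ w := by
      rintro rfl
      exact h1 hl
    rw [heckeL_of_le P _ (not_lt.1 h1), Pi.single_eq_of_ne h2, mul_zero, add_zero]
    by_cases h3 : v = sW P s * w
    · rw [h3, (gen P).simple_mul_simple_mul, Pi.single_eq_same, Pi.single_eq_same]
    · rw [Pi.single_eq_of_ne h3, Pi.single_eq_of_ne (hne v h3)]

theorem trace_hecke (f : W P → R) : (hecke P f).trace = (Fintype.card (G ⧸ P.B) : R) * f 1 := by
  simp [Matrix.trace, hecke_apply, wdist_self]

theorem trace_hecke_mul [Fintype (W P)] (f g : W P → R) :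
    (hecke P f * hecke P g).trace =
      (Fintype.card (G ⧸ P.B) : R) * ∑ w, (cellIdx P w : R) * (f w * g w⁻¹) := by
  classical
  rw [← nsmul_eq_mul, ← card_univ, ← sum_const, Matrix.trace]
  refine sum_congr rfl fun x _ => ?_
  rw [Matrix.diag_apply, Matrix.mul_apply,
    ← sum_fiberwise_of_maps_to (g := fun y => wdist P x y) (t := univ) (fun _ _ => mem_univ _)]
  refine sum_congr rfl fun w _ => ?_
  rw [← card_filter_wdist P x, ← nsmul_eq_mul, ← sum_const]
  refine sum_congr rfl fun y hy => ?_
  rw [hecke_apply, hecke_apply, wdist_comm P x y, (mem_filter.1 hy).2]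

end CL.BN
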