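/-
CHEV library: symplectic groups in characteristic two are unions of conjugates of orthogonal groups.
-/
import Cfsg.Agent.CHEV.Cov2
import Cfsg.Agent.CLAS.SpForm
import Cfsg.Agent.CLAS.SpCenter

set_option autoImplicit false
set_option linter.unusedSectionVars false

namespace CL.Cover

open Module CL.Witt

variable {F V : Type*} [Field F] [AddCommGroup V] [Module F V]

theorem range_sp (m : ℕ) : ((Sp.spForm m F).O.subtype.comp (Sp.spEquiv m F).toMonoidHom).range = (Sp.spForm m F).O := by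
  rw [MonoidHom.range_comp, MonoidHom.range_eq_top.2 (Sp.spEquiv m F).surjective, ← MonoidHom.range_eq_map,
    Subgroup.range_subtype]

theorem sign_sp {m : ℕ} : ∀ z ∈ Subgroup.center (Matrix.symplecticGroup (Fin m) F), ∃ c : F, (c = 1 ∨ c = -1) ∧ ∀ v,
    ((Sp.spForm m F).O.subtype.comp (Sp.spEquiv m F).toMonoidHom) z v = c • v := fun z hz => by
  rcases SpCenter.mem_center_iff.1 hz with h | h
  · exact ⟨1, Or.inl rfl, fun v => (Sp.spEquiv_apply z v).trans (by simp [h])⟩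
  · exact ⟨-1, Or.inr rfl, fun v => (Sp.spEquiv_apply z v).trans (by simp [h, Matrix.neg_mulVec])⟩

variable [Finite F] [CharP F 2]

/-- the elements `t² + t` -/
def wp (F : Type*) [Field F] [CharP F 2] : AddSubgroup F :=
  ((frobenius F 2).toAddMonoidHom + AddMonoidHom.id F).range

omit [Finite F] in
theorem mem_wp {x : F} : x ∈ wp F ↔ ∃ t, t ^ 2 + t = x := Iff.rfl

theorem wp_add {x y : F} : x + y ∈ wp F ↔ (x ∈ wp F ↔ y ∈ wp F) := by
  refine AddSubgroup.add_mem_iff_of_index_two ?_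
  rw [wp, AddSubgroup.index_range, Nat.card_eq_two_iff]
  refine ⟨0, ⟨1, by simp [CharTwo.add_self_eq_zero]⟩, fun e => zero_ne_one (congrArg Subtype.val e), ?_⟩
  refine Set.eq_univ_of_forall fun ⟨t, ht⟩ => ?_
  have : t * (t - 1) = 0 := by
    have : t ^ 2 + t = 0 := ht
    rw [CharTwo.sub_eq_add]
    linear_combination this
  exact (mul_eq_zero.1 this).imp Subtype.ext fun e => Subtype.ext (sub_eq_zero.1 e)

/-- the action on functions -/
@[reducible] def funAct : MulAction (V ≃ₗ[F] V) (V → F) where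
  smul g Q := fun v => Q (g.symm v)
  one_smul _ := rfl
  mul_smul _ _ _ := rfl

variable {f : Form (FormType.alt F) V} [FiniteDimensional F V]

variable (f) in
/-- quadratic forms polarizing to `f` -/
structure Pol (Q : V → F) : Prop where
  add : ∀ x y, Q (x + y) = Q x + Q y + f.B x y
  smul : ∀ (c : F) x, Q (c • x) = c ^ 2 * Q x

theorem Pol.shift {Q : V → F} (h : Pol f Q) (a : V) : Pol f fun x => Q x + f.B a x ^ 2 :=
  ⟨fun x y => by rw [h.add, map_add, CharTwo.add_sq]; ring, fun c x => by rw [h.smul, f.B_smul_right]; ring⟩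

theorem Pol.tv {Q : V → F} (h : Pol f Q) (v : V) (c : F) :
    funAct.smul (f.tv v c) Q = fun x => Q x + (c ^ 2 * Q v + c) * f.B v x ^ 2 := funext fun x => by
  change Q ((f.tv v c)⁻¹ x) = _
  rw [f.tv_inv, f.tv_apply, h.add, h.smul, f.B_smul_right, f.alt_symm v x]
  ring

theorem Pol.trans {Q : V → F} (h : Pol f Q) {a b : V} (e : Q a + Q b ∈ wp F) :
    ∃ g ∈ f.O, funAct.smul g (fun x => Q x + f.B a x ^ 2) = fun x => Q x + f.B b x ^ 2 := by
  have two : (2 : F) = 0 := CharTwo.two_eq_zero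
  obtain ⟨t, ht⟩ : Q (a + b) + f.B a (a + b) ^ 2 ∈ wp F := by
    rw [h.add, map_add, f.alt_B_self, zero_add, add_assoc, add_comm (f.B a b)]
    exact add_mem e ⟨_, rfl⟩
  replace ht : t ^ 2 + t = _ := ht
  obtain ⟨c, hc⟩ : ∃ c : F, c ^ 2 * (Q (a + b) + f.B a (a + b) ^ 2) + c = 1 := by
    by_cases h0 : t ^ 2 + t = 0
    · exact ⟨1, by rw [← ht, h0]; simp⟩
    · exact ⟨t / (t ^ 2 + t), by rw [← ht, div_pow, sq (t ^ 2 + t), div_mul_eq_mul_div, mul_div_mul_right _ _ h0,
        ← add_div, div_self h0]⟩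
  refine ⟨_, f.tv_mem_O (a + b) c, ((h.shift a).tv _ c).trans (funext fun x => ?_)⟩
  rw [hc, f.B_add_left]
  linear_combination (f.B a x ^ 2 + f.B a x * f.B b x) * two

theorem Pol.move (hf : f.Nondeg) (h3 : 3 ≤ finrank F V) {Q : V → F} (h : Pol f Q) : ∃ g ∈ f.O, funAct.smul g Q ≠ Q := by
  by_contra! H
  have k : ∀ v, v ≠ 0 → Q v = 1 := fun v hv => by
    obtain ⟨x, hx⟩ := not_forall.1 (mt (hf v) hv)
    have := congrFun ((h.tv v 1).symm.trans (H _ (f.tv_mem_O v 1))) x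
    simpa [hx, CharTwo.add_eq_zero] using this
  have : Nontrivial V := Module.nontrivial_of_finrank_pos (R := F) (by omega)
  obtain ⟨u, hu⟩ := exists_ne (0 : V)
  obtain ⟨w, w1, w2⟩ := SetLike.not_le_iff_exists.1 (mt (Submodule.finrank_mono (s := f.perp (F ∙ u)) (t := F ∙ u)) (by
    rw [hf.finrank_perp, finrank_span_singleton hu]; omega))
  have := h.add u w
  rw [k u hu, k w (by rintro rfl; exact w2 (zero_mem _)), k _ fun e => w2 (Submodule.mem_span_singleton.2
    ⟨-1, by rw [eq_neg_of_add_eq_zero_right e]; simp⟩), f.mem_perp_span_singleton.1 w1] at this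
  simp at this

theorem Pol.fam (hf : f.Nondeg) (h3 : 3 ≤ finrank F V) {Q : V → F} (h : Pol f Q) (p : Prop) :
    Fam f.O {1} funAct {Q' | ∃ a, (Q a ∈ wp F ↔ p) ∧ Q' = fun x => Q x + f.B a x ^ 2} := by
  refine ⟨?_, ?_, ?_⟩
  · rintro _ ⟨a, ha, rfl⟩ _ ⟨b, hb, rfl⟩
    exact h.trans (wp_add.2 (ha.trans hb.symm))
  · rintro _ ⟨a, -, rfl⟩
    exact (h.shift a).move hf h3
  · rintro _ _ _ _ rfl
    rfl

theorem Pol.fix (hf : f.Nondeg) {Q : V → F} (h : Pol f Q) {g : V ≃ₗ[F] V} (hg : g ∈ f.O) :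
    ∃ b, funAct.smul g (fun x => Q x + f.B b x ^ 2) = fun x => Q x + f.B b x ^ 2 := by
  have two : (2 : F) = 0 := CharTwo.two_eq_zero
  have hB := Form.mem_O_B (inv_mem hg)
  have s := (frobeniusEquiv F 2).injective
  let φ : Dual F V :=
    { toFun := fun x => (frobeniusEquiv F 2).symm (Q (g⁻¹ x) + Q x)
      map_add' := fun x y => s (by
        simp only [map_add, RingEquiv.apply_symm_apply, h.add, hB]
        linear_combination f.B x y * two)
      map_smul' := fun c x => s (by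
        simp only [map_smul, RingEquiv.apply_symm_apply, h.smul, RingHom.id_apply, smul_eq_mul, map_mul,
          frobeniusEquiv_apply, frobenius_def]
        ring) }
  obtain ⟨ψ, hψ⟩ : φ ∈ LinearMap.range (((g⁻¹ : V ≃ₗ[F] V) : End F V) - 1).dualMap := by
    rw [LinearMap.range_dualMap_eq_dualAnnihilator_ker, Submodule.mem_dualAnnihilator]
    intro x hx
    have : g⁻¹ x = x := sub_eq_zero.1 (LinearMap.mem_ker.1 hx)
    change (frobeniusEquiv F 2).symm (Q (g⁻¹ x) + Q x) = 0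
    rw [this, CharTwo.add_self_eq_zero, map_zero]
  obtain ⟨b, hb⟩ := hf.exists_rep ψ
  refine ⟨b, funext fun x => ?_⟩
  have e : f.B b (g⁻¹ x - x) ^ 2 = Q (g⁻¹ x) + Q x :=
    (congrArg (· ^ 2) ((hb _).trans (LinearMap.congr_fun hψ x))).trans (frobeniusEquiv_symm_pow_p F 2 _)
  rw [map_sub] at e
  change Q (g⁻¹ x) + f.B b (g⁻¹ x) ^ 2 = _
  linear_combination e + (f.B b (g⁻¹ x) * f.B b x + Q (g⁻¹ x) - f.B b x ^ 2) * two

theorem cov_PSp_even {m : ℕ} (hm : 2 ≤ m) : Cov (Cfsg.PSp m F) := by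
  have hf := Sp.spForm_nondeg m F
  have h3 : 3 ≤ finrank F (Fin m ⊕ Fin m → F) := by rw [Sp.finrank_sp]; omega
  have h : Pol (Sp.spForm m F) fun x => ∑ i, x (Sum.inl i) * x (Sum.inr i) :=
    ⟨fun x y => by
      simp only [Sp.spForm_B_eq, ← Finset.sum_add_distrib, CharTwo.sub_eq_add, Pi.add_apply]
      exact Finset.sum_congr rfl fun _ _ => by ring, fun c x => by
      simp only [Finset.mul_sum, Pi.smul_apply, smul_eq_mul]
      exact Finset.sum_congr rfl fun _ _ => by ring⟩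
  refine cov_quot (h.fam hf h3 True) (h.fam hf h3 False) (fun g hg => ?_) _ (range_sp m) _ fun z hz => ?_
  · obtain ⟨b, hb⟩ := h.fix hf hg
    by_cases e : (∑ i, b (Sum.inl i) * b (Sum.inr i)) ∈ wp F
    · exact Or.inl ⟨_, ⟨b, iff_true_intro e, rfl⟩, hb⟩
    · exact Or.inr ⟨_, ⟨b, iff_false_intro e, rfl⟩, hb⟩
  · obtain ⟨c, hc, e⟩ := sign_sp z hz
    exact LinearEquiv.ext fun v => (e v).trans (by rcases hc with rfl | rfl <;> simp [CharTwo.neg_eq])

end CL.Cover
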