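import Mathlib
import Cfsg.Agent.CHEV.E62Y
import Cfsg.Agent.S1696

/-!
The Fischer group `Fi₂₂` embeds in `²E₆(2)`.
-/

set_option autoImplicit false

namespace CL.E62

open Cfsg.Lie Cfsg.Spor

theorem sq_out_congr {A B : Type*} [Group A] [Group B] (e : A ≃* B) (h : ∀ β : Cfsg.Out B, β ^ 2 = 1) (β : Cfsg.Out A) :
    β ^ 2 = 1 := by
  obtain ⟨β, rfl⟩ := QuotientGroup.mk_surjective β
  obtain ⟨g, hg⟩ := (QuotientGroup.eq_one_iff (MulAut.congr e β ^ 2)).1 (h (MulAut.congr e β))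
  refine (QuotientGroup.eq_one_iff (β ^ 2)).2 ⟨e.symm g, (MulAut.congr e).injective ?_⟩
  rw [map_pow, ← hg]
  ext x
  simp

/-- the numbering of the generators -/
def fiC : Fi22.Gen → ℕ
  | .a => 0 | .b => 1 | .c => 2 | .d => 3 | .e => 4 | .f => 5 | .g => 6 | .h => 7 | .i => 8

theorem exists_fi22 {K : Type*} [Field K] [Fintype K] (hK : Fintype.card K = 4) : ∃ φ : Fi22 →* twistedE6 K 2,
    Function.Injective φ ∧ ∀ (g : twistedE6 K 2) (w : Kˣ),
      (∀ x ≠ Fi22.Gen.a, g * dA w (φ (.of x)) * g⁻¹ = φ (.of x)) → w = 1 ∧ g = 1 := by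
  obtain ⟨y, h1, h2, h3⟩ := exists_Y hK
  obtain ⟨φ, hφ⟩ := exists_hom (edges := Fi22.edges) (extra := Fi22.extra) h1 fiC (fun x => by cases x <;> decide)
    (fun x z => by cases x <;> cases z <;> decide) fun r hr => by
      simp only [ex, List.forall_mem_cons] at h2
      simp only [Fi22.extra, List.mem_cons, List.not_mem_nil, or_false] at hr
      rcases hr with rfl | rfl | rfl
      · simpa [fiC, mul_assoc] using h2.1
      · simpa [fiC, mul_assoc] using h2.2.1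
      · simpa [fiC, mul_assoc] using h2.2.2.1
  have h4 : ∀ (g : twistedE6 K 2) (w : Kˣ),
      (∀ x ≠ Fi22.Gen.a, g * dA w (φ (.of x)) * g⁻¹ = φ (.of x)) → w = 1 ∧ g = 1 := fun g w h => h3 g w fun i h1 h8 => by
    simp only [hφ] at h
    interval_cases i
    exacts [h .b nofun, h .c nofun, h .d nofun, h .e nofun, h .f nofun, h .g nofun, h .h nofun, h .i nofun]
  refine ⟨φ, ?_, h4⟩
  have := Cfsg.Agent.S1696.result.1
  refine φ.ker_eq_bot_iff.1 ((φ.normal_ker.eq_bot_or_eq_top).resolve_right fun e => ?_)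
  have h5 : ∀ w : Kˣ, w = 1 := fun w => (h4 1 w fun x _ => by
    rw [show φ (.of x) = 1 from e.ge (Subgroup.mem_top _)]; simp).1
  have h6 : Nat.card Kˣ = 3 := by rw [Nat.card_units, Nat.card_eq_fintype_card, hK]
  have : Subsingleton Kˣ := ⟨fun a b => (h5 a).trans (h5 b).symm⟩
  simp [Nat.card_unique] at h6

theorem three_of_le {K : Type*} [Field K] [Fintype K] (hK : Fintype.card K = 4) (H : Subgroup Fi22)
    (h1 : ∀ x ≠ Fi22.Gen.a, PresentedGroup.of x ∈ H) (h2 : ∀ β : Cfsg.Out H, β ^ 2 = 1) :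
    ∃ L : Fin 3 → Subgroup (twistedE6 K 2), (∀ i, Nonempty (L i ≃* H)) ∧
      ∀ i j, i ≠ j → ∀ g : twistedE6 K 2, (L i).map (MulAut.conj g).toMonoidHom ≠ L j := by
  obtain ⟨φ, h3, h4⟩ := exists_fi22 hK
  have e := H.equivMapOfInjective φ h3
  obtain ⟨L, h5, h6⟩ := three_classes hK (H.map φ) (sq_out_congr e.symm h2) fun g w h =>
    (h4 g w fun x hx => h _ (Subgroup.mem_map_of_mem _ (h1 x hx))).1
  exact ⟨L, fun i => ⟨(h5 i).some.trans e.symm⟩, h6⟩

end CL.E62
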