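/-
CHEV library: classes and centralisers of involutions in odd characteristic.
-/
import Cfsg.Agent.CHEV.SsSub
import Cfsg.Agent.CHEV.SsGlue

set_option autoImplicit false

namespace CL.Chev

open Matrix hiding zpow_add zpow_mul zpow_sub one_zpow

section
variable {ι κ : Type*} [Fintype κ] [DecidableEq κ] {R : RootSys ι κ}

theorem RootSys.Phi_of_matHom {C : Type*} [CommGroup C] {t : κ → C} {z : C} {c : κ → ℤ}
    (h : matHom C (Matrix.of R.A) t = fun i => z ^ c i) : R.Phi t = {r | (orderOf z : ℤ) ∣ c ⬝ᵥ R.rt r} := by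
  ext r
  rw [Set.mem_ofPred_eq, orderOf_dvd_iff_zpow_eq_one, ← uchr_zpow_const, ← h, uchr_matHom]; rfl

theorem eq_single_of_sum_le {n : ℤ} {θ c : κ → ℤ} (hn : 0 < n) (hθ : ∀ i, n ≤ θ i) (hc : ∀ i, 0 ≤ c i)
    (h : ∑ i, θ i * c i ≤ n) : c = 0 ∨ ∃ k, θ k = n ∧ c = Pi.single k 1 := by
  refine or_iff_not_imp_left.2 fun h0 => ?_
  obtain ⟨k, hk⟩ := Function.ne_iff.1 h0
  have h1 : ∀ i, 0 ≤ θ i * c i := fun i => mul_nonneg (hn.le.trans (hθ i)) (hc i)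
  have h2 : 1 ≤ c k := lt_of_le_of_ne (hc k) (Ne.symm hk)
  have h3 := (Finset.single_le_sum (fun i _ => h1 i) (Finset.mem_univ k)).trans h
  have h4 := hθ k
  refine ⟨k, by nlinarith, funext fun i => ?_⟩
  by_cases e : i = k
  · subst e; rw [Pi.single_eq_same]; nlinarith
  · have h5 := (Finset.add_le_sum (fun i _ => h1 i) (Finset.mem_univ i) (Finset.mem_univ k) e).trans h
    have := hθ i
    have := hc i
    rw [Pi.single_eq_of_ne e]; nlinarith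

namespace StData.Alg

variable {K Γ : Type*} [Field K] [Group Γ] {S : StData R K Γ} {φ : K →+* K} {q : ℕ} {σ : Monoid.End Γ} [Finite ι]
  [IsAlgClosed K] (A : S.Alg φ q σ) {G : Type*} [Group G] {ψ : G →* Γ} (hψ : Function.Injective ψ)
  (hfix : ∀ y, y ∈ ψ.range ↔ σ y = y)
include A hψ hfix

theorem isConj_of_isConj {a b : G} (ha : (orderOf a : K) ≠ 0) (h : IsConj (ψ a) (ψ b)) : IsConj a b := by
  obtain ⟨y, hy, e⟩ := A.exists_conj_fixed A.gf ((hfix _).1 ⟨a, rfl⟩) ((hfix _).1 ⟨b, rfl⟩)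
    (by rwa [orderOf_injective ψ hψ]) h
  obtain ⟨y, rfl⟩ := (hfix y).2 hy
  exact isConj_iff.2 ⟨y, hψ (by simpa using e)⟩

/-- the classes of involutions when the root lattice is unimodular -/
theorem exists_involutions (h2 : (2 : K) ≠ 0) (hA : Function.Bijective (matHom Kˣ (Matrix.of R.A))) {θ : ι}
    (hθ : ∀ i, 2 ≤ R.rt θ i) : ∃ (g : κ → G) (t : κ → κ → Kˣ), (∀ k, ψ (g k) = A.r3.torHom (t k) ∧ orderOf (g k) = 2 ∧
      matHom Kˣ (Matrix.of R.A) (t k) = fun i => (-1) ^ (Pi.single k 1 : κ → ℤ) i) ∧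
      ∀ u, orderOf u = 2 → ∃ k, R.rt θ k = 2 ∧ IsConj u (g k) := by
  choose t ht using fun k => hA.2 fun i => (-1) ^ (Pi.single k 1 : κ → ℤ) i
  have h1 : ∀ k, t k ^ 2 = 1 := fun k => hA.1 (funext fun i => by
    rw [map_pow, ht, map_one, Pi.pow_apply, ← zpow_natCast, ← zpow_mul, mul_comm, zpow_mul]; simp)
  have h3 : ∀ k, A.r3.torHom (t k) ∈ ψ.range := fun k => (hfix _).2 (by
    obtain ⟨m, hm⟩ := Nat.coprime_two_left.1 (A.frob.coprime (n := 2) h2)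
    rw [A.map_torHom]; congr 1; rw [hm, pow_succ, pow_mul, h1, one_pow, one_mul])
  choose g hg using h3
  refine ⟨g, t, fun k => ⟨hg k, ?_, ht k⟩, fun u hu => ?_⟩
  · rw [← orderOf_injective ψ hψ, hg, orderOf_injective _ A.sc]
    refine orderOf_eq_prime (h1 k) fun e => h2 ?_
    have := congrArg Units.val (congrFun (ht k) k)
    rw [e, map_one] at this
    simp only [Pi.one_apply, Units.val_one, Pi.single_eq_same, zpow_one, Units.val_neg] at this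
    linear_combination this
  · obtain ⟨y, hy⟩ := A.exists_conj_H (s := ψ u) (by rw [orderOf_injective ψ hψ, hu]; exact h2)
    obtain ⟨t', ht'⟩ := A.r3.range_torHom ▸ hy
    have h4 : orderOf t' = 2 := by
      rw [← orderOf_injective _ A.sc, ht', ← MulAut.conj_apply, MulEquiv.orderOf_eq, orderOf_injective ψ hψ, hu]
    have h5 : ∀ i, ∃ a : ℤ, t' i = (-1) ^ a := fun i => by
      have := congrArg Units.val (congrFun (h4 ▸ pow_orderOf_eq_one t' : t' ^ 2 = 1) i)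
      rcases sq_eq_one_iff.1 this with h | h
      exacts [⟨0, Units.ext (by simpa using h)⟩, ⟨1, Units.ext (by simpa using h)⟩]
    choose a ha using h5
    obtain ⟨w, hw, c, c1, c2, c3⟩ := RootSys.exists_act_alcove (R := R) two_pos (neg_one_sq (R := Kˣ)) a
    rw [← funext ha] at c3
    rcases eq_single_of_sum_le two_pos hθ c1 (c2 θ ((R.isPos_iff θ).2 fun i => zero_le_two.trans (hθ i))) with rfl | ⟨k, hk, rfl⟩
    · have : R.act w t' = 1 := hA.1 (by rw [c3, map_one]; funext i; simp)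
      rw [← RootSys.act_inv_act hw t', this, map_one, orderOf_one] at h4
      omega
    · refine ⟨k, hk, A.isConj_of_isConj hψ hfix (by rw [hu]; exact h2) ((isConj_iff.2 ⟨y, ht'.symm⟩).trans ?_)⟩
      obtain ⟨m, -, hm⟩ := S.exists_acts hw
      exact isConj_iff.2 ⟨m, by rw [A.r3.conj_torHom hm, hg, hA.1 (c3.trans (ht k).symm)]⟩

end StData.Alg

end

open Cfsg.Lie CL.Cox CL.Cox.Calc

variable {D : ChevalleyDatum} [Good D]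

/-- the finite check that `β` is a base of the subsystem of the roots on which `c` is divisible by `n` -/
def SubChk (n : ℤ) (c : Fin D.rank → ℤ) {m : ℕ} (β : Fin m → Rt D) (M : Fin m → Fin m → ℕ) (N : ℕ) : Prop :=
  (∀ i, n ∣ c ⬝ᵥ co (β i) ∧ 0 < ht (β i)) ∧
  (∀ r, n ∣ c ⬝ᵥ co r → 0 < ht r → (∃ j, 0 < (Good.C D).pairF D.rank (β j) r) ∧
    ∀ j, r = β j ∨ 0 < ht r - (Good.C D).pairF D.rank (β j) r * ht (β j)) ∧
  (∀ i j, i ≠ j → (Good.C D).pairF D.rank (β i) (β j) * (Good.C D).pairF D.rank (β j) (β i) ≤ 3 ∧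
    M i j = RootSys.coxOf ((Good.C D).pairF D.rank (β i) (β j) * (Good.C D).pairF D.rank (β j) (β i))) ∧
  (Finset.univ.filter fun r : Rt D => 0 < ht r ∧ n ∣ c ⬝ᵥ co r).card = N

instance (n : ℤ) (c : Fin D.rank → ℤ) {m : ℕ} (β : Fin m → Rt D) (M : Fin m → Fin m → ℕ) (N : ℕ) :
    Decidable (SubChk n c β M N) := by unfold SubChk; infer_instance

theorem SubChk.card_centralizer {K Γ : Type*} [Field K] [IsAlgClosed K] [Group Γ] {S : StData (rootSys D) K Γ}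
    {φ : K →+* K} {q : ℕ} {σ : Monoid.End Γ} (A : S.Alg φ q σ) {n : ℤ} {c : Fin D.rank → ℤ} {m : ℕ} {β : Fin m → Rt D}
    {M : CoxeterMatrix (Fin m)} {N : ℕ} (h : SubChk n c β M N) {B : List (List ℤ)} {d : List ℤ} {Φ : List (List ℤ)}
    (hr : rootCheck m B d Φ = true) (hm : matCheck m B M = true) {N' : ℕ} {ks : List ℕ} {Es : List (List (ℕ × ℕ))}
    (hc : chainCheck m B [] N' ks Es = true) (hks : ∀ i : Fin m, (i : ℕ) ∈ ks) {t : Fin D.rank → Kˣ} {z : Kˣ}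
    (hz : (orderOf z : ℤ) = n) (ht : matHom Kˣ (Matrix.of (rootSys D).A) t = fun i => z ^ c i) :
    ({r | (rootSys D).IsPos r} ∩ (rootSys D).Phi t).ncard = N ∧
    Nat.card ↥(Subgroup.centralizer {A.r3.torHom t} ⊓ fixS σ) = q ^ N * ((q - 1) ^ D.rank * (Es.map (evalE q q)).prod) := by
  obtain ⟨h1, h2, h3, h4⟩ := h
  have := Fintype.ofFinite ((rootSys D).WS ((rootSys D).Phi t))
  have h5 := RootSys.Phi_of_matHom ht
  rw [hz] at h5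
  have h6 : (rootSys D).IsBase ((rootSys D).Phi t) β := ⟨RootSys.refl_mem_Phi t, fun i => h5 ▸ (h1 i).1, fun i => (h1 i).2,
    fun r hr hp => by simpa only [rootSys_pair, A_eq_pairF, rootSys_ht] using h2 r (h5 ▸ hr :) hp⟩
  have h7 : ({r | (rootSys D).IsPos r} ∩ (rootSys D).Phi t).ncard = N := by
    rw [← h4, ← Set.ncard_coe_finset, h5]; congr 1; ext r; simp [RootSys.IsPos, rootSys_ht, rootSys_rt]
  refine ⟨h7, ?_⟩
  rw [A.card_centralizer, h7, h6.sum_of_check hr hm hc hks (by simpa only [rootSys_pair, A_eq_pairF] using h3),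
    Fintype.card_fin]


set_option backward.isDefEq.respectTransparency false in
theorem card_centralizer_G2 {K Γ : Type*} [Field K] [IsAlgClosed K] [Group Γ] {S : StData (rootSys chevG2) K Γ}
    {φ : K →+* K} {q : ℕ} {σ : Monoid.End Γ} (A : S.Alg φ q σ) {t : Fin 2 → Kˣ} {z : Kˣ} (hz : orderOf z = 2)
    (ht : matHom Kˣ (Matrix.of (rootSys chevG2).A) t = fun i => z ^ (Pi.single 1 1 : Fin 2 → ℤ) i) :
    ({r | (rootSys chevG2).IsPos r} ∩ (rootSys chevG2).Phi t).ncard = 2 ∧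
    Nat.card ↥(Subgroup.centralizer {A.r3.torHom t} ⊓ fixS σ) = q ^ 2 * ((q ^ 2 - 1) * (q ^ 2 - 1)) := by
  obtain ⟨h1, h2⟩ := SubChk.card_centralizer A (n := 2) (c := (Pi.single 1 1 : Fin 2 → ℤ))
    (β := (![7, 11] : Fin 2 → Fin 12)) (N := 2)
    (M := ⟨!![1, 2; 2, 1], by decide, by decide, by decide⟩) (by decide +kernel)
    (B := [[2, 0], [0, 2]]) (d := [1, 3])
    (Φ := [[0, 1], [1, 0]])
    (by decide +kernel) (by decide +kernel) (N' := 60) (ks := [0, 1])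
    (Es := [[(0, 0), (1, 0)], [(0, 0), (1, 0)]])
    (by decide +kernel) (by decide) (by rw [hz]; rfl) ht
  refine ⟨h1, h2.trans (congrArg _ ?_)⟩
  have hq := A.frob.one_lt.le
  have := fun k => Nat.one_le_pow k q hq
  simp only [evalE, List.map_cons, List.map_nil, List.sum_cons, List.sum_nil, List.prod_cons, List.prod_nil,
    show chevG2.rank = 2 from rfl]
  zify [this, hq]
  ring

set_option backward.isDefEq.respectTransparency false in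
theorem card_centralizer_F4a {K Γ : Type*} [Field K] [IsAlgClosed K] [Group Γ] {S : StData (rootSys chevF4) K Γ}
    {φ : K →+* K} {q : ℕ} {σ : Monoid.End Γ} (A : S.Alg φ q σ) {t : Fin 4 → Kˣ} {z : Kˣ} (hz : orderOf z = 2)
    (ht : matHom Kˣ (Matrix.of (rootSys chevF4).A) t = fun i => z ^ (Pi.single 0 1 : Fin 4 → ℤ) i) :
    ({r | (rootSys chevF4).IsPos r} ∩ (rootSys chevF4).Phi t).ncard = 16 ∧
    Nat.card ↥(Subgroup.centralizer {A.r3.torHom t} ⊓ fixS σ) = q ^ 16 * ((q ^ 2 - 1) * (q ^ 4 - 1) * (q ^ 6 - 1) * (q ^ 8 - 1)) := by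
  obtain ⟨h1, h2⟩ := SubChk.card_centralizer A (n := 2) (c := (Pi.single 0 1 : Fin 4 → ℤ))
    (β := (![24, 25, 27, 41] : Fin 4 → Fin 48)) (N := 16)
    (M := ⟨!![1, 3, 2, 3; 3, 1, 4, 2; 2, 4, 1, 2; 3, 2, 2, 1], by decide, by decide, by decide⟩) (by decide +kernel)
    (B := [[2, -1, 0, -1], [-1, 2, -1, 0], [0, -2, 2, 0], [-1, 0, 0, 2]]) (d := [2, 2, 1, 2])
    (Φ := [[0, 0, 0, 1], [0, 0, 1, 0], [0, 1, 0, 0], [1, 0, 0, 0], [0, 1, 1, 0], [1, 0, 0, 1], [1, 1, 0, 0], [0, 1, 2, 0], [1, 1, 0, 1], [1, 1, 1, 0], [1, 1, 1, 1], [1, 1, 2, 0], [1, 1, 2, 1], [1, 2, 2, 0], [1, 2, 2, 1], [2, 2, 2, 1]])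
    (by decide +kernel) (by decide +kernel) (N' := 60) (ks := [3, 0, 1, 2])
    (Es := [[(0, 0), (1, 0), (2, 0), (3, 0), (4, 0), (5, 0), (6, 0), (7, 0)], [(0, 0), (1, 0), (2, 0), (3, 0), (4, 0), (5, 0)], [(0, 0), (1, 0), (2, 0), (3, 0)], [(0, 0), (1, 0)]])
    (by decide +kernel) (by decide) (by rw [hz]; rfl) ht
  refine ⟨h1, h2.trans (congrArg _ ?_)⟩
  have hq := A.frob.one_lt.le
  have := fun k => Nat.one_le_pow k q hq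
  simp only [evalE, List.map_cons, List.map_nil, List.sum_cons, List.sum_nil, List.prod_cons, List.prod_nil,
    show chevF4.rank = 4 from rfl]
  zify [this, hq]
  ring

set_option backward.isDefEq.respectTransparency false in
theorem card_centralizer_F4b {K Γ : Type*} [Field K] [IsAlgClosed K] [Group Γ] {S : StData (rootSys chevF4) K Γ}
    {φ : K →+* K} {q : ℕ} {σ : Monoid.End Γ} (A : S.Alg φ q σ) {t : Fin 4 → Kˣ} {z : Kˣ} (hz : orderOf z = 2)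
    (ht : matHom Kˣ (Matrix.of (rootSys chevF4).A) t = fun i => z ^ (Pi.single 3 1 : Fin 4 → ℤ) i) :
    ({r | (rootSys chevF4).IsPos r} ∩ (rootSys chevF4).Phi t).ncard = 10 ∧
    Nat.card ↥(Subgroup.centralizer {A.r3.torHom t} ⊓ fixS σ) = q ^ 10 * ((q ^ 2 - 1) * (q ^ 2 - 1) * (q ^ 4 - 1) * (q ^ 6 - 1)) := by
  obtain ⟨h1, h2⟩ := SubChk.card_centralizer A (n := 2) (c := (Pi.single 3 1 : Fin 4 → ℤ))
    (β := (![25, 27, 33, 47] : Fin 4 → Fin 48)) (N := 10)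
    (M := ⟨!![1, 4, 2, 2; 4, 1, 3, 2; 2, 3, 1, 2; 2, 2, 2, 1], by decide, by decide, by decide⟩) (by decide +kernel)
    (B := [[2, -1, 0, 0], [-2, 2, -1, 0], [0, -1, 2, 0], [0, 0, 0, 2]]) (d := [2, 1, 1, 2])
    (Φ := [[0, 0, 0, 1], [0, 0, 1, 0], [0, 1, 0, 0], [1, 0, 0, 0], [0, 1, 1, 0], [1, 1, 0, 0], [1, 1, 1, 0], [1, 2, 0, 0], [1, 2, 1, 0], [1, 2, 2, 0]])
    (by decide +kernel) (by decide +kernel) (N' := 60) (ks := [3, 2, 0, 1])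
    (Es := [[(0, 0), (1, 0)], [(0, 0), (1, 0), (2, 0), (3, 0), (4, 0), (5, 0)], [(0, 0), (1, 0), (2, 0), (3, 0)], [(0, 0), (1, 0)]])
    (by decide +kernel) (by decide) (by rw [hz]; rfl) ht
  refine ⟨h1, h2.trans (congrArg _ ?_)⟩
  have hq := A.frob.one_lt.le
  have := fun k => Nat.one_le_pow k q hq
  simp only [evalE, List.map_cons, List.map_nil, List.sum_cons, List.sum_nil, List.prod_cons, List.prod_nil,
    show chevF4.rank = 4 from rfl]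
  zify [this, hq]
  ring

set_option backward.isDefEq.respectTransparency false in
theorem card_centralizer_E8a {K Γ : Type*} [Field K] [IsAlgClosed K] [Group Γ] {S : StData (rootSys chevE8) K Γ}
    {φ : K →+* K} {q : ℕ} {σ : Monoid.End Γ} (A : S.Alg φ q σ) {t : Fin 8 → Kˣ} {z : Kˣ} (hz : orderOf z = 2)
    (ht : matHom Kˣ (Matrix.of (rootSys chevE8).A) t = fun i => z ^ (Pi.single 0 1 : Fin 8 → ℤ) i) :
    ({r | (rootSys chevE8).IsPos r} ∩ (rootSys chevE8).Phi t).ncard = 56 ∧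
    Nat.card ↥(Subgroup.centralizer {A.r3.torHom t} ⊓ fixS σ) = q ^ 56 * ((q ^ 2 - 1) * (q ^ 4 - 1) * (q ^ 6 - 1) * (q ^ 8 - 1) * (q ^ 8 - 1) * (q ^ 10 - 1) * (q ^ 12 - 1) * (q ^ 14 - 1)) := by
  obtain ⟨h1, h2⟩ := SubChk.card_centralizer A (n := 2) (c := (Pi.single 0 1 : Fin 8 → ℤ))
    (β := (![120, 121, 123, 126, 130, 135, 141, 226] : Fin 8 → Fin 240)) (N := 56)
    (M := ⟨!![1, 3, 2, 2, 2, 2, 2, 3; 3, 1, 3, 2, 2, 2, 2, 2; 2, 3, 1, 3, 2, 2, 2, 2; 2, 2, 3, 1, 3, 2, 2, 2; 2, 2, 2, 3, 1, 3, 3, 2; 2, 2, 2, 2, 3, 1, 2, 2; 2, 2, 2, 2, 3, 2, 1, 2; 3, 2, 2, 2, 2, 2, 2, 1], by decide, by decide, by decide⟩) (by decide +kernel)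
    (B := [[2, -1, 0, 0, 0, 0, 0, -1], [-1, 2, -1, 0, 0, 0, 0, 0], [0, -1, 2, -1, 0, 0, 0, 0], [0, 0, -1, 2, -1, 0, 0, 0], [0, 0, 0, -1, 2, -1, -1, 0], [0, 0, 0, 0, -1, 2, 0, 0], [0, 0, 0, 0, -1, 0, 2, 0], [-1, 0, 0, 0, 0, 0, 0, 2]]) (d := [1, 1, 1, 1, 1, 1, 1, 1])
    (Φ := [[0, 0, 0, 0, 0, 0, 0, 1], [0, 0, 0, 0, 0, 0, 1, 0], [0, 0, 0, 0, 0, 1, 0, 0], [0, 0, 0, 0, 1, 0, 0, 0], [0, 0, 0, 1, 0, 0, 0, 0], [0, 0, 1, 0, 0, 0, 0, 0], [0, 1, 0, 0, 0, 0, 0, 0], [1, 0, 0, 0, 0, 0, 0, 0], [0, 0, 0, 0, 1, 0, 1, 0], [0, 0, 0, 0, 1, 1, 0, 0], [0, 0, 0, 1, 1, 0, 0, 0], [0, 0, 1, 1, 0, 0, 0, 0], [0, 1, 1, 0, 0, 0, 0, 0], [1, 0, 0, 0, 0, 0, 0, 1], [1, 1, 0, 0, 0, 0, 0, 0], [0, 0, 0, 0, 1, 1, 1, 0], [0, 0, 0, 1, 1, 0, 1, 0], [0, 0, 0, 1, 1, 1, 0, 0], [0, 0, 1, 1, 1, 0, 0, 0], [0, 1, 1, 1, 0, 0, 0, 0], [1, 1, 0, 0, 0, 0, 0, 1], [1, 1, 1, 0, 0, 0, 0, 0], [0,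 0, 0, 1, 1, 1, 1, 0], [0, 0, 1, 1, 1, 0, 1, 0], [0, 0, 1, 1, 1, 1, 0, 0], [0, 1, 1, 1, 1, 0, 0, 0], [1, 1, 1, 0, 0, 0, 0, 1], [1, 1, 1, 1, 0, 0, 0, 0], [0, 0, 0, 1, 2, 1, 1, 0], [0, 0, 1, 1, 1, 1, 1, 0], [0, 1, 1, 1, 1, 0, 1, 0], [0, 1, 1, 1, 1, 1, 0, 0], [1, 1, 1, 1, 0, 0, 0, 1], [1, 1, 1, 1, 1, 0, 0, 0], [0, 0, 1, 1, 2, 1, 1, 0], [0, 1, 1, 1, 1, 1, 1, 0], [1, 1, 1, 1, 1, 0, 0, 1], [1, 1, 1, 1, 1, 0, 1, 0], [1, 1, 1, 1, 1, 1, 0, 0], [0, 0, 1, 2, 2, 1, 1, 0], [0, 1, 1, 1, 2, 1, 1, 0], [1, 1, 1, 1, 1, 0, 1, 1], [1, 1, 1, 1, 1, 1, 0, 1], [1, 1, 1, 1, 1, 1, 1, 0], [0, 1, 1, 2, 2, 1, 1, 0], [1, 1, 1, 1, 1, 1, 1, 1], [1, 1, 1, 1, 2, 1, 1, 0], [0, 1, 2, 2, 2, 1, 1, 0], [1, 1, 1, 1, 2, 1, 1, 1], [1, 1, 1, 2, 2, 1, 1, 0], [1, 1, 1, 2, 2, 1, 1, 1], [1, 1, 2, 2, 2, 1, 1, 0], [1, 1, 2, 2, 2, 1, 1, 1], [1, 2, 2, 2, 2, 1, 1, 0], [1, 2, 2, 2, 2, 1, 1,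 1], [2, 2, 2, 2, 2, 1, 1, 1]])
    (by decide +kernel) (by decide +kernel) (N' := 60) (ks := [7, 0, 1, 2, 3, 5, 4, 6])
    (Es := [[(0, 0), (1, 0), (2, 0), (3, 0), (4, 0), (5, 0), (6, 0), (7, 0), (7, 0), (8, 0), (9, 0), (10, 0), (11, 0), (12, 0), (13, 0), (14, 0)], [(0, 0), (1, 0), (2, 0), (3, 0), (4, 0), (5, 0), (6, 0), (6, 0), (7, 0), (8, 0), (9, 0), (10, 0), (11, 0), (12, 0)], [(0, 0), (1, 0), (2, 0), (3, 0), (4, 0), (5, 0), (5, 0), (6, 0), (7, 0), (8, 0), (9, 0), (10, 0)], [(0, 0), (1, 0), (2, 0), (3, 0), (4, 0), (4, 0), (5, 0), (6, 0), (7, 0), (8, 0)], [(0, 0), (1, 0), (2, 0), (3, 0), (3, 0), (4, 0), (5, 0), (6, 0)], [(0, 0), (1, 0), (2, 0), (3, 0)], [(0, 0), (1, 0), (2, 0)], [(0, 0), (1, 0)]])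
    (by decide +kernel) (by decide) (by rw [hz]; rfl) ht
  refine ⟨h1, h2.trans (congrArg _ ?_)⟩
  have hq := A.frob.one_lt.le
  have := fun k => Nat.one_le_pow k q hq
  simp only [evalE, List.map_cons, List.map_nil, List.sum_cons, List.sum_nil, List.prod_cons, List.prod_nil,
    show chevE8.rank = 8 from rfl]
  zify [this, hq]
  ring

set_option backward.isDefEq.respectTransparency false in
theorem card_centralizer_E8b {K Γ : Type*} [Field K] [IsAlgClosed K] [Group Γ] {S : StData (rootSys chevE8) K Γ}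
    {φ : K →+* K} {q : ℕ} {σ : Monoid.End Γ} (A : S.Alg φ q σ) {t : Fin 8 → Kˣ} {z : Kˣ} (hz : orderOf z = 2)
    (ht : matHom Kˣ (Matrix.of (rootSys chevE8).A) t = fun i => z ^ (Pi.single 7 1 : Fin 8 → ℤ) i) :
    ({r | (rootSys chevE8).IsPos r} ∩ (rootSys chevE8).Phi t).ncard = 64 ∧
    Nat.card ↥(Subgroup.centralizer {A.r3.torHom t} ⊓ fixS σ) = q ^ 64 * ((q ^ 2 - 1) * (q ^ 2 - 1) * (q ^ 6 - 1) * (q ^ 8 - 1) * (q ^ 10 - 1) * (q ^ 12 - 1) * (q ^ 14 - 1) * (q ^ 18 - 1)) := by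
  obtain ⟨h1, h2⟩ := SubChk.card_centralizer A (n := 2) (c := (Pi.single 7 1 : Fin 8 → ℤ))
    (β := (![121, 123, 126, 130, 135, 141, 162, 239] : Fin 8 → Fin 240)) (N := 64)
    (M := ⟨!![1, 3, 2, 2, 2, 2, 2, 2; 3, 1, 3, 2, 2, 2, 2, 2; 2, 3, 1, 3, 2, 2, 2, 2; 2, 2, 3, 1, 3, 3, 2, 2; 2, 2, 2, 3, 1, 2, 3, 2; 2, 2, 2, 3, 2, 1, 2, 2; 2, 2, 2, 2, 3, 2, 1, 2; 2, 2, 2, 2, 2, 2, 2, 1], by decide, by decide, by decide⟩) (by decide +kernel)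
    (B := [[2, -1, 0, 0, 0, 0, 0, 0], [-1, 2, -1, 0, 0, 0, 0, 0], [0, -1, 2, -1, 0, 0, 0, 0], [0, 0, -1, 2, -1, -1, 0, 0], [0, 0, 0, -1, 2, 0, -1, 0], [0, 0, 0, -1, 0, 2, 0, 0], [0, 0, 0, 0, -1, 0, 2, 0], [0, 0, 0, 0, 0, 0, 0, 2]]) (d := [1, 1, 1, 1, 1, 1, 1, 1])
    (Φ := [[0, 0, 0, 0, 0, 0, 0, 1], [0, 0, 0, 0, 0, 0, 1, 0], [0, 0, 0, 0, 0, 1, 0, 0], [0, 0, 0, 0, 1, 0, 0, 0], [0, 0, 0, 1, 0, 0, 0, 0], [0, 0, 1, 0, 0, 0, 0, 0], [0, 1, 0, 0, 0, 0, 0, 0], [1, 0, 0, 0, 0, 0, 0, 0], [0, 0, 0, 0, 1, 0, 1, 0], [0, 0, 0, 1, 0, 1, 0, 0], [0, 0, 0, 1, 1, 0, 0, 0], [0, 0, 1, 1, 0, 0, 0, 0], [0, 1, 1, 0, 0, 0, 0, 0], [1, 1, 0, 0, 0, 0, 0, 0], [0, 0, 0, 1, 1, 0, 1, 0], [0, 0, 0, 1, 1, 1, 0, 0], [0, 0, 1, 1, 0, 1, 0, 0], [0, 0, 1, 1, 1, 0, 0, 0], [0, 1, 1, 1, 0, 0, 0, 0], [1, 1, 1, 0, 0, 0, 0, 0], [0, 0, 0, 1, 1, 1, 1, 0], [0, 0, 1, 1, 1, 0, 1, 0], [0,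 0, 1, 1, 1, 1, 0, 0], [0, 1, 1, 1, 0, 1, 0, 0], [0, 1, 1, 1, 1, 0, 0, 0], [1, 1, 1, 1, 0, 0, 0, 0], [0, 0, 1, 1, 1, 1, 1, 0], [0, 0, 1, 2, 1, 1, 0, 0], [0, 1, 1, 1, 1, 0, 1, 0], [0, 1, 1, 1, 1, 1, 0, 0], [1, 1, 1, 1, 0, 1, 0, 0], [1, 1, 1, 1, 1, 0, 0, 0], [0, 0, 1, 2, 1, 1, 1, 0], [0, 1, 1, 1, 1, 1, 1, 0], [0, 1, 1, 2, 1, 1, 0, 0], [1, 1, 1, 1, 1, 0, 1, 0], [1, 1, 1, 1, 1, 1, 0, 0], [0, 0, 1, 2, 2, 1, 1, 0], [0, 1, 1, 2, 1, 1, 1, 0], [0, 1, 2, 2, 1, 1, 0, 0], [1, 1, 1, 1, 1, 1, 1, 0], [1, 1, 1, 2, 1, 1, 0, 0], [0, 1, 1, 2, 2, 1, 1, 0], [0, 1, 2, 2, 1, 1, 1, 0], [1, 1, 1, 2, 1, 1, 1, 0], [1, 1, 2, 2, 1, 1, 0, 0], [0, 1, 2, 2, 2, 1, 1, 0], [1, 1, 1, 2, 2, 1, 1, 0], [1, 1, 2, 2, 1, 1, 1, 0], [1, 2, 2, 2, 1, 1, 0, 0], [0, 1, 2, 3, 2, 1, 1, 0], [1, 1, 2, 2, 2, 1, 1, 0], [1, 2, 2, 2, 1, 1, 1, 0], [0, 1, 2, 3, 2, 2, 1, 0], [1, 1, 2, 3, 2, 1, 1,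 0], [1, 2, 2, 2, 2, 1, 1, 0], [1, 1, 2, 3, 2, 2, 1, 0], [1, 2, 2, 3, 2, 1, 1, 0], [1, 2, 2, 3, 2, 2, 1, 0], [1, 2, 3, 3, 2, 1, 1, 0], [1, 2, 3, 3, 2, 2, 1, 0], [1, 2, 3, 4, 2, 2, 1, 0], [1, 2, 3, 4, 3, 2, 1, 0], [1, 2, 3, 4, 3, 2, 2, 0]])
    (by decide +kernel) (by decide +kernel) (N' := 60) (ks := [7, 0, 1, 6, 2, 4, 3, 5])
    (Es := [[(0, 0), (1, 0)], [(0, 0), (1, 0), (2, 0), (3, 0), (4, 0), (5, 0), (5, 0), (6, 0), (6, 0), (7, 0), (7, 0), (8, 0), (8, 0), (9, 0), (9, 0), (9, 0), (10, 0), (10, 0), (10, 0), (11, 0), (11, 0), (11, 0), (12, 0), (12, 0), (12, 0), (13, 0), (13, 0), (13, 0), (14, 0), (14, 0), (14, 0), (15, 0), (15, 0), (15, 0), (16, 0), (16, 0), (16, 0), (17, 0), (17, 0), (17, 0), (18, 0), (18, 0), (18, 0), (19, 0), (19, 0), (20, 0), (20, 0), (21, 0), (21, 0), (22, 0), (22, 0), (23, 0), (24, 0), (25, 0), (26, 0), (27, 0)], [(0,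 0), (1, 0), (2, 0), (3, 0), (4, 0), (4, 0), (5, 0), (5, 0), (6, 0), (6, 0), (7, 0), (7, 0), (8, 0), (8, 0), (8, 0), (9, 0), (9, 0), (10, 0), (10, 0), (11, 0), (11, 0), (12, 0), (12, 0), (13, 0), (14, 0), (15, 0), (16, 0)], [(0, 0), (1, 0), (2, 0), (3, 0), (4, 0), (4, 0), (5, 0), (6, 0), (7, 0), (8, 0)], [(0, 0), (1, 0), (2, 0), (3, 0), (3, 0), (4, 0), (5, 0), (6, 0)], [(0, 0), (1, 0), (2, 0), (3, 0)], [(0, 0), (1, 0), (2, 0)], [(0, 0), (1, 0)]])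
    (by decide +kernel) (by decide) (by rw [hz]; rfl) ht
  refine ⟨h1, h2.trans (congrArg _ ?_)⟩
  have hq := A.frob.one_lt.le
  have := fun k => Nat.one_le_pow k q hq
  simp only [evalE, List.map_cons, List.map_nil, List.sum_cons, List.sum_nil, List.prod_cons, List.prod_nil,
    show chevE8.rank = 8 from rfl]
  zify [this, hq]
  ring

theorem matHom_bijective_G2 {C : Type*} [CommGroup C] : Function.Bijective (matHom C (Matrix.of (rootSys chevG2).A)) := by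
  rw [of_A_eq_cartanMat, cartanMat_G2]
  exact matHom_bijective (κ := Fin 2) (P' := !![2, 3; 1, 2]) (by decide +kernel)

theorem matHom_bijective_F4 {C : Type*} [CommGroup C] : Function.Bijective (matHom C (Matrix.of (rootSys chevF4).A)) := by
  rw [of_A_eq_cartanMat, cartanMat_F4]
  exact matHom_bijective (κ := Fin 4) (P' := !![2, 3, 4, 2; 3, 6, 8, 4; 2, 4, 6, 3; 1, 2, 3, 2]) (by decide +kernel)

theorem matHom_bijective_E8 {C : Type*} [CommGroup C] : Function.Bijective (matHom C (Matrix.of (rootSys chevE8).A)) := by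
  rw [of_A_eq_cartanMat, cartanMat_E8]
  exact matHom_bijective (κ := Fin 8) (P' := !![4, 5, 7, 10, 8, 6, 4, 2; 5, 8, 10, 15, 12, 9, 6, 3; 7, 10, 14, 20, 16, 12, 8, 4;
    10, 15, 20, 30, 24, 18, 12, 6; 8, 12, 16, 24, 20, 15, 10, 5; 6, 9, 12, 18, 15, 12, 8, 4; 4, 6, 8, 12, 10, 8, 6, 3;
    2, 3, 4, 6, 5, 4, 3, 2]) (by decide +kernel)

theorem two_ne_zero_of_odd {F : Type*} [Field F] [Fintype F] (h : Odd (Fintype.card F)) : (2 : AlgebraicClosure F) ≠ 0 :=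
  fun e => by
    have h1 : (2 : F) = 0 := (algebraMap F (AlgebraicClosure F)).injective (by rw [map_ofNat, e, map_zero])
    obtain ⟨m, hm⟩ := h
    have h2 := FiniteField.cast_card_eq_zero F
    rw [hm] at h2
    push_cast at h2
    simp [h1] at h2

theorem orderOf_neg_one_units {K : Type*} [Field K] (h : (2 : K) ≠ 0) : orderOf (-1 : Kˣ) = 2 :=
  orderOf_eq_prime neg_one_sq fun e => h (by have := congrArg Units.val e; push_cast at this; linear_combination -this)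

end CL.Chev
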