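/-
CHEV library: local subgroups of groups twisted by `-1` over the field with two elements.
-/
import Cfsg.Agent.CHEV.SsInv
import Cfsg.Agent.CHEV.RootPair

set_option autoImplicit false

namespace CL.Chev

open Subgroup

section grp
variable {G : Type*} [Group G]

theorem not_isCoatom_normalizer [IsSimpleGroup G] {P L : Subgroup G}
    (h1 : normalizer (P : Set G) ≤ normalizer (L : Set G)) (h2 : L ≠ ⊤) (h3 : ¬ L ≤ normalizer (P : Set G)) :
    ¬ IsCoatom (normalizer (P : Set G)) := fun h => by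
  rcases h1.eq_or_lt with e | e
  · exact h3 (e ▸ le_normalizer)
  · rcases (normalizer_eq_top_iff.1 (h.2 _ e)).eq_bot_or_eq_top with rfl | e'
    exacts [h3 bot_le, h2 e']

variable {P : Subgroup G} (hP : ∀ x ∈ P, ∀ y ∈ P, x * y = y * x)
include hP

theorem mul_conj_mem_cent {a x : G} (ha : a ∈ normalizer (P : Set G)) (h2 : a * a = 1) (hx : x ∈ P) :
    x * (a * x * a⁻¹) ∈ P ⊓ centralizer {a} := by
  have h1 := (ha x).1 hx
  refine ⟨mul_mem hx h1, mem_centralizer_singleton_iff.2 ?_⟩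
  rw [hP _ hx _ h1, eq_comm, ← mul_inv_eq_iff_eq_mul, hP _ h1 _ hx]
  calc _ = a * x * a⁻¹ * (a * a * x * (a * a)⁻¹) := by group
    _ = _ := by rw [h2, ← hP _ h1 _ hx]; group

/-- an abelian group normalised by a four-group is generated by fixed points -/
theorem sq_mem_of_four {a b x : G} (ha : a ∈ normalizer (P : Set G)) (hb : b ∈ normalizer (P : Set G)) (h2 : a * a = 1)
    (h2' : b * b = 1) (hab : a * b = b * a) {A : Subgroup G} (h : P ⊓ centralizer {a} ≤ A) (h' : P ⊓ centralizer {b} ≤ A)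
    (h'' : P ⊓ centralizer {a * b} ≤ A) (hx : x ∈ P) : x ^ 2 ∈ A := by
  have h3 := mul_conj_mem_cent hP (mul_mem ha hb) (by rw [mul_assoc, ← mul_assoc b, ← hab, mul_assoc, h2', mul_one, h2])
    ((ha x).1 hx)
  rw [show a * b * (a * x * a⁻¹) * (a * b)⁻¹ = b * (a * a * x * (a * a)⁻¹) * b⁻¹ by rw [hab]; group, h2, one_mul, inv_one,
    mul_one] at h3
  have := mul_mem (mul_mem (h (mul_conj_mem_cent hP ha h2 hx)) (inv_mem (h'' h3))) (h' (mul_conj_mem_cent hP hb h2' hx))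
  have e1 := hP _ (inv_mem ((hb x).1 hx)) _ hx
  have e2 := hP _ (inv_mem ((hb x).1 hx)) _ ((ha x).1 hx)
  rwa [show x * (a * x * a⁻¹) * (a * x * a⁻¹ * (b * x * b⁻¹))⁻¹ * (x * (b * x * b⁻¹)) =
    x * (a * x * a⁻¹ * (b * x * b⁻¹)⁻¹ * (a * x * a⁻¹)⁻¹ * x * (b * x * b⁻¹)) by group, ← e2, mul_inv_cancel_right, e1,
    inv_mul_cancel_right, ← sq] at this

/-- the rank of an elementary abelian `2`-group acting faithfully on a group of order `p` or `p ^ 2` -/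
theorem card_le_of_faithful {p d : ℕ} (hp : p.Prime) (hp2 : p ≠ 2) (hd : d ≤ 2) (hc : Nat.card P = p ^ d) {V : Subgroup G}
    (hV : V ≤ normalizer (P : Set G)) (h2 : ∀ v ∈ V, v * v = 1) (hf : ∀ v ∈ V, v ∈ centralizer (P : Set G) → v = 1) :
    Nat.card V ≤ max 2 (2 ^ d) := by
  have : Finite P := Nat.finite_of_card_ne_zero (hc ▸ pow_ne_zero _ hp.ne_zero)
  have c1 : ∀ a ∈ V, ∀ b ∈ V, a * b = b * a := fun a ha b hb => by
    rw [← inv_eq_of_mul_eq_one_left (h2 _ (mul_mem ha hb)), mul_inv_rev, inv_eq_of_mul_eq_one_left (h2 a ha),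
      inv_eq_of_mul_eq_one_left (h2 b hb)]
  have c2 : ∀ s : Finset G, s.card < Nat.card V → ∃ v ∈ V, v ∉ s := fun s hs => by
    by_contra! e
    exact hs.not_ge (by rw [← Set.ncard_coe_finset s]; exact Set.ncard_le_ncard (show (V : Set G) ⊆ s from e))
  have c3 : ∀ a ∈ V, a ≠ 1 → ¬ P ≤ centralizer {a} := fun a ha h1 e =>
    h1 (hf a ha fun x hx => mem_centralizer_singleton_iff.1 (e hx))
  have c4 : ∀ a ∈ V, ∀ b ∈ V, ∀ A : Subgroup G, P ⊓ centralizer {a} ≤ A → P ⊓ centralizer {b} ≤ A →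
      P ⊓ centralizer {a * b} ≤ A → P ≤ A := fun a ha b hb A e1 e2 e3 x hx => by
    have h3 : x ^ p ^ d = 1 := by rw [← hc]; exact congrArg Subtype.val (pow_card_eq_one' (x := (⟨x, hx⟩ : P)))
    obtain ⟨k, hk⟩ := (hp.odd_of_ne_two hp2).pow (n := d)
    have := pow_mem (sq_mem_of_four hP (hV ha) (hV hb) (h2 a ha) (h2 b hb) (c1 a ha b hb) e1 e2 e3 hx) (k + 1)
    rwa [← pow_mul, show 2 * (k + 1) = p ^ d + 1 by omega, pow_succ, h3, one_mul] at this
  have c5 : ∀ a ∈ V, ∀ b ∈ V, a * b = 1 → b = a := fun a ha b hb e => mul_left_cancel (e.trans (h2 a ha).symm)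
  have c6 : ∀ A B : Subgroup G, A ≠ ⊥ → A ≤ B → B < P → d = 2 ∧ B ≤ A := fun A B h0 h1 h3 => by
    have := Finite.of_injective _ (inclusion_injective h3.le)
    have := Finite.of_injective _ (inclusion_injective h1)
    obtain ⟨i, -, hi⟩ := (Nat.dvd_prime_pow hp).1 (hc ▸ card_dvd_of_le h3.le)
    obtain ⟨j, -, hj⟩ := (Nat.dvd_prime_pow hp).1 (hi ▸ card_dvd_of_le h1)
    have a1 : i < d := (Nat.pow_lt_pow_iff_right hp.one_lt).1 (hi ▸ hc ▸ Set.ncard_lt_ncard (s := (B : Set G)) h3)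
    have a2 : j ≤ i := (Nat.pow_le_pow_iff_right hp.one_lt).1 (hi ▸ hj ▸ card_le_of_le h1)
    have a3 : j ≠ 0 := fun e => h0 (card_eq_one.1 (by rw [hj, e, pow_zero]))
    exact ⟨by omega, (eq_of_le_of_card_ge h1 (by rw [hi, hj, show i = j by omega])).ge⟩
  classical
  by_contra! hlt
  rw [max_lt_iff] at hlt
  by_cases h : ∀ a ∈ V, a ≠ 1 → P ⊓ centralizer {a} = ⊥
  · obtain ⟨a, ha, a1⟩ := c2 {1} (by simp; omega)
    obtain ⟨b, hb, b1⟩ := c2 {1, a} (Finset.card_le_two.trans_lt hlt.1)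
    simp only [Finset.mem_insert, Finset.mem_singleton, not_or] at a1 b1
    exact c3 a ha a1 ((c4 a ha b hb ⊥ (h a ha a1).le (h b hb b1.1).le
      (h _ (mul_mem ha hb) fun e => b1.2 (c5 a ha b hb e)).le).trans bot_le)
  push Not at h
  obtain ⟨a, ha, a1, hA⟩ := h
  have c7 : ∀ b ∈ V, b ≠ 1 → P ⊓ centralizer {b} < P := fun b hb h1 =>
    inf_le_left.lt_of_ne fun e => c3 b hb h1 (inf_eq_left.1 e)
  obtain rfl := (c6 _ _ hA le_rfl (c7 a ha a1)).1
  set A := P ⊓ centralizer {a}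
  have c8 : ∀ b ∈ V, b ≠ 1 → b ≠ a → ¬ A ≤ centralizer {b} := fun b hb h1 h3 e => by
    refine c3 a ha a1 ((c4 a ha b hb A le_rfl (c6 _ _ hA (le_inf inf_le_left e) (c7 b hb h1)).2
      (c6 _ _ hA (le_inf inf_le_left fun x hx => ?_) (c7 _ (mul_mem ha hb) fun e => h3 (c5 a ha b hb e))).2).trans inf_le_right)
    exact mem_centralizer_singleton_iff.2 (Commute.mul_right (mem_centralizer_singleton_iff.1 hx.2)
      (mem_centralizer_singleton_iff.1 (e hx)))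
  have c9 : ∀ b ∈ V, b ≠ 1 → b ≠ a → ∀ x ∈ A, b * x * b⁻¹ = x⁻¹ := fun b hb h1 h3 x hx => by
    have a2 : A ⊓ centralizer {b} = ⊥ := by_contra fun e =>
      c8 b hb h1 h3 ((c6 _ _ e inf_le_left (c7 a ha a1)).2.trans inf_le_right)
    refine eq_inv_of_mul_eq_one_right (mem_bot.1 (a2.le ⟨⟨mul_mem hx.1 ((hV hb x).1 hx.1), mul_mem hx.2 ?_⟩,
      (mul_conj_mem_cent hP (hV hb) (h2 b hb) hx.1).2⟩))
    exact mem_centralizer_singleton_iff.2 (Commute.mul_left (Commute.mul_left (c1 b hb a ha)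
      (mem_centralizer_singleton_iff.1 hx.2)) (Commute.inv_left (c1 b hb a ha)))
  obtain ⟨b, hb, b1⟩ := c2 {1, a} (Finset.card_le_two.trans_lt hlt.1)
  obtain ⟨c, hc', b2⟩ := c2 {1, a, b, b * a} (Finset.card_le_four.trans_lt hlt.2)
  simp only [Finset.mem_insert, Finset.mem_singleton, not_or] at b1 b2
  refine c8 (b * c) (mul_mem hb hc') (fun e => b2.2.2.1 (c5 b hb c hc' e)) (fun e => b2.2.2.2 ?_) fun x hx => ?_
  · rw [← e, ← mul_assoc, h2 b hb, one_mul]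
  · rw [mem_centralizer_singleton_iff, eq_comm, ← mul_inv_eq_iff_eq_mul, show b * c * x * (b * c)⁻¹ = b * (c * x * c⁻¹) * b⁻¹ by group,
      c9 c hc' b2.1 b2.2.1 x hx, c9 b hb b1.1 b1.2 _ (inv_mem hx), inv_inv]

end grp

/-- a group `G` covered by the fixed points of `τ`, with a central kernel of exponent three -/
structure Cov {Γ G1 G : Type*} [Group Γ] [Group G1] [Group G] (τ : Monoid.End Γ) (ψ : G1 →* Γ) (pr : G1 →* G) : Prop where
  inj : Function.Injective ψ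
  fix : ∀ y, y ∈ ψ.range ↔ τ y = y
  surj : Function.Surjective pr
  ker : ∀ z, pr z = 1 ↔ ψ z ∈ center Γ
  cube : ∀ z ∈ center Γ, z ^ 3 = 1
  cen : ∀ g, (∀ y, Commute g (ψ y)) → g ∈ center Γ

namespace Cov
variable {Γ G1 G : Type*} [Group Γ] [Group G1] [Group G] {τ : Monoid.End Γ} {ψ : G1 →* Γ} {pr : G1 →* G} (h : Cov τ ψ pr)
include h

theorem conj {n y : Γ} (e : n = y * (τ y)⁻¹) : Cov (twE n τ) ((MulAut.conj y).toMonoidHom.comp ψ) pr := by
  have a : ∀ g, y * g * y⁻¹ ∈ center Γ ↔ g ∈ center Γ := fun g => (inferInstance : (center Γ).Normal).mem_comm_iff.trans (by simp)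
  refine ⟨(MulAut.conj y).injective.comp h.inj, fun g => ?_, h.surj, fun z => (h.ker z).trans (a _).symm, h.cube,
    fun g hg => ?_⟩
  · obtain ⟨g, rfl⟩ := (MulAut.conj y).surjective g
    exact Iff.trans ⟨fun ⟨x, hx⟩ => ⟨x, (MulAut.conj y).injective hx⟩, fun ⟨x, hx⟩ => ⟨x, congrArg (MulAut.conj y) hx⟩⟩
      ((h.fix g).trans (twE_conj_iff e g).symm)
  · obtain ⟨g, rfl⟩ := (MulAut.conj y).surjective g
    exact (a g).2 (h.cen g fun x => (MulAut.conj y).injective (by rw [map_mul, map_mul]; exact (hg x).eq))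

theorem eq_of_pr {a b : G1} (e : pr a = pr b) : a ^ 3 = b ^ 3 := by
  have h1 := (h.ker (a⁻¹ * b)).1 (by simp [e])
  have h2 : Commute a (a⁻¹ * b) := h.inj (by simpa only [map_mul ψ a, map_mul ψ _ a] using mem_center_iff.1 h1 (ψ a))
  rw [← mul_inv_cancel_left a b, h2.mul_pow, h.inj (a₁ := (a⁻¹ * b) ^ 3) (a₂ := 1) (by rw [map_pow, h.cube _ h1, map_one]),
    mul_one]

theorem eq_of_pr' {a b : G1} (e : pr a = pr b) {n : ℕ} (hn : n.Coprime 3) (ha : a ^ n = 1) (hb : b ^ n = 1) : a = b := by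
  obtain ⟨i, j, hk⟩ := Nat.isCoprime_iff_coprime.2 hn
  have : ∀ x : G1, x ^ n = 1 → x = (x ^ 3) ^ j := fun x hx => by
    rw [← one_mul (_ ^ j), ← one_zpow i, ← hx, ← zpow_natCast, ← zpow_natCast, ← zpow_mul, ← zpow_mul, ← zpow_add,
      mul_comm _ i, mul_comm _ j, hk, zpow_one]
  rw [this a ha, this b hb, h.eq_of_pr e]

theorem mem_normalizer {P : Subgroup G1} {n : ℕ} (hn : n.Coprime 3) (hP : ∀ x ∈ P, x ^ n = 1) {g : G1}
    (hg : pr g ∈ normalizer (P.map pr : Set G)) : ψ g ∈ normalizer (P.map ψ : Set Γ) := by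
  have : ∀ g, pr g ∈ normalizer (P.map pr : Set G) → ∀ x ∈ P, g * x * g⁻¹ ∈ P := fun g hg x hx => by
    obtain ⟨y, hy, e⟩ := (hg _).1 (mem_map_of_mem pr hx)
    rwa [← h.eq_of_pr' (a := y) (b := g * x * g⁻¹) (by simpa using e) hn (hP y hy) (by rw [conj_pow, hP x hx]; simp)]
  exact le_normalizer_map ψ (mem_map_of_mem ψ fun x => ⟨this g hg x, fun hx => by
    simpa [mul_assoc] using this g⁻¹ (by simpa using hg) _ hx⟩)

end Cov

variable {ι κ : Type*} [Fintype κ] [DecidableEq κ] {R : RootSys ι κ}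

theorem RootSys.Phi_zpow {C : Type*} [CommGroup C] (t : κ → C) (k : ℤ) : R.Phi t ⊆ R.Phi (t ^ k) := fun r hr => by
  have : uchr (t ^ k) (R.wt r) = uchr t (R.wt r) ^ k := by
    simp only [uchr, Pi.pow_apply, ← Finset.prod_zpow, ← zpow_mul, mul_comm]
  exact this.trans (by rw [show uchr t (R.wt r) = 1 from hr, one_zpow])

namespace StData

variable {K Γ : Type*} [Field K] [Group Γ] {S : StData R K Γ} {φ : K →+* K} {σ τ : Monoid.End Γ} {c : Equiv.Perm ι}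

/-- `m` permutes the root elements -/
def Acts1 (S : StData R K Γ) (m : Γ) (w : Equiv.Perm ι) : Prop := w ∈ R.W ∧ ∀ s u, m * S.x s u * m⁻¹ = S.x (w s) u

theorem Acts1.acts {m : Γ} {w : Equiv.Perm ι} (h : S.Acts1 m w) : S.Acts m w :=
  ⟨h.1, fun _ => 1, by simp, by simpa using h.2⟩

theorem exists_acts1 (S : StData R K Γ) (h2 : (2 : K) = 0) {T : Set ι} (hT : ∀ r ∈ T, R.neg r ∈ T) {w : Equiv.Perm ι}
    (hw : w ∈ R.WS T) : ∃ m ∈ S.XS T, S.Acts1 m w := by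
  induction hw using Subgroup.closure_induction with
  | mem _ h =>
    obtain ⟨r, hr, rfl⟩ := h
    obtain ⟨ε, a1, -, -, a2⟩ := S.exists_n_conj r
    refine ⟨_, S.n_mem_XS hr (hT r hr) 1, R.refl_mem_W r, fun s u => (a2 s 1 u one_ne_zero).trans (congrArg _ ?_)⟩
    rcases a1 s with e | e <;> rw [e, one_zpow]
    · ring
    · linear_combination -u * h2
  | one => exact ⟨1, one_mem _, one_mem _, by simp⟩
  | mul _ _ _ _ h h' =>
    obtain ⟨m, h1, h2, h3⟩ := h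
    obtain ⟨m', h1', h2', h3'⟩ := h'
    exact ⟨_, mul_mem h1 h1', mul_mem h2 h2', fun s u => by rw [Equiv.Perm.mul_apply, ← h3, ← h3']; group⟩
  | inv w _ h =>
    obtain ⟨m, h1, h2, h3⟩ := h
    exact ⟨_, inv_mem h1, inv_mem h2, fun s u => by
      rw [← RootSys.perm_apply_inv w s, ← h3, RootSys.perm_inv_apply]; group⟩

theorem exists_acts1' (S : StData R K Γ) (h2 : (2 : K) = 0) {w : Equiv.Perm ι} (hw : w ∈ R.W) : ∃ m, S.Acts1 m w := by
  have : R.W ≤ R.WS Set.univ := (closure_le _).2 (by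
    rintro _ ⟨i, rfl⟩; exact R.refl_simple i ▸ RootSys.refl_mem_WS trivial)
  exact (S.exists_acts1 h2 (T := Set.univ) (fun _ _ => trivial) (this hw)).imp fun _ h => h.2

/-- a Frobenius map twisted by `-c` over the field with two elements -/
structure NegF (h3 : S.R3) (σ τ : Monoid.End Γ) (c : Equiv.Perm ι) : Prop where
  pow : ∃ m k, 0 < m ∧ 0 < k ∧ τ ^ m = σ ^ k
  W : c ∈ R.W
  x : ∀ r u, τ (S.x r u) = S.x (R.neg (c r)) (u ^ 2)
  tor : ∀ t, τ (h3.torHom t) = h3.torHom (R.act c t ^ 2)⁻¹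

theorem NegF.gf {h3 : S.R3} (h : NegF h3 σ τ c) : S.GF σ τ :=
  ⟨h.pow, fun r => ⟨_, 1, 2, one_ne_zero, by simpa using h.x r⟩, fun g hg => by
    obtain ⟨t, rfl⟩ := h3.range_torHom.ge hg
    rw [h.tor]; exact h3.torHom_mem _⟩

namespace Alg

variable (A : S.Alg φ 2 σ)

theorem negF_twE (h : NegF A.r3 σ τ c) {m : Γ} {w : Equiv.Perm ι} (hm : S.Acts1 m w) : NegF A.r3 σ (twE m τ) (w * c) :=
  ⟨A.twE_pow_eq h.pow m, mul_mem hm.1 h.W, fun r u => by rw [twE_apply, h.x, hm.2, RootSys.W_neg hm.1]; rfl, fun t => by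
    rw [twE_apply, h.tor, A.r3.conj_torHom hm.acts, RootSys.act_mul hm.1, map_inv, map_pow]⟩

variable [IsAlgClosed K] [Finite ι] (hl : ∀ r, R.Long r)
include hl

/-- the fixed points in the product of an orbit of commuting root subgroups -/
theorem exists_elem (h : NegF A.r3 σ τ c) {ρ : ι → ι} (hρ : ∀ r, R.neg (c r) = ρ r) {r : ι} {k : ℕ}
    (h1 : ρ^[k + 1] r = r) (h2 : ∀ i < k + 1, R.IsPos (ρ^[i] r))
    (h3 : ∀ i < k + 1, ∀ j < k + 1, 0 ≤ R.pair (ρ^[i] r) (ρ^[j] r)) (h4 : ∀ i < k, ρ^[i + 1] r ≠ r) :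
    ∃ V ≤ S.XS (Set.range fun i => ρ^[i] r) ⊓ fixS τ, Nat.card V = 2 ^ (k + 1) ∧ ∀ v ∈ V, v * v = 1 := by
  set T := Set.range fun i => ρ^[i] r
  have a1 : ∀ s ∈ T, ∃ i < k + 1, s = ρ^[i] r := by
    rintro _ ⟨i, rfl⟩
    exact ⟨_, Nat.mod_lt _ k.succ_pos, (Function.IsPeriodicPt.iterate_mod_apply h1 i).symm⟩
  have a2 : ∀ s ∈ T, ∀ s' ∈ T, R.NoComb s s' := fun s hs s' hs' => by
    obtain ⟨i, hi, rfl⟩ := a1 s hs
    obtain ⟨j, hj, rfl⟩ := a1 s' hs'
    exact (hl _).noComb (h3 i hi j hj)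
  have a0 : IsMulCommutative (S.XS T) := isMulCommutative_closure (by
    rintro _ ⟨s, hs, t, rfl⟩ _ ⟨s', hs', t', rfl⟩
    exact S.commute_of_not_isComb (a2 s hs s' hs').1 (a2 s hs s' hs').2 t t')
  let _ : CommGroup (S.XS T) := { (inferInstance : Group (S.XS T)) with mul_comm := a0.is_comm.comm }
  let y : ℕ → Multiplicative K →* S.XS T := fun i => MonoidHom.mk' (fun u => ⟨S.x (ρ^[i] r) ((φ ^ i) u.toAdd),
    S.x_mem_XS (Set.mem_range_self i) _⟩) fun u v => Subtype.ext (by simp [S.x_add])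
  have a3 : ∀ i u, τ (y i u) = y (i + 1) u := fun i u => by
    simp only [y, MonoidHom.mk'_apply, h.x, hρ, Function.iterate_succ_apply', pow_succ', RingHom.mul_def,
      RingHom.comp_apply, A.frob.apply]
  let τ' : S.XS T →* S.XS T := (MonoidHom.comp τ (S.XS T).subtype).codRestrict _ fun g =>
    (S.XS_le_iff (K := (S.XS T).comap τ)).2 (by
      rintro _ ⟨i, rfl⟩ u
      change τ _ ∈ S.XS T
      rw [h.x, hρ, ← Function.iterate_succ_apply' ρ]
      exact S.x_mem_XS (Set.mem_range_self _) _) g.2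
  let E := ((φ ^ (k + 1)).eqLocus (RingHom.id K)).toAddSubgroup
  let f : Multiplicative E →* S.XS T := (∏ i ∈ Finset.range (k + 1), y i).comp E.subtype.toMultiplicative
  have a4 : ∀ u, f u = ∏ i ∈ Finset.range (k + 1), y i (.ofAdd u.toAdd.1) := fun u => MonoidHom.finsetProd_apply ..
  refine ⟨((S.XS T).subtype.comp f).range, ?_, ?_, ?_⟩
  · rintro _ ⟨u, rfl⟩
    refine ⟨(f u).2, congrArg Subtype.val (show τ' (f u) = f u from ?_)⟩
    have a5 : y (k + 1) (.ofAdd u.toAdd.1) = y 0 (.ofAdd u.toAdd.1) := Subtype.ext (by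
      simp only [y, MonoidHom.mk'_apply, h1, toAdd_ofAdd]; exact congrArg _ u.toAdd.2)
    rw [a4, map_prod, ← mul_left_inj (y 0 (.ofAdd u.toAdd.1)), ← Finset.prod_congr rfl fun i _ => Subtype.ext (a3 i _).symm,
      ← Finset.prod_range_succ' fun i => y i _, Finset.prod_range_succ, a5]
  · rw [← Nat.card_congr (MonoidHom.ofInjective ?_).toEquiv]
    · exact (A.frob.pow k.succ_pos).card_fixed
    refine Subtype.val_injective.comp ((injective_iff_map_eq_one f).2 fun u hu => ?_)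
    rw [a4, Finset.prod_range_succ', mul_eq_one_iff_inv_eq] at hu
    refine Subtype.ext (A.good.indep_pos (r := r) (h2 0 k.succ_pos) (T := T \ {r}) (fun s hs => ?_)
      (fun s hs s' hs' m hm => absurd hm ((a2 s hs.1 s' hs'.1).2 m)) (fun e => e.2 rfl) ?_)
    · obtain ⟨i, hi, rfl⟩ := a1 s hs.1
      exact h2 i hi
    · have : y 0 (.ofAdd u.toAdd.1) ∈ (S.XS (T \ {r})).subgroupOf (S.XS T) := hu ▸ inv_mem (prod_mem fun i hi =>
        S.x_mem_XS (Set.mem_sdiff_of_mem (Set.mem_range_self (i + 1)) (h4 i (Finset.mem_range.1 hi))) _)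
      exact this
  · rintro _ ⟨u, rfl⟩
    rw [← map_mul, show u * u = 1 from Subtype.ext ?_, map_one]
    change u.toAdd.1 + u.toAdd.1 = 0
    linear_combination u.toAdd.1 * (A.frob.cast_eq_zero : ((2 : ℕ) : K) = 0)

omit [IsAlgClosed K] in
/-- the normaliser of a cyclic group of semisimple elements normalises the orthogonal subsystem group -/
theorem norm_cyclic (t : κ → Kˣ) {Ψ : Set ι} (hΨ : ∀ r, r ∈ Ψ ↔ ∀ s ∈ R.Phi t, R.pair s r = 0) :
    normalizer (zpowers (A.r3.torHom t) : Set Γ) ≤ normalizer (S.XS Ψ : Set Γ) := fun g hg => by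
  obtain ⟨k, hk⟩ := mem_zpowers_iff.1 ((hg _).1 (mem_zpowers _))
  obtain ⟨j, hj⟩ := mem_zpowers_iff.1 ((inv_mem hg _).1 (mem_zpowers _))
  rw [← map_zpow] at hk
  obtain ⟨w, hw, e⟩ := A.r3.exists_act_of_conj A.good A.sc (A.mem g) hk.symm
  obtain ⟨m, -, hm⟩ := S.exists_acts hw
  have a1 : (t ^ k) ^ j = t := A.sc (by rw [map_zpow, hk, conj_zpow, hj]; group)
  have a2 : ∀ r, w r ∈ R.Phi t ↔ r ∈ R.Phi t := fun r => by
    rw [← RootSys.mem_Phi_act hw (r := r), e]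
    exact ⟨fun h => RootSys.Phi_zpow t k h, fun h => a1 ▸ RootSys.Phi_zpow _ j h⟩
  have a3 : m⁻¹ * g ∈ centralizer {A.r3.torHom t} := mem_centralizer_singleton_iff.2 (by
    rw [← mul_inv_eq_iff_eq_mul, show m⁻¹ * g * A.r3.torHom t * (m⁻¹ * g)⁻¹ = m⁻¹ * (g * A.r3.torHom t * g⁻¹) * m by group,
      ← hk, ← e, ← A.r3.conj_torHom hm]; group)
  rw [A.centralizer_torHom] at a3
  rw [← mul_inv_cancel_left m g]
  refine mul_mem (hm.mem_normalizer_XS fun r => ?_) (sup_le (S.XS_le_normalizer (fun r hr s hs => ?_) fun r hr s hs k hk => ?_)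
    (S.H_le_normalizer_XS _) a3)
  · rw [hΨ, hΨ, ← w.forall_congr_right]
    simp only [a2, RootSys.W_pair hw]
  · exact ((hl r).noComb ((hΨ s).1 hs r hr).ge).1
  · exact absurd hk (((hl r).noComb ((hΨ s).1 hs r hr).ge).2 k)

omit hl [IsAlgClosed K] in
theorem mem_H_of_reg {t : κ → Kˣ} (h : R.Phi t = ∅) {g : Γ} (hg : Commute g (A.r3.torHom t)) : g ∈ S.H := by
  have := (A.centralizer_torHom t).le (mem_centralizer_singleton_iff.2 hg)
  rwa [h, S.XS_empty, bot_sup_eq] at this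

omit hl in
/-- the normaliser of a regular group of semisimple elements -/
theorem norm_reg (h : NegF A.r3 σ τ c) {P : Subgroup Γ} (hP : P ≤ S.H ⊓ fixS τ) {t1 t2 u : κ → Kˣ}
    (h1 : A.r3.torHom t1 ∈ P) (h2 : A.r3.torHom t2 ∈ P) (h3 : R.Phi u = R.Phi t1) (h4 : R.Phi (u * t2) = ∅) {Ψ : Set ι}
    (hΨ : ∀ w ∈ R.W, w * c = c * w → ∀ r, w r ∈ Ψ ↔ r ∈ Ψ) :
    normalizer (P : Set Γ) ≤ normalizer (S.XS Ψ : Set Γ) := fun g hg => by
  have a1 : ∀ y, (∀ x ∈ P, Commute y x) → y ∈ S.H := fun y hy => A.mem_H_of_reg h4 (by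
    rw [map_mul]
    refine Commute.mul_right (mem_centralizer_singleton_iff.1 ?_) (hy _ h2)
    rw [A.centralizer_torHom, h3, ← A.centralizer_torHom]
    exact mem_centralizer_singleton_iff.2 (hy _ h1))
  obtain ⟨t, ht⟩ := A.r3.range_torHom.ge (a1 (g * A.r3.torHom (u * t2) * g⁻¹) fun x hx => by
    have := A.r3.H_comm (A.r3.torHom_mem (u * t2)) (hP ((inv_mem hg x).1 hx)).1
    rw [Commute, SemiconjBy, ← mul_left_inj g, ← mul_right_inj g⁻¹]
    simpa [mul_assoc] using this)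
  obtain ⟨w, hw, e⟩ := A.r3.exists_act_of_conj A.good A.sc (A.mem g) ht.symm
  obtain ⟨m, -, hm⟩ := S.exists_acts hw
  have a3 : m⁻¹ * g ∈ S.H := A.mem_H_of_reg h4 (by
    rw [Commute, SemiconjBy, ← mul_inv_eq_iff_eq_mul, show m⁻¹ * g * A.r3.torHom (u * t2) * (m⁻¹ * g)⁻¹ =
      m⁻¹ * (g * A.r3.torHom (u * t2) * g⁻¹) * m by group, ← ht, ← e, ← A.r3.conj_torHom hm]; group)
  have a4 : S.Acts g w := by simpa using hm.mul (S.acts_of_mem_H a3)
  obtain ⟨n, -, hn⟩ := S.exists_acts (mul_mem (inv_mem (mul_mem hw h.W)) (mul_mem h.W hw))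
  refine a4.mem_normalizer_XS (hΨ w hw (inv_mul_eq_one.1 (A.good.acts_unique hn (S.acts_of_mem_H (a1 n fun x hx => ?_)))))
  obtain ⟨s, rfl⟩ := A.r3.range_torHom.ge (hP hx).1
  have a5 := mem_fixS.1 (hP ((hg _).1 hx)).2
  have a6 := mem_fixS.1 (hP hx).2
  rw [A.r3.conj_torHom a4] at a5
  rw [h.tor, A.sc.eq_iff] at a5 a6
  have a7 : R.act c (R.act w s) = R.act w (R.act c s) := by
    replace a5 := a5.trans (congrArg (R.act w) a6.symm)
    rw [map_inv, map_pow, inv_inj] at a5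
    funext i
    have := congrArg Units.val (congrFun a5 i)
    simp only [Pi.pow_apply, Units.val_pow_eq_pow_val, sq_eq_sq_iff_eq_or_eq_neg] at this
    refine Units.ext (this.elim id fun e => ?_)
    linear_combination e - ((R.act w (R.act c s) i : Kˣ) : K) * (A.frob.cast_eq_zero : ((2 : ℕ) : K) = 0)
  rw [Commute, SemiconjBy, ← mul_inv_eq_iff_eq_mul, A.r3.conj_torHom hn, RootSys.act_mul (inv_mem (mul_mem hw h.W)),
    RootSys.act_mul h.W, a7, ← RootSys.act_mul hw, RootSys.act_inv_act (mul_mem hw h.W)]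

/-- a local subgroup which is not maximal -/
theorem not_isCoatom (h : NegF A.r3 σ τ c) {G1 G : Type*} [Group G1] [Group G] [IsSimpleGroup G] {ψ : G1 →* Γ}
    {pr : G1 →* G} (hC : Cov τ ψ pr) {P : Subgroup G1} {p d : ℕ} (hp : p.Prime) (hp3 : 3 < p) (hd : d ≤ 2)
    (hc : Nat.card P = p ^ d) (hH : P.map ψ ≤ S.H) {s t : κ → Kˣ} (ht : A.r3.torHom t ∈ P.map ψ) (h0 : R.Phi (t * s) = ∅)
    (hN : normalizer (P.map ψ : Set Γ) ≤ normalizer (S.XS (R.Phi s) : Set Γ)) (hs : ∀ r ∈ R.Phi s, c r ∈ R.Phi s)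
    {r0 : ι} (hr0 : r0 ∉ R.Phi s) {v : Equiv.Perm ι} (hv : v ∈ R.W) (hvs : R.act v s = s) {ρ : ι → ι}
    (hρ : ∀ r, R.neg (v (c r)) = ρ r) {r : ι} (hr : r ∈ R.Phi s) {k : ℕ} (hk : d ≤ k) (hk' : 0 < k)
    (h1 : ρ^[k + 1] r = r) (h2 : ∀ i < k + 1, R.IsPos (ρ^[i] r))
    (h3 : ∀ i < k + 1, ∀ j < k + 1, 0 ≤ R.pair (ρ^[i] r) (ρ^[j] r)) (h4 : ∀ i < k, ρ^[i + 1] r ≠ r) :
    ¬ IsCoatom (normalizer (P.map pr : Set G)) := by
  have e2 : (2 : K) = 0 := A.frob.cast_eq_zero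
  have b0 : ∀ g ∈ S.XS (R.Phi s), Commute g (A.r3.torHom s) := fun g hg =>
    mem_centralizer_singleton_iff.1 ((A.centralizer_torHom s).ge (mem_sup_left hg))
  have b1 : ∀ g, pr g ∈ normalizer (P.map pr : Set G) → ψ g ∈ normalizer (P.map ψ : Set Γ) := fun g =>
    hC.mem_normalizer (n := p ^ d) (Nat.Coprime.pow_left _ ((Nat.coprime_primes hp Nat.prime_three).2 hp3.ne'))
      fun x hx => by rw [← hc]; exact congrArg Subtype.val (pow_card_eq_one' (x := (⟨x, hx⟩ : P)))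
  refine not_isCoatom_normalizer (L := ((S.XS (R.Phi s)).comap ψ).map pr) (fun g hg => ?_) (fun e => hr0 ?_) fun e => ?_
  · obtain ⟨g, rfl⟩ := hC.surj g
    exact le_normalizer_map pr (mem_map_of_mem pr (le_normalizer_comap ψ (hN (b1 g hg))))
  · refine (A.r3.x_comm_torHom_iff A.good s r0 one_ne_zero).1 (mul_inv_eq_iff_eq_mul.2
      (mem_center_iff.1 (hC.cen _ fun g => ?_) _).symm)
    obtain ⟨x, hx, e'⟩ := e.ge (mem_top (pr g))
    rw [← mul_inv_cancel_left x g, map_mul]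
    exact (b0 _ hx).symm.mul_right (mem_center_iff.1 ((hC.ker _).1 (by simp [e'])) _)
  have b2 := (RootSys.act_eq_iff (fun i => A.units_finOrder _) hv).1 hvs
  obtain ⟨m, hm, hm'⟩ := S.exists_acts1 e2 (fun _ => RootSys.neg_mem_Phi) b2
  obtain ⟨x, hx, ex⟩ := A.lang_XS h.pow (T := R.Phi s) (fun r hr => ⟨_, RootSys.neg_mem_Phi (hs r hr), 1, 2,
    by simpa using h.x r⟩) m hm
  obtain ⟨V, v1, v2, v3⟩ := A.exists_elem hl (A.negF_twE h hm') hρ h1 h2 h3 h4
  have b3 : S.XS (Set.range fun i => ρ^[i] r) ≤ S.XS (R.Phi s) := S.XS_mono (by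
    rintro _ ⟨i, rfl⟩
    induction i with
    | zero => exact hr
    | succ i ih =>
      simp only [Function.iterate_succ_apply', ← hρ] at ih ⊢
      exact RootSys.neg_mem_Phi ((RootSys.WS_mem_iff (RootSys.refl_mem_Phi s) b2 _).2 (hs _ ih)))
  have b4 : ∀ g ∈ V.comap (MulAut.conj x).toMonoidHom, g ∈ S.XS (R.Phi s) ∧ τ g = g ∧ g * g = 1 := fun g hg =>
    ⟨by simpa [mul_assoc] using mul_mem (mul_mem (inv_mem hx) (b3 (v1 hg).1)) hx, (twE_conj_iff ex g).1 (v1 hg).2,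
      (MulAut.conj x).injective (by rw [map_mul, map_one]; exact v3 _ hg)⟩
  have b5 := card_le_of_faithful (P := P.map ψ) (fun a ha b hb => A.r3.H_comm (hH ha) (hH hb)) hp (by omega) hd
    ((card_map_of_injective hC.inj).trans hc) (V := V.comap (MulAut.conj x).toMonoidHom) (fun g hg => ?_)
    (fun g hg => (b4 g hg).2.2) fun g hg hg' => ?_
  · rw [comap_equiv_eq_map_symm', card_map_of_injective (MulAut.conj x).symm.injective, v2, le_max_iff] at b5
    have := Nat.pow_le_pow_right two_pos hk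
    have := Nat.pow_le_pow_right two_pos hk'
    omega
  · obtain ⟨y, rfl⟩ := (hC.fix g).2 (b4 g hg).2.1
    exact b1 y (e (mem_map_of_mem pr (b4 _ hg).1))
  · have b6 := A.cast_orderOf_ne_zero (A.mem_H_of_reg h0 (g := g) (by
      rw [map_mul]; exact Commute.mul_right (hg' _ ht).symm (b0 g (b4 g hg).1)))
    by_contra e1
    have := Fact.mk Nat.prime_two
    exact b6 (by rw [orderOf_eq_prime (p := 2) (by rw [sq]; exact (b4 g hg).2.2) e1]; exact e2)

omit hl [IsAlgClosed K] in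
/-- the centraliser of a semisimple element whose subsystem group is split -/
theorem exists_mul_of_comm (h : NegF A.r3 σ τ c) {t : κ → Kˣ} (ht : ∀ r ∈ R.Phi t, R.neg (c r) = r) {g : Γ}
    (h1 : τ g = g) (h2 : Commute g (A.r3.torHom t)) : ∃ a ∈ centralizer {A.r3.torHom t} ⊓ fixS σ, τ a = a ∧
      ∃ s, τ (A.r3.torHom s) = A.r3.torHom s ∧ g = a * A.r3.torHom s := by
  have a1 : ∀ y ∈ S.XS (R.Phi t), τ y = σ y := (S.XS_le_iff (K := MonoidHom.eqLocus τ σ)).2 fun r hr u => by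
    change τ _ = σ _
    rw [h.x, ht r hr, A.fe, A.frob.apply]
  have a2 : ∀ y ∈ S.XS (R.Phi t), σ y ∈ S.XS (R.Phi t) := (S.XS_le_iff (K := (S.XS _).comap σ)).2 fun r hr u => by
    change σ _ ∈ S.XS _
    rw [A.fe]; exact S.x_mem_XS hr _
  obtain ⟨a, ha, b, hb, rfl⟩ := (CL.mem_sup_of_le_normalizer' (S.H_le_normalizer_XS _)).1
    ((A.centralizer_torHom t).le (mem_centralizer_singleton_iff.2 h2))
  obtain ⟨s, rfl⟩ := A.r3.range_torHom.ge hb
  rw [map_mul, h.tor] at h1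
  set u := (R.act c s ^ 2)⁻¹ * s⁻¹ with hu
  have a3 : A.r3.torHom u = (τ a)⁻¹ * a := by
    rw [map_mul, map_inv _ s, mul_inv_eq_iff_eq_mul, mul_assoc, ← h1, inv_mul_cancel_left]
  have a4 : A.r3.torHom u ∈ S.XS (R.Phi t) := a3 ▸ mul_mem (inv_mem (a1 a ha ▸ a2 a ha)) ha
  have a5 : τ (A.r3.torHom u) = A.r3.torHom u ^ 2 := by rw [a1 _ a4, A.map_torHom, map_pow]
  have a6 : τ (a * A.r3.torHom u) = a * A.r3.torHom u := by
    rw [map_mul, a5, sq, ← mul_assoc, a3, mul_inv_cancel_left]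
  refine ⟨_, ⟨(A.centralizer_torHom t).ge (mem_sup_left (mul_mem ha a4)), (a1 _ (mul_mem ha a4)).symm.trans a6⟩, a6,
    u⁻¹ * s, ?_, by simp [mul_assoc]⟩
  rw [map_mul, map_mul, map_inv, map_inv, a5, h.tor, ← map_pow, ← map_inv, ← map_inv, ← map_mul, ← map_mul]
  congr 1
  rw [show (R.act c s ^ 2)⁻¹ = u * s by simp [hu], sq]; group

end Alg

end StData

end CL.Chev
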