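/-
CHEV library: the group `²E₆(2)` covered by the fixed points of a Frobenius map twisted by a Weyl group element.
-/
import Cfsg.Agent.CHEV.SsLoc
import Cfsg.Agent.CHEV.SpecTw
import Cfsg.Agent.CHEV.TwE6
import Cfsg.Agent.CHEV.E62Y

set_option autoImplicit false

namespace CL.E62

open CL.M4 CL.K CL.CG Cfsg.Lie CL.Chev Subgroup Matrix

theorem dec_map {K L : Type*} [Field K] [Field L] [CharP K 2] [CharP L 2] (f : K →+* L) (ω : K) (n c : ℕ) :
    (dec ω n c).map f = dec (f ω) n c := by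
  have : ∀ b, f (bK K b) = bK L b := fun b => by cases b <;> simp
  ext i j
  simp only [map_apply, dec_apply, map_add, map_mul, this]

/-- the nodes of the diagram -/
abbrev I6 := Fin chevE6.rank

/-- the Weyl group element of a word -/
def ww (l : List I6) : Equiv.Perm (Rt chevE6) := (l.map (rootSys chevE6).sp).prod

theorem ww_mem (l : List I6) : ww l ∈ (rootSys chevE6).W := (rootSys chevE6).mem_W_iff.2 ⟨l, rfl⟩

theorem ww_apply (l : List I6) (r : Rt chevE6) : ww l r = piL l r := piL_eq l r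

theorem coM_ww (l : List I6) : (rootSys chevE6).coM (ww l) = corM (piL l) := by
  rw [← corM_eq, ← funext (ww_apply l)]; rfl

/-- the longest element -/
def l0 : List I6 := ([0, 2, 3, 4, 5, 1, 3, 4, 2, 3, 0, 2, 1, 3, 4, 5, 1, 3, 4, 2, 3, 0, 2, 1, 3, 4, 2, 3, 0, 2, 1, 3,
  0, 2, 1, 0] : List (Fin 6))

theorem l0_chk : (∀ r : Rt chevE6, twE6.ρ r = ng (piL l0 r)) ∧
    corM (piL l0) = of fun j i => if j = permE6.symm i then -1 else 0 := by decide +kernel

theorem long (r : Rt chevE6) : (rootSys chevE6).Long r := fun k => by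
  have : ∀ r : Rt chevE6, len r = 1 := by decide +kernel
  rw [rootSys_len, rootSys_len, this, this]

variable {K : Type*} [Field K] [Fintype K]

theorem exists_model (hK : Fintype.card K = 4) (l : List I6) :
    ∃ (φ : AlgebraicClosure K →+* AlgebraicClosure K) (A : (stS chevE6 _).Alg φ 2 (stField chevE6 φ))
      (τ : Monoid.End (chevE6.SteinbergGroup (AlgebraicClosure K))) (G1 : Subgroup (chevE6.SteinbergGroup K))
      (ψ : G1 →* chevE6.SteinbergGroup (AlgebraicClosure K)) (pr : G1 →* twistedE6 K 2),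
      StData.NegF A.r3 (stField chevE6 φ) τ (ww l) ∧ Cov τ ψ pr := by
  have hF : Nat.card K = 2 ^ 2 := by rw [Nat.card_eq_fintype_card, hK]; rfl
  have := charP_of_natCard Nat.prime_two hF
  have e2 := CharP.cast_eq_zero (AlgebraicClosure K) 2
  obtain ⟨T, h, hM, hgen⟩ := exists_twist_E6 Nat.prime_two.isPrimePow hF
  obtain ⟨φ, σ, G1, ψ, pr, hφ, -, rfl, -, -, a3, a4, a5, a6, a7, -⟩ := exists_cover_graph (by simp) scRep_E6 okE6 okE6
    (fun _ => rfl) Nat.prime_two.isPrimePow hF two_pos (by simp only [funext okE6_piF]; decide) T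
    (fun i => (h.π i).trans (okE6_piF i).symm) h.f hM hgen (fun t => h.tau_mem stG_good hM stG_adjoint)
  have A := alg_stS (D := chevE6) (by simp) hφ
  have b1 : StData.NegF A.r3 (stField chevE6 φ) (okE6.twF φ) (ww l0) := by
    refine ⟨(okE6.gf (fun _ => rfl) hφ A two_pos okE6_piF (by simp only [funext okE6_piF]; decide)).pow, ww_mem _,
      fun r u => ?_, fun t => ?_⟩
    · rw [okE6.twF_x fun _ => rfl, hφ.apply, ww_apply]
      refine congrArg₂ _ (Fin.ext (l0_chk.1 r)) ?_
      rcases (okE6 (K := K)).c_cases r with e | e <;> rw [e] <;> push_cast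
      · ring
      · linear_combination -u ^ 2 * e2
    · refine (okE6.twF_torHom (fun _ => rfl) hφ okE6_piF t).trans (congrArg _ (funext fun i => ?_))
      simp [RootSys.act, coM_ww, matHom_apply, l0_chk.2]
  have b2 : Cov (okE6.twF φ) ψ pr := by
    refine ⟨a3, a4, a5, fun z => ⟨a6 z, fun hz => jG_injective _ (fieldHom_injective (algebraMap K (AlgebraicClosure K)) ?_)⟩,
      fun z hz => ?_, fun g hg => ?_⟩
    · rw [← a7, map_one, map_one]; exact ker_thetaS.ge hz
    · obtain ⟨t, ht, rfl⟩ := (A.r3.center_eq A.good A.top).le hz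
      exact (map_pow _ _ _).symm.trans ((congrArg _ (pow_eq_one_of_mem_ker (B := (!![4, 3, 5, 6, 4, 2; 3, 6, 6, 9, 6, 3;
        5, 6, 10, 12, 8, 4; 6, 9, 12, 18, 12, 6; 4, 6, 8, 12, 10, 5; 2, 3, 4, 6, 5, 4] : Matrix (Fin 6) (Fin 6) ℤ))
        (by rw [h.A]; decide +kernel) ht)).trans (map_one _))
    obtain ⟨ω, hω⟩ := CL.F4.exists_root hK
    obtain ⟨y, hy⟩ := exists_y hω
    set f := algebraMap K (AlgebraicClosure K)
    set Y := rho _ hn (thetaS chevE6 _ g).1 with hY
    have h2 : ∀ v : List ℕ, (∀ i ∈ v, i < 10) → Commute Y (dec (f ω) 78 (wd yc v)) := fun v hv => by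
      obtain ⟨x, hx⟩ := a5 (v.map y).prod
      rw [← dec_map, ← rh_wd hω hy hv, ← hx]
      have := ((hg x).map (thetaS chevE6 _)).map ((rho _ hn).comp (chevE6.group _).subtype)
      rw [a7] at this
      exact this
    have h3 : ∀ a b c : List ℕ, (∀ i ∈ a ++ (b ++ c), i < 10) → Commute Y (dec (f ω) 78 (s3 a b c)) := fun a b c h => by
      simp only [List.forall_mem_append] at h
      rw [s3, dec_xor, dec_xor]
      exact (h2 a h.1).add_right ((h2 b h.2.1).add_right (h2 c h.2.2))
    obtain ⟨c, hc⟩ := scalar_of_certB ok (by simpa using congrArg f hω) cert (h3 _ _ _ (by decide)) (h3 _ _ _ (by decide))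
    refine ker_thetaS.le (center_group_eq_bot.le (mem_center_iff.2 fun x => Subtype.ext (rho_injective hn ?_)))
    simp [← hY, hc]
  obtain ⟨m, hm⟩ := (stS chevE6 _).exists_acts1' e2 (mul_mem (ww_mem l) (inv_mem (ww_mem l0)))
  obtain ⟨y, hy⟩ := A.lang b1.gf m
  exact ⟨φ, A, _, G1, _, pr, by simpa using A.negF_twE b1 hm, b2.conj hy⟩

end CL.E62
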