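/-
CHEV library: semisimple subgroups of `²E₆(2)` and their normalisers, reduced to finite checks.
-/
import Cfsg.Agent.CHEV.E62Mod
import Cfsg.Agent.S1066
import Cfsg.Agent.S1070

set_option autoImplicit false

namespace CL.Chev.Cov

open Subgroup

variable {Γ G1 G : Type*} [Group Γ] [Group G1] [Group G] {τ : Monoid.End Γ} {ψ : G1 →* Γ} {pr : G1 →* G} (h : Cov τ ψ pr)
  {T : Subgroup Γ} (hT : T ≤ fixS τ)
include h hT

theorem map_comap : (T.comap ψ).map ψ = T := map_comap_eq_self fun y hy => (h.fix y).2 (hT hy)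

theorem card_comap : Nat.card (T.comap ψ) = Nat.card T := by
  rw [← card_map_of_injective h.inj, h.map_comap hT]

theorem card_map (hc : (Nat.card T).Coprime 3) : Nat.card ((T.comap ψ).map pr) = Nat.card T := by
  have : ∀ x : T.comap ψ, x.1 ^ Nat.card T = 1 := fun x => h.card_comap hT ▸ congrArg Subtype.val (pow_card_eq_one' (x := x))
  rw [← h.card_comap hT, ← range_subtype (T.comap ψ), MonoidHom.map_range, range_subtype]
  exact Nat.card_congr (MonoidHom.ofInjective fun a b e => Subtype.ext (h.eq_of_pr' e hc (this a) (this b))).toEquiv.symm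

theorem exists_conj_le [Finite G] {p d : ℕ} (hp : p.Prime) (hp3 : p ≠ 3) (hc : Nat.card T = p ^ d)
    (hG : ¬ p ^ (d + 1) ∣ Nat.card G) {P : Subgroup G} (hP : IsPGroup p P) :
    ∃ x : G, ∃ T' ≤ T, P.map (MulAut.conj x).toMonoidHom = (T'.comap ψ).map pr := by
  have := Fact.mk hp
  have h1 := (h.card_map hT (hc ▸ ((Nat.coprime_primes hp Nat.prime_three).2 hp3).pow_left d)).trans hc
  obtain ⟨S, hS⟩ := (IsPGroup.of_card h1).exists_le_sylow
  obtain ⟨S', hS'⟩ := hP.exists_le_sylow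
  obtain ⟨x, rfl⟩ := MulAction.exists_smul_eq G S' S
  obtain ⟨k, hk⟩ := (x • S').2.exists_card_eq
  have h2 : P.map (MulAut.conj x).toMonoidHom ≤ (T.comap ψ).map pr := (map_mono hS').trans (eq_of_le_of_card_ge hS (by
    rw [h1, hk]
    exact Nat.pow_le_pow_right hp.pos (Nat.le_of_not_lt fun e => hG ((pow_dvd_pow p e).trans (hk ▸ card_subgroup_dvd_card _))))).ge
  refine ⟨x, ((P.map (MulAut.conj x).toMonoidHom).comap pr ⊓ T.comap ψ).map ψ, map_le_iff_le_comap.2 inf_le_right, ?_⟩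
  rw [comap_map_eq_self_of_injective h.inj]
  refine le_antisymm (fun y hy => ?_) (map_le_iff_le_comap.2 inf_le_left)
  obtain ⟨g, hg, rfl⟩ := h2 hy
  exact ⟨g, ⟨hy, hg⟩, rfl⟩

theorem not_isCoatom [Finite G] {p d : ℕ} (hp : p.Prime) (hp3 : p ≠ 3) (hc : Nat.card T = p ^ d)
    (hG : ¬ p ^ (d + 1) ∣ Nat.card G) (hd : d ≤ 2) (h1 : ¬ IsCoatom (normalizer ((T.comap ψ).map pr : Set G)))
    (h2 : d = 2 → ∀ g ∈ T, orderOf g = p → ¬ IsCoatom (normalizer (((zpowers g).comap ψ).map pr : Set G)))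
    {P : Subgroup G} (hP : IsPGroup p P) (hP1 : P ≠ ⊥) : ¬ IsCoatom (normalizer (P : Set G)) := by
  have := Fact.mk hp
  obtain ⟨x, T', h3, e⟩ := h.exists_conj_le hT hp hp3 hc hG hP
  rw [← (MulAut.conj x).mapSubgroup.isCoatom_iff, show (MulAut.conj x).mapSubgroup _ = _ from
    map_equiv_normalizer_eq P (MulAut.conj x), e]
  have : Finite T := Nat.finite_of_card_ne_zero (hc ▸ pow_ne_zero _ hp.ne_zero)
  have := Finite.of_injective _ (inclusion_injective h3)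
  obtain ⟨i, hi, h4⟩ := (Nat.dvd_prime_pow hp).1 (hc ▸ card_dvd_of_le h3)
  rcases hi.eq_or_lt with rfl | hi
  · rwa [eq_of_le_of_card_ge h3 (hc.trans h4.symm).le]
  have h5 : i ≠ 0 := by
    rintro rfl
    rw [card_eq_one.1 h4, MonoidHom.comap_bot, (MonoidHom.ker_eq_bot_iff _).2 h.inj, Subgroup.map_bot,
      map_eq_bot_iff_of_injective _ (MulAut.conj x).injective] at e
    exact hP1 e
  obtain rfl : i = 1 := by omega
  rw [pow_one] at h4
  obtain ⟨g, hg⟩ := exists_prime_orderOf_dvd_card' (G := T') p h4.symm.dvd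
  rw [← orderOf_coe] at hg
  rw [← eq_of_le_of_card_ge (zpowers_le.2 g.2) (by rw [Nat.card_zpowers, hg, h4])]
  exact h2 (by omega) _ (h3 g.2) hg

end CL.Chev.Cov

namespace CL.E62

open Cfsg.Lie CL.Chev Subgroup Matrix

/-- the value of a root on a coroot vector -/
def evI (a : I6 → ℤ) (r : Rt chevE6) : ℤ := a ⬝ᵥ wtv r

/-- the Cartan integers -/
def pp (r s : Rt chevE6) : ℤ := (Good.C chevE6).pairF chevE6.rank r s

theorem pair_eq (r s : Rt chevE6) : (rootSys chevE6).pair r s = pp r s := by rw [rootSys_pair, A_eq_pairF, pp]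

/-- the torus element `a` of exponent `n` is fixed by the twisted Frobenius map -/
def FixChk (l : List I6) (n : ℕ) (a : I6 → ℤ) : Prop := ∀ i, (n : ℤ) ∣ a i + (a ᵥ* corM (piL l)) i * 2

/-- moreover it has order `p` -/
def OrdChk (l : List I6) (n p : ℕ) (a : I6 → ℤ) : Prop := FixChk l n a ∧ (∀ i, (n : ℤ) ∣ p * a i) ∧ ¬ ∀ i, (n : ℤ) ∣ a i

/-- the data of a subsystem subgroup which does not normalise the group of semisimple elements -/
def LocChk (l : List I6) (n : ℕ) (a b : I6 → ℤ) (v : List I6) (r0 r : Rt chevE6) (k : ℕ) : Prop :=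
  (∀ s, ¬ (n : ℤ) ∣ evI (a + b) s) ∧ (∀ s, (n : ℤ) ∣ evI b s → (n : ℤ) ∣ evI b (piL l s)) ∧ ¬ (n : ℤ) ∣ evI b r0 ∧
  (∀ i, (n : ℤ) ∣ (b ᵥ* corM (piL v)) i - b i) ∧ (n : ℤ) ∣ evI b r ∧ 0 < k ∧
  (fun s => ng (piL v (piL l s)))^[k + 1] r = r ∧ (∀ i < k + 1, 36 ≤ ((fun s => ng (piL v (piL l s)))^[i] r).1) ∧
  (∀ i < k + 1, ∀ j < k + 1, 0 ≤ pp ((fun s => ng (piL v (piL l s)))^[i] r) ((fun s => ng (piL v (piL l s)))^[j] r)) ∧
  ∀ i < k, (fun s => ng (piL v (piL l s)))^[i + 1] r ≠ r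

/-- the cyclic case -/
def CycChk (l : List I6) (n : ℕ) (a b : I6 → ℤ) (v : List I6) (r0 r : Rt chevE6) : Prop :=
  LocChk l n a b v r0 r 1 ∧ ∀ r, (n : ℤ) ∣ evI b r ↔ ∀ s, (n : ℤ) ∣ evI a s → pp s r = 0

/-- the regular case -/
def RegChk (l : List I6) (n : ℕ) (a' u a b : I6 → ℤ) (e f : ℕ) (δ : ℤ) (v : List I6) (r0 r : Rt chevE6) (k : ℕ) : Prop :=
  LocChk l n a b v r0 r k ∧ (∀ r, (n : ℤ) ∣ evI u r ↔ (n : ℤ) ∣ evI a' r) ∧ (∀ r, ¬ (n : ℤ) ∣ evI (u + a) r) ∧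
  ∀ r, (n : ℤ) ∣ evI b r ↔ pp r ((piL l)^[e] r) = pp r ((piL l)^[f] r) + δ

instance (l : List I6) (n : ℕ) (a : I6 → ℤ) : Decidable (FixChk l n a) := by unfold FixChk; infer_instance
instance (l : List I6) (n p : ℕ) (a : I6 → ℤ) : Decidable (OrdChk l n p a) := by unfold OrdChk; infer_instance
instance (l : List I6) (n : ℕ) (a b : I6 → ℤ) (v : List I6) (r0 r : Rt chevE6) (k : ℕ) :
    Decidable (LocChk l n a b v r0 r k) := by unfold LocChk; infer_instance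
instance (l : List I6) (n : ℕ) (a b : I6 → ℤ) (v : List I6) (r0 r : Rt chevE6) : Decidable (CycChk l n a b v r0 r) := by
  unfold CycChk; infer_instance
instance (l : List I6) (n : ℕ) (a' u a b : I6 → ℤ) (e f : ℕ) (δ : ℤ) (v : List I6) (r0 r : Rt chevE6) (k : ℕ) :
    Decidable (RegChk l n a' u a b e f δ v r0 r k) := by unfold RegChk; infer_instance

/-- vectors -/
def vv (a : List ℤ) : I6 → ℤ := fun i => a.getD i 0

/-- words -/
def ll (a : List ℕ) : List I6 := a.map fun i => (Fin.ofNat 6 i : Fin 6)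

/-- roots -/
def rr (a : ℕ) : Rt chevE6 := (Fin.ofNat 72 a : Fin 72)

theorem zpowers_eq {G : Type*} [Group G] {p : ℕ} (hp : p.Prime) {x y : G} (hx : orderOf x = p) (h : y ∈ zpowers x)
    (hy : y ≠ 1) : zpowers y = zpowers x := by
  have : Finite (zpowers x) := Nat.finite_of_card_ne_zero (by rw [Nat.card_zpowers, hx]; exact hp.ne_zero)
  refine eq_of_le_of_card_ge (zpowers_le.2 h) ?_
  rw [Nat.card_zpowers, Nat.card_zpowers, hx, ((Nat.dvd_prime hp).1 (hx ▸ orderOf_dvd_of_mem_zpowers h)).resolve_left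
    (mt orderOf_eq_one_iff.1 hy)]

theorem card_eq {K : Type*} [Field K] [Fintype K] (hK : Fintype.card K = 4) :
    Nat.card (twistedE6 K 2) = 2 ^ 36 * 3 ^ 9 * 5 ^ 2 * 7 ^ 2 * 11 * 13 * 17 * 19 := by
  have := Cfsg.Agent.S1066.result Nat.prime_two.isPrimePow hK
  norm_num at this ⊢
  omega

section
variable {C : Type*} [CommGroup C]

theorem card_sup {p : ℕ} (hp : p.Prime) {x y : C} (hx : orderOf x = p) (hy : orderOf y = p) (h : x ∉ zpowers y) :
    Nat.card ↥(zpowers x ⊔ zpowers y) = p ^ 2 ∧ ∀ t ∈ zpowers x ⊔ zpowers y, ∃ i < p, ∃ j < p, t = x ^ i * y ^ j := by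
  classical
  have a : ∀ {x : C}, orderOf x = p → ∀ t ∈ zpowers x, ∃ i < p, x ^ i = t := fun hx t ht => by
    simpa [hx] using (isOfFinOrder_iff_pow_eq_one.2 ⟨p, hp.pos, hx ▸ pow_orderOf_eq_one _⟩
      |>.mem_zpowers_iff_mem_range_orderOf).1 ht
  refine ⟨?_, fun t ht => ?_⟩
  · have := Nat.card_congr (MonoidHom.ofInjective ((MonoidHom.noncommCoprod_injective (zpowers x).subtype (zpowers y).subtype
      fun _ _ => Commute.all ..).2 ⟨subtype_injective _, subtype_injective _, by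
        rw [range_subtype, range_subtype, disjoint_def]
        exact fun h1 h2 => by_contra fun e => h (zpowers_le.2 h2 ((zpowers_eq hp hx h1 e).ge (mem_zpowers x)))⟩)).toEquiv
    rw [MonoidHom.noncommCoprod_range, range_subtype, range_subtype, Nat.card_prod, Nat.card_zpowers, Nat.card_zpowers,
      hx, hy] at this
    rw [← this, sq]
  · obtain ⟨u, hu, v, hv, rfl⟩ := mem_sup.1 ht
    obtain ⟨i, hi, rfl⟩ := a hx u hu
    obtain ⟨j, hj, rfl⟩ := a hy v hv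
    exact ⟨i, hi, j, hj, rfl⟩

/-- a torus element with coordinates in a cyclic group -/
def tz (z : C) (a : I6 → ℤ) : I6 → C := fun i => z ^ a i

theorem tz_add (z : C) (a b : I6 → ℤ) : tz z (a + b) = tz z a * tz z b := funext fun _ => zpow_add ..

theorem tz_smul (z : C) (k : ℤ) (a : I6 → ℤ) : tz z (k • a) = tz z a ^ k := funext fun i => by
  simp [tz, ← _root_.zpow_mul, mul_comm]

theorem act_tz (z : C) (l : List I6) (a : I6 → ℤ) : (rootSys chevE6).act (ww l) (tz z a) = tz z (a ᵥ* corM (piL l)) :=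
  coM_ww l ▸ RootSys.act_zpow_const ..

variable {z : C} {n : ℕ} (hz : orderOf z = n)
include hz

theorem tz_eq_iff {a b : I6 → ℤ} : tz z a = tz z b ↔ ∀ i, (n : ℤ) ∣ a i - b i := by
  simp only [funext_iff, tz, ← orderOf_dvd_sub_iff_zpow_eq_zpow, hz]

theorem tz_eq_one_iff {a : I6 → ℤ} : tz z a = 1 ↔ ∀ i, (n : ℤ) ∣ a i := by
  simp only [funext_iff, tz, Pi.one_apply, ← orderOf_dvd_iff_zpow_eq_one, hz]

theorem mem_Phi {a : I6 → ℤ} {r : Rt chevE6} : r ∈ (rootSys chevE6).Phi (tz z a) ↔ (n : ℤ) ∣ evI a r := by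
  rw [evI, ← wt_eq_wtv, ← hz]; exact Set.ext_iff.1 (RootSys.Phi_zpow_const z a) r

theorem orderOf_tz {p : ℕ} (hp : p.Prime) {a : I6 → ℤ} (h1 : ∀ i, (n : ℤ) ∣ p * a i) (h2 : ¬ ∀ i, (n : ℤ) ∣ a i) :
    orderOf (tz z a) = p :=
  have := Fact.mk hp
  orderOf_eq_prime (by rw [← zpow_natCast, ← tz_smul, tz_eq_one_iff hz]; exact h1) (mt (tz_eq_one_iff hz).1 h2)

end

theorem exists_z {L : Type*} [Field L] [IsAlgClosed L] (h2 : ((2 : ℕ) : L) = 0) {n : ℕ} (hn : Odd n) :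
    ∃ z : Lˣ, orderOf z = n := by
  have : NeZero (n : L) := ⟨by obtain ⟨k, rfl⟩ := hn; rw [Nat.cast_add, Nat.cast_mul, h2]; simp⟩
  have : NeZero n := ⟨hn.pos.ne'⟩
  obtain ⟨ζ, hζ⟩ := HasEnoughRootsOfUnity.exists_primitiveRoot L n
  lift ζ to Lˣ using hζ.isUnit (NeZero.ne n)
  exact ⟨ζ, (IsPrimitiveRoot.coe_units_iff.1 hζ).eq_orderOf.symm⟩

variable {L Γ : Type*} [Field L] [Group Γ] {S : StData (rootSys chevE6) L Γ} {φ : L →+* L} {σ τ : Monoid.End Γ}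
  (A : S.Alg φ 2 σ) {l : List I6} (h : StData.NegF A.r3 σ τ (ww l)) {z : Lˣ} {n : ℕ} (hz : orderOf z = n)
include h hz

theorem fix_iff {a : I6 → ℤ} : τ (A.r3.torHom (tz z a)) = A.r3.torHom (tz z a) ↔ FixChk l n a := by
  rw [h.tor, A.sc.eq_iff, act_tz, inv_eq_iff_mul_eq_one, ← zpow_natCast, ← tz_smul, ← tz_add, tz_eq_one_iff hz]
  simp [FixChk, add_comm, mul_comm]

theorem ord {p : ℕ} (hp : p.Prime) {a : I6 → ℤ} (c : OrdChk l n p a) :
    zpowers (A.r3.torHom (tz z a)) ≤ S.H ⊓ fixS τ ∧ orderOf (A.r3.torHom (tz z a)) = p :=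
  ⟨zpowers_le.2 ⟨A.r3.torHom_mem _, (fix_iff A h hz).2 c.1⟩, (orderOf_injective _ A.sc _).trans (orderOf_tz hz hp c.2.1 c.2.2)⟩

theorem two {p : ℕ} (hp : p.Prime) {a b : I6 → ℤ} (ca : OrdChk l n p a) (cb : OrdChk l n p b) {r : Rt chevE6}
    (h1 : (n : ℤ) ∣ evI b r) (h2 : ¬ (n : ℤ) ∣ evI a r) : ∃ T ≤ S.H ⊓ fixS τ, Nat.card T = p ^ 2 ∧
      A.r3.torHom (tz z a) ∈ T ∧ A.r3.torHom (tz z b) ∈ T ∧
      ∀ g ∈ T, ∃ i < p, ∃ j < p, g = A.r3.torHom (tz z ((i : ℤ) • a + (j : ℤ) • b)) := by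
  obtain ⟨a1, a2⟩ := card_sup hp (orderOf_tz hz hp ca.2.1 ca.2.2) (orderOf_tz hz hp cb.2.1 cb.2.2) (by
    rintro ⟨k, hk⟩
    exact h2 ((mem_Phi hz).1 (hk ▸ RootSys.Phi_zpow _ k ((mem_Phi hz).2 h1))))
  refine ⟨map A.r3.torHom _, ?_, (card_map_of_injective A.sc).trans a1, mem_map_of_mem _ (mem_sup_left (mem_zpowers _)),
    mem_map_of_mem _ (mem_sup_right (mem_zpowers _)), ?_⟩
  · rw [Subgroup.map_sup, MonoidHom.map_zpowers, MonoidHom.map_zpowers]
    exact sup_le (ord A h hz hp ca).1 (ord A h hz hp cb).1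
  · rintro _ ⟨t, ht, rfl⟩
    simpa only [tz_add, tz_smul, zpow_natCast, A.sc.eq_iff] using a2 t ht

variable [IsAlgClosed L] {G1 G : Type*} [Group G1] [Group G] [IsSimpleGroup G] {ψ : G1 →* Γ} {pr : G1 →* G}
  (hC : Cov τ ψ pr) {p d : ℕ} (hp : p.Prime) (hp3 : 3 < p) {a b : I6 → ℤ} {v : List I6} {r0 r : Rt chevE6}
include hC hp hp3

theorem loc {T : Subgroup Γ} (hT : T ≤ S.H ⊓ fixS τ) (hd : d ≤ 2) (hc : Nat.card T = p ^ d) (ha : A.r3.torHom (tz z a) ∈ T)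
    (hN : normalizer (T : Set Γ) ≤ normalizer (S.XS ((rootSys chevE6).Phi (tz z b)) : Set Γ)) {k : ℕ} (hk : d ≤ k)
    (c : LocChk l n a b v r0 r k) : ¬ IsCoatom (normalizer ((T.comap ψ).map pr : Set G)) := by
  obtain ⟨c1, c2, c3, c4, c5, c6, c7, c8, c9, c10⟩ := c
  have e := hC.map_comap (hT.trans inf_le_right)
  refine A.not_isCoatom long h hC hp hp3 hd ((hC.card_comap (hT.trans inf_le_right)).trans hc) (e.trans_le (hT.trans inf_le_left))
    (e.ge ha) (Set.eq_empty_of_forall_notMem fun s => ?_) (by rwa [e]) (fun s => ?_) (mt (mem_Phi hz).1 c3) (ww_mem v)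
    ((act_tz ..).trans ((tz_eq_iff hz).2 c4)) (fun s => by rw [ww_apply, ww_apply]; rfl) ((mem_Phi hz).2 c5) hk c6 c7
    (fun i hi => (rootSys_isPos _).2 ((pos_iff_le _).2 (c8 i hi))) (fun i hi j hj => (pair_eq ..).ge.trans' (c9 i hi j hj))
    c10
  · rw [← tz_add, mem_Phi hz]; exact c1 s
  · rw [mem_Phi hz, mem_Phi hz, ww_apply]; exact c2 s

theorem cyc (c' : OrdChk l n p a) (c : CycChk l n a b v r0 r) :
    ¬ IsCoatom (normalizer (((zpowers (A.r3.torHom (tz z a))).comap ψ).map pr : Set G)) :=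
  loc A h hz hC hp hp3 (ord A h hz hp c').1 one_le_two (by rw [Nat.card_zpowers, (ord A h hz hp c').2, pow_one])
    (mem_zpowers _) (A.norm_cyclic long _ fun r => by simpa only [mem_Phi hz, pair_eq] using c.2 r) le_rfl c.1

theorem reg {T : Subgroup Γ} (hT : T ≤ S.H ⊓ fixS τ) (hd : d ≤ 2) (hc : Nat.card T = p ^ d) {a' u : I6 → ℤ}
    (ha' : A.r3.torHom (tz z a') ∈ T) (ha : A.r3.torHom (tz z a) ∈ T) {e f k : ℕ} {δ : ℤ} (hk : d ≤ k)
    (c : RegChk l n a' u a b e f δ v r0 r k) : ¬ IsCoatom (normalizer ((T.comap ψ).map pr : Set G)) := by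
  refine loc A h hz hC hp hp3 hT hd hc ha (A.norm_reg h hT ha' ha (u := tz z u) (Set.ext fun s => ?_)
    (Set.eq_empty_of_forall_notMem fun s => ?_) fun w hw hwc s => ?_) hk c.1
  · rw [mem_Phi hz, mem_Phi hz, c.2.1]
  · rw [← tz_add, mem_Phi hz]; exact c.2.2.1 s
  · have : ∀ m, pp (w s) ((piL l)^[m] (w s)) = pp s ((piL l)^[m] s) := fun m => by
      rw [← pair_eq, ← pair_eq, ← RootSys.W_pair hw s, ← funext (ww_apply l), ← Equiv.Perm.coe_pow,
        ← Equiv.Perm.mul_apply, ← (Commute.pow_right hwc m).eq, Equiv.Perm.mul_apply]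
    rw [mem_Phi hz, mem_Phi hz, c.2.2.2, c.2.2.2, this, this]

theorem one [Finite G] (c' : OrdChk l n p a) (hG : ¬ p ^ 2 ∣ Nat.card G)
    (c : CycChk l n a b v r0 r ∨ ∃ e f δ k, 1 ≤ k ∧ RegChk l n 0 0 a b e f δ v r0 r k) {P : Subgroup G} (hP : IsPGroup p P)
    (hP1 : P ≠ ⊥) : ¬ IsCoatom (normalizer (P : Set G)) := by
  obtain ⟨a1, a2⟩ := ord A h hz hp c'
  have a3 : Nat.card (zpowers (A.r3.torHom (tz z a))) = p ^ 1 := by rw [Nat.card_zpowers, a2, pow_one]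
  refine hC.not_isCoatom (a1.trans inf_le_right) hp hp3.ne' a3 hG one_le_two ?_ (by simp) hP hP1
  rcases c with c | ⟨e, f, δ, k, hk, c⟩
  · exact cyc A h hz hC hp hp3 c' c
  · exact reg A h hz hC hp hp3 a1 one_le_two a3 (by rw [(tz_eq_one_iff hz (a := 0)).2 (by simp), map_one]; exact one_mem _)
      (mem_zpowers _) hk c

end CL.E62
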