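/-
CHEV library: the 27-dimensional representation of E₆ and the cubic form. The isometry group of the cubic form is
generated by the root elements (for fields with at least three elements).
-/
import Cfsg.Prelude.Def_E6
import Cfsg.Agent.CHEV.Stb
import Cfsg.Agent.CHEV.CoreE6

set_option autoImplicit false
set_option linter.unusedSectionVars false

namespace CL.E6C

open Cfsg.Lie CL.Chev
open scoped Matrix MatrixGroups

/-! ### tables -/

def tSr : ℕ := 0xc801600260000000000000000020e600018002a0048000000000000000000000839a0004400000000000030007000120026003c000001100000000c001c00002a0058000000f0020000000300070000006000c800d001c000000000c0000004000004800981800000070000300000010000000a8016000006000d000c000000400000001800320000c00000000000000009d80003a200000000000300000000000260c80006c0000000000000000c00000005b200000c7800000cc000000000000000004aa00000003a200000330000000000001206000000006c0000000000cc000000002b8000000000c780000000000000000000460f3000300000000000000000000000007358030003000005000b000000000700100000000001200269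0000002c0001c004000000000002a005800024005000700100000000000006000c84070000000000002760000000160880000000101c000000098320000000281000000000000040700016c800000000481e00004040000000009d80000000000005b800000001010000260c8000000000000a68000000000004045b2000000000000012c0000006400b00130000000000000001040000087000000000000012a800000000001608800021c000000004818000000000002810000000008700000ae0000000000000481e000000000000001183c0001c0020001000a800000000009540000000000000000b700002a00000240c000000000000000014d00000000a805700000000000000000025949c8000000000220038005800000000000000527200000040006800a000000000005ed50000000011001c002c0000000000000001ace000040006800a0000000000000000000005ed503c006000900000000000000000000d670f0018002400000000000000010002200000000000000330028000000001e0000008800000000082c005c00000000000078010000000002006400d000000000000000000e6b0000000002000280020000d001c000000000000004098014000000018000000700000000010016002e000000000006000d0000000040003200680000018002a004800000000000000000000a418200044000000000003000920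00000500003c00000110000000c00202a000000b80000000f002000000300080060000001a0000d001c00000000c000000504800000140018000000700030000001400a8000002e0000006000d00c000000500018000000680000c00000000000000014bba2000000000000000300000000000501a6c00000000000000000000c0000000be80c78000000000000000000000005a92000000380040002000000000005a9200000000008000a0008005000b0000000400100000026005000000090000002c01000400000005800b80000000002400504001000000000c801a000005000b0000000080014000001200000050090000002c002000500000002a000000b800002400500800140000000060000001a004800000000000052e0001608800000000000012000000014068000281000000000000000000480002fa00000481e000000000450000000014b8000000005b8000000000000114000501a000000000a68000000000000000045be800000000012c0000000000d001700280000000000010400000000034005c00a0000000000000520c0000000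
def tSz : ℕ := 0x9889889888888888888887778889889889888888888888888887779887888888888898878889887887888889888888988788889887888889887888889887888889887889887888888878888898888988787888889888788888988888988788889887887888889888888988787898888888888888978889788888889878888888889878887988888888887898888889788889788889788888888888888978888889788887988888888889878888887988888889788888889788888889788888888888888887779889889888888888888888887778988988987889888888878898888888878899888887888788988888888878898887889887889888888888878897898888888888978888887898888889878888889878888889878888888887898889788888887898889878888888798888888888798888887898887898888888888978888888889877988888888888798888878878878888888888889998889788888888888978888888887898887988888889878888888889878888889788889788888888887898888888888887778889889889889788888888978888888888888978887988889878888888888888798888889789788888888888888979998888888878878878888888888887778888898898898888888887778888888988988988888888888887778889889889888888888888888887778988988988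88888888888888999788788788888888888887889888888887889788988888887888889888898878988788888888887889888788988788988888888888888777888888898898898887889888889888887878898888887888889878888898898878888888887889988888788878898888878878878888888888888888999898878888888889887788888988898888878888878898988888788888898878888988788788888988878898888889888887898888878878888898878888898878888898888878898988888788898888878897888888888888897978888888888897888888888789978888888888888897888888978978888888888888888888777888889889889888888888777888888889889889887889888887889888887889888887888889898878888889887888888887889788988888887889888878898888887889888889888887878888898898878888887888889888878898788988888889888887879888888888879888987888888888879888888987888987888888888888879888798888987888888879888888879888888879888888888879888987888888879888888888888879798888888879888888889889889888888888777888888898898898888888888777888888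
def tRt : ℕ := 0x5180008400000081800a1801022000003c6859626223805c0118000840005ec00326601ebe3c6858000021c06b18c800001180008402750015ac00e9d9626221c06a000004800000000510000080040a003900048000007cd8c2e5048048023805c011005e018b200d1e807e7cd8c000004482d80004918c80000112700a55805ae803c2e504c482d800000980004a00000000418400183802248000000101c1a60a8a00980004a023805cc188066d003e7e0101c1a000008b09b8000980004b18c8050a402c5a01dbc0060a8a8b09b8000000000114c20885cf80489950000e400000483807ed003c5b14c2000000432c791804a0150000e4000221803e6601dac885cfc32c780000085100000150000e40100a01eb200e958000021153904a1b3a000004899c0000480047e018bc00a61153800000804cd003a011804a01c0022001be00c1d805104a1b804cd0000000003a851000001c100009e805ee802700000371435b0918380001e00000489838400d18805aa4037143400000d440b00380001e011804a1818066c002c5001b0918d440b000000000380001e851000a080325e015a700014b100a18004ebc00000d5b3781061003a3a380011800000b5a0058cc02b64d5b37000004389155001e02380011800078fc03b7c01d3d8106143891400000e5c000002380011948008a00034e001000000409144ca1500000003a38c8000b4007580032b001440914000002c5cc0000015001e00c80780093b0045d00204ca152c5cc00000000000e5c000000cb1080180300bc100000000b1834d1b38040005c000003a39a0700cc300641400b18340000078fa000040005c015001efc9007c4403d2000d1b3878fa0000000000040005ce5c00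
def tTh : ℕ := 0x12982b640007000c0045cb000000000004814a82e50008000c000001172c00000009d016b8040004000000000000045cb04a6000018c810001c003020d5000000012050000601a014002000300000835400027400000ce8001000100000000000020d502b6063200000040007000cf6240000000a82f806800000050008000c0003d8900016b833a000000004000400000000000f625051000000000000095018dd0019003000000041440000000240b601d7002c00540000000001051000052c0d7028004c00900072040000000025400000f8034006400c000001c810000902c0003c1105c00b001500000000072054b0000084400a00130024030c00000000018d03e0000000d001900300000c300000601cf0440000017002c0054000000030c0d70211000000028004c00944008000f00357a00000000000000080647000d0018000000d5e800000000002180ab00140024000000000357a000008804280110020003c19b4c00000000002000006381c00340060000066d300000008000180802c00500090000000019b4c22000003a000044008000fc56400000000064018e0000007000d001800031590000180a6020000000b001400240000000c5644280e800000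
def tTz : ℕ := 0x888897879788788788777888888888789987788788788888777888888978798788788788888888777879888897878878878777888888987888789878878878888777888798888978878878878888888777897879888887887887777888888789987888887887887888777888978798888887887887888888777777888888888897879788788788888777888888789987788788788888888777888978798788788788777888888879888897878878878888777888987888789878878878888888777798888978878878878777888888897879888887887887888777888789987888887887887888888777978798888887887887788788788777888888888897879788788788888777888888789987788788788888888777888978798878878878777888888879888897878878878888777888987888789878878878888888777798888978887887887777888888897879888887887887888777888789987888887887887888888777978798888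
def TR : List (I27 × I27 × I27 × ℤ) :=
  [((0,0,0),(0,1,1),(0,2,2),1), ((0,0,0),(0,1,2),(0,2,1),-1), ((0,0,1),(0,1,0),(0,2,2),-1), ((0,0,1),(0,1,2),(0,2,0),1), ((0,0,2),(0,1,0),(0,2,1),1), ((0,0,2),(0,1,1),(0,2,0),-1), ((1,0,0),(1,1,1),(1,2,2),1), ((1,0,0),(1,1,2),(1,2,1),-1), ((1,0,1),(1,1,0),(1,2,2),-1), ((1,0,1),(1,1,2),(1,2,0),1), ((1,0,2),(1,1,0),(1,2,1),1), ((1,0,2),(1,1,1),(1,2,0),-1), ((2,0,0),(2,1,1),(2,2,2),1), ((2,0,0),(2,1,2),(2,2,1),-1), ((2,0,1),(2,1,0),(2,2,2),-1), ((2,0,1),(2,1,2),(2,2,0),1), ((2,0,2),(2,1,0),(2,2,1),1), ((2,0,2),(2,1,1),(2,2,0),-1), ((0,0,0),(1,0,0),(2,0,0),-1), ((0,0,0),(1,0,1),(2,1,0),-1), ((0,0,0),(1,0,2),(2,2,0),-1), ((0,0,1),(1,1,0),(2,0,0),-1), ((0,0,1),(1,1,1),(2,1,0),-1), ((0,0,1),(1,1,2),(2,2,0),-1), ((0,0,2),(1,2,0),(2,0,0),-1), ((0,0,2),(1,2,1),(2,1,0),-1), ((0,0,2),(1,2,2),(2,2,0),-1), ((0,1,0),(1,0,0),(2,0,1),-1), ((0,1,0),(1,0,1),(2,1,1),-1), ((0,1,0),(1,0,2),(2,2,1),-1), ((0,1,1),(1,1,0),(2,0,1),-1), ((0,1,1),(1,1,1),(2,1,1),-1), ((0,1,1),(1,1,2),(2,2,1),-1), ((0,1,2),(1,2,0),(2,0,1),-1),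 ((0,1,2),(1,2,1),(2,1,1),-1), ((0,1,2),(1,2,2),(2,2,1),-1), ((0,2,0),(1,0,0),(2,0,2),-1), ((0,2,0),(1,0,1),(2,1,2),-1), ((0,2,0),(1,0,2),(2,2,2),-1), ((0,2,1),(1,1,0),(2,0,2),-1), ((0,2,1),(1,1,1),(2,1,2),-1), ((0,2,1),(1,1,2),(2,2,2),-1), ((0,2,2),(1,2,0),(2,0,2),-1), ((0,2,2),(1,2,1),(2,1,2),-1), ((0,2,2),(1,2,2),(2,2,2),-1)]

def rSr (r : ℕ) : ℕ := lk tSr 135 (2 ^ 135 - 1) r
def rSz (r : ℕ) : ℕ := lk tSz 108 (2 ^ 108 - 1) r
def rRt (r : ℕ) : ℕ := lk tRt 189 (2 ^ 189 - 1) r
def rTh (r : ℕ) : ℕ := lk tTh 135 (2 ^ 135 - 1) r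
def rTz (r : ℕ) : ℕ := lk tTz 108 (2 ^ 108 - 1) r

def ix (a : I27) : ℕ := Nat.add (Nat.mul 9 a.1.1) (Nat.add (Nat.mul 3 a.2.1.1) a.2.2.1)
def un (n : ℕ) : I27 := (Fin.ofNat 3 (n / 9), Fin.ofNat 3 (n / 3), Fin.ofNat 3 n)

theorem un_ix : ∀ a : I27, un (ix a) = a := by decide +kernel
theorem ix_lt : ∀ a : I27, ix a < 27 := by decide +kernel
theorem ix_un : ∀ n < 27, ix (un n) = n := by decide +kernel
theorem ix_inj {a b : I27} (h : ix a = ix b) : a = b := by rw [← un_ix a, h, un_ix]
theorem ix_eq_iff {a b : I27} : ix a = ix b ↔ a = b := ⟨ix_inj, congrArg ix⟩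

def srN (r i : ℕ) : ℕ := Nat.mod (lk2 rSr 5 31 r i) 27
def szN (r i : ℕ) : ℤ := lk2Z rSz r i
def rtN (c c' : ℕ) : ℕ := Nat.mod (lk2 rRt 7 127 c c') 72
def thN (a b : ℕ) : ℕ := Nat.mod (lk2 rTh 5 31 a b) 27
def tzN (a b : ℕ) : ℤ := lk2Z rTz a b

/-- source of row `i` of the root vector `r` -/
def sr (r : ℕ) (i : I27) : I27 := un (srN r (ix i))
/-- entry of row `i` of the root vector `r` -/
def sz (r : ℕ) (i : I27) : ℤ := szN r (ix i)
/-- the root moving `c` to `c'` -/
def rt (c c' : I27) : ℕ := rtN (ix c) (ix c')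
/-- third point of a triad -/
def th (a b : I27) : I27 := un (thN (ix a) (ix b))
/-- sign of a triad -/
def tz (a b : I27) : ℤ := tzN (ix a) (ix b)

theorem ix_sr (r : ℕ) (i : I27) : ix (sr r i) = srN r (ix i) := ix_un _ (Nat.mod_lt _ (by norm_num))
theorem ix_th (a b : I27) : ix (th a b) = thN (ix a) (ix b) := ix_un _ (Nat.mod_lt _ (by norm_num))
theorem rt_lt (a b : I27) : rt a b < 72 := Nat.mod_lt _ (by norm_num)

theorem all27 {f : ℕ → Bool} (h : allLt 27 f = true) (a : I27) : f (ix a) = true := (allLt_iff _ _).1 h _ (ix_lt a)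

def TRN : List (ℕ × ℕ × ℕ × ℤ) :=
  [(0,4,8,1), (0,5,7,-1), (1,3,8,-1), (1,5,6,1), (2,3,7,1), (2,4,6,-1), (9,13,17,1), (9,14,16,-1), (10,12,17,-1), (10,14,15,1), (11,12,16,1), (11,13,15,-1), (18,22,26,1), (18,23,25,-1), (19,21,26,-1), (19,23,24,1), (20,21,25,1), (20,22,24,-1), (0,9,18,-1), (0,10,21,-1), (0,11,24,-1), (1,12,18,-1), (1,13,21,-1), (1,14,24,-1), (2,15,18,-1), (2,16,21,-1), (2,17,24,-1), (3,9,19,-1), (3,10,22,-1), (3,11,25,-1), (4,12,19,-1), (4,13,22,-1), (4,14,25,-1), (5,15,19,-1), (5,16,22,-1), (5,17,25,-1), (6,9,20,-1), (6,10,23,-1), (6,11,26,-1), (7,12,20,-1), (7,13,23,-1), (7,14,26,-1), (8,15,20,-1), (8,16,23,-1), (8,17,26,-1)]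

def ixT (T : I27 × I27 × I27 × ℤ) : ℕ × ℕ × ℕ × ℤ := (ix T.1, ix T.2.1, ix T.2.2.1, T.2.2.2)

theorem TR_map : TR.map ixT = TRN := by decide +kernel

theorem allTR {f : ℕ × ℕ × ℕ × ℤ → Bool} (h : TRN.all f = true) : ∀ T ∈ TR, f (ixT T) = true := fun _ hT =>
  List.all_eq_true.1 h _ (TR_map ▸ List.mem_map_of_mem hT)

/-! ### the cubic form and its polarisations -/

abbrev Tri : Type := I27 × I27 × I27 × ℤ

section Forms
variable {F : Type*} [CommRing F]

def nT (v : I27 → F) (T : Tri) : F := (T.2.2.2 : F) * (v T.1 * v T.2.1 * v T.2.2.1)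
def pT (w z : I27 → F) (T : Tri) : F :=
  (T.2.2.2 : F) * (z T.1 * w T.2.1 * w T.2.2.1 + w T.1 * z T.2.1 * w T.2.2.1 + w T.1 * w T.2.1 * z T.2.2.1)
def tT (u v w : I27 → F) (T : Tri) : F :=
  (T.2.2.2 : F) * (u T.1 * v T.2.1 * w T.2.2.1 + u T.1 * w T.2.1 * v T.2.2.1 + v T.1 * u T.2.1 * w T.2.2.1 +
    w T.1 * u T.2.1 * v T.2.2.1 + v T.1 * w T.2.1 * u T.2.2.1 + w T.1 * v T.2.1 * u T.2.2.1)

def N (v : I27 → F) : F := (TR.map (nT v)).sum
def P (w z : I27 → F) : F := (TR.map (pT w z)).sum
def T3 (u v w : I27 → F) : F := (TR.map (tT u v w)).sum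

theorem N_eq (v : I27 → F) : N v = cubicT v := by
  simp only [N, TR, nT, List.map_cons, List.map_nil, List.sum_cons, List.sum_nil, cubicT, mat3, Matrix.det_fin_three,
    Matrix.trace, Matrix.diag_apply, Matrix.mul_apply, Fin.sum_univ_three, Matrix.of_apply]
  push_cast
  ring

theorem N_expand (t : F) (w z : I27 → F) :
    N (z + t • w) = N z + t * P z w + t ^ 2 * P w z + t ^ 3 * N w := by
  unfold N P
  induction TR with
  | nil => simp
  | cons T L ih =>
    simp only [List.map_cons, List.sum_cons, ih, nT, pT, Pi.add_apply, Pi.smul_apply, smul_eq_mul]; ring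

theorem P_add (w u z : I27 → F) : P (w + u) z = P w z + T3 w u z + P u z := by
  unfold T3 P
  induction TR with
  | nil => simp
  | cons T L ih => simp only [List.map_cons, List.sum_cons, ih, tT, pT, Pi.add_apply]; ring

theorem T3_pol (u v w : I27 → F) :
    T3 u v w = N (u + v + w) - N (u + v) - N (u + w) - N (v + w) + N u + N v + N w := by
  unfold T3 N
  induction TR with
  | nil => simp
  | cons T L ih => simp only [List.map_cons, List.sum_cons, ih, tT, nT, Pi.add_apply]; ring

theorem T3_swap (u v w : I27 → F) : T3 u v w = T3 v u w := by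
  rw [T3_pol, T3_pol, add_comm u v]; ring

theorem T3_add (u v v' w : I27 → F) : T3 u (v + v') w = T3 u v w + T3 u v' w := by
  unfold T3
  induction TR with
  | nil => simp
  | cons T L ih => simp only [List.map_cons, List.sum_cons, ih, tT, Pi.add_apply]; ring

theorem T3_smul (t : F) (u v w : I27 → F) : T3 u (t • v) w = t * T3 u v w := by
  unfold T3
  induction TR with
  | nil => simp
  | cons T L ih => simp only [List.map_cons, List.sum_cons, ih, tT, Pi.smul_apply, smul_eq_mul]; ring

/-- basis vectors -/
def e (a : I27) : I27 → F := Pi.single a 1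

theorem e_apply (a b : I27) : (e a : I27 → F) b = if b = a then 1 else 0 := by simp [e, Pi.single_apply]
theorem e_self (a : I27) : (e a : I27 → F) a = 1 := by simp [e]
theorem e_ne {a b : I27} (h : b ≠ a) : (e a : I27 → F) b = 0 := by simp [e, h]

theorem T3_eq_zero (u w : I27 → F) (h : ∀ b, T3 u (e b) w = 0) (v : I27 → F) : T3 u v w = 0 := by
  induction v using Pi.single_induction with
  | zero => simpa using T3_smul 0 u 0 w
  | add f g hf hg => rw [T3_add, hf, hg, add_zero]
  | single b t =>
    have : (Pi.single b t : I27 → F) = t • e b := by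
      ext c; simp [e, Pi.single_apply]
    rw [this, T3_smul, h, mul_zero]

theorem sum_eq_zero_of {f : Tri → F} (h : ∀ T ∈ TR, f T = 0) : (TR.map f).sum = 0 :=
  List.sum_eq_zero fun x hx => by
    obtain ⟨T, hT, rfl⟩ := List.mem_map.1 hx
    exact h T hT

/-- vectors whose support contains no two points of a triad -/
def Iso2 (z : I27 → F) : Prop :=
  ∀ T ∈ TR, z T.1 * z T.2.1 = 0 ∧ z T.1 * z T.2.2.1 = 0 ∧ z T.2.1 * z T.2.2.1 = 0

theorem Iso2.N_eq {z : I27 → F} (h : Iso2 z) : N z = 0 :=
  sum_eq_zero_of fun T hT => by rw [nT, (h T hT).1]; simp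

theorem Iso2.P_eq {z : I27 → F} (h : Iso2 z) (w : I27 → F) : P z w = 0 :=
  sum_eq_zero_of fun T hT => by
    obtain ⟨h1, h2, h3⟩ := h T hT
    rw [pT]
    linear_combination (T.2.2.2 : F) * (w T.1 * h3 + w T.2.1 * h2 + w T.2.2.1 * h1)

theorem TR_ne : ∀ T ∈ TR, T.1 ≠ T.2.1 ∧ T.1 ≠ T.2.2.1 ∧ T.2.1 ≠ T.2.2.1 := by decide +kernel

theorem iso2_e (a : I27) : Iso2 (e a : I27 → F) := by
  intro T hT
  obtain ⟨h1, h2, h3⟩ := TR_ne T hT
  simp only [e_apply]
  refine ⟨?_, ?_, ?_⟩ <;> split_ifs <;> simp_all

/-- the contribution of a triad to `T3 u (e b) (e c)` -/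
def ctr (b c : ℕ) (T : ℕ × ℕ × ℕ × ℤ) : List (ℕ × ℤ) :=
  bif Nat.beq T.1 b then
    (bif Nat.beq T.2.1 c then [(T.2.2.1, T.2.2.2)] else bif Nat.beq T.2.2.1 c then [(T.2.1, T.2.2.2)] else [])
  else bif Nat.beq T.2.1 b then
    (bif Nat.beq T.1 c then [(T.2.2.1, T.2.2.2)] else bif Nat.beq T.2.2.1 c then [(T.1, T.2.2.2)] else [])
  else bif Nat.beq T.2.2.1 b then
    (bif Nat.beq T.1 c then [(T.2.1, T.2.2.2)] else bif Nat.beq T.2.1 c then [(T.1, T.2.2.2)] else [])
  else []

theorem ctr_chk : allLt 27 (fun b => allLt 27 fun c =>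
    leq eqNZ (TRN.flatMap (ctr b c)) (bif ieq (tzN b c) 0 then [] else [(thN b c, tzN b c)])) = true := by
  decide +kernel

theorem beq_ix (a b : I27) : Nat.beq (ix a) (ix b) = decide (a = b) := by
  rw [Bool.eq_iff_iff]; simp [Nat.beq_eq, ix_eq_iff]

theorem tT_e (u : I27 → F) (b c : I27) (T : Tri) (h : T.1 ≠ T.2.1 ∧ T.1 ≠ T.2.2.1 ∧ T.2.1 ≠ T.2.2.1) :
    tT u (e b) (e c) T = ((ctr (ix b) (ix c) (ixT T)).map fun p => (p.2 : F) * u (un p.1)).sum := by
  obtain ⟨x, y, z, s⟩ := T
  obtain ⟨h1, h2, h3⟩ := h
  simp only [tT, ctr, e_apply, ixT, beq_ix, Bool.cond_decide] at *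
  split_ifs <;> simp_all [un_ix]

theorem sum_flatMap {α β : Type*} (L : List α) (f : α → List β) (g : β → F) :
    ((L.flatMap f).map g).sum = (L.map fun a => ((f a).map g).sum).sum := by
  induction L with
  | nil => simp
  | cons a L ih => simp [ih]

theorem T3_e (u : I27 → F) (b c : I27) : T3 u (e b) (e c) = (tz b c : F) * u (th b c) := by
  have h := leq_eq _ eqNZ_eq _ _ (all27 (all27 ctr_chk b) c)
  have h2 : T3 u (e b) (e c) = ((TRN.flatMap (ctr (ix b) (ix c))).map fun p => (p.2 : F) * u (un p.1)).sum := by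
    rw [T3, List.map_congr_left fun T hT => tT_e u b c T (TR_ne T hT), sum_flatMap, ← TR_map, List.map_map]; rfl
  rw [h2, h]
  cases k : ieq (tzN (ix b) (ix c)) 0
  · simp [tz, th]
  · simp [tz, (ieq_iff _ _).1 k]

theorem tz_chk : allLt 27 (fun a => allLt 27 fun b => ieq (tzN a b) 0 ||
    (ieq (tzN a b * tzN a b) 1 && ieq (tzN b a) (tzN a b) && Nat.beq (thN b a) (thN a b) &&
      ieq (tzN a (thN a b)) (tzN a b) && Nat.beq (thN a (thN a b)) b && !Nat.beq a b)) = true := by
  decide +kernel

theorem tz_spec {a b : I27} (h : tz a b ≠ 0) :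
    tz a b * tz a b = 1 ∧ tz b a = tz a b ∧ th b a = th a b ∧ tz a (th a b) = tz a b ∧ th a (th a b) = b ∧ a ≠ b := by
  have k := all27 (all27 tz_chk a) b
  simp only [Bool.or_eq_true, Bool.and_eq_true, ieq_iff, ← ix_th, beq_ix, decide_eq_true_eq,
    Bool.not_eq_true', decide_eq_false_iff_not] at k
  obtain ⟨⟨⟨⟨⟨k1, k2⟩, k3⟩, k4⟩, k5⟩, k6⟩ := k.resolve_left h
  exact ⟨k1, k2, k3, k4, k5, k6⟩

theorem tz_comm (a b : I27) : tz b a = tz a b := by
  by_cases h : tz a b = 0
  · by_contra h'
    exact h' ((tz_spec fun k => h' (k.trans h.symm)).2.1.symm)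
  · exact (tz_spec h).2.1

theorem tz_self (a : I27) : tz a a = 0 := by
  by_contra h
  exact (tz_spec h).2.2.2.2.2 rfl

theorem tz_cancel {a b : I27} (h : tz a b ≠ 0) {x y : F} (hx : (tz a b : F) * x = (tz a b : F) * y) : x = y := by
  have h1 : (tz a b : F) * (tz a b : F) = 1 := by exact_mod_cast congrArg (Int.cast : ℤ → F) (tz_spec h).1
  linear_combination (tz a b : F) * hx - (x - y) * h1

theorem gq_chk : allLt 27 (fun d => TRN.all fun T =>
    ieq (tzN d T.1) 0 || (ieq (tzN d T.2.1) 0 || ieq (tzN d T.2.2.1) 0)) = true := by decide +kernel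

theorem gq (d : I27) (T : Tri) (hT : T ∈ TR) : tz d T.1 = 0 ∨ tz d T.2.1 = 0 ∨ tz d T.2.2.1 = 0 := by
  have h := allTR (all27 gq_chk d) T hT
  simp only [Bool.or_eq_true, ieq_iff] at h
  exact h

theorem P_mates (d : I27) (u z : I27 → F) (hu : ∀ c, tz d c = 0 → u c = 0) (hz : ∀ c, tz d c = 0 → z c = 0) :
    P u z = 0 :=
  sum_eq_zero_of fun T hT => by
    rcases gq d T hT with h | h | h <;> simp [pT, hu _ h, hz _ h]

/-- a singular vector with `w d = 1` vanishing at the other non-mates of `d` is `e d` -/
theorem eq_e_of_sing (d : I27) (w : I27 → F) (hs : ∀ z, P w z = 0) (h1 : w d = 1)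
    (h0 : ∀ c, c ≠ d → tz d c = 0 → w c = 0) : w = e d := by
  have hu : ∀ c, tz d c = 0 → (w - e d : I27 → F) c = 0 := by
    intro c hc
    by_cases k : c = d
    · subst k; simp [h1, e_self]
    · simp [h0 c k hc, e_ne k]
  ext c
  by_cases hc : tz d c = 0
  · exact sub_eq_zero.1 (hu c hc)
  · obtain ⟨-, -, -, k1, k2, -⟩ := tz_spec hc
    have hp := P_add (e d) (w - e d) (e (th d c))
    rw [add_sub_cancel, hs, (iso2_e d).P_eq, T3_swap, T3_e, k1, k2, P_mates d _ _ hu] at hp
    · have := tz_cancel (F := F) hc (x := (w - e d : I27 → F) c) (y := 0) (by linear_combination -hp)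
      exact sub_eq_zero.1 this
    · intro b hb
      refine e_ne fun k => hc ?_
      rw [← k1, ← k, hb]

/-! ### root vectors -/

def Em (r : ℕ) : Matrix I27 I27 F := Matrix.of fun i j => if j = sr r i then (sz r i : F) else 0

theorem Em_mulVec (r : ℕ) (w : I27 → F) (i : I27) : (Em r *ᵥ w) i = (sz r i : F) * w (sr r i) := by
  simp [Em, Matrix.mulVec, dotProduct]

def srt (a b c : ℕ) : ℕ × ℕ × ℕ :=
  bif Nat.ble a b then (bif Nat.ble b c then (a, b, c) else bif Nat.ble a c then (a, c, b) else (c, a, b))
  else (bif Nat.ble a c then (b, a, c) else bif Nat.ble b c then (b, c, a) else (c, b, a))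

def mon (w : I27 → F) (k : ℕ × ℕ × ℕ) : F := w (un k.1) * w (un k.2.1) * w (un k.2.2)

theorem mon_srt (w : I27 → F) (a b c : ℕ) : mon w (srt a b c) = w (un a) * w (un b) * w (un c) := by
  unfold srt
  cases Nat.ble a b <;> cases Nat.ble b c <;> cases Nat.ble a c <;> simp only [mon, cond_true, cond_false] <;> ring

def trm (r : ℕ) (s : ℤ) (a b c : ℕ) : List (ℤ × ℕ × ℕ × ℕ) :=
  bif ieq (szN r a) 0 then [] else [(s * szN r a, srt (srN r a) b c)]

def trms (r : ℕ) (T : ℕ × ℕ × ℕ × ℤ) : List (ℤ × ℕ × ℕ × ℕ) :=
  trm r T.2.2.2 T.1 T.2.1 T.2.2.1 ++ (trm r T.2.2.2 T.2.1 T.1 T.2.2.1 ++ trm r T.2.2.2 T.2.2.1 T.1 T.2.1)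

theorem trm_sum (w : I27 → F) (r : ℕ) (s : ℤ) (a b c : I27) :
    ((trm r s (ix a) (ix b) (ix c)).map fun x => (x.1 : F) * mon w x.2).sum = s * ((Em r *ᵥ w) a * w b * w c) := by
  rw [Em_mulVec, trm]
  cases h : ieq (szN r (ix a)) 0
  · simp only [cond_false, List.map_cons, List.map_nil, List.sum_cons, List.sum_nil, mon_srt, un_ix, sz, sr]
    push_cast; ring
  · simp [sz, (ieq_iff _ _).1 h]

theorem sum_fiber {κ : Type*} [DecidableEq κ] (m : κ → F) (s : Finset κ) (L : List (ℤ × κ)) (h : ∀ x ∈ L, x.2 ∈ s) :
    (L.map fun x => (x.1 : F) * m x.2).sum =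
      ∑ k ∈ s, (((L.map fun x => if x.2 = k then x.1 else 0).sum : ℤ) : F) * m k := by
  induction L with
  | nil => simp
  | cons x L ih =>
    have hx := h x List.mem_cons_self
    simp only [List.map_cons, List.sum_cons, Int.cast_add, add_mul, Finset.sum_add_distrib]
    rw [ih fun y hy => h y (List.mem_cons_of_mem _ hy)]
    congr 1
    rw [Finset.sum_eq_single x.2 (fun k _ hk => by simp [hk.symm]) (fun k => (k hx).elim)]
    simp

def eq3 (x y : ℕ × ℕ × ℕ) : Bool := Nat.beq x.1 y.1 && (Nat.beq x.2.1 y.2.1 && Nat.beq x.2.2 y.2.2)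

theorem eq3_eq (x y : ℕ × ℕ × ℕ) : eq3 x y = decide (x = y) := by
  rw [Bool.eq_iff_iff]; simp [eq3, Nat.beq_eq, Prod.ext_iff]

def cf3 (k : ℕ × ℕ × ℕ) (L : List (ℤ × ℕ × ℕ × ℕ)) : ℤ :=
  List.rec 0 (fun x _ ih => bif eq3 x.2 k then x.1 + ih else ih) L

theorem cf3_eq (k : ℕ × ℕ × ℕ) (L : List (ℤ × ℕ × ℕ × ℕ)) :
    cf3 k L = (L.map fun x => if x.2 = k then x.1 else 0).sum := by
  induction L with
  | nil => rfl
  | cons x L ih =>
    have : cf3 k (x :: L) = bif eq3 x.2 k then x.1 + cf3 k L else cf3 k L := rfl
    rw [this, ih, eq3_eq, Bool.cond_decide, List.map_cons, List.sum_cons]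
    split_ifs <;> simp

def canc (L : List (ℤ × ℕ × ℕ × ℕ)) : Bool := L.all fun y => ieq (cf3 y.2 L) 0

theorem canc_sum (w : I27 → F) {L : List (ℤ × ℕ × ℕ × ℕ)} (h : canc L = true) :
    (L.map fun x => (x.1 : F) * mon w x.2).sum = 0 := by
  rw [sum_fiber (mon w) (L.map Prod.snd).toFinset L fun x hx => List.mem_toFinset.2 (List.mem_map_of_mem hx)]
  refine Finset.sum_eq_zero fun k hk => ?_
  obtain ⟨y, hy, rfl⟩ := List.mem_map.1 (List.mem_toFinset.1 hk)
  rw [← cf3_eq, (ieq_iff _ _).1 (List.all_eq_true.1 h y hy)]; simp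

theorem canc_chk : allLt 72 (fun r => canc (TRN.flatMap (trms r))) = true := by decide +kernel

/-- `E_r E_s = 0` row-wise -/
def kil (r s i : ℕ) : Bool := ieq (szN r i) 0 || ieq (szN s (srN r i)) 0

theorem kil_spec {r s : ℕ} {i : I27} (h : kil r s (ix i) = true) : sz r i = 0 ∨ sz s (sr r i) = 0 := by
  simp only [kil, Bool.or_eq_true, ieq_iff, ← ix_sr] at h
  exact h

theorem iso_chk : allLt 72 (fun r => (TRN.all fun T => (ieq (szN r T.1) 0 || ieq (szN r T.2.1) 0) &&
    ((ieq (szN r T.1) 0 || ieq (szN r T.2.2.1) 0) && (ieq (szN r T.2.1) 0 || ieq (szN r T.2.2.1) 0))) &&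
      allLt 27 (kil r r)) = true := by decide +kernel

theorem P_Em {r : ℕ} (hr : r < 72) (w : I27 → F) : P w (Em r *ᵥ w) = 0 := by
  rw [← canc_sum w ((allLt_iff _ _).1 canc_chk r hr), sum_flatMap, P, ← TR_map, List.map_map]
  congr 1
  refine List.map_congr_left fun T _ => ?_
  simp only [Function.comp, trms, ixT, List.map_append, List.sum_append, trm_sum, pT]; ring

theorem iso2_Em {r : ℕ} (hr : r < 72) (w : I27 → F) : Iso2 (Em r *ᵥ w) := by
  intro T hT
  have h := allTR (Bool.and_eq_true_iff.1 ((allLt_iff _ _).1 iso_chk r hr)).1 T hT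
  simp only [Bool.and_eq_true, Bool.or_eq_true, ieq_iff, ixT] at h
  obtain ⟨h1, h2, h3⟩ := h
  simp only [Em_mulVec, sz]
  refine ⟨?_, ?_, ?_⟩
  · rcases h1 with h | h <;> simp [h]
  · rcases h2 with h | h <;> simp [h]
  · rcases h3 with h | h <;> simp [h]

theorem N_root {r : ℕ} (hr : r < 72) (t : F) (w : I27 → F) : N (w + t • (Em r *ᵥ w)) = N w := by
  rw [N_expand, P_Em hr, (iso2_Em hr w).P_eq, (iso2_Em hr w).N_eq]; ring

theorem mat_ext {A B : Matrix I27 I27 F} (h : ∀ w i, (A *ᵥ w) i = (B *ᵥ w) i) : A = B := by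
  ext i j
  simpa using h (Pi.single j 1) i

theorem Em_mul_eq_zero {r s : ℕ} (h : ∀ i : I27, kil r s (ix i) = true) : (Em r * Em s : Matrix I27 I27 F) = 0 :=
  mat_ext fun w i => by
    rw [← Matrix.mulVec_mulVec, Em_mulVec, Em_mulVec]
    rcases kil_spec (h i) with h | h <;> simp [h]

theorem Em_sq {r : ℕ} (hr : r < 72) : (Em r * Em r : Matrix I27 I27 F) = 0 :=
  Em_mul_eq_zero (all27 (Bool.and_eq_true_iff.1 ((allLt_iff _ _).1 iso_chk r hr)).2)

/-- row check for `E_s E_r + c E_k = E_r E_s` -/
def row (r s k : ℕ) (c : ℤ) (i : ℕ) : Bool :=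
  (kil s r i &&
      ((kil r s i && (ieq c 0 || ieq (szN k i) 0)) ||
        (ieq (c * szN k i) (szN r i * szN s (srN r i)) && Nat.beq (srN k i) (srN s (srN r i))))) ||
    (((ieq c 0 || ieq (szN k i) 0) &&
        (ieq (szN s i * szN r (srN s i)) (szN r i * szN s (srN r i)) && Nat.beq (srN r (srN s i)) (srN s (srN r i)))) ||
    (kil r s i && (ieq (szN s i * szN r (srN s i) + c * szN k i) 0 && Nat.beq (srN r (srN s i)) (srN k i))))

theorem Em_comm {r s k : ℕ} {c : ℤ} (h : ∀ i : I27, row r s k c (ix i) = true) :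
    (Em s * Em r : Matrix I27 I27 F) = Em r * Em s - (c : F) • Em k :=
  mat_ext fun w i => by
    rw [Matrix.sub_mulVec, Matrix.smul_mulVec, ← Matrix.mulVec_mulVec, ← Matrix.mulVec_mulVec, Pi.sub_apply,
      Pi.smul_apply, smul_eq_mul]
    simp only [Em_mulVec]
    have z : ∀ {a b : ℤ}, a = 0 ∨ b = 0 → (a : F) * (b : F) = 0 := by
      rintro a b (h | h) <;> simp [h]
    have hi := h i
    simp only [row, kil, Bool.and_eq_true, Bool.or_eq_true, ieq_iff, ← ix_sr, beq_ix, decide_eq_true_eq] at hi
    simp only [sz]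
    rcases hi with ⟨h1, ⟨h2, h3⟩ | ⟨h2, h3⟩⟩ | ⟨h1, h2, h3⟩ | ⟨h1, h2, h3⟩
    · linear_combination w (sr r (sr s i)) * z h1 - w (sr s (sr r i)) * z h2 + w (sr k i) * z h3
    · have h2' := congrArg (Int.cast : ℤ → F) h2
      push_cast at h2'
      rw [h3]
      linear_combination w (sr r (sr s i)) * z h1 + w (sr s (sr r i)) * h2'
    · have h2' := congrArg (Int.cast : ℤ → F) h2
      push_cast at h2'
      rw [h3]
      linear_combination w (sr k i) * z h1 + w (sr s (sr r i)) * h2'
    · have h2' := congrArg (Int.cast : ℤ → F) h2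
      push_cast at h2'
      rw [h3]
      linear_combination w (sr k i) * h2' - w (sr s (sr r i)) * z h1

/-- check for one pair of roots -/
def pair (r s : ℕ) : List (ℕ × ℤ × ℕ × ℕ) → Bool
  | [] => allLt 27 (row r s 0 0)
  | x :: L => L.isEmpty && (Nat.beq x.2.2.1 1 && (Nat.beq x.2.2.2 1 && (Nat.blt x.1 72 &&
      allLt 27 fun i => row r s x.1 x.2.1 i && (kil r x.1 i && kil s x.1 i))))

theorem pair_chk : allLt 72 (fun r => allLt 72 fun s =>
    Nat.beq s r || (Nat.beq s (71 - r) || pair r s (certE6.fct 72 r s))) = true := by decide +kernel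

end Forms

end CL.E6C
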