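/-
CHEV library: the involution classes of `E₆`, `E₇`, `E₈` in characteristic two.
-/
import Cfsg.Agent.CHEV.Inv2Chk

set_option autoImplicit false

namespace CL.Chev

open Cfsg.Lie

def mvE6 : List (List ℕ × List ℕ × List ℕ) := [([47, 20, 8, 65, 53, 25, 70], [71, 60, 44, 39], [71, 60, 44])]
def rkE6 : List (List ℕ × ℕ) := [([71], 22), ([68, 66], 32), ([55, 65, 67], 38)]
def tabE6 : List (List ℕ × List InvStep) := [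
  ([71], []),
  ([71, 60], [.W [4, 3, 1]]),
  ([71, 60, 44], [.W [0, 2, 3, 1, 0]]),
  ([71, 60, 44, 39], [.M 0 [], .W [0, 2, 3, 1, 0]])]

def mvE7 : List (List ℕ × List ℕ × List ℕ) := [([94, 22, 17, 114, 109, 32, 124], [125, 92, 87, 73], [125, 92, 87])]
def rkE7 : List (List ℕ × ℕ) := [([125], 34), ([125, 92], 52), ([125, 92, 63], 53), ([125, 92, 87], 62), ([125, 92, 87, 63], 63)]
def tabE7 : List (List ℕ × List InvStep) := [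
  ([125], []),
  ([125, 92], []),
  ([125, 92, 63], []),
  ([125, 92, 87], []),
  ([125, 92, 87, 63], []),
  ([125, 92, 87, 66], [.P [125, 87, 92, 66], .W [5, 6, 4, 5]]),
  ([125, 92, 87, 73], [.M 0 []]),
  ([125, 92, 87, 78], [.P [92, 87, 125, 78], .W [5, 6, 4, 5, 0, 2, 3, 4, 1, 3, 2, 0]]),
  ([125, 92, 87, 66, 63], [.P [92, 87, 66, 63, 125], .W [3, 4, 5, 6, 2, 3, 4, 5, 0, 2, 3, 4, 1, 3, 2, 0], .M 0 [78], .P [92, 87, 125, 78], .W [5, 6, 4, 5, 0, 2, 3, 4, 1, 3, 2, 0]]),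
  ([125, 92, 87, 73, 63], [.M 0 [63]]),
  ([125, 92, 87, 73, 66], [.M 0 [66], .P [125, 87, 92, 66], .W [5, 6, 4, 5]]),
  ([125, 92, 87, 78, 63], [.P [125, 87, 78, 63, 92], .W [3, 4, 5, 6, 2, 3, 4, 5], .M 0 [78], .P [92, 87, 125, 78], .W [5, 6, 4, 5, 0, 2, 3, 4, 1, 3, 2, 0]]),
  ([125, 92, 87, 78, 66], [.P [125, 92, 78, 66, 87], .W [3, 4, 2, 3], .M 0 [78], .P [92, 87, 125, 78], .W [5, 6, 4, 5, 0, 2, 3, 4, 1, 3, 2, 0]]),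
  ([125, 92, 87, 78, 73], [.P [125, 92, 87, 73, 78], .M 0 [78], .P [92, 87, 125, 78], .W [5, 6, 4, 5, 0, 2, 3, 4, 1, 3, 2, 0]]),
  ([125, 92, 87, 73, 66, 63], [.M 0 [66, 63], .P [92, 87, 66, 63, 125], .W [3, 4, 5, 6, 2, 3, 4, 5, 0, 2, 3, 4, 1, 3, 2, 0], .M 0 [78], .P [92, 87, 125, 78], .W [5, 6, 4, 5, 0, 2, 3, 4, 1, 3, 2, 0]]),
  ([125, 92, 87, 78, 66, 63], [.P [125, 92, 78, 66, 87, 63], .W [3, 4, 2, 3], .M 0 [78, 63], .P [125, 87, 78, 63, 92], .W [3, 4, 5, 6, 2, 3, 4, 5], .M 0 [78], .P [92, 87, 125, 78], .W [5, 6, 4, 5, 0, 2, 3, 4, 1, 3, 2, 0]]),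
  ([125, 92, 87, 78, 73, 63], [.P [125, 92, 87, 73, 78, 63], .M 0 [78, 63], .P [125, 87, 78, 63, 92], .W [3, 4, 5, 6, 2, 3, 4, 5], .M 0 [78], .P [92, 87, 125, 78], .W [5, 6, 4, 5, 0, 2, 3, 4, 1, 3, 2, 0]]),
  ([125, 92, 87, 78, 73, 66], [.P [125, 92, 87, 73, 78, 66], .M 0 [78, 66], .P [125, 92, 78, 66, 87], .W [3, 4, 2, 3], .M 0 [78], .P [92, 87, 125, 78], .W [5, 6, 4, 5, 0, 2, 3, 4, 1, 3, 2, 0]]),
  ([125, 92, 87, 78, 73, 66, 63], [.P [125, 92, 87, 73, 78, 66, 63], .M 0 [78, 66, 63], .P [125, 92, 78, 66, 87, 63], .W [3, 4, 2, 3], .M 0 [78, 63], .P [125, 87, 78, 63, 92], .W [3, 4, 5, 6, 2, 3, 4, 5], .M 0 [78], .P [92, 87, 125, 78], .W [5, 6, 4, 5, 0, 2, 3, 4, 1, 3, 2, 0]])]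

def mvE8 : List (List ℕ × List ℕ × List ℕ) := [([122, 79, 12, 228, 161, 119, 238], [239, 226, 159, 121], [239, 226, 159])]
def rkE8 : List (List ℕ × ℕ) := [([239], 58), ([232, 233], 92), ([228, 222, 218], 110), ([226, 220, 213, 216], 120)]
def tabE8 : List (List ℕ × List InvStep) := [
  ([239], []),
  ([239, 226], [.W [1, 3, 4, 5, 6, 7]]),
  ([239, 226, 159], [.W [5, 4, 3, 2, 1, 3, 4, 5, 6, 7, 4, 3, 2, 0]]),
  ([239, 226, 159, 121], [.M 0 [], .W [5, 4, 3, 2, 1, 3, 4, 5, 6, 7, 4, 3, 2, 0]]),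
  ([239, 226, 159, 152], [.W [7, 6, 5, 4, 3, 2, 1, 3, 4, 5, 6, 7, 6, 3, 4, 5, 4, 3, 2, 0]]),
  ([239, 226, 159, 152, 121], [.P [239, 226, 159, 121, 152], .M 0 [152], .W [7, 6, 5, 4, 3, 2, 1, 3, 4, 5, 6, 7, 6, 3, 4, 5, 4, 3, 2, 0]]),
  ([239, 226, 159, 152, 126], [.P [239, 226, 152, 126, 159], .W [5, 6, 4, 5], .M 0 [152], .W [7, 6, 5, 4, 3, 2, 1, 3, 4, 5, 6, 7, 6, 3, 4, 5, 4, 3, 2, 0]]),
  ([239, 226, 159, 152, 135], [.P [226, 159, 152, 135, 239], .W [5, 6, 7, 4, 5, 6, 0, 2, 3, 4, 5, 1, 3, 4, 2, 3, 0, 2, 1, 3, 4, 5, 6, 7], .M 0 [152], .W [7, 6, 5, 4, 3, 2, 1, 3, 4, 5, 6, 7, 6, 3, 4, 5, 4, 3, 2, 0]]),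
  ([239, 226, 159, 152, 141], [.P [239, 159, 152, 141, 226], .W [5, 6, 4, 5, 0, 2, 3, 4, 1, 3, 2, 0], .M 0 [152], .W [7, 6, 5, 4, 3, 2, 1, 3, 4, 5, 6, 7, 6, 3, 4, 5, 4, 3, 2, 0]]),
  ([239, 226, 159, 152, 126, 121], [.P [239, 226, 159, 121, 152, 126], .M 0 [152, 126], .P [239, 226, 152, 126, 159], .W [5, 6, 4, 5], .M 0 [152], .W [7, 6, 5, 4, 3, 2, 1, 3, 4, 5, 6, 7, 6, 3, 4, 5, 4, 3, 2, 0]]),
  ([239, 226, 159, 152, 135, 121], [.P [239, 226, 159, 121, 152, 135], .M 0 [152, 135], .P [226, 159, 152, 135, 239], .W [5, 6, 7, 4, 5, 6, 0, 2, 3, 4, 5, 1, 3, 4, 2, 3, 0, 2, 1, 3, 4, 5, 6, 7], .M 0 [152], .W [7, 6, 5, 4, 3, 2, 1, 3, 4, 5, 6, 7, 6, 3, 4, 5, 4, 3, 2, 0]]),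
  ([239, 226, 159, 152, 135, 126], [.P [239, 226, 152, 126, 159, 135], .W [5, 6, 4, 5], .M 0 [152, 135], .P [226, 159, 152, 135, 239], .W [5, 6, 7, 4, 5, 6, 0, 2, 3, 4, 5, 1, 3, 4, 2, 3, 0, 2, 1, 3, 4, 5, 6, 7], .M 0 [152], .W [7, 6, 5, 4, 3, 2, 1, 3, 4, 5, 6, 7, 6, 3, 4, 5, 4, 3, 2, 0]]),
  ([239, 226, 159, 152, 141, 121], [.P [239, 226, 159, 121, 152, 141], .M 0 [152, 141], .P [239, 159, 152, 141, 226], .W [5, 6, 4, 5, 0, 2, 3, 4, 1, 3, 2, 0], .M 0 [152], .W [7, 6, 5, 4, 3, 2, 1, 3, 4, 5, 6, 7, 6, 3, 4, 5, 4, 3, 2, 0]]),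
  ([239, 226, 159, 152, 141, 126], [.P [239, 226, 152, 126, 159, 141], .W [5, 6, 4, 5], .M 0 [152, 141], .P [239, 159, 152, 141, 226], .W [5, 6, 4, 5, 0, 2, 3, 4, 1, 3, 2, 0], .M 0 [152], .W [7, 6, 5, 4, 3, 2, 1, 3, 4, 5, 6, 7, 6, 3, 4, 5, 4, 3, 2, 0]]),
  ([239, 226, 159, 152, 141, 135], [.P [239, 226, 141, 135, 159, 152], .W [5, 6, 4, 5, 3, 4, 2, 3], .M 0 [152, 141], .P [239, 159, 152, 141, 226], .W [5, 6, 4, 5, 0, 2, 3, 4, 1, 3, 2, 0], .M 0 [152], .W [7, 6, 5, 4, 3, 2, 1, 3, 4, 5, 6, 7, 6, 3, 4, 5, 4, 3, 2, 0]]),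
  ([239, 226, 159, 152, 135, 126, 121], [.P [239, 226, 159, 121, 152, 135, 126], .M 0 [152, 135, 126], .P [239, 226, 152, 126, 159, 135], .W [5, 6, 4, 5], .M 0 [152, 135], .P [226, 159, 152, 135, 239], .W [5, 6, 7, 4, 5, 6, 0, 2, 3, 4, 5, 1, 3, 4, 2, 3, 0, 2, 1, 3, 4, 5, 6, 7], .M 0 [152], .W [7, 6, 5, 4, 3, 2, 1, 3, 4, 5, 6, 7, 6, 3, 4, 5, 4, 3, 2, 0]]),
  ([239, 226, 159, 152, 141, 126, 121], [.P [239, 226, 159, 121, 152, 141, 126], .M 0 [152, 141, 126], .P [239, 226, 152, 126, 159, 141], .W [5, 6, 4, 5], .M 0 [152, 141], .P [239, 159, 152, 141, 226], .W [5, 6, 4, 5, 0, 2, 3, 4, 1, 3, 2, 0], .M 0 [152], .W [7, 6, 5, 4, 3, 2, 1, 3, 4, 5, 6, 7, 6, 3, 4, 5, 4, 3, 2, 0]]),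
  ([239, 226, 159, 152, 141, 135, 121], [.P [239, 226, 159, 121, 152, 141, 135], .M 0 [152, 141, 135], .P [239, 226, 141, 135, 159, 152], .W [5, 6, 4, 5, 3, 4, 2, 3], .M 0 [152, 141], .P [239, 159, 152, 141, 226], .W [5, 6, 4, 5, 0, 2, 3, 4, 1, 3, 2, 0], .M 0 [152], .W [7, 6, 5, 4, 3, 2, 1, 3, 4, 5, 6, 7, 6, 3, 4, 5, 4, 3, 2, 0]]),
  ([239, 226, 159, 152, 141, 135, 126], [.P [239, 226, 152, 126, 159, 141, 135], .W [5, 6, 4, 5], .M 0 [152, 141, 135], .P [239, 226, 141, 135, 159, 152], .W [5, 6, 4, 5, 3, 4, 2, 3], .M 0 [152, 141], .P [239, 159, 152, 141, 226], .W [5, 6, 4, 5, 0, 2, 3, 4, 1, 3, 2, 0], .M 0 [152], .W [7, 6, 5, 4, 3, 2, 1, 3, 4, 5, 6, 7, 6, 3, 4, 5, 4, 3, 2, 0]]),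
  ([239, 226, 159, 152, 141, 135, 126, 121], [.P [239, 226, 159, 121, 152, 141, 135, 126], .M 0 [152, 141, 135, 126], .P [239, 226, 152, 126, 159, 141, 135], .W [5, 6, 4, 5], .M 0 [152, 141, 135], .P [239, 226, 141, 135, 159, 152], .W [5, 6, 4, 5, 3, 4, 2, 3], .M 0 [152, 141], .P [239, 159, 152, 141, 226], .W [5, 6, 4, 5, 0, 2, 3, 4, 1, 3, 2, 0], .M 0 [152], .W [7, 6, 5, 4, 3, 2, 1, 3, 4, 5, 6, 7, 6, 3, 4, 5, 4, 3, 2, 0]])]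

theorem chkReps_E6 : certE6.chkReps 72 6 rkE6 = true := by decide +kernel

theorem exists_rep_E6 {K : Type*} [Field K] [Finite K] [CharP K 2] : ∀ t ∈ (stData chevE6 K).grp, orderOf t = 2 →
    ∃ T ∈ rkE6.map Prod.fst, ∃ g ∈ (stData chevE6 K).grp, g * t * g⁻¹ = (stData chevE6 K).tL T :=
  exists_rep_of_long (by decide +kernel) (mv := mvE6) (by decide +kernel) (tab := tabE6) (by decide +kernel)

theorem rkE6_inj : ∀ e ∈ rkE6, ∀ e' ∈ rkE6, e.2 = e'.2 → e = e' := by decide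

theorem chkReps_E7 : certE7.chkReps 126 7 rkE7 = true := by decide +kernel

theorem exists_rep_E7 {K : Type*} [Field K] [Finite K] [CharP K 2] : ∀ t ∈ (stData chevE7 K).grp, orderOf t = 2 →
    ∃ T ∈ rkE7.map Prod.fst, ∃ g ∈ (stData chevE7 K).grp, g * t * g⁻¹ = (stData chevE7 K).tL T :=
  exists_rep_of_long (by decide +kernel) (mv := mvE7) (by decide +kernel) (tab := tabE7) (by decide +kernel)

theorem rkE7_inj : ∀ e ∈ rkE7, ∀ e' ∈ rkE7, e.2 = e'.2 → e = e' := by decide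

theorem chkReps_E8 : certE8.chkReps 240 8 rkE8 = true := by decide +kernel

theorem exists_rep_E8 {K : Type*} [Field K] [Finite K] [CharP K 2] : ∀ t ∈ (stData chevE8 K).grp, orderOf t = 2 →
    ∃ T ∈ rkE8.map Prod.fst, ∃ g ∈ (stData chevE8 K).grp, g * t * g⁻¹ = (stData chevE8 K).tL T :=
  exists_rep_of_long (by decide +kernel) (mv := mvE8) (by decide +kernel) (tab := tabE8) (by decide +kernel)

theorem rkE8_inj : ∀ e ∈ rkE8, ∀ e' ∈ rkE8, e.2 = e'.2 → e = e' := by decide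

end CL.Chev
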