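/-
CHEV library: the involution classes of `G₂` in characteristic two.
-/
import Cfsg.Agent.CHEV.Inv2Chk
import Cfsg.Agent.CHEV.AutTypes

set_option autoImplicit false

namespace CL.Chev

open Cfsg.Lie

namespace InvG2

variable {K : Type*} [Field K]

local notation "X" => xN (StData.x (stData chevG2 K))

/-- `t` is trivial or conjugate to a long or short root involution -/
def Q (t : GL chevG2.Idx K) : Prop :=
  t = 1 ∨ ∃ T ∈ [[11], [9]], ∃ g ∈ (stData chevG2 K).grp, g * t * g⁻¹ = (stData chevG2 K).tL T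

theorem Q.of_conj {t g : GL chevG2.Idx K} (hg : g ∈ (stData chevG2 K).grp) (h : Q (g * t * g⁻¹)) : Q t := by
  rcases h with h | ⟨T, hT, g', hg', e⟩
  · exact Or.inl (by simpa using h)
  · exact Or.inr ⟨T, hT, g' * g, mul_mem hg' hg, by rw [← e]; group⟩

def ev (xs : List K) (w : List (ℕ × PE)) : GL chevG2.Idx K := (w.map fun a => X a.1 (a.2.ev xs)).prod

variable [CharP K 2]

theorem conj_of_weq (xs : List K) (hx : xs.length ≤ 12) (Y w w' : List (ℕ × PE))
    (h : Mv.weq (Good.C chevG2) chevG2.nroots chevG2.rank 2 (Y ++ w) (w' ++ Y) = true) :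
    (Q (ev xs w') → Q (ev xs w)) ∧ (ev xs w * ev xs w = 1 → ev xs w' * ev xs w' = 1) := by
  have e := prod_eq_of_weqM (CharP.cast_eq_zero K 2) xs hx h
  rw [List.map_append, List.map_append, List.prod_append, List.prod_append, ← mul_inv_eq_iff_eq_mul] at e
  change ev xs Y * ev xs w * (ev xs Y)⁻¹ = ev xs w' at e
  rw [← e]
  refine ⟨Q.of_conj (list_prod_mem fun g hg => ?_), fun h => by rw [conj_mul, h]; simp⟩
  obtain ⟨a, -, rfl⟩ := List.mem_map.1 hg
  exact StData.XS_le_grp _ _ (xN_mem_setL (List.mem_singleton_self _) _)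

theorem sq_eq {a b c d e f : K} (h : X 7 a * (X 6 b * (X 8 c * (X 9 d * (X 10 e * X 11 f)))) *
    (X 7 a * (X 6 b * (X 8 c * (X 9 d * (X 10 e * X 11 f))))) = 1) : a * b = 0 ∧ a * d + a ^ 2 * c + a ^ 3 * b = 0 ∧
      c * d + b * e + a * c ^ 2 + a * b * d + a ^ 2 * b * c = 0 := by
  have e1 := prod_eq_of_weqM (D := chevG2) (CharP.cast_eq_zero K 2) [a, b, c, d, e, f] (by simp)
    (w₁ := [(7, .var 0), (6, .var 1), (8, .var 2), (9, .var 3), (10, .var 4), (11, .var 5),
      (7, .var 0), (6, .var 1), (8, .var 2), (9, .var 3), (10, .var 4), (11, .var 5)])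
    (w₂ := [(8, .var 0 * .var 1), (9, .var 0 ^ 2 * .var 1), (10, .var 0 * .var 3 + .var 0 ^ 2 * .var 2 + .var 0 ^ 3 * .var 1),
      (11, .var 2 * .var 3 + .var 1 * .var 4 + .var 0 * .var 2 ^ 2 + .var 0 * .var 1 * .var 3 +
        .var 0 ^ 2 * .var 1 * .var 2)]) (by decide +kernel)
  have := coords_inj (S := stData chevG2 K) stData_good (L := [8, 9, 10, 11]) (by decide +kernel) (by decide +kernel)
    (by decide) (w := [(8, a * b), (9, a ^ 2 * b), (10, a * d + a ^ 2 * c + a ^ 3 * b),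
      (11, c * d + b * e + a * c ^ 2 + a * b * d + a ^ 2 * b * c)]) (w' := [(8, 0), (9, 0), (10, 0), (11, 0)]) rfl rfl
    (by simp only [mul_assoc] at h; simpa [h, xN_zero] using e1.symm)
  simp only [List.cons.injEq, Prod.mk.injEq, true_and, and_true] at this
  exact ⟨this.1, this.2.2⟩

variable [Finite K]

theorem q1 (r : ℕ) (hr : r ∈ [6, 7, 8, 9, 10, 11]) (c : K) : Q (X r c) := by
  rcases eq_or_ne c 0 with rfl | hc
  · exact Or.inl (xN_zero r)
  have h12 : r < chevG2.nroots := (by decide : ∀ r ∈ [6, 7, 8, 9, 10, 11], r < chevG2.nroots) r hr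
  obtain ⟨a, ha⟩ := exists_pow_eq 2 c⁻¹
  have ha0 : a ≠ 0 := by rintro rfl; exact inv_ne_zero hc (by rw [← ha]; simp)
  refine Q.of_conj ((stData chevG2 K).h_mem_grp ⟨r, h12⟩ a) ?_
  rw [xN, dif_pos h12, StData.h_conj _ _ _ ha0, RootSys.pair_self, zpow_two, ← pow_two, ha, inv_mul_cancel₀ hc,
    ← xN_val (stData chevG2 K).x]
  obtain ⟨ws, h1, h2⟩ := (by decide +kernel : ∀ r ∈ [6, 7, 8, 9, 10, 11], ∃ ws ∈ [[1, 0], [0, 1], [0], [1], []],
    [ws.foldr (Good.C chevG2).rfs r] ∈ [[11], [9]]) r hr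
  obtain ⟨g, hg, e⟩ := nw_conj_xN (S := stData chevG2 K) ((by decide : ∀ ws ∈ [[1, 0], [0, 1], [0], [1], []],
    ∀ i ∈ ws, i < chevG2.rank) ws h1)
  exact Or.inr ⟨_, h2, g, hg, by rw [(e r h12).2]; simp [StData.tL]⟩

theorem exists_sq {d : K} (hd : d ≠ 0) (b : K) : ∃ u, b = d * u ^ 2 := by
  obtain ⟨u, hu⟩ := exists_pow_eq 2 (b / d)
  exact ⟨u, by rw [hu, mul_div_cancel₀ _ hd]⟩

theorem q2 (b d : K) : Q (X 6 b * X 9 d) := by
  rcases eq_or_ne d 0 with rfl | hd
  · rw [xN_zero, mul_one]; exact q1 6 (by decide) b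
  obtain ⟨u, rfl⟩ := exists_sq hd b
  have := (conj_of_weq [d, u] (by simp) [(4, .var 1), (8, .var 0 * .var 1)]
    [(6, .var 0 * .var 1 ^ 2), (9, .var 0)] [(9, .var 0)] (by decide +kernel)).1
  simp [ev] at this
  exact this (q1 9 (by decide) d)

theorem q3 {d : K} (hd : d ≠ 0) (b : K) : Q (X 7 d * X 11 b) := by
  obtain ⟨u, rfl⟩ := exists_sq hd b
  have := (conj_of_weq [d, u] (by simp) [(8, .var 1), (9, .var 0 * .var 1)]
    [(7, .var 0), (11, .var 0 * .var 1 ^ 2)] [(7, .var 0)] (by decide +kernel)).1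
  simp [ev] at this
  exact this (q1 7 (by decide) d)

theorem q4 {d : K} (hd : d ≠ 0) (b : K) : Q (X 8 d * X 10 b) := by
  obtain ⟨u, rfl⟩ := exists_sq hd b
  have := (conj_of_weq [d, u] (by simp) [(7, .var 1), (9, .var 0 * .var 1)]
    [(8, .var 0), (10, .var 0 * .var 1 ^ 2)] [(8, .var 0)] (by decide +kernel)).1
  simp [ev] at this
  exact this (q1 8 (by decide) d)

omit [CharP K 2] [Finite K] in
theorem exists_mul {d : K} (hd : d ≠ 0) (b : K) : ∃ u, b = d * u := ⟨b / d, (mul_div_cancel₀ _ hd).symm⟩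

theorem qA {b d e f : K} (hb : b ≠ 0) (h : X 6 b * (X 9 d * (X 10 e * X 11 f)) * (X 6 b * (X 9 d * (X 10 e * X 11 f))) = 1) :
    Q (X 6 b * (X 9 d * (X 10 e * X 11 f))) := by
  obtain rfl : e = 0 := by simpa [hb] using (sq_eq (a := 0) (b := b) (c := 0) (d := d) (e := e) (f := f) (by simpa [xN_zero] using h)).2.2
  obtain ⟨u, rfl⟩ := exists_mul hb f
  simpa [ev, xN_zero] using (conj_of_weq [b, d, u] (by simp) [(10, .var 2)]
    [(6, .var 0), (9, .var 1), (11, .var 0 * .var 2)] [(6, .var 0), (9, .var 1)] (by decide +kernel)).1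
    (by simpa [ev] using q2 b d)

theorem qB {b d e f : K} (hb : b ≠ 0) (h : X 7 b * (X 9 d * (X 10 e * X 11 f)) * (X 7 b * (X 9 d * (X 10 e * X 11 f))) = 1) :
    Q (X 7 b * (X 9 d * (X 10 e * X 11 f))) := by
  obtain rfl : d = 0 := by simpa [hb] using (sq_eq (a := b) (b := 0) (c := 0) (d := d) (e := e) (f := f) (by simpa [xN_zero] using h)).2.1
  obtain ⟨u, rfl⟩ := exists_mul hb e
  simpa [ev, xN_zero] using (conj_of_weq [b, f, u] (by simp) [(9, .var 2)]
    [(7, .var 0), (10, .var 0 * .var 2), (11, .var 1)] [(7, .var 0), (11, .var 1)] (by decide +kernel)).1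
    (by simpa [ev] using q3 hb f)

theorem q_U {a b c d e f : K} (h : X 7 a * (X 6 b * (X 8 c * (X 9 d * (X 10 e * X 11 f)))) *
    (X 7 a * (X 6 b * (X 8 c * (X 9 d * (X 10 e * X 11 f))))) = 1) :
    Q (X 7 a * (X 6 b * (X 8 c * (X 9 d * (X 10 e * X 11 f))))) := by
  obtain ⟨h1, -, h3⟩ := sq_eq h
  by_cases hb : b ≠ 0
  · obtain rfl : a = 0 := by simpa [hb] using h1
    obtain ⟨u, rfl⟩ := exists_mul hb c
    have := conj_of_weq [b, u, d, e, f] (by simp) [(7, .var 1)]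
      [(6, .var 0), (8, .var 0 * .var 1), (9, .var 2), (10, .var 3), (11, .var 4)]
      [(6, .var 0), (9, .var 2 + .var 0 * .var 1 ^ 2), (10, .var 3 + .var 1 * .var 2),
        (11, .var 4 + .var 0 ^ 2 * .var 1 ^ 3)] (by decide +kernel)
    rw [xN_zero, one_mul] at h ⊢
    simp [ev] at this
    exact this.1 (qA hb (this.2 h))
  obtain rfl := not_not.1 hb
  rw [xN_zero, one_mul] at h ⊢
  by_cases ha : a ≠ 0
  · obtain ⟨u, rfl⟩ := exists_mul ha c
    have := conj_of_weq [a, u, d, e, f] (by simp) [(6, .var 1)]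
      [(7, .var 0), (8, .var 0 * .var 1), (9, .var 2), (10, .var 3), (11, .var 4)]
      [(7, .var 0), (9, .var 2 + .var 0 ^ 2 * .var 1), (10, .var 3 + .var 0 ^ 3 * .var 1),
        (11, .var 4 + .var 1 * .var 3 + .var 0 ^ 3 * .var 1 ^ 2)] (by decide +kernel)
    simp [ev] at this
    exact this.1 (qB ha (this.2 h))
  obtain rfl := not_not.1 ha
  rw [xN_zero, one_mul]
  by_cases hc : c ≠ 0
  · obtain rfl : d = 0 := by simpa [hc] using h3
    obtain ⟨u, rfl⟩ := exists_mul hc f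
    simpa [ev, xN_zero] using (conj_of_weq [c, e, u] (by simp) [(9, .var 2)]
      [(8, .var 0), (10, .var 1), (11, .var 0 * .var 2)] [(8, .var 0), (10, .var 1)] (by decide +kernel)).1
      (by simpa [ev] using q4 hc e)
  obtain rfl := not_not.1 hc
  rw [xN_zero, one_mul]
  by_cases hd : d ≠ 0
  · obtain ⟨u, rfl⟩ := exists_mul hd e
    obtain ⟨v, rfl⟩ := exists_mul hd f
    simpa [ev] using (conj_of_weq [d, u, v] (by simp) [(8, .var 2), (7, .var 1)]
      [(9, .var 0), (10, .var 0 * .var 1), (11, .var 0 * .var 2)] [(9, .var 0)] (by decide +kernel)).1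
      (by simpa [ev] using q1 9 (by decide) d)
  obtain rfl := not_not.1 hd
  rw [xN_zero, one_mul]
  by_cases he : e ≠ 0
  · obtain ⟨u, rfl⟩ := exists_mul he f
    simpa [ev] using (conj_of_weq [e, u] (by simp) [(6, .var 1)]
      [(10, .var 0), (11, .var 0 * .var 1)] [(10, .var 0)] (by decide +kernel)).1 (by simpa [ev] using q1 10 (by decide) e)
  obtain rfl := not_not.1 he
  rw [xN_zero, one_mul]
  exact q1 11 (by decide) f

end InvG2

theorem exists_rep_G2 {K : Type*} [Field K] [CharP K 2] [Finite K] : ∀ t ∈ (stData chevG2 K).grp, orderOf t = 2 →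
    ∃ T ∈ [[11], [9]], ∃ g ∈ (stData chevG2 K).grp, g * t * g⁻¹ = (stData chevG2 K).tL T := fun t ht h2 => by
  obtain ⟨g, hg, e⟩ := (stData_good.sylIn_U' (stData_good.not_dvd_card_H stData_adjoint) Set.univ).exists_conj_le
    (R := Subgroup.zpowers t) (IsPGroup.of_card (n := 1) ((Nat.card_zpowers t).trans h2))
    ((Subgroup.zpowers_le).2 (by rwa [StData.P_univ]))
  rw [StData.P_univ] at hg
  obtain ⟨c, e'⟩ := exists_coords_U (L := [7, 6, 8, 9, 10, 11]) (by decide +kernel)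
    (e (CL.MSS.conj_mem_cj (Subgroup.mem_zpowers t)))
  simp only [List.map_cons, List.map_nil, List.prod_cons, List.prod_nil, mul_one] at e'
  refine (InvG2.Q.of_conj hg (e' ▸ InvG2.q_U (by
    rw [← e', conj_mul, ← pow_two, ← h2, pow_orderOf_eq_one]; simp))).resolve_left ?_
  rintro rfl
  simp at h2

end CL.Chev
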