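import Mathlib

/-!
# Abstract systems of transvection groups (McLaughlin's theorem, combinatorial part)
-/

set_option autoImplicit false
set_option linter.unusedSectionVars false

open Module

namespace CL.McL

variable {F X Y : Type*} [Field F] [AddCommGroup X] [Module F X] [AddCommGroup Y] [Module F Y]

/-- non-commuting pairs -/
def NAdj (β : X →ₗ[F] Y →ₗ[F] F) (S : X → Y → Prop) (p q : X × Y) : Prop :=
  S p.1 p.2 ∧ S q.1 q.2 ∧ (β p.1 q.2 ≠ 0 ∨ β q.1 p.2 ≠ 0)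

/-- a connected system of (centre, axis) pairs of full transvection groups -/
structure TS (β : X →ₗ[F] Y →ₗ[F] F) (S : X → Y → Prop) : Prop where
  orth : ∀ {x φ}, S x φ → β x φ = 0
  smul : ∀ {x φ} {a b : F}, S x φ → a ≠ 0 → b ≠ 0 → S (a • x) (b • φ)
  add_left : ∀ {x x' φ}, S x φ → S x' φ → x + x' ≠ 0 → S (x + x') φ
  add_right : ∀ {x φ φ'}, S x φ → S x φ' → φ + φ' ≠ 0 → S x (φ + φ')
  conj : ∀ {x φ y ψ} (c : F), S x φ → S y ψ → S (x + (c * β x ψ) • y) (φ - (c * β y φ) • ψ)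
  nbr : ∀ {x φ}, S x φ → ∃ y ψ, S y ψ ∧ β x ψ ≠ 0 ∧ β y φ ≠ 0
  conn : ∀ {x φ y ψ}, S x φ → S y ψ → Relation.ReflTransGen (NAdj β S) (x, φ) (y, ψ)
  inj : ∀ {x φ x' φ'}, S x φ → S x' φ' → (∀ y ψ, S y ψ → β (x - x') ψ = 0) →
    (∀ y ψ, S y ψ → β y (φ - φ') = 0) → x = x' ∧ φ = φ'

/-- span of the centres -/
def cen (F : Type*) {X Y : Type*} [Field F] [AddCommGroup X] [Module F X] (S : X → Y → Prop) :
    Submodule F X := Submodule.span F {x | ∃ φ, S x φ}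

variable {β : X →ₗ[F] Y →ₗ[F] F} {S : X → Y → Prop}

theorem mem_cen {x : X} {φ : Y} (h : S x φ) : x ∈ cen F S := Submodule.subset_span ⟨φ, h⟩

theorem finrank_le_inf_ker [FiniteDimensional F Y] (U : Submodule F Y) (f : Y →ₗ[F] F) :
    finrank F U ≤ finrank F ↥(U ⊓ LinearMap.ker f) + 1 := by
  have h1 := LinearMap.finrank_range_add_finrank_ker (f.domRestrict U)
  have h2 : finrank F (LinearMap.range (f.domRestrict U)) ≤ 1 := by
    simpa using Submodule.finrank_le (LinearMap.range (f.domRestrict U))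
  have h3 : finrank F (LinearMap.ker (f.domRestrict U)) = finrank F ↥(U ⊓ LinearMap.ker f) := by
    rw [LinearMap.ker_domRestrict, ← Submodule.finrank_map_subtype_eq, Submodule.map_comap_subtype]
  omega

theorem exists_eq_smul_on {Z : Type*} [AddCommGroup Z] [Module F Z] (U : Submodule F Z)
    {f g : Z →ₗ[F] F} (h : ∀ u ∈ U, f u = 0 → g u = 0) : ∃ c : F, ∀ u ∈ U, g u = c * f u := by
  by_cases hf : ∀ u ∈ U, f u = 0
  · exact ⟨0, fun u hu => by simp [h u hu (hf u hu)]⟩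
  push Not at hf
  obtain ⟨a, haU, ha⟩ := hf
  refine ⟨g a / f a, fun u hu => ?_⟩
  have := h (u - (f u / f a) • a) (U.sub_mem hu (U.smul_mem _ haU)) (by simp [ha])
  simp only [map_sub, map_smul, smul_eq_mul] at this
  field_simp at this ⊢
  linear_combination this

namespace TS

theorem flip (h : TS β S) : TS β.flip (fun φ x => S x φ) where
  orth hx := h.orth hx
  smul hx ha hb := h.smul hx hb ha
  add_left := h.add_right
  add_right := h.add_left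
  conj {φ x ψ y} c hx hy := by
    have := h.conj (-c) hx hy
    simpa [sub_eq_add_neg] using this
  nbr hx := by
    obtain ⟨y, ψ, h1, h2, h3⟩ := h.nbr hx
    exact ⟨ψ, y, h1, h3, h2⟩
  conn {φ x ψ y} hx hy := by
    have : ∀ q : X × Y, Relation.ReflTransGen (NAdj β S) (x, φ) q →
        Relation.ReflTransGen (NAdj β.flip fun φ x => S x φ) (φ, x) q.swap := by
      intro q hq
      induction hq with
      | refl => exact .refl
      | tail _ h1 ih => exact ih.tail ⟨h1.1, h1.2.1, h1.2.2.symm⟩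
    exact this _ (h.conn hx hy)
  inj hx hx' h1 h2 := (h.inj hx hx' (fun y ψ hy => h2 ψ y hy) (fun y ψ hy => h1 ψ y hy)).symm

variable (h : TS β S)
include h

theorem ne_left {x : X} {φ : Y} (hx : S x φ) : x ≠ 0 := by
  obtain ⟨y, ψ, -, h2, -⟩ := h.nbr hx
  rintro rfl
  simp at h2

theorem ne_right {x : X} {φ : Y} (hx : S x φ) : φ ≠ 0 := h.flip.ne_left hx

theorem smul_left {x : X} {φ : Y} {a : F} (hx : S x φ) (ha : a ≠ 0) : S (a • x) φ := by
  simpa using h.smul hx ha one_ne_zero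

theorem smul_right {x : X} {φ : Y} {a : F} (hx : S x φ) (ha : a ≠ 0) : S x (a • φ) := by
  simpa using h.smul hx one_ne_zero ha

theorem comm {x y : X} {φ ψ : Y} (hx : S x φ) (hy : S y ψ) (h0 : β y φ = 0) (h1 : β x ψ ≠ 0) :
    S y φ := by
  have h2 := h.conj (β x ψ)⁻¹ hx hy
  rw [inv_mul_cancel₀ h1, one_smul, h0, mul_zero, zero_smul, sub_zero] at h2
  have h3 := h.add_left h2 (h.smul_left hx (neg_ne_zero.2 one_ne_zero))
    (by simpa using h.ne_left hy)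
  simpa using h3

theorem line {x y : X} {φ ψ : Y} (hx : S x φ) (hy : S y ψ) (h1 : β x ψ ≠ 0) (a : F) :
    ∃ θ, S (x + a • y) θ := by
  have h2 := h.conj (a * (β x ψ)⁻¹) hx hy
  rw [mul_assoc, inv_mul_cancel₀ h1, mul_one] at h2
  exact ⟨_, h2⟩

/-- the axes with centre `x` -/
def ax (x : X) : Submodule F Y where
  carrier := {φ | S x φ ∨ φ = 0}
  zero_mem' := Or.inr rfl
  add_mem' := by
    rintro φ ψ (h1 | rfl) (h2 | rfl)
    · by_cases h0 : φ + ψ = 0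
      · exact Or.inr h0
      · exact Or.inl (h.add_right h1 h2 h0)
    · exact Or.inl (by simpa using h1)
    · exact Or.inl (by simpa using h2)
    · exact Or.inr (by simp)
  smul_mem' := by
    rintro a φ (h1 | rfl)
    · by_cases ha : a = 0
      · exact Or.inr (by simp [ha])
      · exact Or.inl (h.smul_right h1 ha)
    · exact Or.inr (by simp)

theorem mem_ax {x : X} {φ : Y} : φ ∈ h.ax x ↔ S x φ ∨ φ = 0 := Iff.rfl

theorem ax_smul {x : X} {a : F} (ha : a ≠ 0) : h.ax (a • x) = h.ax x := by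
  ext φ
  refine or_congr_left ⟨fun h1 => ?_, fun h1 => h.smul_left h1 ha⟩
  simpa [smul_smul, ha] using h.smul_left h1 (inv_ne_zero ha)

section SL

variable [FiniteDimensional F Y]

theorem dim_le {v y : X} {ψ : Y} (hy : S y ψ) (h1 : β v ψ ≠ 0) (a : F) :
    finrank F (h.ax v) ≤ finrank F (h.ax (v + a • y)) := by
  set c := a * (β v ψ)⁻¹ with hc
  let τ : Y →ₗ[F] Y := LinearMap.id - (c • β y).smulRight ψ
  have hτ : ∀ φ, τ φ = φ - (c * β y φ) • ψ := fun φ => by simp [τ]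
  have hinj : Function.Injective τ := by
    rw [← LinearMap.ker_eq_bot, eq_bot_iff]
    intro φ hφ
    rw [LinearMap.mem_ker, hτ, sub_eq_zero] at hφ
    have : β y φ = 0 := by rw [hφ]; simp [h.orth hy]
    rw [this] at hφ
    simpa using hφ
  rw [LinearEquiv.finrank_eq (Submodule.equivMapOfInjective τ hinj (h.ax v))]
  refine Submodule.finrank_mono ?_
  rintro _ ⟨φ, hφ | rfl, rfl⟩
  · left
    have := h.conj c hφ hy
    rwa [hc, mul_assoc, inv_mul_cancel₀ h1, mul_one, ← hc, ← hτ] at this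
  · simp

theorem dim_eq_of_adj {x y : X} {φ ψ : Y} (hx : S x φ) (hy : S y ψ) (h1 : β x ψ ≠ 0)
    (h2 : β y φ ≠ 0) : finrank F (h.ax x) = finrank F (h.ax y) := by
  have key : ∀ {x y : X} {φ ψ : Y}, S x φ → S y ψ → β x ψ ≠ 0 → β y φ ≠ 0 →
      finrank F (h.ax x) ≤ finrank F (h.ax y) := by
    intro x y φ ψ hx hy h1 h2
    have e1 := h.dim_le hy h1 1
    have e2 := h.dim_le (v := x + (1 : F) • y) hx (by simpa [h.orth hx] using h2) (-1)
    have : x + (1 : F) • y + (-1 : F) • x = y := by module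
    rw [this] at e2
    exact e1.trans e2
  exact le_antisymm (key hx hy h1 h2) (key hy hx h2 h1)

theorem dim_eq_of_axis {x y : X} {φ : Y} (hx : S x φ) (hy : S y φ) :
    finrank F (h.ax x) = finrank F (h.ax y) := by
  obtain ⟨z, θ, hz, h1, h2⟩ := h.nbr hx
  obtain ⟨w, η, hw, h3, h4⟩ := h.nbr hy
  by_cases h5 : β y θ = 0
  · by_cases h6 : β x η = 0
    · have h7 : β (x + y) θ ≠ 0 := by simpa [h5] using h1
      have h8 : S (x + y) φ := h.add_left hx hy (by rintro h0; simp [h0] at h7)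
      rw [h.dim_eq_of_adj hx hz h1 h2, ← h.dim_eq_of_adj h8 hz h7 h2,
        h.dim_eq_of_adj h8 hw (by simpa [h6] using h3) h4, h.dim_eq_of_adj hy hw h3 h4]
    · rw [h.dim_eq_of_adj hx hw h6 h4, h.dim_eq_of_adj hy hw h3 h4]
  · rw [h.dim_eq_of_adj hx hz h1 h2, h.dim_eq_of_adj hy hz h5 h2]

theorem dim_eq {x y : X} {φ ψ : Y} (hx : S x φ) (hy : S y ψ) :
    finrank F (h.ax x) = finrank F (h.ax y) := by
  have key : ∀ {x y : X} {φ ψ : Y}, S x φ → S y ψ → β x ψ ≠ 0 →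
      finrank F (h.ax x) = finrank F (h.ax y) := by
    intro x y φ ψ hx hy h1
    by_cases h2 : β y φ = 0
    · exact h.dim_eq_of_axis hx (h.comm hx hy h2 h1)
    · exact h.dim_eq_of_adj hx hy h1 h2
  have : ∀ q : X × Y, Relation.ReflTransGen (NAdj β S) (x, φ) q →
      finrank F (h.ax x) = finrank F (h.ax q.1) := by
    intro q hq
    induction hq with
    | refl => rfl
    | tail _ h1 ih =>
      rw [ih]
      rcases h1.2.2 with h2 | h2
      · exact key h1.1 h1.2.1 h2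
      · exact (key h1.2.1 h1.1 h2).symm
  exact this _ (h.conn hx hy)

theorem ax_inf_le {x y : X} {ψ : Y} (hy : S y ψ) (h1 : β x ψ ≠ 0) :
    h.ax x ⊓ LinearMap.ker (β y) ≤ h.ax y ⊓ LinearMap.ker (β x) := by
  rintro φ ⟨hφ | rfl, h0⟩
  · exact ⟨Or.inl (h.comm hφ hy h0 h1), h.orth hφ⟩
  · simp

theorem adj_symm {x y : X} {φ ψ : Y} (hx : S x φ) (hy : S y ψ) (h1 : β x ψ ≠ 0) :
    ∃ φ', S x φ' ∧ β y φ' ≠ 0 := by
  by_contra hcon
  push Not at hcon
  have e1 : h.ax x ≤ h.ax y ⊓ LinearMap.ker (β x) := by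
    refine le_trans (le_inf le_rfl ?_) (h.ax_inf_le hy h1)
    rintro φ' (h2 | rfl)
    · exact hcon φ' h2
    · simp
  have e2 : h.ax y ⊓ LinearMap.ker (β x) < h.ax y :=
    lt_of_le_of_ne inf_le_left fun e => h1 (e.ge (Or.inl hy)).2
  have := Submodule.finrank_lt_finrank_of_lt (e1.trans_lt e2)
  rw [h.dim_eq hx hy] at this
  exact lt_irrefl _ this

variable (hSL : ∃ x φ y ψ, S x φ ∧ S y ψ ∧ β y φ = 0 ∧ β x ψ ≠ 0)
include hSL

theorem exists_axis_orth {x : X} {φ : Y} (hx : S x φ) (v : X) : ∃ θ, S x θ ∧ β v θ = 0 := by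
  obtain ⟨x₀, φ₀, y₀, ψ₀, h1, h2, h3, h4⟩ := hSL
  have h5 : 2 ≤ finrank F (h.ax y₀) := by
    have e1 : (⊥ : Submodule F Y) < h.ax y₀ ⊓ LinearMap.ker (β x₀) :=
      bot_lt_iff_ne_bot.2 ((Submodule.ne_bot_iff _).2
        ⟨φ₀, ⟨Or.inl (h.comm h1 h2 h3 h4), h.orth h1⟩, h.ne_right h1⟩)
    have e2 : h.ax y₀ ⊓ LinearMap.ker (β x₀) < h.ax y₀ :=
      lt_of_le_of_ne inf_le_left fun e => h4 (e.ge (Or.inl h2)).2
    have := Submodule.finrank_lt_finrank_of_lt e1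
    have := Submodule.finrank_lt_finrank_of_lt e2
    omega
  rw [← h.dim_eq hx h2] at h5
  have h6 := finrank_le_inf_ker (h.ax x) (β v)
  have h7 : h.ax x ⊓ LinearMap.ker (β v) ≠ ⊥ := by
    intro e
    rw [e, finrank_bot] at h6
    omega
  obtain ⟨θ, ⟨h8, h9⟩, h10⟩ := (Submodule.ne_bot_iff _).1 h7
  exact ⟨θ, h8.resolve_right h10, h9⟩

theorem sl_common_of_adj {x y : X} {φ ψ : Y} (hx : S x φ) (hy : S y ψ) (h1 : β x ψ ≠ 0) :
    ∃ θ, S x θ ∧ S y θ := by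
  obtain ⟨θ, h2, h3⟩ := h.exists_axis_orth hSL hx y
  exact ⟨θ, h2, h.comm h2 hy h3 h1⟩

theorem sl_diam {x y : X} {φ ψ : Y} (hx : S x φ) (hy : S y ψ) :
    ∃ z θ φ' ψ', S z θ ∧ S x φ' ∧ S y ψ' ∧ β z φ' ≠ 0 ∧ β z ψ' ≠ 0 := by
  have : ∀ q : X × Y, Relation.ReflTransGen (NAdj β S) (x, φ) q →
      ∃ z θ φ' ψ', S z θ ∧ S x φ' ∧ S q.1 ψ' ∧ β z φ' ≠ 0 ∧ β z ψ' ≠ 0 := by
    intro q hq
    induction hq with
    | refl =>
      obtain ⟨z, θ, h1, -, h3⟩ := h.nbr hx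
      exact ⟨z, θ, φ, φ, h1, hx, hx, h3, h3⟩
    | @tail p q _ h1 ih =>
      obtain ⟨z, θ, φ', ψ', hz, hx', hp', h2, h3⟩ := ih
      obtain ⟨η, hη, h4⟩ : ∃ η, S q.1 η ∧ β p.1 η ≠ 0 := by
        rcases h1.2.2 with h4 | h4
        · exact ⟨_, h1.2.1, h4⟩
        · exact h.adj_symm h1.2.1 h1.1 h4
      by_cases h5 : β z η = 0
      · by_cases h6 : β p.1 φ' = 0
        · obtain ⟨ξ, h7, h8⟩ := h.sl_common_of_adj hSL hz hp' h3
          have h9 : β (z + p.1) φ' ≠ 0 := by simpa [h6] using h2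
          exact ⟨z + p.1, ξ, φ', η, h.add_left h7 h8 (by rintro h0; simp [h0] at h9), hx', hη, h9,
            by simpa [h5] using h4⟩
        · exact ⟨p.1, p.2, φ', η, h1.1, hx', hη, h6, h4⟩
      · exact ⟨z, θ, φ', η, hz, hx', hη, h2, h5⟩
  exact this _ (h.conn hx hy)

theorem sl_common {x y : X} {φ ψ : Y} (hx : S x φ) (hy : S y ψ) : ∃ θ, S x θ ∧ S y θ := by
  obtain ⟨z, θ, φ', ψ', hz, hx', hy', h1, h2⟩ := h.sl_diam hSL hx hy
  obtain ⟨η, h3, h4⟩ := h.exists_axis_orth hSL hx z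
  by_cases h5 : β y η = 0
  · obtain ⟨θ', h6, h7⟩ := h.adj_symm hz hx' h1
    exact ⟨η, h3, h.comm (h.comm h3 h6 h4 h7) hy' h5 h2⟩
  · obtain ⟨ξ, h6, h7⟩ := h.sl_common_of_adj hSL hy h3 h5
    exact ⟨ξ, h7, h6⟩

theorem sl_cen {v : X} (hv : v ∈ cen F S) (h0 : v ≠ 0) : ∃ θ, S v θ := by
  have : v = 0 ∨ ∃ θ, S v θ := by
    clear h0
    induction hv using Submodule.span_induction with
    | mem x hx => exact Or.inr hx
    | zero => exact Or.inl rfl
    | add x y _ _ hx hy =>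
      rcases hx with rfl | ⟨φ, hx⟩
      · simpa using hy
      rcases hy with rfl | ⟨ψ, hy⟩
      · exact Or.inr ⟨φ, by simpa using hx⟩
      obtain ⟨θ, h1, h2⟩ := h.sl_common hSL hx hy
      by_cases h3 : x + y = 0
      · exact Or.inl h3
      · exact Or.inr ⟨θ, h.add_left h1 h2 h3⟩
    | smul a x _ hx =>
      rcases hx with rfl | ⟨φ, hx⟩
      · simp
      by_cases ha : a = 0
      · simp [ha]
      · exact Or.inr ⟨φ, h.smul_left hx ha⟩
  exact this.resolve_left h0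

theorem sl_rad {v : X} (hv : v ∈ cen F S) (h0 : ∀ y ψ, S y ψ → β v ψ = 0) : v = 0 := by
  by_contra h1
  obtain ⟨θ, h2⟩ := h.sl_cen hSL hv h1
  obtain ⟨y, ψ, h3, h4, -⟩ := h.nbr h2
  exact h4 (h0 y ψ h3)

omit h [FiniteDimensional F Y] in
theorem hSL_flip : ∃ φ x ψ y, S x φ ∧ S y ψ ∧ β.flip ψ x = 0 ∧ β.flip φ y ≠ 0 := by
  obtain ⟨x, φ, y, ψ, h1, h2, h3, h4⟩ := hSL
  exact ⟨ψ, y, φ, x, h2, h1, h3, h4⟩

theorem sl_full [FiniteDimensional F X] {x : X} {φ : Y} (hx : x ∈ cen F S)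
    (hφ : φ ∈ cen F (fun φ x => S x φ)) (hx0 : x ≠ 0) (hφ0 : φ ≠ 0) (h0 : β x φ = 0) : S x φ := by
  obtain ⟨θ, h1⟩ := h.sl_cen hSL hx hx0
  obtain ⟨y, h2⟩ := h.flip.sl_cen (hSL_flip hSL) hφ hφ0
  by_cases h3 : ∀ ψ ∈ cen F (fun φ x => S x φ), β x ψ = 0 → β y ψ = 0
  · obtain ⟨c, hc⟩ := exists_eq_smul_on _ h3
    have h4 : y - c • x = 0 := by
      refine h.sl_rad hSL (Submodule.sub_mem _ (mem_cen h2) (Submodule.smul_mem _ _ hx)) ?_
      intro z ψ hz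
      simp [hc ψ (mem_cen (S := fun φ x => S x φ) hz)]
    rw [sub_eq_zero] at h4
    have hc0 : c ≠ 0 := by rintro rfl; exact h.ne_left h2 (by simpa using h4)
    have := h.smul_left h2 (inv_ne_zero hc0)
    rwa [h4, smul_smul, inv_mul_cancel₀ hc0, one_smul] at this
  · push Not at h3
    obtain ⟨ψ, hψ, h4, h5⟩ := h3
    obtain ⟨z, h6⟩ := h.flip.sl_cen (hSL_flip hSL) hψ (by rintro rfl; simp at h5)
    obtain ⟨u, η, h7, h8, -⟩ := h.nbr h1
    obtain ⟨w, h9, h10⟩ := h.flip.sl_common (hSL_flip hSL) h6 h7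
    obtain ⟨θ', h11, h12⟩ := h.adj_symm h1 h10 h8
    exact h.comm h2 (h.comm h9 h11 h4 h12) h0 h5

end SL

section Sp

variable (hSp : ∀ x φ y ψ, S x φ → S y ψ → β y φ = 0 → β x ψ = 0)
include hSp

theorem sp_diam {x y : X} {φ ψ : Y} (hx : S x φ) (hy : S y ψ) :
    ∃ z θ, S z θ ∧ β x θ ≠ 0 ∧ β y θ ≠ 0 := by
  have : ∀ q : X × Y, Relation.ReflTransGen (NAdj β S) (x, φ) q →
      ∃ z θ, S z θ ∧ β x θ ≠ 0 ∧ β q.1 θ ≠ 0 := by
    intro q hq
    induction hq with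
    | refl =>
      obtain ⟨z, θ, h1, h2, -⟩ := h.nbr hx
      exact ⟨z, θ, h1, h2, h2⟩
    | @tail p q _ h1 ih =>
      obtain ⟨z, θ, hz, h2, h3⟩ := ih
      have h4 : β q.1 p.2 ≠ 0 := by
        rcases h1.2.2 with h4 | h4
        · exact fun h5 => h4 (hSp _ _ _ _ h1.1 h1.2.1 h5)
        · exact h4
      by_cases h5 : β q.1 θ = 0
      · by_cases h6 : β x p.2 = 0
        · obtain ⟨η, h7⟩ := h.line h1.1 hz h3 1
          refine ⟨_, η, h7, fun h8 => h2 (hSp _ _ _ _ hx hz ?_), fun h8 => h4 (hSp _ _ _ _ h1.2.1 h1.1 ?_)⟩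
          · have := hSp _ _ _ _ h7 hx h8
            simpa [hSp _ _ _ _ h1.1 hx h6] using this
          · have := hSp _ _ _ _ h7 h1.2.1 h8
            simpa [hSp _ _ _ _ hz h1.2.1 h5] using this
        · exact ⟨p.1, p.2, h1.1, h6, h4⟩
      · exact ⟨z, θ, hz, h2, h5⟩
  exact this _ (h.conn hx hy)

theorem sp_add_aux {x y z : X} {φ ψ θ : Y} (hx : S x φ) (hy : S y ψ) (hz : S z θ)
    (h1 : β x θ ≠ 0) (h2 : β y θ ≠ 0) (h3 : β (x + y) θ ≠ 0) : ∃ η, S (x + y) η := by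
  by_cases h0 : β x ψ = 0
  swap
  · simpa using h.line hx hy h0 1
  obtain ⟨η, h4⟩ := h.line hy hz h2 1
  have h5 : β x η ≠ 0 := fun h6 => h1 (hSp _ _ _ _ hx hz (by
    have := hSp _ _ _ _ h4 hx h6
    simpa [hSp _ _ _ _ hy hx h0] using this))
  obtain ⟨ξ, h6⟩ := h.line hx h4 h5 1
  obtain ⟨ζ, h7⟩ := h.line h6 hz (by simpa [h.orth hz] using h3) (-1)
  exact ⟨ζ, by convert h7 using 1; module⟩

variable (h3 : ∃ a : F, a ≠ 0 ∧ a ≠ 1)
include h3

theorem sp_add {x y : X} {φ ψ : Y} (hx : S x φ) (hy : S y ψ)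
    (hr : ¬ ∀ z θ, S z θ → β (x + y) θ = 0) : ∃ η, S (x + y) η := by
  push Not at hr
  obtain ⟨w, η, hw, h1⟩ := hr
  obtain ⟨z, θ, hz, h2, h4⟩ := h.sp_diam hSp hx hy
  by_cases h5 : β (x + y) θ = 0
  swap
  · exact h.sp_add_aux hSp hx hy hz h2 h4 h5
  obtain ⟨a, ha0, ha1⟩ := h3
  have key : ∀ {x y : X} {φ ψ : Y}, S x φ → S y ψ → β x θ ≠ 0 → β y θ ≠ 0 → β (x + y) θ = 0 →
      β (x + y) η ≠ 0 → β y η = 0 → ∃ ξ, S (x + y) ξ := by
    intro x y φ ψ hx hy h2 h4 h5 h1 h6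
    have h7 : β x η ≠ 0 := by simpa [h6] using h1
    have h8 : β y θ = - β x θ := by
      rw [map_add, LinearMap.add_apply] at h5; linear_combination h5
    obtain ⟨ξ, h9⟩ := h.sp_add_aux hSp hx (h.smul_left hy ha0) hz h2 (by simp [ha0, h4]) (by
      have : β (x + a • y) θ = (1 - a) * β x θ := by simp [h8]; ring
      rw [this]; exact mul_ne_zero (sub_ne_zero.2 ha1.symm) h2)
    have ha2 : 1 - a⁻¹ ≠ 0 := sub_ne_zero.2 (inv_ne_one.2 ha1).symm
    have e : (1 - a⁻¹) • x + a⁻¹ • (x + a • y) = x + y := by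
      rw [smul_add, smul_smul, inv_mul_cancel₀ ha0]; module
    rw [← e]
    exact h.sp_add_aux hSp (h.smul_left hx ha2) (h.smul_left h9 (inv_ne_zero ha0)) hw
      (by simp [ha2, h7]) (by simp [ha0, h6, h7]) (e ▸ h1)
  by_cases h6 : β y η = 0
  · exact key hx hy h2 h4 h5 h1 h6
  by_cases h7 : β x η = 0
  · rw [add_comm] at h5 h1 ⊢
    exact key hy hx h4 h2 h5 h1 h7
  · exact h.sp_add_aux hSp hx hy hw h7 h6 h1

theorem sp_add_cen {v : X} (hv : v ∈ cen F S) :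
    ∀ x φ, S x φ → (¬ ∀ z θ, S z θ → β (x + v) θ = 0) → ∃ η, S (x + v) η := by
  induction hv using Submodule.span_induction with
  | mem y hy =>
    obtain ⟨ψ, hy⟩ := hy
    exact fun x φ hx hr => h.sp_add hSp h3 hx hy hr
  | zero => exact fun x φ hx _ => ⟨φ, by simpa using hx⟩
  | add v v' _ _ hv hv' =>
    intro x φ hx hr
    by_cases h1 : ∀ z θ, S z θ → β (x + v) θ = 0
    swap
    · obtain ⟨η, h2⟩ := hv x φ hx h1
      rw [← add_assoc] at hr ⊢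
      exact hv' _ η h2 hr
    by_cases h2 : ∀ z θ, S z θ → β (x + v') θ = 0
    swap
    · obtain ⟨η, h4⟩ := hv' x φ hx h2
      rw [add_comm v, ← add_assoc] at hr ⊢
      exact hv _ η h4 hr
    obtain ⟨a, ha0, ha1⟩ := h3
    obtain ⟨y, ψ, hy, h4, -⟩ := h.nbr hx
    have ha2 : 1 - a ≠ 0 := sub_ne_zero.2 ha1.symm
    obtain ⟨η, h5⟩ := hv _ φ (h.smul_left hx ha0) fun h5 => by
      have e1 := h5 y ψ hy
      have e2 := h1 y ψ hy
      simp only [map_add, map_smul, LinearMap.add_apply, LinearMap.smul_apply, smul_eq_mul] at e1 e2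
      exact mul_ne_zero ha2 h4 (by linear_combination e2 - e1)
    obtain ⟨η', h6⟩ := hv' _ φ (h.smul_left hx ha2) fun h5 => by
      have e1 := h5 y ψ hy
      have e2 := h2 y ψ hy
      simp only [map_add, map_smul, LinearMap.add_apply, LinearMap.smul_apply, smul_eq_mul] at e1 e2
      exact mul_ne_zero ha0 h4 (by linear_combination e2 - e1)
    have e : a • x + v + ((1 - a) • x + v') = x + (v + v') := by module
    rw [← e] at hr ⊢
    exact h.sp_add hSp ⟨a, ha0, ha1⟩ h5 h6 hr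
  | smul a v _ hv =>
    intro x φ hx hr
    by_cases ha : a = 0
    · exact ⟨φ, by simpa [ha] using hx⟩
    have e : x + a • v = a • (a⁻¹ • x + v) := by
      rw [smul_add, smul_smul, mul_inv_cancel₀ ha, one_smul]
    rw [e] at hr ⊢
    obtain ⟨η, h1⟩ := hv _ φ (h.smul_left hx (inv_ne_zero ha)) fun h1 => hr fun z θ hz => by
      rw [map_smul, LinearMap.smul_apply, h1 z θ hz, smul_zero]
    exact ⟨η, h.smul_left h1 ha⟩

omit h3 in
theorem sp_graph : ∃ G : Submodule F (X × Y), (∀ p ∈ G, ∀ q ∈ G, β p.1 q.2 = - β q.1 p.2) ∧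
    (∀ p ∈ G, β p.1 p.2 = 0) ∧ (∀ x φ, S x φ → ∃ a : F, a ≠ 0 ∧ (x, a • φ) ∈ G) ∧
    (∀ p ∈ G, p.1 ∈ cen F S ∧ p.2 ∈ cen F (fun φ x => S x φ)) := by
  by_cases hne : ∃ x φ, S x φ
  swap
  · push Not at hne
    exact ⟨⊥, by simp, by simp, fun x φ hx => absurd hx (hne x φ), by simp⟩
  obtain ⟨x₀, φ₀, h₀⟩ := hne
  let Γ : Set (X × Y) := {p | S p.1 p.2 ∧ β p.1 φ₀ ≠ 0 ∧ β x₀ p.2 = - β p.1 φ₀}
  have hΓ : ∀ p ∈ Γ, ∀ q ∈ Γ, β p.1 q.2 = - β q.1 p.2 := by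
    rintro ⟨y, ψ⟩ ⟨h1, h2, h4⟩ ⟨y', ψ'⟩ ⟨h1', h2', h4'⟩
    simp only at *
    have h5 := h.conj (β y' ψ / (β y φ₀ * β y' φ₀)) h1' h₀
    have h6 := hSp _ _ _ _ h1 h5 (by simp [h4]; field_simp; ring)
    simp [h4'] at h6
    field_simp at h6
    linear_combination h6
  have hskew : ∀ p ∈ Submodule.span F Γ, ∀ q ∈ Submodule.span F Γ, β p.1 q.2 = - β q.1 p.2 := by
    intro p hp q hq
    induction hp, hq using Submodule.span_induction₂ with
    | mem_mem p q hp hq => exact hΓ p hp q hq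
    | zero_left => simp
    | zero_right => simp
    | add_left _ _ _ _ _ _ h1 h2 => simp [h1, h2]; ring
    | add_right _ _ _ _ _ _ h1 h2 => simp [h1, h2]; ring
    | smul_left _ _ _ _ _ h1 => simp [h1]
    | smul_right _ _ _ _ _ h1 => simp [h1]
  have hnorm : ∀ y ψ, S y ψ → β y φ₀ ≠ 0 → ∃ a : F, a ≠ 0 ∧ (y, a • ψ) ∈ Γ := by
    intro y ψ hy h1
    have h2 : β x₀ ψ ≠ 0 := fun h2 => h1 (hSp _ _ _ _ hy h₀ h2)
    have h4 : - β y φ₀ / β x₀ ψ ≠ 0 := div_ne_zero (neg_ne_zero.2 h1) h2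
    exact ⟨_, h4, h.smul_right hy h4, h1, by simp; field_simp⟩
  refine ⟨Submodule.span F Γ, hskew, ?_, ?_, ?_⟩
  · intro p hp
    induction hp using Submodule.span_induction with
    | mem p hp => exact h.orth hp.1
    | zero => simp
    | add p q hp hq h1 h2 => simp [h1, h2, hskew p hp q hq]
    | smul a p _ h1 => simp [h1]
  · intro x φ hx
    by_cases h1 : β x φ₀ = 0
    swap
    · obtain ⟨a, ha, h2⟩ := hnorm x φ hx h1
      exact ⟨a, ha, Submodule.subset_span h2⟩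
    obtain ⟨z, θ, hz, h2, h4⟩ := h.sp_diam hSp hx h₀
    obtain ⟨b, hb, h5⟩ := hnorm z θ hz fun h5 => h4 (hSp _ _ _ _ h₀ hz h5)
    have h6 : β z φ ≠ 0 := fun h6 => h2 (hSp _ _ _ _ hx hz h6)
    have h7 := h.conj (β z φ)⁻¹ h5.1 hx
    rw [inv_mul_cancel₀ h6, one_smul] at h7
    have h8 : (z + x, b • θ - ((β z φ)⁻¹ * β x (b • θ)) • φ) ∈ Γ := by
      refine ⟨h7, by simpa [h1] using h5.2.1, ?_⟩
      have := h5.2.2
      simp only [map_sub, map_smul, map_add, LinearMap.add_apply, smul_eq_mul, h1,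
        hSp _ _ _ _ h₀ hx h1] at this ⊢
      linear_combination this
    refine ⟨-((β z φ)⁻¹ * β x (b • θ)), by simp [h6, hb, h2], ?_⟩
    have := (Submodule.span F Γ).sub_mem (Submodule.subset_span h8) (Submodule.subset_span h5)
    convert this using 1
    ext <;> simp
  · intro p hp
    induction hp using Submodule.span_induction with
    | mem p hp => exact ⟨mem_cen hp.1, mem_cen (S := fun φ x => S x φ) hp.1⟩
    | zero => simp
    | add p q _ _ h1 h2 => exact ⟨add_mem h1.1 h2.1, add_mem h1.2 h2.2⟩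
    | smul a p _ h1 => exact ⟨Submodule.smul_mem _ _ h1.1, Submodule.smul_mem _ _ h1.2⟩

omit h hSp h3 in
theorem exists_graph {G : Submodule F (X × Y)}
    (hG : ∀ x φ, S x φ → ∃ a : F, a ≠ 0 ∧ (x, a • φ) ∈ G) {v : X} (hv : v ∈ cen F S) :
    ∃ ρ, (v, ρ) ∈ G := by
  have : cen F S ≤ G.map (LinearMap.fst F X Y) := by
    rw [cen, Submodule.span_le]
    rintro x ⟨φ, hx⟩
    obtain ⟨a, -, h1⟩ := hG x φ hx
    exact ⟨_, h1, rfl⟩
  obtain ⟨p, hp, rfl⟩ := this hv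
  exact ⟨p.2, hp⟩

theorem sp_rad {v : X} (hv : v ∈ cen F S) (h0 : ∀ y ψ, S y ψ → β v ψ = 0) : v = 0 := by
  by_cases hne : ∃ x φ, S x φ
  swap
  · have : cen F S = ⊥ := by
      rw [cen, Submodule.span_eq_bot]
      rintro x ⟨φ, hx⟩
      exact absurd ⟨x, φ, hx⟩ hne
    simpa [this] using hv
  obtain ⟨x, φ, hx⟩ := hne
  obtain ⟨G, hG1, -, hG3, -⟩ := h.sp_graph hSp
  obtain ⟨η, h1⟩ := h.sp_add_cen hSp h3 hv x φ hx fun h1 => by
    obtain ⟨y, ψ, hy, h2, -⟩ := h.nbr hx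
    exact h2 (by simpa [h0 y ψ hy] using h1 y ψ hy)
  obtain ⟨a, ha, h2⟩ := hG3 _ _ hx
  obtain ⟨b, hb, h4⟩ := hG3 _ _ h1
  have := (h.inj (h.smul_right h1 hb) (h.smul_right hx ha) (by simpa using h0) ?_).1
  · simpa using this
  intro y ψ hy
  obtain ⟨c, -, h5⟩ := hG3 _ _ hy
  have e1 := hG1 _ h5 _ h2
  have e2 := hG1 _ h5 _ h4
  simp only [map_add, map_smul, LinearMap.add_apply, smul_eq_mul, h0 y ψ hy, map_sub] at e1 e2 ⊢
  linear_combination e2 - e1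

theorem sp_cen {v : X} (hv : v ∈ cen F S) (h0 : v ≠ 0) : ∃ θ, S v θ := by
  by_cases hne : ∃ x φ, S x φ
  swap
  · have : cen F S = ⊥ := by
      rw [cen, Submodule.span_eq_bot]
      rintro x ⟨φ, hx⟩
      exact absurd ⟨x, φ, hx⟩ hne
    exact absurd (by simpa [this] using hv) h0
  obtain ⟨x, φ, hx⟩ := hne
  have := h.sp_add_cen hSp h3 (Submodule.sub_mem _ hv (mem_cen hx)) x φ hx
  rw [add_sub_cancel] at this
  exact this fun h1 => h0 (h.sp_rad hSp h3 hv h1)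

end Sp

theorem rad [FiniteDimensional F Y] (h3 : ∃ a : F, a ≠ 0 ∧ a ≠ 1) {v : X} (hv : v ∈ cen F S)
    (h0 : ∀ y ψ, S y ψ → β v ψ = 0) : v = 0 := by
  by_cases hSp : ∀ x φ y ψ, S x φ → S y ψ → β y φ = 0 → β x ψ = 0
  · exact h.sp_rad hSp h3 hv h0
  · push Not at hSp
    exact h.sl_rad hSp hv h0

/-- the dichotomy -/
theorem main [FiniteDimensional F X] [FiniteDimensional F Y] (h3 : ∃ a : F, a ≠ 0 ∧ a ≠ 1) :
    (∀ x ∈ cen F S, ∀ φ ∈ cen F (fun φ x => S x φ), x ≠ 0 → φ ≠ 0 → β x φ = 0 → S x φ) ∨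
    ((∀ v ∈ cen F S, v ≠ 0 → ∃ θ, S v θ) ∧
      ∃ b : cen F S →ₗ[F] Y, (∀ v w : cen F S, β v (b w) = - β w (b v)) ∧ (∀ v : cen F S, β v (b v) = 0) ∧
        ∀ (x : cen F S) φ, S x φ → ∃ a : F, a ≠ 0 ∧ ∀ w : cen F S, β w (b x) = a * β w φ) := by
  by_cases hSp : ∀ x φ y ψ, S x φ → S y ψ → β y φ = 0 → β x ψ = 0
  swap
  · push Not at hSp
    exact Or.inl fun x hx φ hφ => h.sl_full hSp hx hφ
  refine Or.inr ⟨fun v hv => h.sp_cen hSp h3 hv, ?_⟩
  obtain ⟨G, hG1, hG2, hG3, hG4⟩ := h.sp_graph hSp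
  let π : G →ₗ[F] cen F S :=
    ((LinearMap.fst F X Y).comp G.subtype).codRestrict _ fun p => (hG4 _ p.2).1
  have hπ : LinearMap.range π = ⊤ := by
    rw [eq_top_iff]
    rintro ⟨v, hv⟩ -
    obtain ⟨ρ, h1⟩ := exists_graph hG3 hv
    exact ⟨⟨_, h1⟩, rfl⟩
  obtain ⟨s, hs⟩ := π.exists_rightInverse_of_surjective hπ
  have hs1 : ∀ v : cen F S, ((s v : G) : X × Y).1 = v := fun v =>
    congrArg Subtype.val (LinearMap.congr_fun hs v)
  refine ⟨(LinearMap.snd F X Y).comp (G.subtype.comp s), fun v w => ?_, fun v => ?_, ?_⟩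
  · have := hG1 _ (s v).2 _ (s w).2
    rwa [hs1, hs1] at this
  · have := hG2 _ (s v).2
    rwa [hs1] at this
  · intro x φ hx
    obtain ⟨a, ha, h1⟩ := hG3 _ _ hx
    refine ⟨a, ha, fun w => ?_⟩
    have e1 := hG1 _ (s w).2 _ (s x).2
    have e2 := hG1 _ (s w).2 _ h1
    rw [hs1, hs1] at e1
    rw [hs1] at e2
    simp only [map_smul, smul_eq_mul] at e2
    exact e1.trans e2.symm

end TS

end CL.McL
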