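import Cfsg.Agent.CHAR.Central
import Cfsg.Agent.KSG.LSWeight
import Mathlib.Analysis.Fourier.FiniteAbelian.PontryaginDuality

/-!
# Minimal degrees, part 1: eigenspaces of subgroups in complex representations
-/

set_option autoImplicit false

open Module

namespace CL.MD

variable {G V : Type*} [Group G] [AddCommGroup V] [Module ℂ V] (ρ : Representation ℂ G V)

/-- vectors on which `A` acts through the function `χ` -/
def Eig (A : Subgroup G) (χ : G → ℂ) : Submodule ℂ V where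
  carrier := {v | ∀ z ∈ A, ρ z v = χ z • v}
  add_mem' ha hb z hz := by rw [map_add, ha z hz, hb z hz, smul_add]
  zero_mem' z _ := by simp
  smul_mem' c v hv z hz := by rw [map_smul, hv z hz, smul_comm]

/-- fixed vectors -/
def Fx (A : Subgroup G) : Submodule ℂ V := Eig ρ A 1

/-- pointwise stabiliser -/
def Fxr (N : Submodule ℂ V) : Subgroup G where
  carrier := {g | ∀ v ∈ N, ρ g v = v}
  one_mem' v _ := by simp
  mul_mem' ha hb v hv := by rw [map_mul, Module.End.mul_apply, hb v hv, ha v hv]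
  inv_mem' {g} hg v hv := by
    conv_lhs => rw [← hg v hv]
    rw [← Module.End.mul_apply, ← map_mul, inv_mul_cancel, map_one, Module.End.one_apply]

theorem apply_mul (g h : G) (v : V) : ρ (g * h) v = ρ g (ρ h v) := by
  rw [map_mul, Module.End.mul_apply]

theorem inv_apply (g : G) (v : V) : ρ g⁻¹ (ρ g v) = v := by
  rw [← apply_mul, inv_mul_cancel, map_one, Module.End.one_apply]

theorem apply_inv (g : G) (v : V) : ρ g (ρ g⁻¹ v) = v := by
  rw [← apply_mul, mul_inv_cancel, map_one, Module.End.one_apply]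

/-- setwise stabiliser -/
def Stb (N : Submodule ℂ V) : Subgroup G where
  carrier := {g | ∀ v, v ∈ N ↔ ρ g v ∈ N}
  one_mem' v := by simp
  mul_mem' ha hb v := by rw [apply_mul, ← ha, ← hb]
  inv_mem' {g} hg v := by rw [hg (ρ g⁻¹ v), apply_inv]

/-- `χ` is a nontrivial linear character of `A` -/
structure Ch (A : Subgroup G) (χ : G → ℂ) : Prop where
  mul : ∀ a ∈ A, ∀ b ∈ A, χ (a * b) = χ a * χ b
  one : χ 1 = 1
  ne : ∃ z ∈ A, χ z ≠ 1

variable {ρ}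

theorem mem_Eig {A : Subgroup G} {χ : G → ℂ} {v : V} : v ∈ Eig ρ A χ ↔ ∀ z ∈ A, ρ z v = χ z • v := Iff.rfl

theorem mem_Fx {A : Subgroup G} {v : V} : v ∈ Fx ρ A ↔ ∀ z ∈ A, ρ z v = v := by
  simp [Fx, mem_Eig]

theorem mem_Fxr {N : Submodule ℂ V} {g : G} : g ∈ Fxr ρ N ↔ ∀ v ∈ N, ρ g v = v := Iff.rfl

theorem le_Fx {N : Submodule ℂ V} {A : Subgroup G} : N ≤ Fx ρ A ↔ A ≤ Fxr ρ N :=
  ⟨fun h _ hz _ hv => mem_Fx.1 (h hv) _ hz, fun h _ hv => mem_Fx.2 fun _ hz => h hz _ hv⟩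

theorem Fx_mono {A B : Subgroup G} (h : A ≤ B) : Fx ρ B ≤ Fx ρ A :=
  fun _ hv => mem_Fx.2 fun z hz => mem_Fx.1 hv z (h hz)

theorem Stb.mem {N : Submodule ℂ V} {g : G} (h : g ∈ Stb ρ N) {v : V} (hv : v ∈ N) : ρ g v ∈ N :=
  (h v).1 hv

theorem mem_Stb [Finite G] {N : Submodule ℂ V} {g : G} (h : ∀ v ∈ N, ρ g v ∈ N) : g ∈ Stb ρ N := by
  have hp : ∀ n : ℕ, ∀ v ∈ N, ρ (g ^ n) v ∈ N := fun n => by
    induction n with
    | zero => simp
    | succ n ih => intro v hv; rw [pow_succ', apply_mul]; exact h _ (ih v hv)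
  refine fun v => ⟨h v, fun hv => ?_⟩
  have := hp (orderOf g - 1) _ hv
  rwa [← apply_mul, ← pow_succ, Nat.sub_add_cancel (orderOf_pos g), pow_orderOf_eq_one, map_one,
    Module.End.one_apply] at this

theorem Fxr_le_Stb (N : Submodule ℂ V) : Fxr ρ N ≤ Stb ρ N := fun g hg v =>
  ⟨fun hv => by rwa [hg v hv], fun hv => by
    have := (Fxr ρ N).inv_mem hg _ hv
    rw [inv_apply] at this; rwa [this]⟩

theorem Stb_top : Stb ρ (⊤ : Submodule ℂ V) = ⊤ := eq_top_iff.2 fun _ _ _ => by simp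

theorem Stb_inf {N N' : Submodule ℂ V} {g : G} (h : g ∈ Stb ρ N) (h' : g ∈ Stb ρ N') : g ∈ Stb ρ (N ⊓ N') :=
  fun v => and_congr (h v) (h' v)

theorem conj_mem_Fxr {N : Submodule ℂ V} {g f : G} (hg : g ∈ Stb ρ N) (hf : f ∈ Fxr ρ N) :
    g * f * g⁻¹ ∈ Fxr ρ N := fun v hv => by
  rw [apply_mul, apply_mul, hf _ (Stb.mem ((Stb ρ N).inv_mem hg) hv), apply_inv]

theorem le_Stb_of_le_Eig [Finite G] {N : Submodule ℂ V} {A : Subgroup G} {χ : G → ℂ} (h : N ≤ Eig ρ A χ) :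
    A ≤ Stb ρ N := fun z hz => mem_Stb fun v hv => by rw [h hv z hz]; exact N.smul_mem _ hv

/-- transport of eigenvectors -/
theorem map_mem_Eig {A B : Subgroup G} {χ : G → ℂ} {n : G} (h : ∀ z ∈ B, n⁻¹ * z * n ∈ A) {v : V}
    (hv : v ∈ Eig ρ A χ) : ρ n v ∈ Eig ρ B fun z => χ (n⁻¹ * z * n) := fun z hz => by
  have : z * n = n * (n⁻¹ * z * n) := by group
  rw [← apply_mul, this, apply_mul, hv _ (h z hz), map_smul]

theorem map_mem_Fx {A B : Subgroup G} {n : G} (h : ∀ z ∈ B, n⁻¹ * z * n ∈ A) {v : V}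
    (hv : v ∈ Fx ρ A) : ρ n v ∈ Fx ρ B := map_mem_Eig h hv

theorem Ch.conj {A B : Subgroup G} {χ : G → ℂ} (hχ : Ch A χ) {n : G} (h : ∀ z ∈ B, n⁻¹ * z * n ∈ A)
    (h' : ∀ z ∈ A, n * z * n⁻¹ ∈ B) : Ch B fun z => χ (n⁻¹ * z * n) where
  mul a ha b hb := by rw [← hχ.mul _ (h a ha) _ (h b hb)]; congr 1; group
  one := by simp [hχ.one]
  ne := by
    obtain ⟨z, hz, h1⟩ := hχ.ne
    exact ⟨_, h' z hz, by simpa [mul_assoc] using h1⟩

theorem Ch.eq_zero {A : Subgroup G} {χ : G → ℂ} (hχ : Ch A χ) {v : V} (h1 : v ∈ Eig ρ A χ) (h2 : v ∈ Fx ρ A) :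
    v = 0 := by
  obtain ⟨z, hz, h⟩ := hχ.ne
  have := h1 z hz
  rw [mem_Fx.1 h2 z hz] at this
  by_contra h0
  exact h (smul_left_injective ℂ h0 (by simpa using this.symm))

/-- the criterion for stabilising an eigenspace -/
theorem mem_Stb_of [Finite G] {Z A : Subgroup G} {χ : G → ℂ} {y : G}
    (h1 : ∀ z ∈ Z, z⁻¹ * (y⁻¹ * z * y) ∈ Fxr ρ (Eig ρ Z χ ⊓ Fx ρ A))
    (h2 : ∀ u ∈ A, y⁻¹ * u * y ∈ Fxr ρ (Eig ρ Z χ ⊓ Fx ρ A)) : y ∈ Stb ρ (Eig ρ Z χ ⊓ Fx ρ A) := by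
  refine mem_Stb fun v hv => ⟨fun z hz => ?_, mem_Fx.2 fun u hu => ?_⟩
  · have : z * y = y * (z * (z⁻¹ * (y⁻¹ * z * y))) := by group
    rw [← apply_mul, this, apply_mul, apply_mul, h1 z hz v hv, hv.1 z hz, map_smul]
  · have : u * y = y * (y⁻¹ * u * y) := by group
    rw [← apply_mul, this, apply_mul, h2 u hu v hv]

theorem mem_Stb_Fx [Finite G] {A : Subgroup G} {y : G} (h : ∀ u ∈ A, y⁻¹ * u * y ∈ A) : y ∈ Stb ρ (Fx ρ A) :=
  mem_Stb fun _ hv => map_mem_Fx h hv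

theorem mem_Stb_Eig [Finite G] {A : Subgroup G} {χ : G → ℂ} {y : G} (h : ∀ u ∈ A, y⁻¹ * u * y = u) :
    y ∈ Stb ρ (Eig ρ A χ) :=
  mem_Stb fun _ hv z hz => by
    have := map_mem_Eig (B := A) (n := y) (fun z hz => by rwa [h z hz]) hv z hz
    simpa only [h z hz] using this

theorem finrank_le_of_map [FiniteDimensional ℂ V] {N N' : Submodule ℂ V} {n : G} (h : ∀ v ∈ N, ρ n v ∈ N') :
    finrank ℂ N ≤ finrank ℂ N' :=
  LinearMap.finrank_le_finrank_of_injective (f := (ρ n).restrict h) fun a b e => by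
    have := congrArg (fun x : N' => ρ n⁻¹ x) e
    simpa [inv_apply] using this

section Line

variable [FiniteDimensional ℂ V] {N : Submodule ℂ V} (hN : finrank ℂ N = 1)
include hN

theorem exists_scalar {g : G} (hg : g ∈ Stb ρ N) : ∃ c : ℂ, ∀ v ∈ N, ρ g v = c • v := by
  obtain ⟨v, h0, hv⟩ := finrank_eq_one_iff'.1 hN
  obtain ⟨c, hc⟩ := hv ⟨ρ g v, Stb.mem hg v.2⟩
  refine ⟨c, fun w hw => ?_⟩
  obtain ⟨d, hd⟩ := hv ⟨w, hw⟩
  have hc' : ρ g v = c • (v : V) := by simpa using congrArg Subtype.val hc.symm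
  have hd' : w = d • (v : V) := by simpa using congrArg Subtype.val hd.symm
  rw [hd', map_smul, hc', smul_comm]

theorem comm_mem_Fxr {x y : G} (hx : x ∈ Stb ρ N) (hy : y ∈ Stb ρ N) : x * y * x⁻¹ * y⁻¹ ∈ Fxr ρ N := by
  obtain ⟨c, hc⟩ := exists_scalar hN hy
  intro v hv
  have h1 := Stb.mem ((Stb ρ N).inv_mem hy) hv
  rw [apply_mul, apply_mul, apply_mul, hc _ (Stb.mem ((Stb ρ N).inv_mem hx) h1), map_smul, apply_inv,
    ← hc _ h1, apply_inv]

theorem exists_le_Eig {A : Subgroup G} (hA : A ≤ Stb ρ N) : N ≤ Fx ρ A ∨ ∃ χ, Ch A χ ∧ N ≤ Eig ρ A χ := by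
  classical
  have h : ∀ g, ∃ c : ℂ, g ∈ A → ∀ v ∈ N, ρ g v = c • v := fun g => by
    by_cases hg : g ∈ A
    · obtain ⟨c, hc⟩ := exists_scalar hN (hA hg); exact ⟨c, fun _ => hc⟩
    · exact ⟨0, fun h => absurd h hg⟩
  choose χ hχ using h
  obtain ⟨v, h0, -⟩ := finrank_eq_one_iff'.1 hN
  have h0' : (v : V) ≠ 0 := fun h => h0 (Subtype.ext h)
  by_cases h1 : ∃ z ∈ A, χ z ≠ 1
  · refine Or.inr ⟨χ, ⟨fun a ha b hb => ?_, ?_, h1⟩, fun w hw z hz => hχ z hz w hw⟩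
    · apply smul_left_injective ℂ h0'
      simp only
      rw [← hχ _ (A.mul_mem ha hb) _ v.2, apply_mul, hχ b hb _ v.2, map_smul, hχ a ha _ v.2, smul_smul, mul_comm]
    · apply smul_left_injective ℂ h0'
      simp only
      rw [← hχ _ A.one_mem _ v.2]; simp
  · push Not at h1
    exact Or.inl fun w hw => mem_Fx.2 fun z hz => by rw [hχ z hz w hw, h1 z hz, one_smul]

theorem eq_of_le_line {N' : Submodule ℂ V} (h : N' ≤ N) (h0 : N' ≠ ⊥) : N' = N :=
  Submodule.eq_of_le_of_finrank_le h (by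
    rw [hN]; exact Nat.one_le_iff_ne_zero.2 fun e => h0 (Submodule.finrank_eq_zero.1 e))

end Line

section Trace

theorem exists_isProj (N : Submodule ℂ V) : ∃ p : V →ₗ[ℂ] V, LinearMap.IsProj N p := by
  obtain ⟨M, h⟩ := N.exists_isCompl
  exact ⟨N.subtype ∘ₗ N.projectionOnto M h, fun x => Subtype.property _, fun x hx => by
    simp [Submodule.projectionOnto_apply_left h ⟨x, hx⟩]⟩

noncomputable def pr (N : Submodule ℂ V) : V →ₗ[ℂ] V := (exists_isProj N).choose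

theorem isProj_pr (N : Submodule ℂ V) : LinearMap.IsProj N (pr N) := (exists_isProj N).choose_spec

variable (ρ) in
/-- trace on an invariant subspace -/
noncomputable def trN (N : Submodule ℂ V) (g : G) : ℂ := LinearMap.trace ℂ V (ρ g * pr N)

variable [FiniteDimensional ℂ V] {N : Submodule ℂ V}

theorem trN_one : trN ρ N 1 = finrank ℂ N := by
  rw [trN, map_one, one_mul, (isProj_pr N).trace]

omit [FiniteDimensional ℂ V] in
theorem trN_conj {x y : G} (hx : x ∈ Stb ρ N) (hy : y ∈ Stb ρ N) : trN ρ N (x * y * x⁻¹) = trN ρ N y := by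
  have hp := isProj_pr N
  have h : ∀ g ∈ Stb ρ N, ρ g * pr N = pr N * (ρ g * pr N) := fun g hg => by
    ext v; exact (hp.map_id _ (Stb.mem hg (hp.map_mem v))).symm
  have hx' := (Stb ρ N).inv_mem hx
  have e : ρ x⁻¹ * pr N * (ρ x * pr N) = pr N := by
    rw [mul_assoc, ← h x hx, ← mul_assoc, ← map_mul, inv_mul_cancel, map_one, one_mul]
  have e' : ρ (x * y * x⁻¹) * pr N = ρ x * pr N * (ρ y * (ρ x⁻¹ * pr N)) := by
    ext v
    simp only [Module.End.mul_apply, apply_mul]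
    rw [hp.map_id _ (Stb.mem hy (Stb.mem hx' (hp.map_mem v)))]
  rw [trN, trN, e', LinearMap.trace_mul_comm, mul_assoc, e]

omit [FiniteDimensional ℂ V] in
theorem trN_smul {g g' : G} {c : ℂ} (h : ∀ v ∈ N, ρ g v = c • ρ g' v) : trN ρ N g = c * trN ρ N g' := by
  have : ρ g * pr N = c • (ρ g' * pr N) := by
    ext v; exact h _ ((isProj_pr N).map_mem v)
  rw [trN, this, map_smul, smul_eq_mul, trN]

theorem sum_trN {A : Subgroup G} [Fintype A] (hA : A ≤ Stb ρ N) {χ : G → ℂ}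
    (hm : ∀ a ∈ A, ∀ b ∈ A, χ (a * b) = χ a * χ b) (h1 : χ 1 = 1) :
    ∑ y : A, χ (y : G)⁻¹ * trN ρ N y = Nat.card A * finrank ℂ (N ⊓ Eig ρ A χ : Submodule ℂ V) := by
  have hp := isProj_pr N
  have hc : (Nat.card A : ℂ) ≠ 0 := Nat.cast_ne_zero.2 Nat.card_pos.ne'
  have hinv : ∀ a ∈ A, χ a⁻¹ * χ a = 1 := fun a ha => by
    rw [← hm _ (A.inv_mem ha) _ ha, inv_mul_cancel, h1]
  have : LinearMap.IsProj (N ⊓ Eig ρ A χ)
      ((Nat.card A : ℂ)⁻¹ • ∑ y : A, χ (y : G)⁻¹ • (ρ y * pr N)) := by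
    refine ⟨fun v => ?_, fun v hv => ?_⟩
    · simp only [LinearMap.smul_apply, LinearMap.sum_apply, Module.End.mul_apply]
      refine Submodule.smul_mem _ _ ⟨N.sum_mem fun y _ => N.smul_mem _ (Stb.mem (hA y.2) (hp.map_mem v)),
        fun z hz => ?_⟩
      rw [map_sum, Finset.smul_sum]
      refine Fintype.sum_equiv (Equiv.mulLeft (⟨z, hz⟩ : A)) _ _ fun y => ?_
      simp only [Equiv.coe_mulLeft, Subgroup.coe_mul, map_smul, ← apply_mul, smul_smul, mul_inv_rev]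
      rw [hm _ (A.inv_mem y.2) _ (A.inv_mem hz), mul_comm (χ z), mul_assoc, hinv z hz, mul_one]
    · simp only [LinearMap.smul_apply, LinearMap.sum_apply, Module.End.mul_apply, hp.map_id v hv.1]
      rw [Finset.sum_congr rfl fun (y : A) _ => by rw [hv.2 y y.2, smul_smul, hinv _ y.2, one_smul]]
      rw [Finset.sum_const, Finset.card_univ, ← Nat.card_eq_fintype_card, ← Nat.cast_smul_eq_nsmul ℂ, smul_smul,
        inv_mul_cancel₀ hc, one_smul]
  have h := this.trace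
  rw [map_smul, map_sum, smul_eq_mul] at h
  rw [← h, ← mul_assoc, mul_inv_cancel₀ hc, one_mul]
  simp [trN]

/-- Heisenberg lemma -/
theorem heis [Finite G] {A Z : Subgroup G} {χ : G → ℂ} (hN : N ≤ Eig ρ Z χ) (hA : A ≤ Stb ρ N)
    (h : ∀ y ∈ A, y ≠ 1 → ∃ x ∈ Stb ρ N, ∃ z ∈ Z, χ z ≠ 1 ∧ x * y * x⁻¹ = z * y) :
    finrank ℂ N = Nat.card A * finrank ℂ (N ⊓ Fx ρ A : Submodule ℂ V) := by
  classical
  have := Fintype.ofFinite A
  have h1 := sum_trN (ρ := ρ) hA (χ := 1) (by simp) rfl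
  rw [Finset.sum_eq_single (1 : A) (fun y _ hy => ?_) (by simp)] at h1
  · simp only [Pi.one_apply, one_mul, Subgroup.coe_one, trN_one] at h1
    exact_mod_cast h1
  · obtain ⟨x, hx, z, hz, hz1, e⟩ := h y y.2 (fun e => hy (Subtype.ext e))
    have h2 := trN_conj hx (hA y.2)
    rw [e, trN_smul (ρ := ρ) (N := N) (g := z * y) (g' := y) (c := χ z) fun v hv => by
      rw [apply_mul, hN (Stb.mem (hA y.2) hv) z hz]] at h2
    have : (χ z - 1) * trN ρ N y = 0 := by rw [sub_mul, h2]; ring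
    simpa [sub_eq_zero, hz1] using this

/-- decomposition under an elementary abelian group whose nontrivial characters are all conjugate -/
theorem dec [Finite G] {k : Type*} [Field k] [Finite k] {Z : Subgroup G} {z : k → G}
    (hz : ∀ s t, z (s + t) = z s * z t) (hinj : Function.Injective z) (hZ : ∀ g, g ∈ Z ↔ ∃ t, g = z t)
    (hN : Z ≤ Stb ρ N) (hT : ∀ s : k, s ≠ 0 → ∃ h ∈ Stb ρ N, ∀ t, h⁻¹ * z t * h = z (s * t))
    {χ : G → ℂ} (hχ : Ch Z χ) :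
    finrank ℂ N = finrank ℂ (N ⊓ Fx ρ Z : Submodule ℂ V) +
      (Nat.card k - 1) * finrank ℂ (N ⊓ Eig ρ Z χ : Submodule ℂ V) := by
  classical
  have := Fintype.ofFinite k
  have := Fintype.ofFinite Z
  have hzZ : ∀ t, z t ∈ Z := fun t => (hZ _).2 ⟨t, rfl⟩
  have hz0 : z 0 = 1 := by have := hz 0 0; rw [add_zero] at this; simpa using this
  have hl : ∀ t, Function.invFun z (z t) = t := Function.leftInverse_invFun hinj
  let X : AddChar k ℂ → G → ℂ := fun ψ g => ψ (Function.invFun z g)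
  have hX : ∀ ψ t, X ψ (z t) = ψ t := fun ψ t => by simp [X, hl]
  have hcard : Nat.card Z = Nat.card k :=
    (Nat.card_congr (Equiv.ofBijective (fun t => (⟨z t, hzZ t⟩ : Z))
      ⟨fun a b e => hinj (congrArg Subtype.val e), fun g => by
        obtain ⟨t, ht⟩ := (hZ _).1 g.2; exact ⟨t, Subtype.ext ht.symm⟩⟩)).symm
  have h1 : ∀ ψ, ∑ y : Z, X ψ (y : G)⁻¹ * trN ρ N y =
      Nat.card Z * finrank ℂ (N ⊓ Eig ρ Z (X ψ) : Submodule ℂ V) := fun ψ =>
    sum_trN hN (fun a ha b hb => by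
      obtain ⟨s, rfl⟩ := (hZ _).1 ha
      obtain ⟨t, rfl⟩ := (hZ _).1 hb
      rw [← hz, hX, hX, hX, AddChar.map_add_eq_mul]) (by rw [← hz0, hX, AddChar.map_zero_eq_one])
  have h2 : ∑ ψ, ∑ y : Z, X ψ (y : G)⁻¹ * trN ρ N y = Nat.card Z * finrank ℂ N := by
    rw [Finset.sum_comm, Finset.sum_eq_single (1 : Z) (fun y _ hy => ?_) (by simp)]
    · simp only [Subgroup.coe_one, inv_one, trN_one, ← Finset.sum_mul]
      rw [← hz0]
      simp only [hX, AddChar.map_zero_eq_one, Finset.sum_const, Finset.card_univ, AddChar.card_eq]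
      rw [hcard, Nat.card_eq_fintype_card]; simp
    · obtain ⟨t, ht⟩ := (hZ _).1 (Z.inv_mem y.2)
      rw [← Finset.sum_mul, ht]
      simp only [hX]
      rw [AddChar.sum_apply_eq_zero_iff_ne_zero.2, zero_mul]
      rintro rfl
      rw [hz0, inv_eq_one] at ht
      exact hy (Subtype.ext ht)
  have hc : (Nat.card Z : ℂ) ≠ 0 := Nat.cast_ne_zero.2 Nat.card_pos.ne'
  rw [Finset.sum_congr rfl fun ψ _ => h1 ψ, ← Finset.mul_sum] at h2
  have h3 : ∑ ψ, finrank ℂ (N ⊓ Eig ρ Z (X ψ) : Submodule ℂ V) = finrank ℂ N := by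
    exact_mod_cast mul_left_cancel₀ hc h2
  let ψ₀ : AddChar k ℂ :=
    { toFun := fun t => χ (z t)
      map_zero_eq_one' := by rw [hz0, hχ.one]
      map_add_eq_mul' := fun s t => by rw [hz, hχ.mul _ (hzZ s) _ (hzZ t)] }
  have hψ₀ : ψ₀ ≠ 1 := fun e => by
    obtain ⟨y, hy, h⟩ := hχ.ne
    obtain ⟨t, rfl⟩ := (hZ _).1 hy
    exact h (DFunLike.congr_fun e t)
  have h4 : ∀ ψ, ψ ≠ 1 → finrank ℂ (N ⊓ Eig ρ Z (X ψ) : Submodule ℂ V) =
      finrank ℂ (N ⊓ Eig ρ Z χ : Submodule ℂ V) := fun ψ hψ => by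
    obtain ⟨c, hc⟩ := CL.LS.exists_mul hψ₀ ψ ψ.map_zero_eq_one ψ.map_add_eq_mul
    have hc0 : c ≠ 0 := by
      rintro rfl
      exact hψ (DFunLike.ext _ _ fun a => by rw [hc]; simp)
    refine le_antisymm ?_ ?_
    · obtain ⟨h, hh, e⟩ := hT c⁻¹ (inv_ne_zero hc0)
      refine finrank_le_of_map (ρ := ρ) (n := h) fun v hv => ⟨Stb.mem hh hv.1, fun y hy => ?_⟩
      have := map_mem_Eig (B := Z) (n := h) (fun y hy => by
        obtain ⟨t, rfl⟩ := (hZ _).1 hy; rw [e]; exact hzZ _) hv.2 y hy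
      obtain ⟨t, rfl⟩ := (hZ _).1 hy
      beta_reduce at this
      rw [this, e, hX, hc, show c⁻¹ * t * c = t by field_simp]; rfl
    · obtain ⟨h, hh, e⟩ := hT c hc0
      refine finrank_le_of_map (ρ := ρ) (n := h) fun v hv => ⟨Stb.mem hh hv.1, fun y hy => ?_⟩
      have := map_mem_Eig (B := Z) (n := h) (fun y hy => by
        obtain ⟨t, rfl⟩ := (hZ _).1 hy; rw [e]; exact hzZ _) hv.2 y hy
      obtain ⟨t, rfl⟩ := (hZ _).1 hy
      beta_reduce at this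
      rw [this, e, hX, hc, mul_comm c]; rfl
  rw [← h3, ← Finset.add_sum_erase _ _ (Finset.mem_univ (1 : AddChar k ℂ)),
    Finset.sum_congr rfl fun ψ hψ => h4 ψ (Finset.ne_of_mem_erase hψ), Finset.sum_const,
    Finset.card_erase_of_mem (Finset.mem_univ _), Finset.card_univ, AddChar.card_eq, Nat.card_eq_fintype_card]
  rfl

theorem exists_Ch {k : Type*} [Field k] [Finite k] {Z : Subgroup G} {z : k → G}
    (hz : ∀ s t, z (s + t) = z s * z t) (hinj : Function.Injective z) (hZ : ∀ g, g ∈ Z ↔ ∃ t, g = z t) :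
    ∃ χ, Ch Z χ := by
  obtain ⟨ψ, hψ⟩ := AddChar.exists_apply_ne_zero.2 (one_ne_zero (α := k))
  have hz0 : z 0 = 1 := by have := hz 0 0; rw [add_zero] at this; simpa using this
  have hl : ∀ t, Function.invFun z (z t) = t := Function.leftInverse_invFun hinj
  refine ⟨fun g => ψ (Function.invFun z g), fun a ha b hb => ?_, by rw [← hz0, hl, AddChar.map_zero_eq_one],
    z 1, (hZ _).2 ⟨1, rfl⟩, by rwa [hl]⟩
  obtain ⟨s, rfl⟩ := (hZ _).1 ha
  obtain ⟨t, rfl⟩ := (hZ _).1 hb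
  rw [← hz, hl, hl, hl, AddChar.map_add_eq_mul]

/-- integrality of the class sum of a subgroup -/
theorem dvd_index [Finite G] [ρ.IsIrreducible] {Z C : Subgroup G} (h : ∀ c ∈ C, ∀ z ∈ Z, c * z * c⁻¹ ∈ Z) :
    finrank ℂ V ∣ C.index * (Nat.card Z * finrank ℂ (Fx ρ Z)) := by
  classical
  have := Fintype.ofFinite G
  have := Fintype.ofFinite (G ⧸ C)
  have := CL.Char.rep_nontrivial ρ
  have hd := CL.Char.rep_finrank_ne_zero ρ
  have htr : LinearMap.trace ℂ V (∑ z : Z, ρ z) = Nat.card Z * finrank ℂ (Fx ρ Z) := by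
    have := sum_trN (ρ := ρ) (N := ⊤) (A := Z) (by rw [Stb_top]; exact le_top) (χ := 1) (by simp) rfl
    rw [top_inf_eq] at this
    have e : pr (⊤ : Submodule ℂ V) = 1 := by ext v; exact (isProj_pr ⊤).map_id v trivial
    rw [Fx, ← this, map_sum]
    simp [trN, e]
  have h1 := CL.Char.sum_conj_eq_smul ρ (∑ z : Z, ρ z)
  have h2 : ∀ c : C, ρ c * (∑ z : Z, ρ z) * ρ (c : G)⁻¹ = ∑ z : Z, ρ z := fun c => by
    rw [Finset.mul_sum, Finset.sum_mul]
    refine Fintype.sum_bijective (fun z : Z => (⟨c * z * (c : G)⁻¹, h _ c.2 _ z.2⟩ : Z))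
      (Finite.injective_iff_bijective.1 fun a b e => Subtype.ext (by simpa using congrArg Subtype.val e)) _ _
      fun z => by simp
  rw [CL.Char.sum_eq_sum_leftCosets C, htr] at h1
  have h3 : ∀ x : G ⧸ C, ∑ c : C, ρ (x.out * c) * (∑ z : Z, ρ z) * ρ (x.out * c)⁻¹ =
      (Nat.card C : ℂ) • ∑ z : Z, (1 : ℂ) • ρ (x.out * z * x.out⁻¹) := fun x => by
    rw [Finset.sum_congr rfl fun (c : C) _ => show ρ (x.out * c) * (∑ z : Z, ρ z) * ρ (x.out * c)⁻¹ =
      ρ x.out * (∑ z : Z, ρ z) * ρ x.out⁻¹ by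
        conv_rhs => rw [← h2 c]
        simp only [mul_inv_rev, map_mul, mul_assoc]]
    simp [Finset.mul_sum, Finset.sum_mul, Nat.cast_smul_eq_nsmul]
  have hc : (Nat.card C : ℂ) ≠ 0 := Nat.cast_ne_zero.2 Nat.card_pos.ne'
  rw [Finset.sum_congr rfl fun x _ => h3 x, ← Finset.smul_sum, ← Fintype.sum_prod_type',
    ← C.card_mul_index] at h1
  have h4 : ∑ i : (G ⧸ C) × Z, (1 : ℂ) • ρ (i.1.out * i.2 * i.1.out⁻¹) =
      (((C.index * (Nat.card Z * finrank ℂ (Fx ρ Z)) : ℕ) : ℂ) / finrank ℂ V) • (1 : V →ₗ[ℂ] V) := by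
    apply smul_right_injective _ hc
    simp only
    rw [h1, smul_smul]; congr 1; push_cast; ring
  exact CL.Char.nat_dvd_of_isIntegral_div (by exact_mod_cast hd)
    (CL.Char.isIntegral_of_sum_smul_rep_eq ρ _ _ _ (fun _ _ => isIntegral_one) h4)

end Trace

/-- averaging does not kill a vector fixed by the dual group -/
theorem sum_ne_zero [Finite G] {A B Z : Subgroup G} [Fintype A] {χ : G → ℂ} {v : V} (hv : v ∈ Fx ρ B)
    (h0 : v ≠ 0) (hA : ∀ y ∈ A, ρ y v ∈ Eig ρ Z χ)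
    (h : ∀ y ∈ A, y ≠ 1 → ∃ x ∈ B, ∃ z ∈ Z, χ z ≠ 1 ∧ x * y * x⁻¹ = z * y) : ∑ y : A, ρ y v ≠ 0 := by
  classical
  have := Fintype.ofFinite B
  intro e
  have hs : ∀ x ∈ B, ∀ w, (∑ b : B, ρ b) (ρ x w) = (∑ b : B, ρ b) w := fun x hx w => by
    simp only [LinearMap.sum_apply, ← apply_mul]
    exact Fintype.sum_equiv (Equiv.mulRight (⟨x, hx⟩ : B)) _ _ fun b => rfl
  have h1 := congrArg (∑ b : B, ρ b : V →ₗ[ℂ] V) e
  rw [map_sum, map_zero, Finset.sum_eq_single (1 : A) (fun y _ hy => ?_) (by simp)] at h1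
  · simp only [Subgroup.coe_one, map_one, Module.End.one_apply, LinearMap.sum_apply] at h1
    rw [Finset.sum_congr rfl fun (b : B) _ => mem_Fx.1 hv b b.2, Finset.sum_const, ← Nat.cast_smul_eq_nsmul ℂ] at h1
    simpa [h0] using h1
  · obtain ⟨x, hx, z, hz, hz1, e⟩ := h y y.2 (fun e => hy (Subtype.ext e))
    have h2 := hs x hx (ρ y v)
    have : x * y = z * y * x := by rw [← e]; group
    rw [← apply_mul, this, apply_mul, mem_Fx.1 hv x hx, apply_mul, hA y y.2 z hz, map_smul] at h2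
    have : (χ z - 1) • (∑ b : B, ρ b) (ρ y v) = 0 := by rw [sub_smul, h2]; simp
    simpa [sub_eq_zero, hz1] using this

theorem sum_mem_Fx {A : Subgroup G} [Fintype A] (v : V) : ∑ y : A, ρ y v ∈ Fx ρ A :=
  mem_Fx.2 fun z hz => by
    rw [map_sum]
    exact Fintype.sum_equiv (Equiv.mulLeft (⟨z, hz⟩ : A)) _ _ fun b => (apply_mul ρ _ _ v).symm

end CL.MD
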