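import Cfsg.Agent.CHEV.TwLiftD
import Cfsg.Agent.CHEV.SubTop

/-!
# Minimal degrees, part 2: root subgroups of (twisted) simply laced groups
-/

set_option autoImplicit false

namespace CL.Chev

variable {ι κ κ' : Type*} [Fintype κ] [DecidableEq κ] {R : RootSys ι κ}

/-- twisted norm -/
def nrm {Γ : Type*} [Group Γ] (σ : Γ →* Γ) : ℕ → Γ → Γ
  | 0, _ => 1
  | n + 1, g => g * σ (nrm σ n g)

section Nrm

variable {Γ : Type*} [Group Γ] {σ : Γ →* Γ}

theorem nrm_succ' (n : ℕ) (g : Γ) : nrm σ (n + 1) g = nrm σ n g * σ^[n] g := by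
  induction n with
  | zero => simp [nrm]
  | succ n ih =>
    conv_lhs => rw [nrm, ih, map_mul, ← mul_assoc]
    rw [Function.iterate_succ_apply']; rfl

theorem nrm_mem {P : Subgroup Γ} (hP : ∀ g ∈ P, σ g ∈ P) {g : Γ} (hg : g ∈ P) (n : ℕ) : nrm σ n g ∈ P := by
  induction n with
  | zero => exact P.one_mem
  | succ n ih => exact P.mul_mem hg (hP _ ih)

theorem nrm_fix {m : ℕ} {g : Γ} (h : σ^[m] g = g) (hc : Commute g (nrm σ m g)) : σ (nrm σ m g) = nrm σ m g := by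
  have := nrm_succ' (σ := σ) m g
  rw [h, ← hc.eq, nrm] at this
  exact mul_left_cancel this

theorem nrm_conj {C : Subgroup Γ} (hC : ∀ g ∈ C, σ g ∈ C) {g c y : Γ} (hy : σ y = y) (hc : c ∈ C)
    (h1 : ∀ c' ∈ C, Commute g c') (h2 : ∀ c' ∈ C, Commute c c') (e : g * y * g⁻¹ = c * y) (n : ℕ) :
    nrm σ n g * y * (nrm σ n g)⁻¹ = nrm σ n c * y := by
  induction n with
  | zero => simp [nrm]
  | succ n ih =>
    have h3 := congrArg σ ih
    simp only [map_mul, map_inv, hy] at h3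
    have h4 := hC _ (nrm_mem hC hc n)
    calc g * σ (nrm σ n g) * y * (g * σ (nrm σ n g))⁻¹
        = g * (σ (nrm σ n g) * y * (σ (nrm σ n g))⁻¹) * g⁻¹ := by group
      _ = σ (nrm σ n c) * (g * y * g⁻¹) := by rw [h3, ← mul_assoc, (h1 _ h4).eq]; group
      _ = c * σ (nrm σ n c) * y := by rw [e, ← mul_assoc, (h2 _ h4).eq]

end Nrm

namespace RootSys

variable (R) in
/-- `α - δ` -/
noncomputable def star (α δ : ι) : ι := R.neg (R.refl α δ)

theorem rt_star {α δ : ι} (h : R.pair α δ = 1) : R.rt (R.star α δ) = R.rt α - R.rt δ := by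
  rw [star, R.rt_neg, R.rt_refl, h]; simp

theorem rt_add_star {α δ : ι} (h : R.pair α δ = 1) : R.rt α = R.rt (R.star α δ) + R.rt δ := by
  rw [rt_star h]; simp

theorem pair_star {α δ : ι} (h : R.pair α δ = 1) (β : ι) : R.pair β (R.star α δ) = R.pair β α - R.pair β δ := by
  rw [R.pair_of_add (rt_add_star h)]; ring

theorem pair_star_self {α δ : ι} (h : R.pair α δ = 1) : R.pair α (R.star α δ) = 1 := by
  rw [pair_star h, h, R.pair_self]; rfl

theorem ht_star {α δ : ι} (h : R.pair α δ = 1) : R.ht (R.star α δ) = R.ht α - R.ht δ := by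
  rw [← htL_rt, rt_star h, map_sub, htL_rt, htL_rt]

theorem star_star (α δ : ι) : R.star α (R.star α δ) = δ := by
  rw [star, star, W_neg (R.refl_mem_W α), R.refl_refl, R.neg_neg]

theorem star_injective (α : ι) : Function.Injective (R.star α) :=
  Function.LeftInverse.injective (star_star α)

theorem eq_star {α δ ε : ι} (h : R.rt α = R.rt ε + R.rt δ) (h1 : R.pair α δ = 1) : ε = R.star α δ :=
  R.rt_inj (by rw [rt_star h1, h]; simp)

theorem ht_of_add {r s k : ι} (h : R.rt k = R.rt r + R.rt s) : R.ht k = R.ht r + R.ht s := by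
  rw [← htL_rt, h, map_add, htL_rt, htL_rt]

variable [Finite ι] (hl : ∀ r, R.Long r)
include hl

theorem comb_add {r s k : ι} (h : R.IsComb r s k) (hne : s ≠ R.neg r) :
    R.rt k = R.rt r + R.rt s ∧ R.pair r s = -1 := by
  rcases (hl r).pair_cases s with rfl | h1 | h1 | h1 | h1
  · exact absurd h (R.not_isComb_self _ _)
  · exact absurd h1 hne
  · exact absurd h (((hl r).noComb (by omega)).2 k)
  · exact absurd h (((hl r).noComb (by omega)).2 k)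
  · have := (hl r).a2P (hl s) h1 (rt_refl_of_neg_one h1)
    rw [this.2.2 k h]
    exact ⟨this.2.1, h1⟩

theorem eq_of_two_le {r s : ι} (h : 2 ≤ R.pair r s) : s = r := by
  rcases (hl r).pair_cases s with h1 | rfl | h1 | h1 | h1
  · exact h1
  · rw [R.pair_neg_right, R.pair_self] at h; omega
  all_goals omega

theorem pair_le_one {r s : ι} (h : s ≠ r) : R.pair r s ≤ 1 := by
  by_contra h'
  exact h (eq_of_two_le hl (by omega))

theorem q1_cases {α δ ε : ι} (h1 : R.pair α δ = 1) (h2 : R.pair α ε = 1) : R.NoComb δ ε ∨ ε = R.star α δ := by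
  have hne : ε ≠ R.neg δ := by
    rintro rfl
    rw [R.pair_neg_right] at h2; omega
  refine or_iff_not_imp_right.2 fun h => ⟨hne, fun k hk => h ?_⟩
  have h3 := (comb_add hl hk hne).1
  obtain rfl : k = α := eq_of_two_le hl (by rw [R.pair_of_add h3]; omega)
  exact eq_star (h3.trans (add_comm _ _)) h1

end RootSys

namespace StData

variable {K Γ G : Type*} [Field K] [Group Γ] [Group G] {S : StData R K Γ}

/-- the part of `XS A` lying in `G` -/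
def Yg (S : StData R K Γ) (j : G →* Γ) (A : Set ι) : Subgroup G := (S.XS A).comap j

variable {j : G →* Γ}

theorem mem_Yg {A : Set ι} {y : G} : y ∈ S.Yg j A ↔ j y ∈ S.XS A := Iff.rfl

theorem Yg_mono {A B : Set ι} (h : A ⊆ B) : S.Yg j A ≤ S.Yg j B := Subgroup.comap_mono (S.XS_mono h)

theorem Acts.conj_Yg {n : G} {w : Equiv.Perm ι} (h : S.Acts (j n) w) {A B : Set ι} (hA : ∀ r ∈ A, w r ∈ B)
    {y : G} (hy : y ∈ S.Yg j A) : n * y * n⁻¹ ∈ S.Yg j B := by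
  rw [mem_Yg, map_mul, map_mul, map_inv]; exact h.conj_mem_XS hA hy

theorem Acts.inv_conj_Yg {n : G} {w : Equiv.Perm ι} (h : S.Acts (j n) w) {A B : Set ι} (hA : ∀ r ∈ A, w⁻¹ r ∈ B)
    {y : G} (hy : y ∈ S.Yg j A) : n⁻¹ * y * n ∈ S.Yg j B := by
  rw [mem_Yg, map_mul, map_mul, map_inv]; exact h.inv_conj_mem_XS hA hy

theorem norm_Yg {A I : Set ι} (h : ∀ r ∈ A, ∀ s ∈ I, s ≠ R.neg r ∧ ∀ k, R.IsComb r s k → k ∈ I) {y u : G}
    (hy : y ∈ S.Yg j A) (hu : u ∈ S.Yg j I) : y⁻¹ * u * y ∈ S.Yg j I := by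
  rw [mem_Yg, map_mul, map_mul, map_inv]
  have := S.XS_le_normalizer (fun r hr s hs => (h r hr s hs).1) (fun r hr s hs => (h r hr s hs).2)
    ((S.XS A).inv_mem hy)
  simpa using (Subgroup.mem_normalizer_iff.1 this _).1 hu

theorem comm_Yg {A B C : Set ι} (hA : ∀ r ∈ A, ∀ s ∈ C, s ≠ R.neg r ∧ ∀ k, R.IsComb r s k → k ∈ C)
    (hB : ∀ r ∈ B, ∀ s ∈ C, s ≠ R.neg r ∧ ∀ k, R.IsComb r s k → k ∈ C)
    (h : ∀ r ∈ A, ∀ s ∈ B, s ≠ R.neg r ∧ ∀ k, R.IsComb r s k → k ∈ C) {a b : G}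
    (ha : a ∈ S.Yg j A) (hb : b ∈ S.Yg j B) : b⁻¹ * (a⁻¹ * b * a) ∈ S.Yg j C := by
  rw [mem_Yg]
  simp only [map_mul, map_inv, ← mul_assoc]
  exact S.comm_mem_of_le_normalizer (fun r hr s hs => (h r hr s hs).1)
    (S.XS_le_normalizer (fun r hr s hs => (hA r hr s hs).1) fun r hr s hs => (hA r hr s hs).2)
    (S.XS_le_normalizer (fun r hr s hs => (hB r hr s hs).1) fun r hr s hs => (hB r hr s hs).2)
    (fun r hr s hs k hk v => S.x_mem_XS ((h r hr s hs).2 k hk) v) ha hb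

theorem single_conj {c : ι} {B C : Set ι} (h : ∀ s ∈ B, s ∈ C ∧ s ≠ R.neg c ∧ ∀ k, R.IsComb c s k → k ∈ C)
    {y u : G} (hy : y ∈ S.Yg j {c}) (hu : u ∈ S.Yg j B) : y⁻¹ * u * y ∈ S.Yg j C := by
  obtain ⟨t, ht⟩ := S.mem_X_iff.1 ((S.X c).inv_mem hy)
  rw [mem_Yg, map_mul, map_mul, map_inv, ← inv_inv (j y), inv_inv (j y)⁻¹, ht]
  refine S.conj_mem_XS_of_forall (fun s hs v => ?_) hu
  obtain ⟨y', h1, h2⟩ := S.exists_conj_eq (h s hs).2.1 (h s hs).2.2 t v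
  rw [h2]; exact mul_mem (S.x_mem_XS (h s hs).1 v) h1

theorem single_comm {c a : ι} {C : Set ι} (h0 : a ≠ R.neg c) (h : ∀ k, R.IsComb c a k → k ∈ C)
    {y z : G} (hy : y ∈ S.Yg j {c}) (hz : z ∈ S.Yg j {a}) : z⁻¹ * (y⁻¹ * z * y) ∈ S.Yg j C := by
  obtain ⟨t, ht⟩ := S.mem_X_iff.1 ((S.X c).inv_mem hy)
  obtain ⟨u, hu⟩ := S.mem_X_iff.1 hz
  obtain ⟨y', h1, h2⟩ := S.exists_conj_eq h0 h t u
  rw [mem_Yg]
  simp only [map_mul, map_inv]
  rw [← inv_inv (j y), inv_inv (j y)⁻¹, ht, hu, h2]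
  simpa using h1

theorem Acts.conj_tor {n h : Γ} {w : Equiv.Perm ι} (hn : S.Acts n w) (hh : S.Acts h 1) {χ : ι → K}
    (hχ : ∀ r u, h * S.x r u * h⁻¹ = S.x r (χ r * u)) :
    S.Acts (n * h * n⁻¹) 1 ∧ ∀ r u, n * h * n⁻¹ * S.x r u * (n * h * n⁻¹)⁻¹ = S.x r (χ (w⁻¹ r) * u) := by
  refine ⟨by simpa using (hn.mul hh).mul hn.inv, fun r u => ?_⟩
  obtain ⟨c, hc, e⟩ := hn.exists_conj (w⁻¹ r)
  rw [RootSys.perm_apply_inv] at e
  have h1 : S.x r u = n * S.x (w⁻¹ r) (u / c) * n⁻¹ := by rw [e, mul_div_cancel₀ _ hc]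
  calc _ = n * (h * S.x (w⁻¹ r) (u / c) * h⁻¹) * n⁻¹ := by rw [h1]; group
    _ = _ := by rw [hχ, e]; congr 1; field_simp

theorem exists_ne_zero_mul [Finite ι] {A : Set ι} (hA : ∀ r ∈ A, ∀ s ∈ A, R.NoComb r s) {y : Γ} (hy : y ∈ S.XS A)
    (h1 : y ≠ 1) : ∃ δ ∈ A, ∃ t ≠ 0, ∃ y' ∈ S.XS (A \ {δ}), y = S.x δ t * y' := by
  induction h : A.ncard using Nat.strong_induction_on generalizing A with
  | _ n ih =>
  rcases A.eq_empty_or_nonempty with rfl | ⟨δ, hδ⟩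
  · rw [S.XS_empty] at hy; exact absurd hy h1
  obtain ⟨c, y', h2, e⟩ := S.exists_mul_of_mem_XS (r := δ) (S.XS_le_normalizer
    (fun r hr s hs => (hA r (hr ▸ hδ) s hs.1).1) fun r hr s hs k hk => absurd hk ((hA r (hr ▸ hδ) s hs.1).2 k)) hy
  by_cases hc : c = 0
  · rw [hc, S.x_zero, one_mul] at e
    obtain ⟨ε, h3, t, ht, y'', h4, e'⟩ := ih _ (h ▸ Set.ncard_sdiff_singleton_lt_of_mem hδ)
      (fun r hr s hs => hA r hr.1 s hs.1) (e ▸ h2) rfl
    exact ⟨ε, h3.1, t, ht, y'', S.XS_mono (Set.sdiff_subset_sdiff_left Set.sdiff_subset) h4, e'⟩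
  · exact ⟨δ, hδ, c, hc, y', h2, e⟩

namespace Twist

variable (T : S.Twist κ')

/-- stable sets of roots -/
def St (A : Set ι) : Prop := ∀ r ∈ A, T.ρ r ∈ A

/-- sets of roots that are positive for a `W1`-conjugate ordering -/
def Pw (A : Set ι) : Prop := ∃ w ∈ T.W1, ∀ r ∈ A, R.IsPos (w r)

theorem pw_pos {A : Set ι} (h : ∀ r ∈ A, R.IsPos r) : T.Pw A := ⟨1, one_mem _, h⟩

variable {T}

theorem Pw.mono {A B : Set ι} (h : T.Pw B) (h' : A ⊆ B) : T.Pw A :=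
  h.imp fun _ h => ⟨h.1, fun r hr => h.2 r (h' hr)⟩

theorem St.single {r : ι} (h : T.ρ r = r) : T.St {r} := by rintro _ rfl; exact h

theorem St.union {A B : Set ι} (h : T.St A) (h' : T.St B) : T.St (A ∪ B) :=
  fun r hr => hr.imp (h r) (h' r)

theorem St.inter {A B : Set ι} (h : T.St A) (h' : T.St B) : T.St (A ∩ B) :=
  fun r hr => ⟨h r hr.1, h' r hr.2⟩

theorem nrm_x {φ : K →+* K} {b : ι} {c : K} (h : ∀ t, T.σ (S.x b (c * t)) = S.x b (c * φ t)) (t : K) (n : ℕ) :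
    nrm T.σ n (S.x b (c * t)) = S.x b (c * ∑ i ∈ Finset.range n, φ^[i] t) := by
  induction n with
  | zero => simp [nrm, S.x_zero]
  | succ n ih =>
    rw [nrm, ih, h, ← S.x_add, Finset.sum_range_succ', map_sum, ← mul_add, add_comm]
    simp only [Function.iterate_succ_apply', Function.iterate_zero_apply]

/-- standing hypotheses -/
structure MD (T : S.Twist κ') (j : G →* Γ) (φ : K →+* K) (m q : ℕ) : Prop where
  good : S.Good
  inj : Function.Injective j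
  isTw : T.IsTw j.range
  long : ∀ r, R.Long r
  hA : ∀ i j, R.A (T.π i) (T.π j) = R.A i j
  orth : ∀ a, ∀ i ∈ T.J a, ∀ j ∈ T.J a, i ≠ j → R.A i j = 0
  f_eq : ∀ i, T.f i = φ
  π_pow : T.π ^ m = 1
  φ_pow : ∀ t, φ^[m] t = t
  tr : ∀ c, φ c = c → ∃ t, ∑ i ∈ Finset.range m, φ^[i] t = c
  cJ : ∀ a, T.cJ a = q ^ (T.pos a).ncard
  card : Nat.card (φ.eqLocusField (RingHom.id K)) = q
  tor : ∀ i, T.π i ≠ i → ∃ h ∈ j.range, h ∈ S.H ∧ ∃ χ : ι → K,
    (∀ r u, h * S.x r u * h⁻¹ = S.x r (χ r * u)) ∧ (∀ r, T.ρ r = r → χ r = 1) ∧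
      ∀ i' ∈ T.J (T.c i), χ (R.simple i') ≠ 1

namespace MD

variable {φ : K →+* K} {m q : ℕ} (h : T.MD j φ m q)
include h

theorem pair_ρ (r s : ι) : R.pair (T.ρ r) (T.ρ s) = R.pair r s := T.pair_ρρ h.hA r s

theorem pair_fix {α : ι} (hα : T.ρ α = α) (s : ι) : R.pair α (T.ρ s) = R.pair α s := by
  conv_lhs => rw [← hα]
  exact h.pair_ρ α s

theorem ht_ρ (r : ι) : R.ht (T.ρ r) = R.ht r := T.ht_ρ h.hA r

theorem symm (r s : ι) : R.pair r s = R.pair s r := (h.long r).pair_symm (h.long s)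

theorem ρ_star {α δ : ι} (hα : T.ρ α = α) (h1 : R.pair α δ = 1) : T.ρ (R.star α δ) = R.star α (T.ρ δ) := by
  have := T.rt_ρ_add h.hA (RootSys.rt_add_star h1)
  rw [hα] at this
  exact RootSys.eq_star this (by rw [h.pair_fix hα, h1])

theorem st_star {α : ι} (hα : T.ρ α = α) {A : Set ι} (hA : T.St A) (h1 : ∀ δ ∈ A, R.pair α δ = 1) :
    T.St (R.star α '' A) := by
  rintro _ ⟨δ, hδ, rfl⟩
  exact ⟨_, hA δ hδ, (h.ρ_star hα (h1 δ hδ)).symm⟩

theorem fix_of_add {r s k : ι} (e : R.rt k = R.rt r + R.rt s) (hr : T.ρ r = r) (hs : T.ρ s = s) : T.ρ k = k :=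
  R.rt_inj (by rw [T.rt_ρ_add h.hA e, hr, hs, e])

theorem commute {A B : Set ι} (hA : ∀ r ∈ A, ∀ s ∈ B, R.NoComb r s) {x y : G} (hx : x ∈ S.Yg j A)
    (hy : y ∈ S.Yg j B) : Commute x y := h.inj (by
  rw [map_mul, map_mul]; exact S.commute_XS hA hx hy)

theorem fix (y : G) : j y ∈ T.Fix := h.isTw.le_fix ⟨y, rfl⟩

theorem σ_j (y : G) : T.σ (j y) = j y := h.fix y

theorem fix_div {b : ι} {c u : K} {y : G} (hc : c ≠ 0) (hσ : ∀ t, T.σ (S.x b (c * t)) = S.x b (c * φ t))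
    (hu : j y = S.x b u) : φ (u / c) = u / c := by
  have := hσ (u / c)
  rw [mul_div_cancel₀ _ hc, ← hu, h.σ_j, hu] at this
  rw [eq_div_iff hc, mul_comm, ← h.good.x_injective b this]

variable [Finite ι]

theorem cls_subset {A : Set ι} (hA : T.St A) {r : ι} (hr : r ∈ A) : T.cls r ⊆ A := fun s hs => by
  obtain ⟨n, rfl⟩ := ((T.mem_cls_iff h.orth).1 hs).1
  exact perm_pow_of_imp T.ρ (P := (· ∈ A)) hA n hr

theorem cls_fix {r : ι} (hr : T.ρ r = r) : T.cls r = {r} :=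
  (h.cls_subset (St.single hr) rfl).antisymm (Set.singleton_subset_iff.2 (T.mem_cls r))

omit h in
theorem st_cls (r : ι) : T.St (T.cls r) := fun _ hs => (T.isRel_cls r).ρ_mem.2 hs

omit h in
theorem pw_cls (r : ι) : T.Pw (T.cls r) := (T.isRel_cls r).exists_isPos

theorem pw_fix {r : ι} (hr : T.ρ r = r) : T.Pw {r} := h.cls_fix hr ▸ pw_cls r

theorem pair_cls {α r s : ι} (hα : T.ρ α = α) (hs : s ∈ T.cls r) : R.pair α s = R.pair α r :=
  h.cls_subset (A := {s | R.pair α s = R.pair α r}) (fun t ht => (h.pair_fix hα t).trans ht) rfl hs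

theorem ht_cls {r s : ι} (hs : s ∈ T.cls r) : R.ht s = R.ht r :=
  h.cls_subset (A := {s | R.ht s = R.ht r}) (fun t ht => (h.ht_ρ t).trans ht) rfl hs

theorem cls_cases {r s t : ι} (hs : s ∈ T.cls r) (ht : t ∈ T.cls r) : t = s ∨ R.pair s t = 0 := by
  rw [(T.isRel_cls r).eq_cls hs] at ht
  exact ((T.mem_cls_iff h.orth).1 ht).2

theorem noComb_cls {r s t : ι} (hs : s ∈ T.cls r) (ht : t ∈ T.cls r) : R.NoComb s t :=
  (h.long s).noComb (by rcases h.cls_cases hs ht with rfl | e <;> simp [*, R.pair_self])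

theorem iso_cls {α r : ι} (hα : T.ρ α = α) (h1 : R.pair α r = 1) : ∀ δ ∈ T.cls r, R.star α δ ∉ T.cls r :=
  fun δ hδ hδ' => by
    have h2 := (h.pair_cls hα hδ).trans h1
    have h3 := RootSys.pair_star h2 δ
    rw [h.symm δ α, h2, R.pair_self] at h3
    rcases h.cls_cases hδ hδ' with e | e
    · rw [e, R.pair_self] at h3; omega
    · omega

theorem exists_n {w : Equiv.Perm ι} (hw : w ∈ T.W1) : ∃ n : G, S.Acts (j n) w := by
  obtain ⟨_, ⟨-, n, rfl⟩, h1⟩ := h.isTw.exists_acts h.good hw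
  exact ⟨n, h1⟩

theorem lift {A : Set ι} (hA : T.Pw A) {g : Γ} (hg : g ∈ S.XS A) (hf : g ∈ T.Fix) : ∃ y, j y = g := by
  obtain ⟨w, hw, hA⟩ := hA
  obtain ⟨n, hn⟩ := h.exists_n hw
  obtain ⟨y, hy⟩ := h.isTw.XS_le h.good (A := {r | R.IsPos r}) (fun _ => id)
    (T.conj_mem_inf (h.fix n) hn hA ⟨hg, hf⟩)
  exact ⟨n⁻¹ * y * n, by simp [hy, mul_assoc]⟩

theorem inf_eq_bot {A B : Set ι} (hp : T.Pw (A ∪ B)) (hA : R.Closed A) (hB : R.Closed B) (hd : Disjoint A B) :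
    S.XS A ⊓ S.XS B = ⊥ := by
  obtain ⟨w, hw, hp⟩ := hp
  rw [h.good.XS_inf hw.1 (fun s hs => hp s (Or.inl hs)) (fun s hs => hp s (Or.inr hs)) hA hB,
    Set.disjoint_iff_inter_eq_empty.1 hd, S.XS_empty]

theorem factor {A B : Set ι} (hp : T.Pw (A ∪ B)) (hc : R.Closed (A ∪ B)) (hA : R.Closed A) (hB : R.Closed B)
    (sA : T.St A) (sB : T.St B) (hd : Disjoint A B) {y : G} (hy : y ∈ S.Yg j (A ∪ B)) :
    ∃ a ∈ S.Yg j A, ∃ b ∈ S.Yg j B, y = a * b := by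
  obtain ⟨a, ha, b, hb, e⟩ := S.exists_mul_of_subset_union (A := A) (B := B)
    (by obtain ⟨w, hw, hp⟩ := hp; exact RootSys.nilp_of_W hw.1 hp) hc le_rfl hy
  replace ha := S.XS_mono Set.inter_subset_right ha
  replace hb := S.XS_mono Set.inter_subset_right hb
  obtain ⟨h1, h2⟩ := T.fix_of_mul (h.inf_eq_bot hp hA hB hd) ha (T.map_mem_XS sA ha) hb (T.map_mem_XS sB hb)
    (e ▸ h.fix y)
  obtain ⟨a, rfl⟩ := h.lift (hp.mono Set.subset_union_left) ha h1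
  obtain ⟨b, rfl⟩ := h.lift (hp.mono Set.subset_union_right) hb h2
  exact ⟨a, ha, b, hb, h.inj (by rw [e, map_mul])⟩

theorem peel {A : Set ι} (hp : T.Pw A) (hc : R.Closed A) (hne : A.Nonempty) :
    ∃ r ∈ A, R.Closed (A \ T.cls r) := by
  obtain ⟨w, hw, hp⟩ := hp
  obtain ⟨r, hr, hmin⟩ := Set.exists_min_image A (fun r => R.ht (w r)) A.toFinite hne
  refine ⟨r, hr, fun s hs t ht k hk => ⟨hc s hs.1 t ht.1 k hk, fun hk' => ?_⟩⟩
  have h1 := (hk.W hw.1).ht_le (hp s hs.1) (hp t ht.1)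
  have h2 : R.ht (w k) = R.ht (w r) := h.ht_cls (by rw [RootSys.Sym.cls_W1 hw]; exact ⟨k, hk', rfl⟩)
  have h3 := hmin s hs.1
  have h4 : 0 < R.ht (w t) := hp t ht.1
  omega

theorem induct {P : Set ι → Prop} (h0 : P ∅)
    (h1 : ∀ A r, T.Pw A → r ∈ A → T.cls r ⊆ A → P (A \ T.cls r) →
      S.XS (T.cls r) ⊓ S.XS (A \ T.cls r) = ⊥ →
      (∀ y ∈ S.Yg j A, ∃ a ∈ S.Yg j (T.cls r), ∃ b ∈ S.Yg j (A \ T.cls r), y = a * b) → P A)
    {A : Set ι} (hp : T.Pw A) (hc : R.Closed A) (hs : T.St A) : P A := by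
  induction e : A.ncard using Nat.strong_induction_on generalizing A with
  | _ n ih =>
  rcases A.eq_empty_or_nonempty with rfl | hne
  · exact h0
  obtain ⟨r, hr, hc'⟩ := h.peel hp hc hne
  have h2 := h.cls_subset hs hr
  have h3 : T.cls r ∪ A \ T.cls r = A := Set.union_sdiff_cancel h2
  have h4 : T.St (A \ T.cls r) := fun s hs' => ⟨hs s hs'.1, fun h5 => hs'.2 ((T.isRel_cls r).ρ_mem.1 h5)⟩
  refine h1 A r hp hr h2 (ih _ (e ▸ Set.ncard_lt_ncard ⟨Set.sdiff_subset, fun h5 => (h5 hr).2 (T.mem_cls r)⟩)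
    (hp.mono Set.sdiff_subset) hc' h4 rfl)
    (h.inf_eq_bot (h3.symm ▸ hp) (T.isRel_cls r).closed hc' Set.disjoint_sdiff_right) fun y hy => ?_
  exact h.factor (h3.symm ▸ hp) (h3.symm ▸ hc) (T.isRel_cls r).closed hc' (st_cls r) h4 Set.disjoint_sdiff_right
    (h3.symm ▸ hy)

theorem Yg_le {A : Set ι} (hp : T.Pw A) (hc : R.Closed A) (hs : T.St A) {L : Subgroup G}
    (hL : ∀ r ∈ A, S.Yg j (T.cls r) ≤ L) : S.Yg j A ≤ L := by
  refine h.induct (P := fun A => (∀ r ∈ A, S.Yg j (T.cls r) ≤ L) → S.Yg j A ≤ L) (fun _ y hy => ?_)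
    (fun A r _ hr _ ih _ hf hL y hy => ?_) hp hc hs hL
  · rw [mem_Yg, S.XS_empty, Subgroup.mem_bot, map_eq_one_iff _ h.inj] at hy
    exact hy ▸ L.one_mem
  · obtain ⟨a, ha, b, hb, rfl⟩ := hf y hy
    exact mul_mem (hL r hr ha) (ih (fun s hs => hL s hs.1) hb)

theorem card_Yg_eq {A : Set ι} (hp : T.Pw A) :
    Nat.card (S.Yg j A) = Nat.card (S.XS A ⊓ T.Fix : Subgroup Γ) := by
  rw [← Subgroup.card_map_of_injective h.inj, Yg, Subgroup.map_comap_eq]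
  congr 2
  exact le_antisymm (fun g hg => ⟨hg.2, h.isTw.le_fix hg.1⟩) fun g hg => ⟨h.lift hp hg.1 hg.2, hg.1⟩

theorem card_cls (r : ι) : Nat.card (S.Yg j (T.cls r)) = q ^ (T.cls r).ncard := by
  rw [h.card_Yg_eq (pw_cls r)]
  obtain ⟨w, hw, a, e⟩ := T.isRel_cls r
  obtain ⟨n, hn⟩ := h.exists_n hw
  rw [e, T.card_image (h.fix n) hn, Set.ncard_image_of_injective _ w.injective]
  exact h.cJ a

theorem card_Yg {A : Set ι} (hp : T.Pw A) (hc : R.Closed A) (hs : T.St A) :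
    Nat.card (S.Yg j A) = q ^ A.ncard := by
  refine h.induct (P := fun A => Nat.card (S.Yg j A) = q ^ A.ncard) ?_ (fun A r _ _ h1 ih h2 hf => ?_) hp hc hs
  · simp [Yg, S.XS_empty, (j.ker_eq_bot_iff).2 h.inj]
  · rw [card_eq_mul_of_inf_eq_bot (Yg_mono h1) (Yg_mono Set.sdiff_subset) (by
      rw [Yg, Yg, ← Subgroup.comap_inf, h2, MonoidHom.comap_bot, (j.ker_eq_bot_iff).2 h.inj]) hf, ih, h.card_cls,
      ← pow_add, ← Set.ncard_union_eq Set.disjoint_sdiff_right, Set.union_sdiff_cancel h1]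

theorem exists_simple (r : ι) : ∃ w ∈ T.W1, ∃ i, r = w (R.simple i) := by
  obtain ⟨w, hw, a, e⟩ := T.isRel_cls r
  have := T.mem_cls r
  rw [e, T.pos_eq_orth (h.orth a)] at this
  obtain ⟨_, ⟨i, -, rfl⟩, e⟩ := this
  exact ⟨w, hw, i, e.symm⟩

omit h [Finite ι] in
theorem fix_iff {w : Equiv.Perm ι} (hw : w ∈ T.W1) {r : ι} : T.ρ (w r) = w r ↔ T.ρ r = r := by
  rw [RootSys.Sym.ρ_W1 hw, w.injective.eq_iff]

omit h [Finite ι] in
theorem fix_simple {i : κ} : T.ρ (R.simple i) = R.simple i ↔ T.π i = i := by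
  rw [T.ρ_simple, R.simple_injective.eq_iff]

theorem par {b : ι} (hb : T.ρ b = b) : ∃ c : K, c ≠ 0 ∧ ∀ t, T.σ (S.x b (c * t)) = S.x b (c * φ t) := by
  obtain ⟨w, hw, i, rfl⟩ := h.exists_simple b
  obtain ⟨n, hn⟩ := h.exists_n hw
  obtain ⟨c, hc, e⟩ := hn.exists_conj (R.simple i)
  refine ⟨c, hc, fun t => ?_⟩
  rw [← e, ← e, map_mul, map_mul, map_inv, h.σ_j, T.map_pos, fix_simple.1 ((fix_iff hw).1 hb), h.f_eq]

/-- nondegeneracy of the commutator pairing -/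
theorem nd {α : ι} (hα : T.ρ α = α) {A : Set ι} (hA : ∀ δ ∈ A, R.pair α δ = 1)
    (hi : ∀ δ ∈ A, R.star α δ ∉ A) {y z : G} (hy : y ∈ S.Yg j A) (h1 : y ≠ 1) (hz : z ∈ S.Yg j {α}) :
    ∃ δ ∈ A, ∃ x ∈ S.Yg j (T.cls (R.star α δ)), x * y * x⁻¹ = z * y := by
  have hl := h.long
  obtain ⟨δ, hδ, t, ht, y', hy', e⟩ := exists_ne_zero_mul (fun r hr s hs =>
    (RootSys.q1_cases hl (hA r hr) (hA s hs)).resolve_right fun e => hi r hr (e ▸ hs)) hy
    (fun e => h1 (h.inj (by rw [e, map_one])))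
  have h2 := hA δ hδ
  have h3 := RootSys.pair_star_self h2
  obtain ⟨ε, hε, hc⟩ := h.good.A2_conj ((hl _).a2P (hl δ) (by
    rw [h.symm, RootSys.pair_star h2, h.symm δ α, h2, R.pair_self]; rfl) (RootSys.rt_add_star h2))
  obtain ⟨c, hc0, hσ⟩ := h.par hα
  obtain ⟨u, hu⟩ := S.mem_X_iff.1 hz
  have h4 := h.fix_div hc0 hσ hu
  obtain ⟨t₁, ht₁⟩ := h.tr _ h4
  have hε0 : ε ≠ 0 := by rcases hε with rfl | rfl <;> simp
  have hX : ∀ β, R.pair α β = 1 ∨ β = α → ∀ s, ∀ c' ∈ S.X α, Commute (S.x β s) c' := fun β hβ s c' hc' =>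
    S.commute_XS (α := {β}) (β := {α}) (by
      rintro _ rfl _ rfl
      exact ((hl _).noComb (by rcases hβ with e | rfl <;> simp [*, R.pair_self])).symm) (S.x_mem_X β s) hc'
  let g := S.x (R.star α δ) (c * t₁ / (ε * t))
  have hg : g ∈ S.XS (T.cls (R.star α δ)) := S.x_mem_XS (T.mem_cls _) _
  have h5 : g * j y * g⁻¹ = S.x α (c * t₁) * j y := by
    have h6 : Commute g y' := S.commute_XS (α := {R.star α δ}) (by
      rintro _ rfl s hs
      refine (RootSys.q1_cases hl h3 (hA s hs.1)).resolve_right fun e => hs.2 ?_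
      rw [e, RootSys.star_star]; rfl) (S.x_mem_X _ _) hy'
    rw [e, ← mul_assoc g, mul_assoc _ y', h6.inv_left.eq.symm, ← mul_assoc, hc, ← mul_assoc,
      (hX δ (Or.inl h2) t _ (S.x_mem_X _ _)).eq]
    congr 3; field_simp
  have h7 := nrm_conj (σ := T.σ) (C := S.X α) (fun _ => T.map_mem_XS (St.single hα)) (h.fix y) (S.x_mem_X _ _)
    (hX _ (Or.inl h3) _) (hX _ (Or.inr rfl) _) h5 m
  have h8 := nrm_mem (σ := T.σ) (fun _ => T.map_mem_XS (st_cls _)) hg m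
  obtain ⟨x, hx⟩ := h.lift (pw_cls _) h8 (nrm_fix (T.iterate_eq h.π_pow h.f_eq h.φ_pow (S.x_mem_grp _ _))
    (S.commute_XS (fun _ h1 _ h2 => h.noComb_cls h1 h2) hg h8))
  refine ⟨δ, hδ, x, by rw [mem_Yg, hx]; exact h8, h.inj ?_⟩
  rw [map_mul, map_mul, map_inv, hx, h7, nrm_x hσ, ht₁, mul_div_cancel₀ _ hc0, map_mul, hu]

/-- a torus element centralising the long root groups and acting without fixed points on a short one -/
theorem ta [Finite G] {c : ι} (hc : T.ρ c ≠ c) : ∃ g : G, S.Acts (j g) 1 ∧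
    (∀ α, T.ρ α = α → ∀ z ∈ S.Yg j {α}, g⁻¹ * z * g = z) ∧
    ∀ y ∈ S.Yg j (T.cls c), ∃ y' ∈ S.Yg j (T.cls c), y = g * y' * g⁻¹ * y'⁻¹ := by
  obtain ⟨w, hw, i, rfl⟩ := h.exists_simple c
  obtain ⟨n, hn⟩ := h.exists_n hw
  obtain ⟨_, ⟨g, rfl⟩, hH, χ, h1, h2, h3⟩ := h.tor i fun e => hc ((fix_iff hw).2 (fix_simple.2 e))
  obtain ⟨h4, h5⟩ := hn.conj_tor (S.acts_of_mem_H hH) h1
  rw [← map_inv, ← map_mul, ← map_mul] at h4 h5
  refine ⟨_, h4, fun α hα z hz => ?_, fun y hy => ?_⟩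
  · obtain ⟨u, hu⟩ := S.mem_X_iff.1 hz
    have := h5 α u
    rw [h2 _ ((fix_iff (inv_mem hw)).2 hα), one_mul, ← hu, ← map_inv, ← map_mul, ← map_mul] at this
    conv_lhs => rw [← h.inj this]
    group
  · set g' := n * g * n⁻¹
    let f : S.Yg j (T.cls (w (R.simple i))) → S.Yg j (T.cls (w (R.simple i))) := fun y =>
      ⟨g' * y * g'⁻¹ * (y : G)⁻¹, mul_mem (h4.conj_Yg (fun _ => id) y.2) (inv_mem y.2)⟩
    have hf : Function.Injective f := fun a b e => by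
      have e1 : g' * ((b : G)⁻¹ * a) * g'⁻¹ = (b : G)⁻¹ * a := by
        have := congrArg Subtype.val e
        simp only [f] at this
        calc _ = (g' * b * g'⁻¹)⁻¹ * (g' * a * g'⁻¹ * (a : G)⁻¹) * a := by group
          _ = _ := by rw [this]; group
      have hv := mul_mem (inv_mem b.2) a.2
      set v := (b : G)⁻¹ * a
      have hv' : n⁻¹ * v * n ∈ S.Yg j (T.pos (T.c i)) := hn.inv_conj_Yg (fun r hr => by
        rw [RootSys.Sym.cls_W1 hw, T.cls_simple] at hr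
        obtain ⟨s, hs, rfl⟩ := hr
        rwa [RootSys.perm_inv_apply]) hv
      have := h.good.mem_of_conj_H (I := ∅) (fun s hs => hs.1) (T.closed_pos _) ⟨Set.empty_subset _, by simp⟩ h1
        (fun s hs _ => by
          rw [T.pos_eq_orth (h.orth _)] at hs
          obtain ⟨i', hi', rfl⟩ := hs
          exact h3 i' hi') hv' (by
          rw [← map_inv, ← map_inv, ← map_mul, ← map_mul, ← map_mul,
            show (n⁻¹ * v * n)⁻¹ * (g * (n⁻¹ * v * n) * g⁻¹) = n⁻¹ * (v⁻¹ * (g' * v * g'⁻¹)) * n by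
              simp only [g']; group, e1]
          simp)
      rw [S.XS_empty, Subgroup.mem_bot, map_eq_one_iff _ h.inj] at this
      have : v = 1 := by simpa [mul_assoc] using congrArg (fun x => n * x * n⁻¹) this
      exact Subtype.ext (inv_mul_eq_one.1 this).symm
    obtain ⟨y', e⟩ := Finite.injective_iff_surjective.1 hf ⟨y, hy⟩
    exact ⟨y', y'.2, (congrArg Subtype.val e).symm⟩

theorem torL {β : ι} (hβ : T.ρ β = β) {s : K} (hs : φ s = s) (h0 : s ≠ 0) : ∃ g : G, S.Acts (j g) 1 ∧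
    ∀ r u, j g * S.x r u * (j g)⁻¹ = S.x r (s ^ R.pair β r * u) := by
  obtain ⟨w, hw, i, rfl⟩ := h.exists_simple β
  obtain ⟨n, hn⟩ := h.exists_n hw
  obtain ⟨g, hg⟩ := (h.isTw.h_mem_one h.good (fix_simple.1 ((fix_iff hw).1 hβ)) (by rw [h.f_eq, hs])).2
  obtain ⟨h4, h5⟩ := hn.conj_tor (S.acts_of_mem_H (S.h_mem_H _ h0)) fun r u => S.h_conj (R.simple i) r h0 u
  rw [← hg, ← map_inv, ← map_mul, ← map_mul] at h4 h5
  refine ⟨_, h4, fun r u => ?_⟩
  rw [h5, ← RootSys.W_pair hw.1, RootSys.perm_apply_inv]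

theorem param {b β : ι} (hb : T.ρ b = b) (hβ : T.ρ β = β) (h1 : R.pair β b = 1) :
    ∃ z : φ.eqLocusField (RingHom.id K) → G, (∀ s t, z (s + t) = z s * z t) ∧ Function.Injective z ∧
      (∀ g, g ∈ S.Yg j {b} ↔ ∃ t, g = z t) ∧
      ∀ s, s ≠ 0 → ∃ g : G, S.Acts (j g) 1 ∧ ∀ t, g⁻¹ * z t * g = z (s * t) := by
  obtain ⟨c, hc, hσ⟩ := h.par hb
  have : ∀ t : φ.eqLocusField (RingHom.id K), ∃ y, j y = S.x b (c * t) := fun t =>
    h.lift (h.pw_fix hb) (S.x_mem_X _ _) (by rw [T.mem_Fix, hσ, show φ t = t from t.2])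
  choose z hz using this
  refine ⟨z, fun s t => h.inj ?_, fun s t e => ?_, fun g => ⟨fun hg => ?_, ?_⟩, fun s hs => ?_⟩
  · rw [map_mul, hz, hz, hz, ← S.x_add]; simp [mul_add]
  · have := congrArg j e
    rw [hz, hz] at this
    exact Subtype.ext (mul_left_cancel₀ hc (h.good.x_injective b this))
  · obtain ⟨u, hu⟩ := S.mem_X_iff.1 hg
    have h4 := h.fix_div hc hσ hu
    exact ⟨⟨u / c, h4⟩, h.inj (by rw [hz, hu, mul_div_cancel₀ _ hc])⟩
  · rintro ⟨t, rfl⟩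
    rw [mem_Yg, hz]; exact S.x_mem_X _ _
  · obtain ⟨g, h2, h3⟩ := h.torL hβ (s := s) s.2 (fun e => hs (Subtype.ext e))
    refine ⟨g⁻¹, by simpa using h2.inv, fun t => h.inj ?_⟩
    rw [inv_inv, map_mul, map_mul, map_inv, hz, hz, h3, h1]
    simp [mul_left_comm]

/-- the fundamental reflections of `W1` -/
theorem ht_w (a : κ') (r : ι) : ∃ J : Finset κ, (∀ i, i ∈ J ↔ i ∈ T.J a) ∧ J.card = (T.pos a).ncard ∧
    R.rt (T.w a r) = R.rt r - ∑ i ∈ J, R.wt r i • R.rt (R.simple i) := by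
  have key : ∀ J : Finset κ, (∀ i ∈ J, i ∈ T.J a) → ∃ w ∈ R.WJ J,
      ∀ r, R.rt (w r) = R.rt r - ∑ i ∈ J, R.wt r i • R.rt (R.simple i) := fun J => by
    induction J using Finset.induction_on with
    | empty => exact fun _ => ⟨1, one_mem _, by simp⟩
    | insert i J hi ih =>
      intro hJ
      obtain ⟨w, hw, e⟩ := ih fun k hk => hJ k (Finset.mem_insert_of_mem hk)
      refine ⟨R.sp i * w, mul_mem (R.sp_mem_WJ (by simp)) (R.WJ_mono (by simp) hw), fun r => ?_⟩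
      have : R.wt (w r) i = R.wt r i := by
        rw [← R.wtL_rt, e, map_sub, map_sum, R.wtL_rt, Finset.sum_eq_zero, sub_zero]
        intro k hk
        rw [map_smul, R.wtL_rt, R.wt_simple, h.orth a i (hJ i (by simp)) k (hJ k (by simp [hk]))
          (by rintro rfl; exact hi hk), smul_zero]
      rw [Finset.sum_insert hi, Equiv.Perm.mul_apply, show R.sp i (w r) = R.σ i (w r) from rfl, R.rt_σ', this, e]
      abel
  let J := (T.J a).toFinite.toFinset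
  have hJ : ∀ i, i ∈ J ↔ i ∈ T.J a := fun i => Set.Finite.mem_toFinset _
  obtain ⟨w, hw, e⟩ := key J fun i => (hJ i).1
  have h1 : w = T.w a := R.eq_w0 (by simpa [J] using hw) fun i hi => by
    rw [R.not_isPos_iff_ht, ← RootSys.htL_rt, e, Finset.sum_eq_single i (fun k hk hki => by
      rw [R.wt_simple, h.orth a k ((hJ k).1 hk) i hi hki, zero_smul]) (fun h2 => absurd ((hJ i).2 hi) h2),
      map_sub, map_smul, RootSys.htL_rt, R.wt_simple, R.A_self, R.ht_simple]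
    simp
  refine ⟨J, hJ, ?_, h1 ▸ e r⟩
  rw [T.pos_eq_orth (h.orth a), Set.ncard_image_of_injective _ R.simple_injective,
    Set.ncard_eq_toFinset_card _ (T.J a).toFinite]

end MD

end Twist

end StData

end CL.Chev
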