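import Cfsg.Agent.CHEV.MinDeg1
import Cfsg.Agent.CHEV.MinDeg2

/-!
# Minimal degrees, part 3: long root eigenspaces
-/

set_option autoImplicit false

open Module CL.MD

namespace CL.Chev

variable {ι κ κ' : Type*} [Fintype κ] [DecidableEq κ] {R : RootSys ι κ}

/-- positive roots at angle `π/3` -/
def RootSys.Lam (R : RootSys ι κ) (a : ι) : Set ι := {δ | R.IsPos δ ∧ R.pair a δ = 1}

namespace StData.Twist

variable {K Γ G : Type*} [Field K] [Group Γ] [Group G] {S : StData R K Γ} {j : G →* Γ} {T : S.Twist κ'}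

/-- the highest root `θ`, a fundamental weight -/
structure Top (T : S.Twist κ') (θ : ι) (i₀ : κ) : Prop where
  fix : T.ρ θ = θ
  fix₀ : T.π i₀ = i₀
  wt : ∀ i, R.wt θ i = if i = i₀ then 1 else 0
  conn : ∀ P : κ → Prop, P i₀ → (∀ i i', T.π i = i → T.π i' = i' → R.A i i' = -1 → P i → P i') →
    ∀ i, T.π i = i → P i

theorem sp_mem_W1 {i : κ} (hi : T.π i = i) : R.sp i ∈ T.W1 := ⟨R.sp_mem_W i, by rw [T.conj_sp, hi]⟩

variable {V : Type*} [AddCommGroup V] [Module ℂ V] {ρ : Representation ℂ G V}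

theorem tor_mem_Stb [Finite G] {g : G} (hg : S.Acts (j g) 1) (A : Set ι) : g ∈ Stb ρ (Fx ρ (S.Yg j A)) :=
  mem_Stb_Fx fun _ hu => hg.inv_conj_Yg (fun _ => id) hu

theorem crit [Finite G] {a : ι} {L B C : Set ι} {χ : G → ℂ} (hL : L ⊆ C)
    (hC : S.Yg j C ≤ Fxr ρ (Eig ρ (S.Yg j {a}) χ ⊓ Fx ρ (S.Yg j L)))
    (hB : ∀ r ∈ B, ∀ s ∈ C, s ≠ R.neg r ∧ ∀ k, R.IsComb r s k → k ∈ C)
    (ha : ∀ s ∈ C, s ≠ R.neg a ∧ ∀ k, R.IsComb a s k → k ∈ C)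
    (hBa : ∀ r ∈ B, a ≠ R.neg r ∧ ∀ k, R.IsComb r a k → k ∈ C) :
    S.Yg j B ≤ Stb ρ (Eig ρ (S.Yg j {a}) χ ⊓ Fx ρ (S.Yg j L)) := fun _ hy =>
  mem_Stb_of (fun _ hz => hC (comm_Yg hB (by rintro _ rfl; exact ha) (by rintro r hr _ rfl; exact hBa r hr) hy hz))
    fun _ hu => hC (norm_Yg hB hy (Yg_mono hL hu))

theorem pos_le_Stb [Finite G] {b : ι} (hb : R.IsPos b) (χ : G → ℂ) :
    S.Yg j {r | R.IsPos r} ≤ Stb ρ (Eig ρ (S.Yg j {b}) χ ⊓ Fx ρ (S.Yg j (R.Tr b))) := by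
  have h0 : ∀ {r s}, R.IsPos r → R.IsPos s → s ≠ R.neg r := fun hr hs => (R.nilp_pos fun _ => id).ne_neg hr hs
  exact crit le_rfl (le_Fx.1 inf_le_right)
    (fun r hr s hs => ⟨h0 hr (RootSys.Tr_pos hb s hs), fun k => RootSys.comb_mem_Tr hb hr hs.1⟩)
    (fun s hs => ⟨h0 hb (RootSys.Tr_pos hb s hs), fun k => RootSys.comb_mem_Tr hb hb hs.1⟩)
    fun r hr => ⟨h0 hr hb, fun k => RootSys.comb_mem_Tr hb hr le_rfl⟩

namespace MD

variable {φ : K →+* K} {m q : ℕ} (h : T.MD j φ m q)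
include h

theorem two_le [Finite K] : 2 ≤ q := h.card ▸ Finite.one_lt_card

theorem st_Tr {b : ι} (hb : T.ρ b = b) : T.St (R.Tr b) := fun r hr =>
  ⟨by rw [h.ht_ρ]; exact hr.1, fun e => hr.2 (T.ρ.injective (e.trans hb.symm))⟩

theorem st_Lam {b : ι} (hb : T.ρ b = b) : T.St (R.Lam b) := fun r hr =>
  ⟨(T.isPos_ρ r).2 hr.1, by rw [h.pair_fix hb]; exact hr.2⟩

theorem sp_sp {i i' : κ} (hA : R.A i i' = -1) :
    R.rt (R.sp i' (R.simple i)) = R.rt (R.simple i) + R.rt (R.simple i') ∧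
      R.sp i (R.sp i' (R.simple i)) = R.simple i' := by
  have h1 : R.A i' i = -1 := by rw [← R.wt_simple, ← R.pair_simple, h.symm, R.pair_simple, R.wt_simple, hA]
  have h2 : R.rt (R.σ i' (R.simple i)) = R.rt (R.simple i) + R.rt (R.simple i') := by
    rw [R.rt_σ', R.wt_simple, h1]; simp
  refine ⟨h2, R.rt_inj ?_⟩
  change R.rt (R.σ i (R.σ i' _)) = _
  rw [R.rt_σ', ← R.wtL_rt, h2, map_add, R.wtL_rt, R.wtL_rt, R.wt_simple, R.wt_simple, R.A_self, hA]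
  simp

theorem le_Stb_Eig [Finite G] {α : ι} {A : Set ι} (hA : ∀ δ ∈ A, 0 ≤ R.pair α δ) (χ : G → ℂ) :
    S.Yg j A ≤ Stb ρ (Eig ρ (S.Yg j {α}) χ) := fun y hy => mem_Stb_Eig fun u hu => by
  rw [mul_assoc, (h.commute (by rintro _ rfl s hs; exact (h.long _).noComb (hA s hs)) hu hy).eq]; simp

section Top

variable {θ : ι} {i₀ : κ} (t : T.Top θ i₀)
include t

theorem pair_θ (s : ι) : R.pair θ s = R.rt s i₀ := by
  have := R.len_co s i₀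
  rw [(h.long s).len_eq (h.long (R.simple i₀))] at this
  rw [h.symm, RootSys.pair, ← mul_left_cancel₀ (R.len_pos _).ne' this]
  simp [t.wt]

theorem pos_of_pair {s : ι} (hs : 0 < R.pair θ s) : R.IsPos s := R.isPos_of_pos (h.pair_θ t s ▸ hs)

theorem pair_nonneg {s : ι} (hs : R.IsPos s) : 0 ≤ R.pair θ s := h.pair_θ t s ▸ (R.isPos_iff s).1 hs i₀

theorem pair_θ_a : R.pair θ (R.simple i₀) = 1 := by rw [h.pair_θ t, R.rt_simple]; simp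

theorem pair_a_θ : R.pair (R.simple i₀) θ = 1 := by rw [h.symm, h.pair_θ_a t]

theorem one_le_of_Lam {δ : ι} (hδ : δ ∈ R.Lam (R.simple i₀)) : 1 ≤ R.pair θ δ := by
  by_contra h1
  have h2 := h.pair_nonneg t hδ.1
  rw [h.pair_θ t] at h1 h2
  have h3 := hδ.2
  rw [R.pair_simple, RootSys.wt] at h3
  have : ∑ k, R.A i₀ k * R.rt δ k ≤ 0 := Finset.sum_nonpos fun k _ => by
    by_cases e : i₀ = k
    · rw [← e, show R.rt δ i₀ = 0 by omega, mul_zero]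
    · exact mul_nonpos_of_nonpos_of_nonneg (R.A_nonpos e) ((R.isPos_iff δ).1 hδ.1 k)
  omega

variable [Finite ι]

theorem trans {b : ι} (hb : T.ρ b = b) : ∃ w ∈ T.W1, w (R.simple i₀) = b := by
  obtain ⟨w, hw, i, rfl⟩ := h.exists_simple b
  obtain ⟨v, hv, e⟩ := t.conn (fun i => ∃ w ∈ T.W1, w (R.simple i₀) = R.simple i) ⟨1, one_mem _, rfl⟩
    (fun i i' hi hi' hA ⟨v, hv, e⟩ => ⟨R.sp i * R.sp i' * v, mul_mem (mul_mem (sp_mem_W1 hi) (sp_mem_W1 hi')) hv, by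
      rw [Equiv.Perm.mul_apply, e]; exact (h.sp_sp hA).2⟩) i (fix_simple.1 ((fix_iff hw).1 hb))
  exact ⟨w * v, mul_mem hw hv, by rw [Equiv.Perm.mul_apply, e]⟩

theorem trans' {b b' : ι} (hb : T.ρ b = b) (hb' : T.ρ b' = b') : ∃ w ∈ T.W1, w b = b' := by
  obtain ⟨w, hw, rfl⟩ := h.trans t hb
  obtain ⟨w', hw', rfl⟩ := h.trans t hb'
  exact ⟨w' * w⁻¹, mul_mem hw' (inv_mem hw), by simp⟩

theorem exists_adj {b : ι} (hb : T.ρ b = b) : ∃ β, T.ρ β = β ∧ R.pair β b = 1 := by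
  obtain ⟨w, hw, rfl⟩ := h.trans t hb
  exact ⟨w θ, (fix_iff hw).2 t.fix, by rw [RootSys.W_pair hw.1, h.pair_θ_a t]⟩

omit t in
theorem comb_θ {r s : ι} (hr : 1 ≤ R.pair θ r) (hs : 1 ≤ R.pair θ s) :
    s ≠ R.neg r ∧ ∀ k, R.IsComb r s k → k = θ := by
  have h0 : s ≠ R.neg r := by
    rintro rfl
    rw [R.pair_neg_right] at hs; omega
  exact ⟨h0, fun k hk => RootSys.eq_of_two_le h.long (by
    rw [R.pair_of_add (RootSys.comb_add h.long hk h0).1]; omega)⟩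

variable [Finite K]

theorem exists_ch {b : ι} (hb : T.ρ b = b) : ∃ χ, Ch (S.Yg j {b}) χ := by
  obtain ⟨β, h1, h2⟩ := h.exists_adj t hb
  obtain ⟨z, h3, h4, h5, -⟩ := h.param hb h1 h2
  exact exists_Ch h3 h4 h5

variable [Finite G] [FiniteDimensional ℂ V]

theorem dimdec {b : ι} (hb : T.ρ b = b) {N : Submodule ℂ V} (hN : S.Yg j {b} ≤ Stb ρ N)
    (hT : ∀ g, S.Acts (j g) 1 → g ∈ Stb ρ N) {χ : G → ℂ} (hχ : Ch (S.Yg j {b}) χ) :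
    finrank ℂ N = finrank ℂ (N ⊓ Fx ρ (S.Yg j {b}) : Submodule ℂ V) +
      (q - 1) * finrank ℂ (N ⊓ Eig ρ (S.Yg j {b}) χ : Submodule ℂ V) := by
  obtain ⟨β, h1, h2⟩ := h.exists_adj t hb
  obtain ⟨z, h3, h4, h5, h6⟩ := h.param hb h1 h2
  rw [← h.card]
  exact dec h3 h4 h5 hN (fun s hs => by
    obtain ⟨g, h7, h8⟩ := h6 s hs
    exact ⟨g, hT g h7, h8⟩) hχ

theorem dimdec_top {b : ι} (hb : T.ρ b = b) {χ : G → ℂ} (hχ : Ch (S.Yg j {b}) χ) :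
    finrank ℂ V = finrank ℂ (Fx ρ (S.Yg j {b})) + (q - 1) * finrank ℂ (Eig ρ (S.Yg j {b}) χ) := by
  have := h.dimdec t (ρ := ρ) hb (N := ⊤) (by rw [Stb_top]; exact le_top) (by simp [Stb_top]) hχ
  rwa [top_inf_eq, top_inf_eq, finrank_top] at this

theorem finrank_Eig_eq {b b' : ι} (hb : T.ρ b = b) (hb' : T.ρ b' = b') {χ χ' : G → ℂ} (hχ : Ch (S.Yg j {b}) χ)
    (hχ' : Ch (S.Yg j {b'}) χ') : finrank ℂ (Eig ρ (S.Yg j {b}) χ) = finrank ℂ (Eig ρ (S.Yg j {b'}) χ') := by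
  have key : ∀ {b b'}, T.ρ b = b → T.ρ b' = b' →
      finrank ℂ (Fx ρ (S.Yg j {b})) ≤ finrank ℂ (Fx ρ (S.Yg j {b'})) := fun hb hb' => by
    obtain ⟨w, hw, rfl⟩ := h.trans' t hb hb'
    obtain ⟨n, hn⟩ := h.exists_n hw
    exact finrank_le_of_map (ρ := ρ) (n := n) fun v => map_mem_Fx fun z => hn.inv_conj_Yg (by simp)
  have h1 := h.dimdec_top t (ρ := ρ) hb hχ
  rw [h.dimdec_top t (ρ := ρ) hb' hχ', le_antisymm (key hb hb') (key hb' hb)] at h1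
  have := h.two_le
  exact (Nat.eq_of_mul_eq_mul_left (by omega) (Nat.add_left_cancel h1)).symm

/-- the chain of fixed spaces of long root groups -/
theorem chain {f : ι → ℕ} (hf : ∀ b, T.ρ b = b → R.IsPos b → ∃ χ, Ch (S.Yg j {b}) χ ∧
      f b ≤ finrank ℂ (Eig ρ (S.Yg j {b}) χ ⊓ Fx ρ (S.Yg j (R.Tr b ∩ {r | T.ρ r = r})) : Submodule ℂ V))
    (B : Finset ι) (h1 : ∀ b ∈ B, T.ρ b = b ∧ R.IsPos b)
    (h2 : ∀ b ∈ B, ∀ c, T.ρ c = c → R.ht b < R.ht c → c ∈ B) :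
    finrank ℂ (Fx ρ (S.Yg j B)) + ∑ b ∈ B, (q - 1) * f b ≤ finrank ℂ V := by
  classical
  induction B using Finset.strongInduction with
  | H B ih =>
  rcases B.eq_empty_or_nonempty with rfl | hne
  · simpa using Submodule.finrank_le _
  obtain ⟨b, hb, hmin⟩ := B.exists_min_image R.ht hne
  obtain ⟨χ, hχ, h3⟩ := hf b (h1 b hb).1 (h1 b hb).2
  have h4 := ih _ (Finset.erase_ssubset hb) (fun c hc => h1 c (Finset.mem_of_mem_erase hc)) fun c hc c' h5 h6 =>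
    Finset.mem_erase.2 ⟨by
      rintro rfl
      have := hmin c (Finset.mem_of_mem_erase hc); omega, h2 c (Finset.mem_of_mem_erase hc) c' h5 h6⟩
  have h5 := h.dimdec t (ρ := ρ) (h1 b hb).1 (N := Fx ρ (S.Yg j (B.erase b : Finset ι)))
    (fun y hy => mem_Stb_Fx fun u hu => norm_Yg (by
      rintro _ rfl s hs
      have h6 := h1 s (Finset.mem_of_mem_erase hs)
      have h7 := (R.nilp_pos fun _ => id).ne_neg (h1 _ hb).2 h6.2
      refine ⟨h7, fun k hk => ?_⟩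
      have h8 := (RootSys.comb_add h.long hk h7).1
      have h9 := RootSys.ht_of_add h8
      have : 0 < R.ht s := h6.2
      exact Finset.mem_erase.2 ⟨hk.ne_left h7, h2 _ hb k (h.fix_of_add h8 (h1 _ hb).1 h6.1) (by omega)⟩) hy hu)
    (fun g hg => tor_mem_Stb hg _) hχ
  have h6 : finrank ℂ (Fx ρ (S.Yg j B)) ≤
      finrank ℂ (Fx ρ (S.Yg j (B.erase b : Finset ι)) ⊓ Fx ρ (S.Yg j {b}) : Submodule ℂ V) :=
    Submodule.finrank_mono (le_inf (Fx_mono (Yg_mono (by simp))) (Fx_mono (Yg_mono (by simpa using hb))))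
  have h7 : f b ≤ finrank ℂ (Fx ρ (S.Yg j (B.erase b : Finset ι)) ⊓ Eig ρ (S.Yg j {b}) χ : Submodule ℂ V) :=
    h3.trans (Submodule.finrank_mono (le_inf (inf_le_right.trans (Fx_mono (Yg_mono fun c hc =>
      ⟨⟨hmin c (Finset.mem_of_mem_erase hc), Finset.ne_of_mem_erase hc⟩, (h1 c (Finset.mem_of_mem_erase hc)).1⟩)))
      inf_le_left))
  rw [← Finset.add_sum_erase _ _ hb]
  have := Nat.mul_le_mul_left (q - 1) h7
  omega

end Top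

variable [Finite ι] [Finite G]

omit [Finite G] in
theorem nd' {α : ι} (hα : T.ρ α = α) {A : Set ι} (hs : T.St A) (hA : ∀ δ ∈ A, R.pair α δ = 1)
    (hi : ∀ δ ∈ A, R.star α δ ∉ A) {χ : G → ℂ} (hχ : Ch (S.Yg j {α}) χ) {y : G} (hy : y ∈ S.Yg j A) (h1 : y ≠ 1) :
    ∃ x ∈ S.Yg j (R.star α '' A), ∃ z ∈ S.Yg j {α}, χ z ≠ 1 ∧ x * y * x⁻¹ = z * y := by
  obtain ⟨z, hz, h2⟩ := hχ.ne
  obtain ⟨δ, hδ, x, hx, e⟩ := h.nd hα hA hi hy h1 hz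
  exact ⟨x, Yg_mono (h.cls_subset (h.st_star hα hs hA) ⟨δ, hδ, rfl⟩) hx, z, hz, h2, e⟩

theorem ta_line [FiniteDimensional ℂ V] {a c : ι} (ha : T.ρ a = a) (hc : T.ρ c ≠ c) {χ : G → ℂ} {L : Set ι}
    (hN : finrank ℂ (Eig ρ (S.Yg j {a}) χ ⊓ Fx ρ (S.Yg j L) : Submodule ℂ V) = 1)
    (h1 : S.Yg j (T.cls c) ≤ Stb ρ (Eig ρ (S.Yg j {a}) χ ⊓ Fx ρ (S.Yg j L))) :
    S.Yg j (T.cls c) ≤ Fxr ρ (Eig ρ (S.Yg j {a}) χ ⊓ Fx ρ (S.Yg j L)) := fun y hy => by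
  obtain ⟨g, h2, h3, h4⟩ := h.ta hc
  obtain ⟨y', h5, rfl⟩ := h4 y hy
  exact comm_mem_Fxr hN (Stb_inf (mem_Stb_Eig (h3 a ha)) (tor_mem_Stb h2 _)) (h1 h5)

variable [FiniteDimensional ℂ V]

theorem heisY {α : ι} (hα : T.ρ α = α) {A : Set ι} (hp : T.Pw A) (hs : T.St A) (hA : ∀ δ ∈ A, R.pair α δ = 1)
    (hi : ∀ δ ∈ A, R.star α δ ∉ A) {χ : G → ℂ} (hχ : Ch (S.Yg j {α}) χ) {N : Submodule ℂ V}
    (hN : N ≤ Eig ρ (S.Yg j {α}) χ) (h1 : S.Yg j A ≤ Stb ρ N) (h2 : S.Yg j (R.star α '' A) ≤ Stb ρ N) :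
    finrank ℂ N = q ^ A.ncard * finrank ℂ (N ⊓ Fx ρ (S.Yg j A) : Submodule ℂ V) := by
  rw [← h.card_Yg hp (fun r hr s hs' k hk => absurd hk (((RootSys.q1_cases h.long (hA r hr) (hA s hs')).resolve_right
    fun e => hi r hr (e ▸ hs')).2 k)) hs]
  refine heis hN h1 fun y hy h3 => ?_
  obtain ⟨x, hx, h4⟩ := h.nd' hα hs hA hi hχ hy h3
  exact ⟨x, h2 hx, h4⟩

theorem finrank_Eig {i : κ} (hi : T.π i = i) {χ : G → ℂ} (hχ : Ch (S.Yg j {R.simple i}) χ) :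
    finrank ℂ (Eig ρ (S.Yg j {R.simple i}) χ) = q ^ (R.Lam (R.simple i)).ncard *
      finrank ℂ (Eig ρ (S.Yg j {R.simple i}) χ ⊓ Fx ρ (S.Yg j (R.Lam (R.simple i))) : Submodule ℂ V) :=
  h.heisY (fix_simple.2 hi) (T.pw_pos fun _ hr => hr.1) (h.st_Lam (fix_simple.2 hi)) (fun _ hr => hr.2)
    (fun δ hδ h1 => by
      have h2 : 0 < R.ht _ := h1.1
      have h3 : 0 < R.ht _ := hδ.1
      rw [RootSys.ht_star hδ.2, R.ht_simple] at h2; omega) hχ le_rfl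
    (h.le_Stb_Eig (fun δ hδ => by rw [hδ.2]; omega) χ)
    (h.le_Stb_Eig (by rintro _ ⟨δ, hδ, rfl⟩; rw [RootSys.pair_star_self hδ.2]; omega) χ)

variable [Finite K]

theorem nd_line {α δ : ι} (hα : T.ρ α = α) (h1 : R.pair α δ = 1) {N : Submodule ℂ V} (hN : finrank ℂ N = 1)
    (h2 : S.Yg j (T.cls δ) ≤ Stb ρ N) (h3 : S.Yg j (T.cls (R.star α δ)) ≤ Stb ρ N) : S.Yg j {α} ≤ Fxr ρ N := by
  intro z hz
  have h4 : S.Yg j (T.cls δ) ≠ ⊥ := by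
    rw [← Subgroup.one_lt_card_iff_ne_bot, h.card_cls]
    exact Nat.one_lt_pow (Set.ncard_ne_zero_of_mem (T.mem_cls δ)) h.two_le
  obtain ⟨⟨y, hy⟩, h5⟩ := Subgroup.ne_bot_iff_exists_ne_one.1 h4
  obtain ⟨δ', hδ', x, hx, e⟩ := h.nd hα (fun s hs => (h.pair_cls hα hs).trans h1) (h.iso_cls hα h1) hy
    (fun e => h5 (Subtype.ext e)) hz
  have h6 := h.cls_subset (A := {s | R.pair α s = 1 ∧ R.star α s ∈ T.cls (R.star α δ)}) (fun s hs =>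
    ⟨(h.pair_fix hα s).trans hs.1, h.ρ_star hα hs.1 ▸ st_cls _ _ hs.2⟩) ⟨h1, T.mem_cls _⟩ hδ'
  rw [← (T.isRel_cls _).eq_cls h6.2] at hx
  have := comm_mem_Fxr hN (h3 hx) (h2 hy)
  rwa [e, mul_inv_cancel_right] at this

end MD

end StData.Twist

end CL.Chev
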