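import Cfsg.Agent.CHEV.MinDeg3

/-!
# Minimal degrees, part 4: the case of lines
-/

set_option autoImplicit false

open Module CL.MD

namespace CL.Chev

variable {ι κ κ' : Type*} [Fintype κ] [DecidableEq κ] {R : RootSys ι κ}

namespace StData

variable {K Γ G : Type*} [Field K] [Group Γ] [Group G] {S : StData R K Γ} {j : G →* Γ}
variable {V : Type*} [AddCommGroup V] [Module ℂ V] {ρ : Representation ℂ G V}

/-- the `χ`-eigenvectors of `X_a` fixed by the positive Lagrangian -/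
abbrev Ln (S : StData R K Γ) (j : G →* Γ) (ρ : Representation ℂ G V) (a : ι) (χ : G → ℂ) : Submodule ℂ V :=
  Eig ρ (S.Yg j {a}) χ ⊓ Fx ρ (S.Yg j (R.Lam a))

namespace Twist.MD

variable {T : S.Twist κ'} {φ : K →+* K} {m q : ℕ} (h : T.MD j φ m q) {θ : ι} {i₀ : κ} (t : T.Top θ i₀)
  [Finite ι] [Finite G]
include h

section P0

variable {χ : G → ℂ}
include t

theorem orth_le_Stb : S.Yg j {c | R.pair (R.simple i₀) c = 0 ∧ 0 ≤ R.pair θ c} ≤ Stb ρ (S.Ln j ρ (R.simple i₀) χ) := by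
  refine crit le_rfl (le_Fx.1 inf_le_right) (fun r hr s hs => ?_) (fun s hs => ?_) fun r hr => ?_
  · have h0 : s ≠ R.neg r := by
      rintro rfl
      have := hs.2
      rw [R.pair_neg_right, hr.1] at this; omega
    refine ⟨h0, fun k hk => ?_⟩
    have h1 := R.pair_of_add (RootSys.comb_add h.long hk h0).1
    have h2 := h.one_le_of_Lam t hs
    exact ⟨h.pos_of_pair t (by rw [h1]; have := hr.2; omega), by rw [h1, hr.1, hs.2]; rfl⟩
  · have := (h.long _).noComb (show 0 ≤ R.pair (R.simple i₀) s by rw [hs.2]; omega)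
    exact ⟨this.1, fun k hk => absurd hk (this.2 k)⟩
  · have := ((h.long _).noComb hr.1.ge).symm
    exact ⟨this.1, fun k hk => absurd hk (this.2 k)⟩

omit [Finite G] in
theorem cls_orth {c : ι} (h1 : R.pair (R.simple i₀) c = 0) (h2 : 0 ≤ R.pair θ c) :
    T.cls c ⊆ {c | R.pair (R.simple i₀) c = 0 ∧ 0 ≤ R.pair θ c} := fun _ hs =>
  ⟨(h.pair_cls (fix_simple.2 t.fix₀) hs).trans h1, (h.pair_cls t.fix hs).symm ▸ h2⟩

omit [Finite G] [Finite ι] in
theorem θ_ne : θ ≠ R.simple i₀ := fun e => by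
  have := h.pair_θ_a t
  rw [← e, R.pair_self] at this; omega

variable [Finite K] [FiniteDimensional ℂ V] (hN : finrank ℂ (S.Ln j ρ (R.simple i₀) χ) = 1)
include hN

theorem step1 (t1 : ∀ β, T.ρ β = β → R.pair θ β = 1 → R.pair (R.simple i₀) β = 0 →
      ∃ δ, R.pair β δ = 1 ∧ R.pair (R.simple i₀) δ = 0 ∧ 0 ≤ R.pair θ δ ∧ R.pair θ δ ≤ 1) :
    S.Yg j {β | 1 ≤ R.pair θ β ∧ 0 ≤ R.pair (R.simple i₀) β ∧ β ≠ R.simple i₀} ≤
      Fxr ρ (S.Ln j ρ (R.simple i₀) χ) := by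
  have ha := fix_simple.2 t.fix₀
  refine h.Yg_le (T.pw_pos fun r hr => h.pos_of_pair t (by have := hr.1; omega)) (fun r hr s hs k hk => ?_)
    (fun r hr => ?_) fun r ⟨h1, h2, h3⟩ => ?_
  · rw [(h.comb_θ hr.1 hs.1).2 k hk]
    exact ⟨by rw [R.pair_self]; omega, by rw [h.pair_a_θ t]; omega, h.θ_ne t⟩
  · exact ⟨by rw [h.pair_fix t.fix]; exact hr.1, by rw [h.pair_fix ha]; exact hr.2.1,
      fun e => hr.2.2 (T.ρ.injective (e.trans ha.symm))⟩
  have h4 := RootSys.pair_le_one h.long h3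
  rcases (show R.pair (R.simple i₀) r = 1 ∨ R.pair (R.simple i₀) r = 0 by omega) with h5 | h5
  · exact (Yg_mono (h.cls_subset (h.st_Lam ha) ⟨h.pos_of_pair t (by omega), h5⟩)).trans (le_Fx.1 inf_le_right)
  have h6 : R.pair θ r = 1 := le_antisymm (RootSys.pair_le_one h.long (by
    rintro rfl
    rw [h.pair_a_θ t] at h5; omega)) h1
  by_cases hr : T.ρ r = r
  · obtain ⟨δ, h7, h8, h9, h10⟩ := t1 r hr h6 h5
    rw [h.cls_fix hr]
    exact h.nd_line hr h7 hN ((Yg_mono (h.cls_orth t h8 h9)).trans (h.orth_le_Stb t))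
      ((Yg_mono (h.cls_orth t (by rw [RootSys.pair_star h7, h5, h8]; rfl)
        (by rw [RootSys.pair_star h7]; omega))).trans (h.orth_le_Stb t))
  · exact h.ta_line ha hr hN ((Yg_mono (h.cls_orth t h5 (by omega))).trans (h.orth_le_Stb t))

variable (h1 : S.Yg j {β | 1 ≤ R.pair θ β ∧ 0 ≤ R.pair (R.simple i₀) β ∧ β ≠ R.simple i₀} ≤
      Fxr ρ (S.Ln j ρ (R.simple i₀) χ))
include h1

theorem step2 {β : ι} (hβ : T.ρ β = β) (h2 : R.pair θ β = 1) (h3 : R.pair (R.simple i₀) β = 0) :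
    S.Yg j {R.star θ (R.simple i₀)} ≤ Fxr ρ (S.Ln j ρ (R.simple i₀) χ) := by
  have ha := fix_simple.2 t.fix₀
  have e1 := h.pair_θ_a t
  have h4 : T.ρ (R.star θ (R.simple i₀)) = R.star θ (R.simple i₀) := by rw [h.ρ_star t.fix e1, ha]
  have h5 : R.pair (R.star θ (R.simple i₀)) β = 1 := by
    rw [h.symm, RootSys.pair_star e1, h.symm, h2, h.symm, h3]; rfl
  have h6 := h.ρ_star h4 h5
  rw [hβ] at h6
  have h7 := RootSys.pair_star h5 θ
  have h8 := RootSys.pair_star h5 (R.simple i₀)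
  rw [RootSys.pair_star_self e1, h2] at h7
  rw [RootSys.pair_star e1, h.pair_a_θ t, R.pair_self, h3] at h8
  refine h.nd_line h4 h5 hN ((Yg_mono (h.cls_orth t h3 (by omega))).trans (h.orth_le_Stb t)) ?_
  rw [h.cls_fix h6]
  set c := R.star (R.star θ (R.simple i₀)) β
  have h9 : ∀ s, 1 ≤ R.pair θ s → 1 ≤ R.pair (R.simple i₀) s → s ≠ R.neg c ∧ ∀ k, R.IsComb c s k →
      1 ≤ R.pair θ k ∧ 0 ≤ R.pair (R.simple i₀) k ∧ k ≠ R.simple i₀ := fun s hs hs' => by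
    have h0 : s ≠ R.neg c := by
      rintro rfl
      rw [R.pair_neg_right] at hs; omega
    refine ⟨h0, fun k hk => ?_⟩
    have h10 := R.pair_of_add (RootSys.comb_add h.long hk h0).1
    refine ⟨by rw [h10]; omega, by rw [h10]; omega, ?_⟩
    rintro rfl
    have h11 := h10 (R.simple i₀)
    have h12 := RootSys.pair_le_one h.long (hk.ne_right h0).symm
    rw [R.pair_self] at h11; omega
  intro y hy
  refine mem_Stb_of (fun z hz => h1 ?_) fun u hu => h1 (single_conj (fun s hs => ?_) hy hu)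
  · have := h9 _ e1.ge (by rw [R.pair_self]; omega)
    exact single_comm this.1 this.2 hy hz
  · have h10 := h.one_le_of_Lam t hs
    refine ⟨⟨h10, by rw [hs.2]; omega, ?_⟩, h9 s h10 hs.2.ge⟩
    rintro rfl
    have := hs.2
    rw [R.pair_self] at this; omega

theorem step3 (h2 : S.Yg j {R.star θ (R.simple i₀)} ≤ Fxr ρ (S.Ln j ρ (R.simple i₀) χ))
    (t3 : ∀ c, T.ρ c = c → R.IsPos c → R.pair θ c = 0 → ∃ δ, R.pair c δ = 1 ∧
      (0 < R.ht δ ∨ R.pair (R.simple i₀) δ = 0 ∧ 0 ≤ R.pair θ δ) ∧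
      (R.ht δ < R.ht c ∨ R.pair (R.simple i₀) δ = R.pair (R.simple i₀) c ∧ R.pair θ δ ≤ 0)) :
    S.Yg j (R.Tr (R.simple i₀)) ≤ Fxr ρ (S.Ln j ρ (R.simple i₀) χ) := by
  have ha := fix_simple.2 t.fix₀
  have e1 := h.pair_θ_a t
  have hs : T.St {β | 1 ≤ R.pair θ β ∧ β ≠ R.simple i₀} := fun r hr =>
    ⟨by rw [h.pair_fix t.fix]; exact hr.1, fun e => hr.2 (T.ρ.injective (e.trans ha.symm))⟩
  have h3 : S.Yg j {β | 1 ≤ R.pair θ β ∧ β ≠ R.simple i₀} ≤ Fxr ρ (S.Ln j ρ (R.simple i₀) χ) := by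
    refine h.Yg_le (T.pw_pos fun r hr => h.pos_of_pair t (by have := hr.1; omega)) (fun r hr s hs k hk => ?_) hs
      fun r hr => ?_
    · rw [(h.comb_θ hr.1 hs.1).2 k hk]
      exact ⟨by rw [R.pair_self]; omega, h.θ_ne t⟩
    by_cases h4 : 0 ≤ R.pair (R.simple i₀) r
    · refine (Yg_mono fun s hs' => ?_).trans h1
      exact ⟨(h.cls_subset hs hr hs').1, (h.pair_cls ha hs').symm ▸ h4, (h.cls_subset hs hr hs').2⟩
    · have h5 := h.comb_θ e1.ge hr.1
      have h6 : R.pair (R.simple i₀) r = -1 := by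
        rcases (h.long (R.simple i₀)).pair_cases r with e | e | e | e | e
        exacts [absurd e hr.2, absurd e h5.1, by omega, by omega, e]
      have h7 := RootSys.rt_refl_of_neg_one h6
      rw [h5.2 _ (RootSys.isComb_of_add h7), add_comm] at h7
      rw [RootSys.eq_star h7 e1, h.cls_fix (by rw [h.ρ_star t.fix e1, ha])]
      exact h2
  have h0 : ∀ {r s}, R.IsPos r → R.IsPos s → s ≠ R.neg r := fun hr hs => (R.nilp_pos fun _ => id).ne_neg hr hs
  have h4 : ∀ r, R.IsPos r → ∀ s, 1 ≤ R.pair θ s → s ≠ R.neg r ∧ ∀ k, R.IsComb r s k →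
      1 ≤ R.pair θ k ∧ k ≠ R.simple i₀ := fun r hr s hs => by
    have h5 := h.pos_of_pair t (show 0 < R.pair θ s by omega)
    refine ⟨h0 hr h5, fun k hk => ⟨?_, hk.ne_simple hr h5 _⟩⟩
    have := h.pair_nonneg t hr
    rw [R.pair_of_add (RootSys.comb_add h.long hk (h0 hr h5)).1]; omega
  have h5 : S.Yg j {r | R.IsPos r} ≤ Stb ρ (S.Ln j ρ (R.simple i₀) χ) :=
    crit (fun s hs => And.intro (h.one_le_of_Lam t hs) (by
      rintro rfl
      have := hs.2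
      rw [R.pair_self] at this; omega)) h3 (fun r hr s hs => h4 r hr s hs.1)
      (fun s hs => h4 _ (R.isPos_simple _) s hs.1) fun r hr => h4 r hr _ e1.ge
  have h6 : ∀ c, 0 < R.ht c ∨ R.pair (R.simple i₀) c = 0 ∧ 0 ≤ R.pair θ c →
      S.Yg j (T.cls c) ≤ Stb ρ (S.Ln j ρ (R.simple i₀) χ) := fun c hc =>
    hc.elim (fun hc => (Yg_mono (h.cls_subset (fun r => (T.isPos_ρ r).2) hc)).trans h5)
      fun hc => (Yg_mono (h.cls_orth t hc.1 hc.2)).trans (h.orth_le_Stb t)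
  have hp := RootSys.Tr_pos (R.isPos_simple i₀)
  refine h.Yg_le (T.pw_pos hp) (RootSys.closed_Tr (R.isPos_simple _)) (h.st_Tr ha) fun r hr => ?_
  by_cases h7 : 1 ≤ R.pair θ r
  · exact (Yg_mono (h.cls_subset hs ⟨h7, hr.2⟩)).trans h3
  have h8 : R.pair θ r = 0 := by have := h.pair_nonneg t (hp r hr); omega
  by_cases h9 : T.ρ r = r
  · obtain ⟨δ, h10, h11, h12⟩ := t3 r h9 (hp r hr) h8
    rw [h.cls_fix h9]
    refine h.nd_line h9 h10 hN (h6 δ h11) (h6 _ ?_)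
    rw [RootSys.ht_star h10, RootSys.pair_star h10, RootSys.pair_star h10]; omega
  · exact h.ta_line ha h9 hN (h6 r (Or.inl (hp r hr)))

end P0

variable [FiniteDimensional ℂ V]

theorem transfer {i i' : κ} (hi : T.π i = i) (hi' : T.π i' = i') (hA : R.A i i' = -1)
    (h1 : ∀ χ, Ch (S.Yg j {R.simple i}) χ → finrank ℂ (S.Ln j ρ (R.simple i) χ) = 1 ∧
      S.Yg j (R.Tr (R.simple i)) ≤ Fxr ρ (S.Ln j ρ (R.simple i) χ))
    {χ : G → ℂ} (hχ : Ch (S.Yg j {R.simple i'}) χ) (h2 : finrank ℂ (S.Ln j ρ (R.simple i') χ) = 1) :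
    S.Yg j (R.Tr (R.simple i')) ≤ Fxr ρ (S.Ln j ρ (R.simple i') χ) := by
  classical
  have ha := fix_simple.2 hi
  have ha' := fix_simple.2 hi'
  have hne : i ≠ i' := by rintro rfl; rw [R.A_self] at hA; omega
  have hA' : R.A i' i = -1 := by rw [← R.wt_simple, ← R.pair_simple, h.symm, R.pair_simple, R.wt_simple, hA]
  have hp : R.pair (R.simple i) (R.simple i') = -1 := by rw [R.pair_simple, R.wt_simple, hA]
  have hw := mul_mem (sp_mem_W1 hi) (sp_mem_W1 hi')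
  have hwJ : R.sp i * R.sp i' ∈ R.WJ {i, i'} := mul_mem (R.sp_mem_WJ (by simp)) (R.sp_mem_WJ (by simp))
  obtain ⟨n, hn⟩ := h.exists_n hw
  obtain ⟨e1, e2⟩ := h.sp_sp hA
  set g := R.sp i' (R.simple i) with hg
  have e3 : (R.sp i * R.sp i') (R.simple i) = R.simple i' := e2
  have e4 : (R.sp i * R.sp i')⁻¹ (R.simple i') = R.simple i := by rw [← e3, RootSys.perm_inv_apply]
  have hgf : T.ρ g = g := (fix_iff (sp_mem_W1 hi')).2 ha
  have hgp : R.pair (R.simple i') g = 1 := by rw [R.pair_of_add e1, h.symm, hp, R.pair_self]; rfl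
  have hht : R.ht g = 2 := by rw [RootSys.ht_of_add e1, R.ht_simple, R.ht_simple]; rfl
  have hstar : R.star (R.simple i') g = R.neg (R.simple i) :=
    (RootSys.eq_star (by rw [e1, R.rt_neg]; abel) hgp).symm
  have c1 : ∀ z ∈ S.Yg j {R.simple i}, n⁻¹⁻¹ * z * n⁻¹ ∈ S.Yg j {R.simple i'} := fun z hz => by
    rw [inv_inv]; exact hn.conj_Yg (by rintro _ rfl; exact e3) hz
  have c2 : ∀ z ∈ S.Yg j {R.simple i'}, n⁻¹ * z * n ∈ S.Yg j {R.simple i} := fun z => hn.inv_conj_Yg (by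
    rintro _ rfl; exact e4)
  obtain ⟨h3, h4⟩ := h1 _ (hχ.conj c1 (by simpa using c2))
  obtain ⟨⟨v, hv⟩, h0⟩ := (finrank_eq_one_iff'.1 h3).imp fun _ => And.left
  have hu0 : ρ n v ≠ 0 := fun e => h0 (Subtype.ext (CL.LS.injective_rep ρ n (e.trans (map_zero _).symm)))
  have hu1 : ρ n v ∈ Eig ρ (S.Yg j {R.simple i'}) χ := by simpa [mul_assoc] using map_mem_Eig c2 hv.1
  have hu2 : ∀ A : Set ι, (∀ r ∈ A, (R.sp i * R.sp i')⁻¹ r ∈ R.Tr (R.simple i)) → ρ n v ∈ Fx ρ (S.Yg j A) :=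
    fun A hA => map_mem_Fx (fun z => hn.inv_conj_Yg hA) (le_Fx.2 h4 hv)
  have := Fintype.ofFinite (S.Yg j {g})
  have h5 := h.le_Stb_Eig (ρ := ρ) (α := R.simple i') (A := {g}) (by rintro _ rfl; omega) χ
  have h6 : ∑ y : S.Yg j {g}, ρ y (ρ n v) ≠ 0 := sum_ne_zero (hu2 (R.star (R.simple i') '' {g}) (by
      rintro _ ⟨_, rfl, rfl⟩
      rw [hstar, mul_inv_rev, R.sp_inv, R.sp_inv, Equiv.Perm.mul_apply,
        show R.sp i (R.neg (R.simple i)) = R.simple i from R.σ_neg_simple i]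
      exact ⟨by rw [R.ht_simple, ← hg]; omega, fun e => by rw [← hg] at e; rw [e, R.ht_simple] at hht; omega⟩))
    hu0 (fun y hy => Stb.mem (h5 hy) hu1) fun y => h.nd' ha' (St.single hgf) (by simpa using hgp) (by
      rintro _ rfl e
      have := congrArg R.ht e
      rw [hstar, R.ht_neg, R.ht_simple] at this; omega) hχ
  have h0' : ∀ {r s}, R.IsPos r → R.IsPos s → s ≠ R.neg r := fun hr hs => (R.nilp_pos fun _ => id).ne_neg hr hs
  have hTr : ∀ {k : κ} {r}, r ∈ R.Tr (R.simple k) ↔ R.IsPos r ∧ r ≠ R.simple k := fun {k r} =>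
    and_congr_left fun _ => by rw [R.ht_simple]; exact Iff.rfl
  set C := R.Tr (R.simple i) ∩ R.Tr (R.simple i') with hC
  have hC' : ∀ r, R.IsPos r → ∀ s, R.IsPos s → s ≠ R.neg r ∧ ∀ k, R.IsComb r s k → k ∈ C := fun r hr s hs =>
    ⟨h0' hr hs, fun k hk => ⟨hTr.2 ⟨hk.isPos hr hs, hk.ne_simple hr hs _⟩,
      hTr.2 ⟨hk.isPos hr hs, hk.ne_simple hr hs _⟩⟩⟩
  have hI : T.St {r | R.IsPos r ∧ r ∉ R.sub {i, i'}} := fun r hr =>
    ⟨(T.isPos_ρ r).2 hr.1, fun h7 => hr.2 ((T.ρ_mem_sub (by simp [hi, hi']) r).1 h7)⟩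
  have h7 : ∑ y : S.Yg j {g}, ρ y (ρ n v) ∈ Fx ρ (S.Yg j C) := by
    rw [← Submodule.span_singleton_le_iff_mem, le_Fx]
    refine h.Yg_le (T.pw_pos fun r hr => (hTr.1 hr.1).1) ((RootSys.closed_Tr (R.isPos_simple _)).inter
      (RootSys.closed_Tr (R.isPos_simple _))) ((h.st_Tr ha).inter (h.st_Tr ha')) fun r hr => ?_
    rw [← le_Fx, Submodule.span_singleton_le_iff_mem]
    by_cases h8 : r ∈ R.sub {i, i'}
    · have := ((RootSys.a2P_simple hne.symm hA' hA).2 r).2 ⟨(hTr.1 hr.1).1, Set.pair_comm i i' ▸ h8⟩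
      simp only [List.mem_cons, List.not_mem_nil, or_false] at this
      rw [(this.resolve_left hr.2.2).resolve_left hr.1.2, show R.σ i' (R.simple i) = g from rfl, h.cls_fix hgf]
      exact sum_mem_Fx _
    · refine Fx_mono (Yg_mono (h.cls_subset hI ⟨(hTr.1 hr.1).1, h8⟩)) (Submodule.sum_mem _ fun y _ =>
        Stb.mem (mem_Stb_Fx fun u => norm_Yg (A := {g}) ?_ y.2) (hu2 _ fun s hs => hTr.2 ⟨?_, fun e => hs.2 ?_⟩))
      · rintro _ rfl s hs
        have : R.IsPos g := show 0 < R.ht g by omega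
        exact ⟨h0' this hs.1, fun k hk => hk.pos_not_sub (Or.inl this) hs⟩
      · exact (RootSys.WJ_isPos_iff (inv_mem hwJ) hs.2).2 hs.1
      · rw [← RootSys.WJ_mem_sub (inv_mem hwJ), e, R.simple_mem_sub]; simp
  have h8 : ∀ k, R.pair (R.simple k) (R.simple i) ≠ 1 → R.pair (R.simple k) (R.simple i') ≠ 1 →
      R.Lam (R.simple k) ⊆ C := fun k h8 h9 r hr =>
    ⟨hTr.2 ⟨hr.1, fun e => h8 (e ▸ hr.2)⟩, hTr.2 ⟨hr.1, fun e => h9 (e ▸ hr.2)⟩⟩
  have h9 : Eig ρ (S.Yg j {R.simple i'}) χ ⊓ Fx ρ (S.Yg j C) = S.Ln j ρ (R.simple i') χ :=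
    eq_of_le_line h2 (inf_le_inf_left _ (Fx_mono (Yg_mono (h8 i' (by rw [h.symm, hp]; omega)
      (by rw [R.pair_self]; omega))))) ((Submodule.ne_bot_iff _).2
      ⟨_, ⟨Submodule.sum_mem _ fun y _ => Stb.mem (h5 y.2) hu1, h7⟩, h6⟩)
  have h10 : S.Yg j {R.simple i} ≤ Stb ρ (S.Ln j ρ (R.simple i') χ) := by
    rw [← h9]
    exact crit le_rfl (le_Fx.1 inf_le_right)
      (by rintro _ rfl s hs; exact hC' _ (R.isPos_simple _) s (hTr.1 hs.1).1)
      (fun s hs => hC' _ (R.isPos_simple _) s (hTr.1 hs.1).1)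
      (by rintro _ rfl; exact hC' _ (R.isPos_simple _) _ (R.isPos_simple _))
  have h11 : S.Ln j ρ (R.simple i') χ ≤ Fx ρ (S.Yg j C) := h9 ▸ inf_le_right
  rcases exists_le_Eig h2 h10 with h12 | ⟨χ', h12, h13⟩
  · refine h.Yg_le (T.pw_pos fun r hr => (hTr.1 hr).1) (RootSys.closed_Tr (R.isPos_simple _)) (h.st_Tr ha')
      fun r hr => ?_
    by_cases e : r = R.simple i
    · rw [e, h.cls_fix ha]; exact le_Fx.1 h12
    · exact (Yg_mono (h.cls_subset ((h.st_Tr ha).inter (h.st_Tr ha')) ⟨hTr.2 ⟨(hTr.1 hr).1, e⟩, hr⟩)).trans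
        (le_Fx.1 h11)
  · have h14 := (le_inf h13 (h11.trans (Fx_mono (Yg_mono (h8 i (by rw [R.pair_self]; omega)
      (by rw [hp]; omega)))))).trans ((le_Fx.2 (h1 χ' h12).2).trans (Fx_mono (Yg_mono (A := {R.simple i'}) (by
        rintro _ rfl
        exact hTr.2 ⟨R.isPos_simple _, fun e => hne (R.simple_injective e).symm⟩))))
    obtain ⟨⟨v', hv'⟩, h15⟩ := (finrank_eq_one_iff'.1 h2).imp fun _ => And.left
    exact absurd (Subtype.ext (hχ.eq_zero hv'.1 (h14 hv'))) h15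

theorem height_step (h1 : ∀ i, T.π i = i → ∀ χ, Ch (S.Yg j {R.simple i}) χ →
      1 ≤ finrank ℂ (Eig ρ (S.Yg j {R.simple i}) χ ⊓ Fx ρ (S.Yg j (R.Tr (R.simple i))) : Submodule ℂ V))
    {b : ι} (hb : T.ρ b = b) (hp : R.IsPos b) {χ : G → ℂ} (hχ : Ch (S.Yg j {b}) χ) :
    q ^ (R.ht b - 1).toNat ≤ finrank ℂ (Eig ρ (S.Yg j {b}) χ ⊓ Fx ρ (S.Yg j (R.Tr b)) : Submodule ℂ V) := by
  induction e : (R.ht b).toNat using Nat.strong_induction_on generalizing b χ with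
  | _ n ih =>
  obtain ⟨i, h2, -⟩ := R.exists_wt_pos hp
  by_cases h3 : b = R.simple i
  · subst h3
    simpa [R.ht_simple] using h1 i (fix_simple.1 hb) χ hχ
  have h4 : R.pair b (R.simple i) = 1 := by
    have := RootSys.pair_le_one h.long h3
    rw [h.symm]; rw [← R.pair_simple] at h2; omega
  have h5 : ∀ s ∈ T.cls (R.simple i), R.pair b s = 1 := fun s hs => (h.pair_cls hb hs).trans h4
  have h6 : ∀ s ∈ T.cls (R.simple i), R.ht s = 1 := fun s hs => (h.ht_cls hs).trans (R.ht_simple i)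
  have hw := T.w_mem_W1 (T.c i)
  have hht : ∀ r, ∃ J : Finset κ, (∀ k, k ∈ J ↔ R.simple k ∈ T.cls (R.simple i)) ∧
      J.card = (T.cls (R.simple i)).ncard ∧ R.ht (T.w (T.c i) r) = R.ht r - ∑ k ∈ J, R.wt r k := fun r => by
    obtain ⟨J, h7, h8, h9⟩ := h.ht_w (T.c i) r
    refine ⟨J, fun k => ?_, by rw [T.cls_simple, h8], ?_⟩
    · rw [h7, T.cls_simple, T.pos_eq_orth (h.orth _), R.simple_injective.mem_set_image]
    · rw [← RootSys.htL_rt, h9, map_sub, map_sum, RootSys.htL_rt]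
      simp only [map_smul, RootSys.htL_rt, R.ht_simple, smul_eq_mul, mul_one]
  have h7 : R.ht (T.w (T.c i) b) = R.ht b - (T.cls (R.simple i)).ncard := by
    obtain ⟨J, h7, h8, h9⟩ := hht b
    rw [h9, ← h8, Finset.sum_congr rfl fun k hk => by rw [← R.pair_simple, h.symm, h5 _ ((h7 k).1 hk)]]
    simp
  have h8 : R.IsPos (T.w (T.c i) b) := by
    by_contra h8
    have : b ∈ R.invs (T.w (T.c i)) := ⟨hp, h8⟩
    rw [T.invs_w, ← T.cls_simple] at this
    have := h5 b this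
    rw [R.pair_self] at this; omega
  have h9 : 0 < (T.cls (R.simple i)).ncard := (Set.ncard_pos).2 ⟨_, T.mem_cls _⟩
  have h8' : 0 < R.ht (T.w (T.c i) b) := h8
  obtain ⟨g, hn⟩ := h.exists_n hw
  have c1 : ∀ z ∈ S.Yg j {T.w (T.c i) b}, g⁻¹⁻¹ * z * g⁻¹ ∈ S.Yg j {b} := fun z hz => by
    rw [inv_inv]; exact hn.conj_Yg (by simp [T.w_w]) hz
  have c2 : ∀ z ∈ S.Yg j {b}, g⁻¹ * z * g ∈ S.Yg j {T.w (T.c i) b} := fun z => hn.inv_conj_Yg (by simp [T.w_inv])
  have h10 := ih _ (by omega) ((fix_iff hw).2 hb) h8 (hχ.conj c1 (by simpa using c2)) rfl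
  have h11 : ∀ δ ∈ R.star b '' T.cls (R.simple i), R.IsPos δ := by
    rintro _ ⟨s, hs, rfl⟩
    change 0 < _
    rw [RootSys.ht_star (h5 s hs), h6 s hs]; omega
  have h12 := h.heisY (ρ := ρ) hb (T.pw_pos h11) (h.st_star hb (st_cls _) h5)
    (by rintro _ ⟨s, hs, rfl⟩; exact RootSys.pair_star_self (h5 s hs))
    (by
      rintro _ ⟨s, hs, rfl⟩ ⟨s', hs', e⟩
      rw [RootSys.star_star] at e
      exact h.iso_cls hb h4 s' hs' (e ▸ hs)) hχ inf_le_left ((Yg_mono h11).trans (pos_le_Stb hp χ))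
    ((Yg_mono (by
      rintro _ ⟨_, ⟨s, hs, rfl⟩, rfl⟩
      rw [RootSys.star_star]
      change 0 < R.ht s
      rw [h6 s hs]; omega)).trans (pos_le_Stb hp χ))
  rw [h12, Set.ncard_image_of_injective _ (RootSys.star_injective b),
    show (R.ht b - 1).toNat = (T.cls (R.simple i)).ncard + (R.ht (T.w (T.c i) b) - 1).toNat by omega, pow_add]
  refine Nat.mul_le_mul_left _ (h10.trans (finrank_le_of_map (ρ := ρ) (n := g) fun v hv => ⟨⟨?_,
    map_mem_Fx (fun z => hn.inv_conj_Yg fun r hr => ?_) hv.2⟩,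
    map_mem_Fx (fun z => hn.inv_conj_Yg ?_) hv.2⟩))
  · simpa [mul_assoc] using map_mem_Eig c2 hv.1
  · rw [T.w_inv]
    refine ⟨?_, fun e => hr.2 ((T.w _).injective e)⟩
    obtain ⟨J, -, h13, h14⟩ := hht r
    have h15 := hr.1
    have : ∑ k ∈ J, R.wt r k ≤ J.card := by
      rw [Finset.card_eq_sum_ones, Nat.cast_sum]
      refine Finset.sum_le_sum fun k _ => ?_
      rw [← R.pair_simple]
      refine RootSys.pair_le_one h.long fun e => ?_
      rw [e, R.ht_simple] at h15; omega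
    omega
  · rintro _ ⟨s, hs, rfl⟩
    rw [T.w_inv]
    have h13 := RootSys.W_lin hw.1 (a := 1) (b := 1) (by simpa using RootSys.rt_add_star (h5 s hs))
    have h14 := RootSys.ht_of_add (by simpa using h13)
    have h15 := (R.not_isPos_iff_ht _).1 (T.w_mem_ngt.2 (T.cls_simple i ▸ hs)).1
    exact ⟨by omega, fun e => by rw [e] at h14; omega⟩

end Twist.MD

end StData

end CL.Chev
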