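import Cfsg.Agent.CHEV.MinDeg4
import Cfsg.Agent.CHEV.TwPar

/-!
# Minimal degrees, part 5: the index of the long root parabolic, and the main alternative
-/

set_option autoImplicit false

open Module CL.MD

namespace CL.Chev

variable {ι κ κ' : Type*} [Fintype κ] [DecidableEq κ] {R : RootSys ι κ}

/-- number of positive roots at an obtuse angle to `α` -/
noncomputable def RootSys.nn (R : RootSys ι κ) (α : ι) : ℕ := {β | R.IsPos β ∧ R.pair α β < 0}.ncard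

namespace StData.Twist.MD

variable {K Γ G : Type*} [Field K] [Group Γ] [Group G] {S : StData R K Γ} {j : G →* Γ}
variable {V : Type*} [AddCommGroup V] [Module ℂ V] {ρ : Representation ℂ G V}
variable {T : S.Twist κ'} {φ : K →+* K} {m q : ℕ} (h : T.MD j φ m q) {θ : ι} {i₀ : κ} (t : T.Top θ i₀)
include h t

theorem mem_sub_iff {β : ι} : β ∈ R.sub {i | R.wt θ i = 0} ↔ R.pair θ β = 0 := by
  rw [h.pair_θ t]
  refine ⟨fun h1 => h1 i₀ (by simp [t.wt]), fun h1 i hi => ?_⟩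
  obtain rfl : i = i₀ := by simpa [t.wt] using hi
  exact h1

omit h t in
theorem fix_θ {w : Equiv.Perm ι} (hw : w ∈ R.WJ {i | R.wt θ i = 0}) : w θ = θ := by
  refine R.WJ_induction_left (P := fun w _ => w θ = θ) rfl (fun i hi w _ ih => ?_) hw
  rw [Equiv.Perm.mul_apply, ih]
  exact R.rt_inj (by rw [show R.sp i θ = R.σ i θ from rfl, R.rt_σ', show R.wt θ i = 0 from hi]; simp)

variable [Finite ι]

theorem exists_min {α : ι} (hα : T.ρ α = α) :
    ∃ d ∈ T.W1, d θ = α ∧ ∀ i ∈ {i | R.wt θ i = 0}, R.IsPos (d (R.simple i)) := by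
  obtain ⟨d, ⟨h1, h2⟩, h3⟩ := Set.exists_min_image {w | w ∈ T.W1 ∧ w θ = α} R.ell (Set.toFinite _)
    (h.trans' t t.fix hα)
  refine ⟨d, h1, h2, fun i hi => by_contra fun h4 => ?_⟩
  have h5 := (RootSys.Sym.asc_mul_w h1).2 (mt (RootSys.Sym.asc_iff h1 (T.mem_J_c i)).1 h4)
  have h6 := RootSys.Sym.ell_mul_w (mul_mem h1 (T.w_mem_W1 _)) h5
  rw [mul_assoc, T.w_mul_self, mul_one] at h6
  have h7 := h3 (d * T.w (T.c i)) ⟨mul_mem h1 (T.w_mem_W1 _), by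
    rw [Equiv.Perm.mul_apply, fix_θ (R.WJ_mono (RootSys.Sym.J_subset (fun k hk => ?_) hi) (T.w_mem_WJ _)), h2]
    simp only [Set.mem_ofPred_eq, t.wt, ite_eq_right_iff, one_ne_zero, imp_false] at hk ⊢
    exact fun e => hk (T.π.injective (e.trans t.fix₀.symm))⟩
  have := T.ncard_pos_pos (T.c i)
  omega

theorem ell_min {d v : Equiv.Perm ι} (hd : d ∈ R.W) (h1 : ∀ i ∈ {i | R.wt θ i = 0}, R.IsPos (d (R.simple i)))
    (hv : v ∈ R.WJ {i | R.wt θ i = 0}) : R.ell (d * v) = R.nn (d θ) + R.ell v := by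
  have hw := mul_mem hd (R.WJ_le_W _ hv)
  have h2 : R.invs (d * v) = {β | 0 < R.pair θ β ∧ ¬ R.IsPos ((d * v) β)} ∪ R.invs v := by
    ext β
    constructor
    · rintro ⟨h3, h4⟩
      rcases (h.pair_nonneg t h3).lt_or_eq with h5 | h5
      · exact Or.inl ⟨h5, h4⟩
      · exact Or.inr ⟨h3, fun h6 => h4 (RootSys.isPos_W_of_simple hd h1 h6
          ((RootSys.WJ_mem_sub hv).2 ((h.mem_sub_iff t).2 h5.symm)))⟩
    · rintro (⟨h3, h4⟩ | h3)
      · exact ⟨h.pos_of_pair t h3, h4⟩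
      · refine ⟨h3.1, ?_⟩
        have := RootSys.isPos_W_of_simple hd h1 ((R.isPos_neg _).2 h3.2)
          (R.neg_mem_sub.2 ((RootSys.WJ_mem_sub hv).2 (RootSys.invs_sub hv h3)))
        rwa [RootSys.W_neg hd, R.isPos_neg] at this
  rw [RootSys.ell, h2, Set.ncard_union_eq (Set.disjoint_left.2 fun β h3 h4 =>
    h3.1.ne' ((h.mem_sub_iff t).1 (RootSys.invs_sub hv h4))), RootSys.nn, RootSys.ell,
    ← Set.ncard_image_of_injective _ (R.neg_injective.comp (d * v).injective)]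
  congr 2
  have h3 : d θ = (d * v) θ := by rw [Equiv.Perm.mul_apply, fix_θ hv]
  ext β
  constructor
  · rintro ⟨γ, ⟨h4, h5⟩, rfl⟩
    exact ⟨(R.isPos_neg _).2 h5, by
      rw [Function.comp_apply, R.pair_neg_right, h3, RootSys.W_pair hw]; omega⟩
  · rintro ⟨h4, h5⟩
    refine ⟨(d * v)⁻¹ (R.neg β), ⟨?_, by rwa [RootSys.perm_apply_inv, R.not_isPos_neg]⟩, by
      rw [Function.comp_apply, RootSys.perm_apply_inv, R.neg_neg]⟩
    rw [← RootSys.W_pair hw, RootSys.perm_apply_inv, R.pair_neg_right, ← h3]; omega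

variable [Finite K] [Finite G]

theorem index_P {L : Finset ι} (hL : ∀ α, α ∈ L ↔ T.ρ α = α) :
    ((S.P {i | R.wt θ i = 0}).comap j).index = ∑ α ∈ L, q ^ R.nn α := by
  classical
  have := Fintype.ofFinite T.W1
  have hwt : ∀ w ∈ T.W1, T.wt w = q ^ R.ell w := fun w hw => by
    simpa using h.isTw.wt_pow h.good (d := 1) (Q := q) (by simpa using h.cJ) hw
  have h1 := h.isTw.card_eq h.good
  have h2 := h.isTw.card_P h.good {i | R.wt θ i = 0}
  have h3 := ((S.P {i | R.wt θ i = 0}).comap j).card_mul_index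
  rw [← Subgroup.card_map_of_injective h.inj, Subgroup.map_comap_eq, inf_comm, h2, ← Subgroup.card_top (G := G),
    ← Subgroup.card_map_of_injective h.inj, ← MonoidHom.range_eq_map, h1, mul_assoc] at h3
  have h4 : 0 < Nat.card (S.B ⊓ j.range : Subgroup Γ) := by
    have : Finite j.range := Set.finite_range j
    have : Finite (S.B ⊓ j.range : Subgroup Γ) := Finite.of_injective _ (Subgroup.inclusion_injective inf_le_right)
    exact Nat.card_pos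
  replace h3 := Nat.eq_of_mul_eq_mul_left h4 h3
  have h5 : ∑ w : T.W1, T.wt (w : Equiv.Perm ι)⁻¹ =
      (∑ w ∈ Finset.univ.filter fun w : T.W1 => w.1 ∈ R.WJ {i | R.wt θ i = 0}, T.wt w.1) * ∑ α ∈ L, q ^ R.nn α := by
    rw [← Finset.sum_fiberwise_of_maps_to (g := fun w : T.W1 => w.1 θ) (t := L)
      (fun w _ => (hL _).2 ((fix_iff w.2).2 t.fix)), Finset.mul_sum]
    refine Finset.sum_congr rfl fun α hα => ?_
    obtain ⟨d, h6, h7, h8⟩ := h.exists_min t ((hL α).1 hα)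
    rw [Finset.sum_mul]
    refine (Finset.sum_equiv (Equiv.mulLeft (⟨d, h6⟩ : T.W1)) (fun v => ?_) fun v hv => ?_).symm
    · simp only [Finset.mem_filter, Finset.mem_univ, true_and, Equiv.coe_mulLeft, Subgroup.coe_mul,
        Equiv.Perm.mul_apply, ← h7, d.injective.eq_iff]
      exact ⟨fix_θ, fun e => RootSys.mem_WJ_of_fix_one v.2.1 e fun i => by rw [t.wt]; split_ifs <;> simp⟩
    · rw [hwt _ v.2, hwt _ (inv_mem (Subtype.property _)), RootSys.ell_inv (T.W1_le_W (Subtype.property _))]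
      simp only [Equiv.coe_mulLeft, Subgroup.coe_mul]
      rw [h.ell_min t h6.1 h8 (Finset.mem_filter.1 hv).2, h7, pow_add, mul_comm]
  rw [h5] at h3
  refine Nat.eq_of_mul_eq_mul_left (Finset.sum_pos (fun w _ => ?_) ⟨1, by simp⟩) h3
  rw [hwt _ w.2]; have := h.two_le; positivity

variable [FiniteDimensional ℂ V]

theorem dvd_main [ρ.IsIrreducible] {L : Finset ι} (hL : ∀ α, α ∈ L ↔ T.ρ α = α) {χ : G → ℂ}
    (hχ : Ch (S.Yg j {θ}) χ) :
    finrank ℂ V ∣ (∑ α ∈ L, q ^ R.nn α) * (q * ((q - 1) * finrank ℂ (Eig ρ (S.Yg j {θ}) χ))) := by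
  have h1 := dvd_index (ρ := ρ) (Z := S.Yg j {θ}) (C := (S.P {i | R.wt θ i = 0}).comap j) fun c hc z hz => by
    have : S.P {i | R.wt θ i = 0} ≤ Subgroup.normalizer (S.XS {θ} : Set Γ) := by
      rw [S.P_eq]
      refine sup_le (S.H_le_normalizer_XS _) ?_
      have : ∀ r, R.IsPos r ∨ r ∈ R.sub {i | R.wt θ i = 0} → R.NoComb r θ := fun r hr =>
        ((h.long θ).noComb (hr.elim (h.pair_nonneg t) fun hr => ((h.mem_sub_iff t).1 hr).ge)).symm
      exact S.XS_le_normalizer (by rintro r hr _ rfl; exact (this r hr).1)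
        (by rintro r hr _ rfl k hk; exact absurd hk ((this r hr).2 k))
    rw [mem_Yg, map_mul, map_mul, map_inv]
    exact (Subgroup.mem_normalizer_iff.1 (this hc) _).1 hz
  rw [h.index_P t hL, ← h.cls_fix t.fix, h.card_cls, h.cls_fix t.fix, Set.ncard_singleton, pow_one] at h1
  have h2 := Dvd.intro_left ((∑ α ∈ L, q ^ R.nn α) * q) (rfl : _ * finrank ℂ V = _)
  conv_rhs at h2 => rw [h.dimdec_top t (ρ := ρ) t.fix hχ, mul_add, mul_assoc, mul_assoc]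
  exact (Nat.dvd_add_right h1).1 h2

theorem finrank_Eig_ne [IsSimpleGroup G] (hρ : ρ.IsIrreducible) (h2 : 2 ≤ finrank ℂ V) {b : ι} (hb : T.ρ b = b)
    {χ : G → ℂ} (hχ : Ch (S.Yg j {b}) χ) : finrank ℂ (Eig ρ (S.Yg j {b}) χ) ≠ 0 := fun e => by
  have h1 := h.dimdec_top t (ρ := ρ) hb hχ
  rw [e, mul_zero, add_zero] at h1
  have h3 := Submodule.eq_top_of_finrank_eq h1.symm
  obtain ⟨z, hz, h4⟩ := hχ.ne
  obtain ⟨g, hg⟩ := CL.LS.exists_ne_one_of_irreducible ρ hρ h2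
  rcases (MonoidHom.normal_ker ρ).eq_bot_or_eq_top with h5 | h5
  · have : z ∈ MonoidHom.ker ρ := LinearMap.ext fun v => mem_Fx.1 (h3 ▸ Submodule.mem_top) z hz
    rw [h5, Subgroup.mem_bot] at this
    exact h4 (this ▸ hχ.one)
  · exact hg (show g ∈ MonoidHom.ker ρ from h5 ▸ Subgroup.mem_top g)

omit [Finite K] in
theorem finrank_inf_θ {χ : G → ℂ} (hχ : Ch (S.Yg j {R.simple i₀}) χ) :
    finrank ℂ (Eig ρ (S.Yg j {R.simple i₀}) χ) =
      q * finrank ℂ (Eig ρ (S.Yg j {R.simple i₀}) χ ⊓ Fx ρ (S.Yg j {θ}) : Submodule ℂ V) := by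
  have e := h.pair_a_θ t
  have := h.heisY (ρ := ρ) (fix_simple.2 t.fix₀) (h.pw_fix t.fix) (St.single t.fix) (by simpa using e)
    (by simpa [h.cls_fix t.fix] using h.iso_cls (fix_simple.2 t.fix₀) e) hχ le_rfl
    (h.le_Stb_Eig (by rintro _ rfl; omega) χ)
    (h.le_Stb_Eig (by rintro _ ⟨_, rfl, rfl⟩; rw [RootSys.pair_star_self e]; omega) χ)
  simpa using this

theorem big {χ : G → ℂ} (hχ : Ch (S.Yg j {R.simple i₀}) χ) :
    (q - 1) * (q + 1) * finrank ℂ (Eig ρ (S.Yg j {R.simple i₀}) χ) ≤ q * finrank ℂ V := by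
  obtain ⟨χ', hχ'⟩ := h.exists_ch t t.fix
  have h1 := h.dimdec_top t (ρ := ρ) t.fix hχ'
  rw [h.finrank_Eig_eq t t.fix (fix_simple.2 t.fix₀) hχ' hχ] at h1
  have h2 := h.dimdec t (ρ := ρ) (fix_simple.2 t.fix₀) (N := Fx ρ (S.Yg j {θ}))
    (h.le_Stb_Eig (by rintro _ rfl; rw [h.pair_θ_a t]; omega) 1) (fun g hg => tor_mem_Stb hg _) hχ
  have h3 := h.finrank_inf_θ t (ρ := ρ) hχ
  rw [inf_comm] at h3
  rw [h1, h2]
  nlinarith [Nat.zero_le (q * finrank ℂ (Fx ρ (S.Yg j {θ}) ⊓ Fx ρ (S.Yg j {R.simple i₀}) : Submodule ℂ V))]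

/-- either the degree is large, or all spaces `Ln` are lines -/
theorem big_or_line [IsSimpleGroup G] (hρ : ρ.IsIrreducible) (h2 : 2 ≤ finrank ℂ V) {n : ℕ}
    (hn : ∀ i, T.π i = i → (R.Lam (R.simple i)).ncard = n) :
    2 * ((q - 1) * (q + 1) * q ^ n) ≤ q * finrank ℂ V ∨
      (∀ b, T.ρ b = b → ∀ χ, Ch (S.Yg j {b}) χ → finrank ℂ (Eig ρ (S.Yg j {b}) χ) = q ^ n) ∧
      ∀ i, T.π i = i → ∀ χ, Ch (S.Yg j {R.simple i}) χ → finrank ℂ (S.Ln j ρ (R.simple i) χ) = 1 := by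
  have ha := fix_simple.2 t.fix₀
  obtain ⟨χ, hχ⟩ := h.exists_ch t ha
  have h1 := h.finrank_Eig (ρ := ρ) t.fix₀ hχ
  have h3 := h.finrank_Eig_ne t hρ h2 ha hχ
  have h4 := h.big t (ρ := ρ) hχ
  rw [hn _ t.fix₀] at h1
  by_cases h5 : finrank ℂ (S.Ln j ρ (R.simple i₀) χ) = 1
  · rw [h5, mul_one] at h1
    have h6 : ∀ b, T.ρ b = b → ∀ χ, Ch (S.Yg j {b}) χ → finrank ℂ (Eig ρ (S.Yg j {b}) χ) = q ^ n :=
      fun b hb χ' hχ' => (h.finrank_Eig_eq t hb ha hχ' hχ).trans h1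
    refine Or.inr ⟨h6, fun i hi χ' hχ' => ?_⟩
    have h7 := h.finrank_Eig (ρ := ρ) hi hχ'
    rw [h6 _ (fix_simple.2 hi) _ hχ', hn i hi] at h7
    have := h.two_le
    exact Nat.eq_of_mul_eq_mul_left (by positivity) (h7.symm.trans (mul_one _).symm)
  · refine Or.inl (le_trans ?_ h4)
    have h6 : 2 ≤ finrank ℂ (S.Ln j ρ (R.simple i₀) χ) := by
      rw [h1] at h3
      have := right_ne_zero_of_mul h3
      change finrank ℂ (S.Ln j ρ (R.simple i₀) χ) ≠ 0 at this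
      omega
    rw [h1, mul_comm 2, ← mul_assoc]
    exact Nat.mul_le_mul_left _ h6

/-- main alternative for `E₆`, `E₈`, `²E₆` -/
theorem main [IsSimpleGroup G] (hρ : ρ.IsIrreducible) (h2 : 2 ≤ finrank ℂ V) {n : ℕ}
    (hn : ∀ i, T.π i = i → (R.Lam (R.simple i)).ncard = n)
    (t1 : ∀ β, T.ρ β = β → R.pair θ β = 1 → R.pair (R.simple i₀) β = 0 →
      ∃ δ, R.pair β δ = 1 ∧ R.pair (R.simple i₀) δ = 0 ∧ 0 ≤ R.pair θ δ ∧ R.pair θ δ ≤ 1)
    (t2 : ∃ β, T.ρ β = β ∧ R.pair θ β = 1 ∧ R.pair (R.simple i₀) β = 0)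
    (t3 : ∀ c, T.ρ c = c → R.IsPos c → R.pair θ c = 0 → ∃ δ, R.pair c δ = 1 ∧
      (0 < R.ht δ ∨ R.pair (R.simple i₀) δ = 0 ∧ 0 ≤ R.pair θ δ) ∧
      (R.ht δ < R.ht c ∨ R.pair (R.simple i₀) δ = R.pair (R.simple i₀) c ∧ R.pair θ δ ≤ 0))
    {L : Finset ι} (hL : ∀ α, α ∈ L ↔ T.ρ α = α) {L' : Finset ι} (hL' : ∀ α, α ∈ L' ↔ T.ρ α = α ∧ R.IsPos α) :
    2 * ((q - 1) * (q + 1) * q ^ n) ≤ q * finrank ℂ V ∨
      (q - 1) * ∑ b ∈ L', q ^ (R.ht b - 1).toNat ≤ finrank ℂ V ∧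
        finrank ℂ V ∣ (∑ α ∈ L, q ^ R.nn α) * (q * ((q - 1) * q ^ n)) := by
  refine (h.big_or_line t hρ h2 hn).imp_right fun ⟨h3, h4⟩ => ⟨?_, ?_⟩
  · have h5 := t.conn (fun i => ∀ χ, Ch (S.Yg j {R.simple i}) χ →
        S.Yg j (R.Tr (R.simple i)) ≤ Fxr ρ (S.Ln j ρ (R.simple i) χ)) (fun χ hχ => by
        have h5 := h4 _ t.fix₀ χ hχ
        have h6 := h.step1 t h5 t1
        obtain ⟨β, h7, h8, h9⟩ := t2
        exact h.step3 t h5 h6 (h.step2 t h5 h6 h7 h8 h9) t3)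
      fun i i' hi hi' hA ih χ hχ => h.transfer hi hi' hA (fun χ hχ => ⟨h4 i hi χ hχ, ih χ hχ⟩) hχ (h4 i' hi' χ hχ)
    have h6 := h.chain t (ρ := ρ) (f := fun b => q ^ (R.ht b - 1).toNat) (fun b hb hp => by
      obtain ⟨χ, hχ⟩ := h.exists_ch t hb
      exact ⟨χ, hχ, (h.height_step (fun i hi χ hχ => (h4 i hi χ hχ).ge.trans (Submodule.finrank_mono
        (le_inf inf_le_left (le_Fx.2 (h5 i hi χ hχ))))) hb hp hχ).trans
        (Submodule.finrank_mono (inf_le_inf_left _ (Fx_mono (Yg_mono Set.inter_subset_left))))⟩) L'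
      (fun b hb => (hL' b).1 hb) fun b hb c hc h6 => (hL' c).2 ⟨hc, lt_trans ((hL' b).1 hb).2 h6⟩
    rw [Finset.mul_sum]; omega
  · obtain ⟨χ, hχ⟩ := h.exists_ch t t.fix
    have := h.dvd_main t (ρ := ρ) hL hχ
    rwa [h3 _ t.fix χ hχ] at this

end StData.Twist.MD

end CL.Chev
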