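import Cfsg.Agent.CHEV.MinDeg5

/-!
# Minimal degrees, part 6: root tables and arithmetic
-/

set_option autoImplicit false

open Module CL.MD

namespace CL.Chev

namespace Cert

variable (C : Cert) (n l : ℕ) (p : ℕ → ℕ) (θ i : ℕ)

def anyLt (f : ℕ → Bool) : Bool := !(allLt n fun k => !(f k))

theorem anyLt_iff (f : ℕ → Bool) : anyLt n f = true ↔ ∃ k < n, f k = true := by
  rw [anyLt, Bool.not_eq_true', ← Bool.not_eq_true, allLt_iff]; simp

def cntLt (f : ℕ → Bool) : ℕ := Nat.rec 0 (fun k ih => bif f k then ih + 1 else ih) n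

theorem cntLt_eq (f : ℕ → Bool) : cntLt n f = {k : Fin n | f k = true}.ncard := by
  have : cntLt n f = ∑ k : Fin n, if f k = true then 1 else 0 := by
    induction n with
    | zero => rfl
    | succ n ih =>
      rw [Fin.sum_univ_castSucc]
      change (bif f n then cntLt n f + 1 else cntLt n f) = _
      rw [ih]; cases h : f n <;> simp [h]
  rw [this, Finset.sum_boole, Set.ncard_eq_toFinset_card']; simp

def fxF (r : ℕ) : Bool := allLt l fun k => ieq (C.co r (p k)) (C.co r k)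
def htF (r : ℕ) : ℤ := sumLt l (C.co r)
def posF (r : ℕ) : Bool := ineg (-C.htF l r)
def lamF (k : ℕ) : ℕ := cntLt n fun r => ieq (C.wt k r) 1 && C.posF l r
def nnF (r : ℕ) : ℕ := cntLt n fun s => Nat.ble (n / 2) s && ineg (C.pairF l r s)

def md0 (h : ℕ) : Bool := Nat.blt θ n && Nat.blt i l && C.fxF l p θ && Nat.beq (p i) i &&
  (allLt n fun r => Nat.beq (C.len r) 1) &&
  allLt l fun k => ieq (C.wt k θ) (if k = i then 1 else 0) && (!(Nat.beq (p k) k) || Nat.beq (C.lamF n l k) h)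

def md1 : Bool := allLt n fun β => !(ieq (C.co β i) 1 && ieq (C.wt i β) 0 && C.fxF l p β) ||
  anyLt n fun δ => ieq (C.wt i δ) 0 && !(ineg (C.co δ i)) && !(ineg (1 - C.co δ i)) && ieq (C.pairF l β δ) 1

def md2 : Bool := anyLt n fun β => ieq (C.co β i) 1 && ieq (C.wt i β) 0 && C.fxF l p β

def md3 : Bool := allLt n fun c => !(ieq (C.co c i) 0 && C.posF l c && C.fxF l p c) ||
  anyLt n fun δ => ieq (C.pairF l c δ) 1 && (C.posF l δ || ieq (C.wt i δ) 0 && !(ineg (C.co δ i))) &&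
    (ineg (C.htF l δ - C.htF l c) || ieq (C.wt i δ) (C.wt i c) && !(ineg (-C.co δ i)))

def nnL : List ℕ := ((List.range n).filter (C.fxF l p)).map (C.nnF n l)
def htL : List ℕ := ((List.range n).filter fun r => C.fxF l p r && C.posF l r).map fun r => (C.htF l r - 1).toNat

end Cert

theorem sum_filter_eq {n : ℕ} (f : ℕ → Bool) (g : ℕ → ℕ) :
    ∑ r ∈ Finset.univ.filter fun r : Fin n => f r = true, g r = (((List.range n).filter f).map g).sum := by
  rw [Finset.sum_filter, Fin.sum_univ_eq_sum_range (fun r => if f r = true then g r else 0)]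
  induction n with
  | zero => rfl
  | succ n ih =>
    rw [Finset.sum_range_succ, ih, List.range_succ, List.filter_append, List.map_append, List.sum_append]
    cases h : f n <;> simp [h]

section Arith

theorem md_not_dvd {d y k : ℕ} (h1 : k * d < y) (h2 : y < (k + 1) * d) : ¬ d ∣ y := by
  rintro ⟨m, rfl⟩
  rw [mul_comm d] at h1 h2
  have := lt_of_mul_lt_mul_right h1 (Nat.zero_le _)
  have := lt_of_mul_lt_mul_right h2 (Nat.zero_le _)
  omega

theorem dvd_of_primePow {q d j E X a : ℕ} (hq : IsPrimePow q) (h0 : 0 < j) (hj : j < q) (hd : d + j = q * E)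
    (h : d ∣ E * X * q ^ (a + 1)) : d ∣ j * X := by
  obtain ⟨p, f, hp, -, rfl⟩ := (isPrimePow_nat_iff q).1 hq
  obtain ⟨v, j', h1, rfl⟩ := Nat.exists_eq_pow_mul_and_not_dvd h0.ne' p hp.ne_one
  have h2 : v < f := (Nat.pow_lt_pow_iff_right hp.one_lt).1
    (lt_of_le_of_lt (Nat.le_mul_of_pos_right _ (Nat.pos_of_mul_pos_left h0)) hj)
  obtain ⟨e, rfl⟩ := Nat.exists_eq_add_of_lt h2
  have h3 : p ^ v ∣ d := (Nat.dvd_add_left (Dvd.intro _ rfl)).1
    (hd ▸ (pow_dvd_pow p (by omega)).mul_right E)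
  obtain ⟨d', rfl⟩ := h3
  have h4 : d' + j' = p * (p ^ e * E) := Nat.eq_of_mul_eq_mul_left (pow_pos hp.pos v) (by
    rw [mul_add, hd]; ring)
  have h5 : Nat.Coprime d' p := ((Nat.Prime.coprime_iff_not_dvd hp).2 fun h5 =>
    h1 ((Nat.dvd_add_right h5).1 ⟨_, h4⟩)).symm
  rw [mul_assoc]
  refine Nat.mul_dvd_mul_left _ ((h5.pow_right (v + (v + e + 1) * a)).dvd_of_dvd_mul_left ?_)
  have h6 : E * X * (p ^ (v + e + 1)) ^ (a + 1) =
      p ^ v * d' * (X * (p ^ (v + e + 1)) ^ a) + p ^ (v + (v + e + 1) * a) * (j' * X) := by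
    rw [pow_succ _ a, show E * X * ((p ^ (v + e + 1)) ^ a * p ^ (v + e + 1)) =
      p ^ (v + e + 1) * E * (X * (p ^ (v + e + 1)) ^ a) by ring, ← hd]; ring
  rw [h6, Nat.dvd_add_right (Dvd.intro _ rfl)] at h
  exact (Dvd.intro_left _ rfl).trans h

end Arith

namespace StData.Twist

variable {D : Cfsg.Lie.ChevalleyDatum} [Chev.Good D] {K Γ G κ' : Type*} [Field K] [Group Γ] [Group G]
  {S : StData (rootSys D) K Γ} {j : G →* Γ} {T : S.Twist κ'} {p : ℕ → ℕ}

theorem ht_eq_htF (r : Rt D) : (rootSys D).ht r = (Chev.Good.C D).htF D.rank r := (sumLt_eq _ _).symm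

theorem isPos_iff_posF (r : Rt D) : (rootSys D).IsPos r ↔ (Chev.Good.C D).posF D.rank r = true := by
  rw [Cert.posF, ineg_iff, ← ht_eq_htF, neg_lt_zero]; rfl

theorem wt_eq (r : Rt D) (k : Fin D.rank) : (rootSys D).wt r k = (Chev.Good.C D).wt k r := by
  rw [rootSys_wt, A_sm']

theorem fix_iff_fxF (hA : ∀ i j, (rootSys D).A (T.π i) (T.π j) = (rootSys D).A i j) (hp : ∀ i, (T.π i : ℕ) = p i)
    (r : Rt D) : T.ρ r = r ↔ (Chev.Good.C D).fxF D.rank p r = true := by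
  rw [Cert.fxF, allLt_iff]
  refine ⟨fun e k hk => ?_, fun e => (rootSys D).rt_inj (funext fun k => ?_)⟩
  · have := T.rt_ρ hA r ⟨k, hk⟩
    rw [e] at this
    rw [ieq_iff, ← hp ⟨k, hk⟩]; exact this
  · obtain ⟨k, rfl⟩ := T.π.surjective k
    have := e k k.2
    rw [ieq_iff, ← hp] at this
    rw [T.rt_ρ hA]; exact this.symm

theorem long_of_md0 {θ i h : ℕ} (h0 : (Chev.Good.C D).md0 D.nroots D.rank p θ i h = true) (r : Rt D) :
    (rootSys D).Long r := fun k => by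
  simp only [Cert.md0, Bool.and_eq_true, allLt_iff, Nat.beq_eq] at h0
  rw [rootSys_len, rootSys_len, len, len, h0.1.2 _ k.2, h0.1.2 _ r.2]

variable {φ : K →+* K} {m q : ℕ} (h : T.MD j φ m q) (hp : ∀ i, (T.π i : ℕ) = p i)
include h hp

theorem MD.top_of_md0 {θ : Rt D} {i : Fin D.rank} {n : ℕ} (h0 : (Chev.Good.C D).md0 D.nroots D.rank p θ i n = true)
    (hc : ∀ P : Fin D.rank → Prop, P i → (∀ i i', T.π i = i → T.π i' = i' → (rootSys D).A i i' = -1 → P i → P i') →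
      ∀ i, T.π i = i → P i) :
    T.Top θ i ∧ ∀ k, T.π k = k → ((rootSys D).Lam ((rootSys D).simple k)).ncard = n := by
  simp only [Cert.md0, Bool.and_eq_true, allLt_iff, Nat.beq_eq, ieq_iff, Bool.or_eq_true, Bool.not_eq_true',
    ← Bool.not_eq_true] at h0
  refine ⟨⟨(fix_iff_fxF h.hA hp θ).2 h0.1.1.1.2, Fin.ext ((hp i).trans h0.1.1.2), fun k => ?_, hc⟩, fun k hk => ?_⟩
  · rw [wt_eq, (h0.2 k k.2).1]; simp [Fin.ext_iff]
  · rw [← (h0.2 k k.2).2.resolve_left (by rw [← hp, hk]; simp), Cert.lamF, Cert.cntLt_eq]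
    congr 1; ext r
    simp only [RootSys.Lam, Set.mem_ofPred_eq, Bool.and_eq_true, ieq_iff, isPos_iff_posF, RootSys.pair_simple, wt_eq,
      and_comm]

omit [Group G] h hp in
theorem sum_nn : ∑ α ∈ Finset.univ.filter fun r : Rt D => (Chev.Good.C D).fxF D.rank p r = true,
    q ^ (rootSys D).nn α = (((Chev.Good.C D).nnL D.nroots D.rank p).map (q ^ ·)).sum := by
  rw [Cert.nnL, List.map_map, ← sum_filter_eq]
  refine Finset.sum_congr rfl fun r _ => ?_
  rw [Function.comp_apply, Cert.nnF, Cert.cntLt_eq, RootSys.nn]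
  congr 2; ext s
  simp only [Set.mem_ofPred_eq, Bool.and_eq_true, ineg_iff, Nat.ble_eq, rootSys_isPos, pos_iff_le, rootSys_pair,
    A_eq_pairF]

variable {V : Type*} [AddCommGroup V] [Module ℂ V] [FiniteDimensional ℂ V] {ρ : Representation ℂ G V}
  [Finite K] [Finite G]

theorem MD.main_tab [IsSimpleGroup G] (hρ : ρ.IsIrreducible) (h2 : 2 ≤ finrank ℂ V) {θ : Rt D} {i : Fin D.rank}
    {n : ℕ} (h0 : (Chev.Good.C D).md0 D.nroots D.rank p θ i n = true)
    (hc : ∀ P : Fin D.rank → Prop, P i → (∀ i i', T.π i = i → T.π i' = i' → (rootSys D).A i i' = -1 → P i → P i') →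
      ∀ i, T.π i = i → P i)
    (h1 : (Chev.Good.C D).md1 D.nroots D.rank p i = true) (h3 : (Chev.Good.C D).md2 D.nroots D.rank p i = true)
    (h4 : (Chev.Good.C D).md3 D.nroots D.rank p i = true) :
    2 * ((q - 1) * (q + 1) * q ^ n) ≤ q * finrank ℂ V ∨
      (q - 1) * (((Chev.Good.C D).htL D.nroots D.rank p).map (q ^ ·)).sum ≤ finrank ℂ V ∧
        finrank ℂ V ∣ (((Chev.Good.C D).nnL D.nroots D.rank p).map (q ^ ·)).sum * (q * ((q - 1) * q ^ n)) := by
  obtain ⟨t, hn⟩ := h.top_of_md0 hp h0 hc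
  have e1 : ∀ s : Rt D, (rootSys D).pair θ s = (Chev.Good.C D).co s i := h.pair_θ t
  have e2 := fix_iff_fxF h.hA hp
  simp only [Cert.md1, Cert.md2, Cert.md3, Bool.and_eq_true, allLt_iff, ieq_iff, Bool.or_eq_true, Cert.anyLt_iff,
    Bool.not_eq_true', ← Bool.not_eq_true, ineg_iff] at h1 h3 h4
  have := h.main t hρ h2 hn (fun β h5 h6 h7 => ?_) ?_ (fun c h5 h6 h7 => ?_)
    (L := Finset.univ.filter fun r : Rt D => (Chev.Good.C D).fxF D.rank p r = true) (by simp [e2])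
    (L' := Finset.univ.filter fun r : Rt D => ((Chev.Good.C D).fxF D.rank p r && (Chev.Good.C D).posF D.rank r) = true)
    (by simp [e2, isPos_iff_posF])
  · rw [sum_nn] at this
    rw [Cert.htL, List.map_map, ← sum_filter_eq]
    simpa only [ht_eq_htF, Function.comp_apply] using this
  · rw [RootSys.pair_simple, wt_eq] at h7
    obtain ⟨δ, h8, h9⟩ := (h1 β β.2).resolve_left (not_not.2 ⟨⟨e1 β ▸ h6, h7⟩, (e2 β).1 h5⟩)
    refine ⟨⟨δ, h8⟩, ?_⟩
    rw [RootSys.pair_simple, wt_eq, e1, rootSys_pair, A_eq_pairF]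
    dsimp only
    exact ⟨h9.2, h9.1.1.1, by have := h9.1.1.2; omega, by have := h9.1.2; omega⟩
  · obtain ⟨β, h5, h6⟩ := h3
    exact ⟨⟨β, h5⟩, (e2 _).2 h6.2, (e1 _).trans h6.1.1, by rw [RootSys.pair_simple, wt_eq]; exact h6.1.2⟩
  · obtain ⟨δ, h8, h9⟩ := (h4 c c.2).resolve_left
      (not_not.2 ⟨⟨e1 c ▸ h7, (isPos_iff_posF c).1 h6⟩, (e2 c).1 h5⟩)
    refine ⟨⟨δ, h8⟩, ?_⟩
    rw [RootSys.pair_simple, RootSys.pair_simple, wt_eq, wt_eq, e1, rootSys_pair, A_eq_pairF, ht_eq_htF, ht_eq_htF]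
    rw [Cert.posF, ineg_iff] at h9
    dsimp only
    exact ⟨h9.1.1, by have := h9.1.2; omega, by have := h9.2; omega⟩

end StData.Twist

end CL.Chev
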