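import Cfsg.Agent.CHEV.MinDeg6
import Cfsg.Agent.CHEV.TwLiftF

/-!
# Minimal degrees, part 7: the standing hypotheses hold; closing arithmetic
-/

set_option autoImplicit false

namespace CL.Chev

def addMon : ℕ → List ℕ → List ℕ
  | 0, [] => [1]
  | 0, c :: t => (c + 1) :: t
  | k + 1, [] => 0 :: addMon k []
  | k + 1, c :: t => c :: addMon k t

def evalP (q : ℕ) : List ℕ → ℕ
  | [] => 0
  | c :: t => c + q * evalP q t

theorem evalP_addMon (q k : ℕ) (P : List ℕ) : evalP q (addMon k P) = q ^ k + evalP q P := by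
  induction k generalizing P with
  | zero => cases P <;> simp [addMon, evalP]; ring
  | succ k ih => cases P <;> simp [addMon, evalP, ih] <;> ring

theorem sum_pow_eq {L P : List ℕ} (h : L.foldr addMon [] = P) (q : ℕ) : (L.map (q ^ ·)).sum = evalP q P := by
  subst h
  induction L with
  | nil => rfl
  | cons k L ih => rw [List.map_cons, List.sum_cons, List.foldr_cons, evalP_addMon, ih]

theorem close_aux {q d E X a n : ℕ} (hq : IsPrimePow q) (h1 : q * E ≤ d + n) (h2 : d ∣ E * X * q ^ (a + 1))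
    (h3 : q ≤ n → ∀ j < n, ¬ q * E - (j + 1) ∣ E * X * q ^ (a + 1))
    (h4 : n < q → ∀ j, 0 < j → j ≤ n → d + j = q * E → ¬ d ∣ j * X) : q * E ≤ d := by
  by_contra h5
  obtain ⟨j, hj⟩ : ∃ j, d + (j + 1) = q * E := ⟨q * E - d - 1, by omega⟩
  by_cases h6 : q ≤ n
  · exact h3 h6 j (by omega) (by rwa [← hj, Nat.add_sub_cancel])
  · exact h4 (by omega) _ j.succ_pos (by omega) hj (dvd_of_primePow hq j.succ_pos (by omega) hj h2)

theorem close₁ {q d E X Y a n : ℕ} (hq : IsPrimePow q) (h1 : q * E ≤ d + n) (h2 : d ∣ E * X * q ^ (a + 1))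
    (h3 : q ≤ n → ∀ j < n, ¬ q * E - (j + 1) ∣ E * X * q ^ (a + 1)) (hY : q * (q * E) = X + Y)
    (h4 : q * n < Y) (h5 : n < q → n * Y + n < q * E) : q * E ≤ d :=
  close_aux hq h1 h2 h3 fun h0 j h6 h7 h8 => by
    replace h5 := h5 h0
    obtain ⟨k, hk⟩ : ∃ k, j * q = k + 1 := ⟨j * q - 1, by have := Nat.mul_pos h6 hq.pos; omega⟩
    have h9 : q * d + q * j = X + Y := by rw [← hY, ← h8]; ring
    have h10 := Nat.mul_le_mul_left q h7
    have h11 := Nat.mul_le_mul_right Y h7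
    have h12 : k * d + d + j * (q * j) = j * X + j * Y := by rw [← mul_add, ← h9, ← add_one_mul, ← hk]; ring
    refine md_not_dvd (k := k) (by omega) ?_
    rw [← hk, mul_assoc]
    exact Nat.mul_lt_mul_of_pos_left (by omega) h6

theorem close₂ {q d E X Y a n : ℕ} (hq : IsPrimePow q) (h1 : q * E ≤ d + n) (h2 : d ∣ E * X * q ^ (a + 1))
    (h3 : q ≤ n → ∀ j < n, ¬ q * E - (j + 1) ∣ E * X * q ^ (a + 1)) (hY : X = q * (q * E) + Y)
    (h5 : n * (Y + q * n) + n < q * E) : q * E ≤ d :=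
  close_aux hq h1 h2 h3 fun _ j h6 h7 h8 => by
    have h9 : X = q * d + (Y + q * j) := by rw [hY, ← h8]; ring
    have h10 := Nat.mul_le_mul h7 (Nat.add_le_add_left (Nat.mul_le_mul_left q h7) Y)
    have h11 := Nat.mul_pos h6 (Nat.add_pos_right Y (Nat.mul_pos hq.pos h6))
    refine md_not_dvd (k := j * q) ?_ ?_ <;> rw [h9, mul_add j, ← mul_assoc]
    · omega
    · rw [add_one_mul]; omega

theorem exists_sq_ne {K : Type*} [Field K] {φ : K →+* K} (h : ∃ t, φ t ≠ t) : ∃ t, t ≠ 0 ∧ (φ t / t) ^ 2 ≠ 1 := by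
  by_contra h1
  push Not at h1
  obtain ⟨t, ht⟩ := h
  have h2 : ∀ t, φ t = t ∨ φ t = -t := fun t => by
    by_cases h0 : t = 0
    · simp [h0]
    · have := h1 t h0
      rwa [div_pow, div_eq_one_iff_eq (pow_ne_zero _ h0), sq_eq_sq_iff_eq_or_eq_neg] at this
  have h3 := (h2 t).resolve_left ht
  rcases h2 (t + 1) with h4 | h4 <;> rw [map_add, map_one, h3] at h4
  · exact ht (by rw [h3]; linear_combination h4)
  · exact ht (by rw [h3]; linear_combination (-t) * h4)

namespace StData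

variable {ι κ κ' : Type*} [Fintype κ] [DecidableEq κ] {R : RootSys ι κ} [Finite ι]
  {K Γ G : Type*} [Field K] [Group Γ] [Group G] {S : StData R K Γ} {j : G →* Γ}

theorem Good.md_triv (hS : S.Good) (htop : S.grp = ⊤) (hl : ∀ r, R.Long r) :
    S.trivTw.MD (MonoidHom.id Γ) (RingHom.id K) 1 (Nat.card K) where
  good := hS
  inj := Function.injective_id
  isTw := by rw [MonoidHom.range_eq_top.2 Function.surjective_id]; exact hS.trivTw_isTw htop
  long := hl
  hA _ _ := rfl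
  orth a i hi k hk hne := absurd (hi.trans hk.symm) hne
  f_eq _ := rfl
  π_pow := rfl
  φ_pow _ := rfl
  tr c _ := ⟨c, by simp⟩
  cJ a := by
    have : S.trivTw.J a = {a} := rfl
    rw [S.trivTw.cJ_one hS this, S.trivTw.ncard_pos_one this, pow_one]
    exact Nat.card_congr (Equiv.subtypeUnivEquiv fun _ => rfl)
  card := Nat.card_congr (Equiv.subtypeUnivEquiv fun _ => rfl)
  tor i hi := absurd rfl hi

omit [Finite ι] in
theorem h_mul_conj {g : Γ} {χ : ι → K} (hg : ∀ r u, g * S.x r u * g⁻¹ = S.x r (χ r * u)) (i : κ) {s : K}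
    (hs : s ≠ 0) (r : ι) (u : K) : g * S.h (R.simple i) s * S.x r u * (g * S.h (R.simple i) s)⁻¹ =
      S.x r (χ r * s ^ R.wt r i * u) := by
  rw [mul_assoc (χ r), ← hg, ← R.pair_simple, ← S.h_conj _ _ hs]; group

namespace Twist

variable {T : S.Twist κ'}

omit [Finite ι] in
theorem wt_π (hA : ∀ i j, R.A (T.π i) (T.π j) = R.A i j) {r : ι} (hr : T.ρ r = r) (i : κ) :
    R.wt r (T.π i) = R.wt r i := by
  rw [← R.pair_simple, ← R.pair_simple, ← T.ρ_simple, ← T.pair_ρρ hA (R.simple i), hr]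

end Twist

end StData

def Cert.mdc (C : Cert) (l : ℕ) (p : ℕ → ℕ) (i : ℕ) (par rk : List ℕ) : Bool :=
  allLt l fun k => Nat.beq k i || !(Nat.beq (p k) k) || (Nat.blt (par.getD k 0) l &&
    Nat.beq (p (par.getD k 0)) (par.getD k 0) && ieq (C.wt (par.getD k 0) (C.smp k)) (-1) &&
    Nat.blt (rk.getD (par.getD k 0) 0) (rk.getD k 0))

theorem conn_of_mdc {D : Cfsg.Lie.ChevalleyDatum} [Good D] {π : Fin D.rank → Fin D.rank} {p : ℕ → ℕ}
    (hp : ∀ i, (π i : ℕ) = p i) {i : Fin D.rank} (par rk : List ℕ) (h : (Good.C D).mdc D.rank p i par rk = true)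
    (P : Fin D.rank → Prop) (h0 : P i) (hP : ∀ i i', π i = i → π i' = i' → (rootSys D).A i i' = -1 → P i → P i')
    (k : Fin D.rank) (hk : π k = k) : P k := by
  simp only [Cert.mdc, allLt_iff, Bool.or_eq_true, Bool.and_eq_true, Nat.beq_eq, Nat.blt_eq, ieq_iff,
    Bool.not_eq_true', ← Bool.not_eq_true] at h
  induction e : rk.getD k 0 using Nat.strong_induction_on generalizing k with
  | _ n ih =>
  rcases h k k.2 with (h1 | h1) | ⟨⟨⟨h1, h2⟩, h3⟩, h4⟩
  · rwa [Fin.ext h1]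
  · exact absurd (by rw [← hp, hk]) h1
  · have h5 : π ⟨_, h1⟩ = ⟨_, h1⟩ := Fin.ext ((hp _).trans h2)
    exact hP _ k h5 hk (by rw [rootSys_A, A_sm', sm_val']; exact h3) (ih _ (e ▸ h4) _ h5 rfl)

section E6

variable {ι K Γ G : Type*} {R : RootSys ι (Fin 6)} [Finite ι] [Field K] [Group Γ] [Group G] {S : StData R K Γ}
  {j : G →* Γ} {T : S.Twist (Fin 4)} {q : ℕ}

theorem StData.Twist.IsE6.md (h : T.IsE6 q) (hS : S.Good) (hj : Function.Injective j) (hM : T.IsTw j.range)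
    (hl : ∀ r, R.Long r) : T.MD j (T.f 0) 2 q := by
  have hQ := h.isQS
  have ho : ∀ i, T.π i ≠ i → R.A i (T.π i) = 0 := fun i => by
    rw [h.A_eq, h.π]; revert i; decide
  refine ⟨hS, hj, hM, hl, h.A_π, fun a i hi k hk hne => ?_, hQ.f_eq, Equiv.ext fun i => hQ.ππ i, hQ.ss,
    fun c hc => ?_, fun a => ?_, ?_, fun i hi => ?_⟩
  · obtain rfl : T.c i = a := hi
    rcases (T.mem_J_iff_of_invol hQ.ππ).1 hk with rfl | rfl
    exacts [absurd rfl hne, ho i hne.symm]
  · obtain ⟨v, hv⟩ := StData.Twist.exists_trace_eq hQ.ss hQ.s_ne hc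
    exact ⟨v, by simpa [Finset.sum_range_succ] using hv⟩
  · rw [h.cJ_eq hS, h.ncard_pos]; split_ifs <;> simp
  · have := T.cJ_one hS h.J0
    rw [h.cJ_eq hS, hQ.f_eq] at this
    exact this.symm
  · obtain ⟨t, h0, ht⟩ := exists_sq_ne hQ.s_ne
    have h1 : T.f 0 t ≠ 0 := (map_ne_zero _).2 h0
    have h2 : T.f 0 t / t ≠ 0 := div_ne_zero h1 h0
    have h3 : T.f i (T.f 0 t / t) = (T.f 0 t / t)⁻¹ := by rw [hQ.f_eq, map_div₀, hQ.ss, inv_div]
    have h4 := (hM.h_mem_two hS hi.symm (ho i hi) rfl (hQ.ππ i) (h.ff _ _) (T.f 0 t / t)).2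
    rw [h3] at h4
    refine ⟨_, h4, mul_mem (S.h_mem_H _ h2) (S.h_mem_H _ (inv_ne_zero h2)), _,
      StData.h_mul_conj (fun r u => S.h_conj _ r h2 u) _ (inv_ne_zero h2), fun r hr => ?_, fun k hk => ?_⟩
    · rw [StData.Twist.wt_π h.A_π hr, R.pair_simple, ← mul_zpow, mul_inv_cancel₀ h2, one_zpow]
    · rw [R.pair_simple, R.wt_simple, R.wt_simple]
      rcases (T.mem_J_iff_of_invol hQ.ππ).1 hk with rfl | rfl
      · rw [(R.A_eq_zero_comm _ _).1 (ho k hi), R.A_self]; simpa using ht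
      · rw [ho i hi, R.A_self, zpow_zero, one_mul, inv_zpow, Ne, inv_eq_one]; exact_mod_cast ht

end E6

section D4

variable {ι K Γ G : Type*} {R : RootSys ι (Fin 4)} [Finite ι] [Field K] [Group Γ] [Group G] {S : StData R K Γ}
  {j : G →* Γ} {T : S.Twist (Fin 2)} {q : ℕ}

theorem StData.Twist.IsD4.md (h : T.IsD4 q) (hS : S.Good) (hj : Function.Injective j) (hM : T.IsTw j.range)
    (hl : ∀ r, R.Long r) : T.MD j (T.f 0) 3 q := by
  have hf : ∀ i, T.f i = T.f 0 := fun i => RingHom.ext fun t => by rw [h.f, h.f]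
  have hA : ∀ i k, R.A (T.π i) (T.π k) = R.A i k := fun i k => by
    rw [h.A_eq, h.A_eq, h.π, h.π]; fin_cases i <;> fin_cases k <;> rfl
  have hc : Nat.card {t // T.f 0 t = t} = q := by
    have := T.cJ_one hS h.J1
    rw [h.cJ_eq hS, hf] at this
    exact this.symm
  have hne : ∃ t, T.f 0 t ≠ t := by
    by_contra h1
    push Not at h1
    rw [Nat.card_congr (Equiv.subtypeUnivEquiv h1), h.card] at hc
    have := h.two_le
    have h2 := Nat.pow_lt_pow_right (show 1 < q by omega) (show 1 < 3 by omega)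
    rw [pow_one] at h2
    omega
  have hff := h.ff 0 0 0
  refine ⟨hS, hj, hM, hl, hA, fun a i hi k hk => ?_, hf, Equiv.ext fun i => ?_, hff,
    fun c hc => ?_, fun a => ?_, hc, fun i hi => ?_⟩
  · have : T.c i = T.c k := hi.trans hk.symm
    rw [h.c] at this
    rw [h.A_eq]; revert this; clear hi hk; fin_cases i <;> fin_cases k <;> decide
  · change T.π (T.π (T.π i)) = i
    rw [h.π, h.π, h.π]; revert i; decide
  · have : ∃ t, t + T.f 0 t + T.f 0 (T.f 0 t) ≠ 0 := by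
      by_contra h1
      push Not at h1
      obtain ⟨u, hu⟩ := hne
      have h2 := h1 (u * u)
      have h3 := h1 u
      have h4 := h1 1
      simp only [map_mul, map_one] at h2 h4
      have h5 : u - T.f 0 (T.f 0 u) ≠ 0 := fun e => hu (by
        have := congrArg (T.f 0) (sub_eq_zero.1 e)
        rwa [hff] at this)
      exact hu (mul_left_cancel₀ h5 (by
        linear_combination (-1) * h2 + (T.f 0 u + T.f 0 (T.f 0 u)) * h3 - T.f 0 u * T.f 0 (T.f 0 u) * h4))
    obtain ⟨t, ht⟩ := this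
    have h1 : T.f 0 (c / (t + T.f 0 t + T.f 0 (T.f 0 t))) = c / (t + T.f 0 t + T.f 0 (T.f 0 t)) := by
      rw [map_div₀, hc, map_add, map_add, hff]; congr 1; ring
    refine ⟨c / (t + T.f 0 t + T.f 0 (T.f 0 t)) * t, ?_⟩
    simp only [Finset.sum_range_succ, Finset.sum_range_zero, Function.iterate_succ_apply', Function.iterate_zero_apply,
      map_mul, h1]
    field_simp
    ring
  · rw [h.cJ_eq hS, h.ncard_pos]; split_ifs <;> simp
  · obtain ⟨t, h0, ht⟩ := exists_sq_ne hne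
    have h1 : T.f 0 t ≠ 0 := (map_ne_zero _).2 h0
    set s := T.f 0 t / t with hs
    have h2 : s ≠ 0 := div_ne_zero h1 h0
    have h2' : T.f 0 s ≠ 0 := (map_ne_zero _).2 h2
    have h2'' : T.f 2 (T.f 0 s) ≠ 0 := (map_ne_zero _).2 h2'
    have h3 : s * T.f 0 s * T.f 2 (T.f 0 s) = 1 := by
      have : T.f 0 (T.f 0 t) ≠ 0 := (map_ne_zero _).2 h1
      rw [hf 2, hs, map_div₀, map_div₀, hff]; field_simp
    have h4 := (hM.h_mem_three hS (i := 0) (j := 2) (k := 3) (by decide) (by decide) (by decide)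
      (by rw [h.A_eq]; rfl) (by rw [h.A_eq]; rfl) (by rw [h.A_eq]; rfl) (h.π _) (h.π _) (h.π _) (h.ff _ _ _) s).2
    refine ⟨_, h4, mul_mem (mul_mem (S.h_mem_H _ h2) (S.h_mem_H _ h2')) (S.h_mem_H _ h2''), _,
      StData.h_mul_conj (StData.h_mul_conj (fun r u => S.h_conj _ r h2 u) _ h2') _ h2'', fun r hr => ?_,
      fun k hk => ?_⟩
    · have h5 := StData.Twist.wt_π hA hr 0
      have h6 := StData.Twist.wt_π hA hr 2
      rw [h.π] at h5 h6
      rw [R.pair_simple, show R.wt r 3 = R.wt r 2 from h6, show R.wt r 2 = R.wt r 0 from h5, ← mul_zpow, ← mul_zpow,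
        h3, one_zpow]
    · have h5 : T.c k = T.c i := hk
      have h6 : ∀ (f : K →+* K) u, u ^ 2 ≠ 1 → f u ^ (2 : ℤ) ≠ 1 := fun f u hu e => hu (f.injective (by
        rw [map_pow, map_one]; exact_mod_cast e))
      rw [h.c] at h5
      rw [h.π] at hi
      rw [R.pair_simple, R.wt_simple, R.wt_simple, R.wt_simple, h.A_eq, h.A_eq, h.A_eq]
      have : k = 0 ∨ k = 2 ∨ k = 3 := by revert hi h5; clear hk; revert i k; decide
      rcases this with rfl | rfl | rfl
      · simpa using h6 (RingHom.id K) s ht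
      · simpa using h6 _ s ht
      · simpa using h6 ((T.f 2).comp (T.f 0)) s ht

end D4

end CL.Chev
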