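/-
`p`-minimal groups over a normal subgroup `K`: the action of a Sylow subgroup on the overgroups of `U ∈ Syl_p(K)`.
-/
import Cfsg.Prelude.Def_LocalEven
import Cfsg.Prelude.Def_AlmostLie
import Cfsg.Agent.CHEV.TitsAut
import Cfsg.Agent.CHEV.TwPar
import Cfsg.Agent.CHEV.AutTypes

set_option autoImplicit false

namespace CL.Chev

open Cfsg CL.MSS

/-- `Y` is the largest proper `A`-invariant overgroup of `U` -/
structure PMin (p : ℕ) {K : Type*} [Group K] (U : Subgroup K) (A : Subgroup (MulAut K)) (Y : Subgroup K) : Prop where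
  pg : IsPGroup p A
  mapU : ∀ α ∈ A, ∀ x ∈ U, α x ∈ U
  ne_top : Y ≠ ⊤
  U_le : U ≤ Y
  mapY : ∀ α ∈ A, ∀ x ∈ Y, α x ∈ Y
  le : ∀ Z : Subgroup K, Z ≠ ⊤ → U ≤ Z → (∀ α ∈ A, ∀ x ∈ Z, α x ∈ Z) → Z ≤ Y

theorem exists_pMin {X : Type*} [Group X] [Finite X] {p : ℕ} [Fact p.Prime] (hX : IsPMinimal p X) {K : Subgroup X}
    [K.Normal] (U : Sylow p K) (h1 : ∀ Z : Subgroup K, Z.Normal → (U : Subgroup K) ≤ Z → Z = ⊤)
    (h2 : (U : Subgroup K) ≠ ⊤) : ∃ A Y, PMin p (U : Subgroup K) A Y ∧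
      (Y ≤ Subgroup.normalizer (U : Set K) →
        IsCoatom (Subgroup.normalizer (((U : Subgroup K).map K.subtype : Subgroup X) : Set X))) ∧
      (K = ⊤ → ∀ α ∈ A, ∃ u ∈ (U : Subgroup K), α = MulAut.conj u) := by
  obtain ⟨S, hS⟩ := (U.isPGroup'.map K.subtype).exists_le_sylow
  obtain ⟨-, M, ⟨hM, hSM⟩, hM'⟩ := hX S
  have e : (S : Subgroup X).subgroupOf K = U :=
    U.is_maximal' (S.isPGroup'.comap_subtype) (Subgroup.map_le_iff_le_comap.1 hS)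
  have k0 : ∀ Z : Subgroup K, (∀ s ∈ (S : Subgroup X), ∀ x ∈ Z, MulAut.conjNormal s x ∈ Z) →
      (S : Subgroup X) ≤ Subgroup.normalizer (Z.map K.subtype : Subgroup X) := fun Z h s hs =>
    Subgroup.mem_normalizer_fintype (by rintro _ ⟨x, hx, rfl⟩; exact ⟨_, h s hs x hx, rfl⟩)
  have k1 : ∀ N : Subgroup X, N ≠ ⊤ → (S : Subgroup X) ≤ N → N ≤ M := fun N h h' =>
    let ⟨_, h3, h4⟩ := (eq_top_or_exists_le_coatom N).resolve_left h
    hM' _ ⟨h3, h'.trans h4⟩ ▸ h4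
  have k2 : ∀ Z : Subgroup K, Z ≠ ⊤ → (U : Subgroup K) ≤ Z →
      (∀ s ∈ (S : Subgroup X), ∀ x ∈ Z, MulAut.conjNormal s x ∈ Z) →
      Subgroup.normalizer (Z.map K.subtype : Subgroup X) ≤ M := fun Z h h' h'' => k1 _ (fun h3 => h (h1 Z (by
    have := Subgroup.normalizer_eq_top_iff.1 h3
    simpa [Subgroup.comap_map_eq_self_of_injective K.subtype_injective] using this.comap K.subtype) h')) (k0 Z h'')
  have k3 : ∀ s ∈ (S : Subgroup X), ∀ x ∈ (U : Subgroup K), MulAut.conjNormal s x ∈ (U : Subgroup K) :=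
    fun s hs x hx => e.le (mul_mem (mul_mem hs (e.ge hx)) (inv_mem hs))
  have k4 : ¬ K ≤ M := fun h => hM.1 (top_le_iff.1 ((U.normalizer_sup_eq_top).ge.trans (sup_le (k2 _ h2 le_rfl k3) h)))
  refine ⟨(S : Subgroup X).map MulAut.conjNormal, M.subgroupOf K, ⟨S.isPGroup'.map _, ?_, by simpa using k4,
    fun x hx => hSM (e.ge hx), ?_, fun Z h h' h'' x hx => k2 Z h h' (fun s hs => h'' _ ⟨s, hs, rfl⟩) (Subgroup.le_normalizer ⟨x, hx, rfl⟩)⟩,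
    fun h => (k2 _ h2 le_rfl k3).antisymm (fun m hm => ?_) ▸ hM, ?_⟩
  · rintro _ ⟨s, hs, rfl⟩; exact k3 s hs
  · rintro _ ⟨s, hs, rfl⟩ x hx; exact M.mul_mem (M.mul_mem (hSM hs) hx) (M.inv_mem (hSM hs))
  · obtain ⟨k, hk, s, hs, rfl⟩ := Subgroup.mem_sup_of_normal_left.1
      ((by_contra fun h3 => k4 (le_sup_left.trans (k1 _ h3 le_sup_right)) : K ⊔ S = ⊤).ge (Subgroup.mem_top m))
    exact mul_mem (Subgroup.le_normalizer_map _ ⟨⟨k, hk⟩, h ((M.mul_mem_cancel_right (hSM hs)).1 hm), rfl⟩)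
      (k0 _ k3 hs)
  · rintro h _ ⟨s, hs, rfl⟩
    exact ⟨⟨s, h.ge trivial⟩, e.le hs, MulEquiv.ext fun x => Subtype.ext rfl⟩

namespace StData.Twist.IsLie

variable {ι κ κ' : Type*} [Fintype κ] [DecidableEq κ] {R : RootSys ι κ} {F G : Type*} [Field F] [Group G]
  {S : StData R F G} {T : S.Twist κ'} [Finite ι] {G' : Type*} [Group G'] [Finite G'] [Finite F] {j : G' →* G}
  (h : T.IsLie j)
include h

/-- an automorphism normalising `U` permutes the minimal parabolic subgroups -/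
theorem exists_P_perm {α : MulAut G'} (hU : ∀ x, j x ∈ S.U → j (α x) ∈ S.U) (a : κ') :
    ∃ b, ∀ x, j (α x) ∈ S.P (T.J b) ↔ j x ∈ S.P (T.J a) := by
  have hU' : ∀ x, j (α x) ∈ S.U ↔ j x ∈ S.U := perm_iff_of_imp α.toEquiv (P := fun x => j x ∈ S.U) hU
  obtain ⟨u, hu, hV⟩ := h.isTw.exists_conj_V h.good h.inj h.adj hU'
  have h1 : SameTw T T j (j.comp (MulAut.conj u⁻¹ * α).toMonoidHom) := ⟨h.good, h.good, h.inj,
    (h.comp _).inj, h.isTw, (h.comp _).isTw, by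
      ext x; simp [S.U.mul_mem_cancel_right hu, S.U.mul_mem_cancel_left (inv_mem hu), hU'],
    by ext x; simpa using (hV x).symm⟩
  obtain ⟨b, e⟩ := h1.exists_P_eq a
  have hu' := S.B_le_P (T.J b) (S.U_le_B hu)
  exact ⟨b, fun x => by simpa [(S.P _).mul_mem_cancel_right hu', (S.P _).mul_mem_cancel_left (inv_mem hu')] using
    (SetLike.ext_iff.1 e x).symm⟩

omit [Finite G'] [Finite F] in
theorem eq_one_of_mem_P_compl {a : κ'} {g : G} (h1 : g ∈ S.XS (T.ngt a)) (h3 : g ∈ S.P (T.J a)ᶜ) : g = 1 := by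
  have h4 : g ∈ S.P (T.J a) ⊓ S.V ⊓ (S.P (T.J a)ᶜ ⊓ S.V) := ⟨⟨ngt_le_P a h1, ngt_le_V a h1⟩, h3, ngt_le_V a h1⟩
  rw [h.good.P_inf_V, h.good.P_inf_V] at h4
  have h5 := (h.good.XS_inf (R.w0_mem_W Set.univ) (fun s hs => (R.isPos_w0_univ s).2 hs.1)
    (fun s hs => (R.isPos_w0_univ s).2 hs.1) (R.closed_neg.inter (R.closed_sub _))
    (R.closed_neg.inter (R.closed_sub _))).le h4
  rw [Set.eq_empty_of_forall_notMem (s := _ ∩ _) fun r hr => R.rt_ne_zero r (funext fun i => by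
      by_cases hi : i ∈ T.J a
      exacts [hr.2.2 i (not_not.2 hi), hr.1.2 i hi])] at h5
  simpa [XS] using h5

omit [Finite G'] [Finite F] in
theorem exists_mem_P_not_mem (a : κ') : ∃ y, j y ∈ S.P (T.J a) ∧ j y ∉ S.P (T.J a)ᶜ :=
  let ⟨_, ⟨y, e⟩, h1, h2⟩ := h.isTw.exists_ngt a
  ⟨y, e ▸ ngt_le_P a h1, fun h3 => h2 (h.eq_one_of_mem_P_compl h1 (e ▸ h3))⟩

omit [Finite G'] in
theorem card_comap_P (c : κ') :
    Nat.card ((S.P (T.J c)).comap j) = Nat.card (S.B ⊓ j.range : Subgroup G) * (1 + T.cJ c) := by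
  rw [← h.isTw.card_P_J h.good, ← Subgroup.card_map_of_injective (f := j) h.inj, Subgroup.map_comap_eq, inf_comm]

omit [Finite ι] [Finite F] h in
theorem card_B_pos : 0 < Nat.card (S.B ⊓ j.range : Subgroup G) :=
  have : Finite j.range := .of_surjective _ j.rangeRestrict_surjective
  have : Finite (S.B ⊓ j.range : Subgroup G) := .of_injective _ (Subgroup.inclusion_injective inf_le_right)
  Nat.card_pos

omit [Finite G'] [Finite F] in
theorem eq_of_P_le {a b : κ'} (e : ∀ x, j x ∈ S.P (T.J a) → j x ∈ S.P (T.J b)) : a = b := by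
  obtain ⟨y, h1, h2⟩ := h.exists_mem_P_not_mem a
  exact by_contra fun h3 => h2 (S.P_mono (fun i (hi : T.c i = b) (hi' : T.c i = a) => h3 (hi'.symm.trans hi)) (e y h1))

variable {p : ℕ} {A : Subgroup (MulAut G')} {Y : Subgroup G'} (hP : PMin p (S.U.comap j) A Y)
include hP

theorem pMin : Y ≤ Subgroup.normalizer (S.U.comap j : Subgroup G') ∧
    ∀ a b, ∃ α ∈ A, ∀ x, j (α x) ∈ S.P (T.J b) ↔ j x ∈ S.P (T.J a) := by
  have k1 : ∀ c, ¬ (S.P (T.J c)).comap j ≤ Y → ∀ d, ∃ α ∈ A, ∀ x, j (α x) ∈ S.P (T.J d) ↔ j x ∈ S.P (T.J c) :=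
    fun c hc d => by_contra fun hd => hc fun x hx => by
      let Z := Subgroup.closure {y | ∃ α ∈ A, ∃ x, j x ∈ S.P (T.J c) ∧ α x = y}
      refine hP.le Z (fun e => ?_) (fun u hu => Subgroup.subset_closure ⟨1, one_mem _, u, S.B_le_P _ (S.U_le_B hu), rfl⟩)
        (fun α hα y hy => (Subgroup.closure_le (Z.comap α.toMonoidHom)).2 ?_ hy)
        (Subgroup.subset_closure ⟨1, one_mem _, x, hx, rfl⟩)
      · obtain ⟨y, -, hy⟩ := h.exists_mem_P_not_mem d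
        refine hy ((Subgroup.closure_le ((S.P (T.J d)ᶜ).comap j)).2 ?_ (e.ge trivial))
        rintro _ ⟨α, hα, x, hx, rfl⟩
        obtain ⟨b, hb⟩ := h.exists_P_perm (hP.mapU α hα) c
        exact S.P_mono (fun i (hi : T.c i = b) (hi' : T.c i = d) => hd ⟨α, hα, hi.symm.trans hi' ▸ hb⟩) ((hb x).2 hx)
      · rintro _ ⟨β, hβ, x, hx, rfl⟩
        exact Subgroup.subset_closure ⟨α * β, mul_mem hα hβ, x, hx, rfl⟩
  have hne : ¬ j.range ≤ Y.map j := fun e => hP.ne_top (eq_top_iff.2 fun x _ =>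
    (Subgroup.mem_map_iff_mem h.inj).1 (e ⟨x, rfl⟩))
  obtain ⟨c, hc⟩ : ∃ c, ¬ (S.P (T.J c)).comap j ≤ Y := not_forall.1 fun e => hne (h.isTw.le_of_orbits h.good h.gen
    (by rintro a _ ⟨hx, x, rfl⟩; exact ⟨x, e a (S.B_le_P _ (S.U_le_B (pos_le_U a hx))), rfl⟩)
    (by rintro a _ ⟨hx, x, rfl⟩; exact ⟨x, e a (ngt_le_P a hx), rfl⟩))
  have k2 : ∀ a, ¬ (S.P (T.J a)).comap j ≤ Y := fun a e => hc fun x hx => by
    obtain ⟨α, hα, h1⟩ := k1 c hc a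
    simpa using hP.mapY _ (inv_mem hα) _ (e ((h1 x).2 hx))
  have hB : S.B.comap j ≤ Y := by
    obtain ⟨y, h1, h2⟩ := h.exists_mem_P_not_mem c
    refine hP.le _ (fun e => h2 (S.B_le_P _ (e.ge trivial))) (Subgroup.comap_mono S.U_le_B) fun α hα x hx => ?_
    rw [← h.isTw.normalizer_comap_U h.good] at hx ⊢
    refine Subgroup.mem_normalizer_fintype fun u hu => ?_
    simpa using hP.mapU α hα _ ((Subgroup.mem_normalizer_iff.1 hx _).1 (hP.mapU _ (inv_mem hα) u hu))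
  have hU : ∀ a, ∀ u ∈ S.U ⊓ j.range, ∃ v ∈ S.U ⊓ j.range ⊓ ⊤, ∃ z ∈ S.UJ (T.J a), u = v * z :=
    fun a u hu => ⟨u, ⟨hu, trivial⟩, 1, one_mem _, by simp⟩
  have hY : S.U ⊓ j.range ⊓ ⊤ ≤ Y.map j := by
    rintro _ ⟨⟨hu, u, rfl⟩, -⟩; exact ⟨u, hB (S.U_le_B hu), rfl⟩
  refine ⟨fun y hy => ?_, fun a b => k1 a (k2 a) b⟩
  rw [h.isTw.normalizer_comap_U h.good, ← S.P_empty]
  refine S.P_mono ?_ (h.isTw.le_P_of_le h.good (K := ⊤) (fun _ _ _ _ => trivial) hU (fun a => ?_) hY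
    (Subgroup.map_le_range _ _) ⟨y, hy, rfl⟩)
  · rintro i ⟨m, hm, h1, h2⟩
    refine k2 (T.c i) fun x hx => ?_
    obtain ⟨_, ⟨z, hz, rfl⟩, -, b, hb, e⟩ := h.isTw.exists_mul_B h.good hU hY ⟨hm, Subgroup.map_le_range _ _ hm⟩
      h1 h2 ⟨x, rfl⟩ hx
    simpa using Y.mul_mem hz (hB (x := z⁻¹ * x) (by simpa [e] using hb))
  · obtain ⟨y, h1, h2⟩ := h.isTw.exists_ngt a
    exact ⟨y, ⟨h1, trivial⟩, h2⟩

omit hP in
theorem cJ_eq_of_perm {α : MulAut G'} {a b : κ'} (e : ∀ x, j (α x) ∈ S.P (T.J b) ↔ j x ∈ S.P (T.J a)) :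
    T.cJ a = T.cJ b :=
  Nat.add_left_cancel (Nat.eq_of_mul_eq_mul_left card_B_pos ((h.card_comap_P a).symm.trans
    ((Nat.card_congr (α.toEquiv.subtypeEquiv fun x => (e x).symm)).trans (h.card_comap_P b))))

theorem two_of_perm [Fact p.Prime] {a b : κ'} (hab : a ≠ b) (h2 : ∀ c, c = a ∨ c = b) :
    p = 2 ∧ ¬ ∀ α ∈ A, ∃ u ∈ S.U.comap j, α = MulAut.conj u := by
  obtain ⟨α, hα, e⟩ := (h.pMin hP).2 a b
  refine ⟨by_contra fun hp => hab (h.eq_of_P_le fun x hx => ?_), fun h3 => hab (h.eq_of_P_le fun x hx => ?_)⟩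
  · obtain ⟨c, e'⟩ := h.exists_P_perm (hP.mapU α hα) b
    obtain rfl : c = a := (h2 c).resolve_right fun h3 =>
      hab (h.eq_of_P_le fun x hx => (e' x).1 (h3 ▸ (e x).2 hx))
    obtain ⟨k, hk⟩ := hP.pg ⟨α, hα⟩
    obtain ⟨m, hm⟩ := ((Fact.out : p.Prime).odd_of_ne_two hp).pow (n := k)
    have h4 : ∀ n, j (((α * α) ^ n) x) ∈ S.P (T.J c) := fun n => by
      induction n with
      | zero => exact hx
      | succ n ih => rw [pow_succ']; exact (e' _).2 ((e _).2 ih)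
    have h5 := (e _).2 (h4 m)
    rwa [← MulAut.mul_apply, ← sq, ← pow_mul, ← pow_succ', ← hm, show α ^ p ^ k = 1 from congrArg Subtype.val hk] at h5
  · obtain ⟨u, hu, rfl⟩ := h3 α hα
    have hu' := S.B_le_P (T.J b) (S.U_le_B hu)
    simpa [(S.P _).mul_mem_cancel_right (inv_mem hu'), (S.P _).mul_mem_cancel_left hu'] using (e x).2 hx

end StData.Twist.IsLie

namespace StData

variable {ι κ κ' : Type*} [Fintype κ] [DecidableEq κ] {R : RootSys ι κ} {F G : Type*} [Field F] [Group G]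
  {S : StData R F G} [Finite ι] [Finite F]

theorem Twist.IsQS.lt_cJ {T : S.Twist κ'} {s : F →+* F} (h : T.IsQS s) (hS : S.Good) {i : κ} (hi : i ≠ T.π i)
    (h1 : R.A i (T.π i) = -1) (h2 : R.A (T.π i) i = -1) : Nat.card F < T.cJ (T.c i) := by
  obtain ⟨k, ε, hε, hp, hL, -, -, e⟩ := h.exists_A2 hS hi h1 h2
  choose v hv using fun t => Twist.exists_trace_eq h.ss h.s_ne (c := -(ε * t * s t)) (by
    rcases hε with rfl | rfl <;> simp [h.ss, mul_comm])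
  obtain ⟨w, hw⟩ := h.s_ne
  have : Finite (S.XS (T.pos (T.c i)) ⊓ T.Fix : Subgroup G) := .of_surjective
    (fun t : {t : F × F // t.2 + s t.2 = -(ε * t.1 * s t.1)} => ⟨_, (e _).2 ⟨_, _, t.2, rfl⟩⟩)
    fun g => let ⟨t, u, h3, h4⟩ := (e _).1 g.2; ⟨⟨(t, u), h3⟩, Subtype.ext h4.symm⟩
  have key : ∀ t u t' u', S.x (R.simple i) t * S.x (R.simple (T.π i)) (s t) * S.x k u =
      S.x (R.simple i) t' * S.x (R.simple (T.π i)) (s t') * S.x k u' → t = t' ∧ u = u' := fun t u t' u' h3 => by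
    have h4 := hS.zip_inj (fun _ h => h.1) (T.closed_pos _) hL (by
      simp [R.simple_injective.eq_iff, hi, (hp.isComb.ne_left hp.ne_neg).symm, (hp.isComb.ne_right hp.ne_neg).symm])
      (ts := [_, _, _]) (ts' := [_, _, _]) rfl rfl (by simpa [mul_assoc] using h3)
    simp only [List.cons.injEq, and_true] at h4
    exact ⟨h4.1, h4.2.2⟩
  have := Fintype.ofFinite F
  have := Fintype.ofFinite (S.XS (T.pos (T.c i)) ⊓ T.Fix : Subgroup G)
  rw [Twist.cJ, Nat.card_eq_fintype_card, Nat.card_eq_fintype_card]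
  refine Fintype.card_lt_of_injective_of_notMem
    (fun t => (⟨_, (e _).2 ⟨t, v t, hv t, rfl⟩⟩ : (S.XS (T.pos (T.c i)) ⊓ T.Fix : Subgroup G)))
    (fun t t' h3 => (key _ _ _ _ (congrArg Subtype.val h3)).1)
    (b := ⟨_, (e _).2 ⟨0, v 0 + (s w - w), by rw [← hv 0]; simp [h.ss]; ring, rfl⟩⟩) ?_
  rintro ⟨t, h3⟩
  obtain ⟨rfl, h4⟩ := key _ _ _ _ (congrArg Subtype.val h3)
  exact hw (by linear_combination -h4)

omit [Finite ι] in
theorem Twist.IsQS.cJ_lt {T : S.Twist κ'} {s : F →+* F} (h : T.IsQS s) (hS : S.Good) {i : κ} (hi : T.π i = i) :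
    T.cJ (T.c i) < Nat.card F := by
  obtain ⟨w, hw⟩ := h.s_ne
  rw [T.cJ_one hS (h.J_fix hi), h.f_eq]
  exact Finite.card_subtype_lt hw

theorem Twist.IsQS.cJ_ne {T : S.Twist κ'} {s : F →+* F} (h : T.IsQS s) (hS : S.Good) {i k : κ} (hi : i ≠ T.π i)
    (h1 : R.A i (T.π i) = 0) (h2 : k ≠ T.π k → R.A k (T.π k) ≠ 0) : T.cJ (T.c i) ≠ T.cJ (T.c k) := by
  rw [T.cJ_two hS (h.J_eq i) hi h1 rfl (h.ππ i) (by simp [h.f_eq, h.ss])]
  rcases h.cases k with h3 | ⟨h3, h4⟩ | ⟨h3, h4, h5⟩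
  exacts [(h.cJ_lt hS h3).ne', absurd h4 (h2 h3), (h.lt_cJ hS h3 h4 h5).ne]

theorem exists_mem_Sym {G' : Type*} [Group G'] [Finite G'] {j : G' →* G} (h : S.trivTw.IsLie j) {α : MulAut G'}
    (hU : ∀ x, j x ∈ S.U → j (α x) ∈ S.U) {a b : κ}
    (e : ∀ x, j (α x) ∈ S.P (S.trivTw.J b) ↔ j x ∈ S.P (S.trivTw.J a)) : ∃ π ∈ S.Sym, π a = b := by
  have : Fact (ringChar F).Prime := ⟨CharP.char_is_prime F _⟩
  have hj : Function.Surjective j := MonoidHom.range_eq_top.1 (top_le_iff.1 (h.top.ge.trans (S.XS_le_iff.2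
    fun r _ t => by
      by_cases hr : R.IsPos r
      exacts [h.isTw.U_le h.good ⟨S.x_mem_XS hr t, rfl⟩,
        (h.isTw.opp h.good).U_le h.good.opp ⟨S.opp_U.ge (S.x_mem_XS hr t), rfl⟩])))
  have : Finite G := .of_surjective j hj
  let ψ := MulEquiv.ofBijective j ⟨h.inj, hj⟩
  obtain ⟨g, θ, ⟨π, c, φ, hθ⟩, e'⟩ := h.good.exists_conj_mul h.top (h.good.not_dvd_card_H (p := ringChar F) h.adj)
    (MulAut.congr ψ α)
  have k1 : ∀ x, j (α x) = g * θ (j x) * g⁻¹ := fun x =>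
    (show ψ (α x) = g * θ (ψ x) * g⁻¹ by simpa using DFunLike.congr_fun e' (ψ x))
  obtain ⟨g, rfl⟩ := hj g
  have hg : j g ∈ S.B := (h.isTw.normalizer_comap_U h.good).le (Subgroup.mem_normalizer_fintype fun u hu => by
    obtain ⟨y, hy, e⟩ := (hθ.map_U h.good).ge hu
    obtain ⟨y, rfl⟩ := hj y
    simpa [k1, ← e] using hU y hy)
  refine ⟨π, ⟨θ, c, φ, hθ⟩, h.eq_of_P_le fun x hx => ?_⟩
  rw [S.P_eq] at hx
  refine sup_le (S.H_le_B.trans (S.B_le_P _)) (S.XS_le_iff.2 fun r hr t => ?_) hx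
  by_cases h1 : R.IsPos r
  · exact S.B_le_P _ (S.U_le_B (S.x_mem_XS h1 t))
  obtain rfl : r = R.neg (R.simple (π a)) :=
    (R.mem_sub_singleton.1 (hr.resolve_left h1)).resolve_left fun e => h1 (e ▸ R.isPos_simple _)
  obtain ⟨y, hy⟩ := hj (S.x (R.neg (R.simple a)) ((φ a).symm (c a * t)))
  have h2 := (e y).2 (hy ▸ Twist.ngt_le_P a (S.x_mem_XS (S.trivTw.neg_mem_ngt.2 (S.trivTw.simple_mem_pos rfl)) _))
  have hg' := S.B_le_P (S.trivTw.J b) hg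
  simpa [k1, hy, hθ.neg, hθ.c_ne, (S.P _).mul_mem_cancel_right (inv_mem hg'), (S.P _).mul_mem_cancel_left hg'] using h2

omit [Finite F] in
theorem Good.not_trans {m : ℕ} {R : RootSys ι (Fin m)} {S : StData R F G} (hS : S.Good) (hm : 3 ≤ m)
    (h : ∀ i j : Fin m, (i : ℕ) = 0 ∨ (i : ℕ) = 1 ∧ (j : ℕ) ≤ 2 → (R.A i j = 0 ↔ Cl.chainA i j = 0)) :
    ¬ ∀ a b, ∃ π ∈ S.Sym, π a = b := fun h0 => by
  have ex : ∀ n, n < 3 → ∃ a : Fin m, (a : ℕ) = n := fun n hn => ⟨⟨n, by omega⟩, rfl⟩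
  obtain ⟨⟨a, ha⟩, ⟨b, hb⟩, c, hc⟩ := And.intro (ex 0 (by decide)) (And.intro (ex 1 (by decide)) (ex 2 (by decide)))
  obtain ⟨π, ⟨θ, c', φ, hθ⟩, rfl⟩ := h0 a b
  have key : ∀ k : Fin m, (k : ℕ) = 0 ∨ (k : ℕ) = 2 → (π⁻¹ k : ℕ) = 1 := fun k hk => by
    have h1 := hθ.bonds hS a (π⁻¹ k)
    have h4 : (π⁻¹ k : ℕ) ≠ 0 := fun h4 => by
      have := congrArg (fun i => (π i : ℕ)) (Fin.ext (h4.trans ha.symm))
      simp only [RootSys.perm_apply_inv] at this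
      omega
    by_contra h5
    rw [RootSys.perm_apply_inv, (h a _ (.inl ha)).2 (by simp only [Cl.chainA]; split_ifs <;> omega), zero_mul,
      mul_eq_zero, R.A_eq_zero_comm k, or_self, h _ k (.inr ⟨hb, by omega⟩), Cl.chainA] at h1
    split_ifs at h1 <;> omega
  have := congrArg Fin.val (π⁻¹.injective (Fin.ext ((key a (.inl ha)).trans (key c (.inr hc)).symm)))
  omega

variable {K : Type*} [Group K] [Finite K] {p : ℕ} [Fact p.Prime] [CharP F p] {U : Sylow p K}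
  {A : Subgroup (MulAut K)} {Y : Subgroup K} (hP : PMin p (U : Subgroup K) A Y) {j : K →* G}
include hP

theorem pMin_cJ {T : S.Twist κ'} (h : T.IsLie j) (a b : κ') : T.cJ a = T.cJ b := by
  obtain ⟨j, h, e⟩ := h.exists_sylow U
  obtain ⟨α, -, hα⟩ := (h.pMin (e ▸ hP)).2 a b
  exact h.cJ_eq_of_perm hα

theorem pMin_Sym (h : S.trivTw.IsLie j) (a b : κ) : ∃ π ∈ S.Sym, π a = b := by
  obtain ⟨j, h, e⟩ := h.exists_sylow U
  obtain ⟨α, h1, hα⟩ := (h.pMin (e ▸ hP)).2 a b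
  exact exists_mem_Sym h (fun x hx => e.ge (hP.mapU α h1 x (e.le hx))) hα

theorem pMin_two {T : S.Twist (Fin 2)} (h : T.IsLie j) :
    p = 2 ∧ ¬ ∀ α ∈ A, ∃ u ∈ (U : Subgroup K), α = MulAut.conj u := by
  obtain ⟨j, h, e⟩ := h.exists_sylow U
  exact e ▸ h.two_of_perm (e ▸ hP) (a := 0) (b := 1) (by decide) (by decide)

end StData

open Cfsg.Lie Cl StData in
theorem pMin_lieType {K : Type*} [Group K] [Finite K] {p : ℕ} [Fact p.Prime] (h : IsLieTypeChar p K) {U : Sylow p K}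
    {A : Subgroup (MulAut K)} {Y : Subgroup K} (hP : PMin p (U : Subgroup K) A Y) : IsLieRankOneChar p K ∨
      (p = 2 ∧ (¬ ∀ α ∈ A, ∃ u ∈ (U : Subgroup K), α = MulAut.conj u) ∧
        ((∃ (F : Type) (_ : Field F) (_ : Fintype F) (_ : CharP F 2),
          Nonempty (K ≃* Matrix.ProjectiveSpecialLinearGroup (Fin 3) F)) ∨
        ∃ (F : Type) (_ : Field F) (_ : Fintype F) (_ : CharP F 2), 4 ≤ Fintype.card F ∧ Nonempty (K ≃* PSp 2 F))) := by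
  have hpow : ∀ {a m n : ℕ}, 2 ≤ a → m < n → a ^ m ≠ a ^ n := fun ha h => (Nat.pow_lt_pow_right ha h).ne
  rcases h with ⟨F, i1, i2, i3, n, hn, h4, ⟨e⟩⟩ | ⟨F, i1, i2, i3, n, hn, h4, ⟨e⟩⟩ |
    ⟨F, i1, i2, i3, n, q, hF, hn, h, ⟨e⟩⟩ |
    ⟨F, _, _, _, n, hn, hF, ⟨e⟩⟩ | ⟨F, _, _, _, n, hn, ⟨e⟩⟩ | ⟨F, _, _, _, n, a, b, hn, hab, ⟨e⟩⟩ |
    ⟨F, _, _, _, h⟩ | ⟨F, _, _, _, q, hq, ⟨hF, ⟨e⟩⟩ | ⟨hF, ⟨e⟩⟩⟩ | h |
    ⟨rfl, F, _, _, m, hm, hF, ⟨e⟩⟩ | ⟨hp, h⟩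
  · obtain rfl | rfl | ⟨n, rfl⟩ : n = 2 ∨ n = 3 ∨ ∃ k, n = k + 3 + 1 := by
      rcases n with _ | _ | _ | _ | n <;> simp at hn ⊢
    · exact .inl (.inl ⟨F, i1, i2, i3, h4 rfl, ⟨e⟩⟩)
    · obtain ⟨rfl, h1⟩ := pMin_two hP ((isLie_PSL F 2).comp e)
      exact .inr ⟨rfl, h1, .inl ⟨F, i1, i2, i3, ⟨e⟩⟩⟩
    · refine absurd (pMin_Sym hP ((isLie_PSL F (n + 3)).comp e)) ((pslSt_good F _).not_trans (by omega) fun i j h => ?_)
      rw [baseA_A]
  · obtain rfl | ⟨n, rfl⟩ : n = 2 ∨ ∃ k, n = k + 2 + 1 := by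
      rcases n with _ | _ | _ | n <;> simp at hn ⊢
    · obtain ⟨rfl, h1⟩ := pMin_two hP ((isLie_PSp F 1).comp e)
      obtain ⟨k, -, hk⟩ := FiniteField.card F 2
      refine .inr ⟨rfl, h1, .inr ⟨F, i1, i2, i3, ?_, ⟨e⟩⟩⟩
      have := (Nat.even_pow' k.ne_zero).2 even_two
      have := h4 rfl
      rw [← hk, Nat.even_iff] at *
      omega
    · refine absurd (pMin_Sym hP ((isLie_PSp F (n + 2)).comp e)) ((pspSt_good F _).not_trans (by omega) fun i j h => ?_)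
      simp only [baseC_A, chainA]; split_ifs <;> first | omega | simp
  · obtain rfl | ⟨n, rfl⟩ : n = 3 ∨ ∃ k, n = k + 3 + 1 := by
      rcases n with _ | _ | _ | _ | n <;> simp at hn ⊢
    · exact .inl (.inr (.inl ⟨F, i1, i2, i3, q, hF, by simpa using h, ⟨e⟩⟩))
    · obtain ⟨j, hj⟩ := isLie_PSU hF (n := n + 3) (by omega) (by omega)
      refine absurd (pMin_cJ hP (hj.comp e) _ _) ((psuTw_QS hF _).cJ_ne (pslSt_good F _) (i := ⟨0, by omega⟩)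
        (k := ⟨(n + 3) / 2, by omega⟩) ?_ ?_ ?_) <;>
      simp [psuTw_π, baseA_A, chainA, Fin.ext_iff]
      omega
  · obtain ⟨n, rfl⟩ : ∃ k, n = k + 2 + 1 := ⟨n - 3, by omega⟩
    have h1 : ∃ a : F, a ≠ 0 ∧ a ≠ 1 := ⟨-1, by simp, fun h => FGL.two_ne_zero_of_odd hF (by linear_combination -h)⟩
    refine absurd (pMin_Sym hP ((isLie_odd (n := n + 2) (by omega) h1).comp e))
      ((pomOddSt_good _ h1).not_trans (by omega) fun i j h => ?_)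
    simp only [baseB_A, chainA]; split_ifs <;> first | omega | simp
  · obtain ⟨n, rfl⟩ : ∃ k, n = k + 2 + 2 := ⟨n - 4, by omega⟩
    refine absurd (pMin_Sym hP ((isLie_plus F (n := n + 2) (by omega)).comp e))
      ((pomPlusSt_good F _).not_trans (by omega) fun i j h => ?_)
    simp only [baseD_A, chainA]; split_ifs <;> first | omega | simp
  · obtain ⟨n, rfl⟩ : ∃ k, n = k + 1 + 1 + 2 := ⟨n - 4, by omega⟩
    obtain ⟨K, _, _, f, hK, ω, h⟩ := exists_qSplit hab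
    have := charP_of_injective_ringHom f.injective p
    obtain ⟨j, hj⟩ := isLie_minus h hab (n := n + 2) (by omega) (by omega)
    refine absurd (pMin_cJ hP (hj.comp e) _ _) ((h.ptw_QS _).cJ_ne (h.pst_good _) (i := Fin.last _)
      (k := ⟨0, by omega⟩) ?_ ?_ ?_) <;>
    simp [h.ptw_π, baseD_A, chainA, Fin.ext_iff, dSwap_val]
  · rcases h with ⟨h3, ⟨e⟩⟩ | ⟨⟨e⟩⟩ | ⟨⟨e⟩⟩ | ⟨⟨e⟩⟩ | ⟨⟨e⟩⟩
    · obtain ⟨rfl, -⟩ := pMin_two hP ((isLie_chev F chevG2).comp e)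
      obtain ⟨π, h1, h2⟩ := pMin_Sym hP ((isLie_chev F chevG2).comp e) (0 : Fin 2) (1 : Fin 2)
      obtain ⟨a, ha⟩ := not_forall.1 fun h : Function.Surjective ![(0 : F), 1] =>
        absurd (Fintype.card_le_of_surjective _ h) (by simp; omega)
      rw [Subgroup.eq_bot_of_card_eq _ (card_Sym_G2 2 ⟨a, fun e => ha ⟨0, e.symm⟩, fun e => ha ⟨1, e.symm⟩⟩),
        Subgroup.mem_bot] at h1
      exact absurd (congrArg Fin.val (h1 ▸ h2)) (by decide)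
    · obtain ⟨π, h1, h2⟩ := pMin_Sym hP ((isLie_chev F _).comp e) (0 : Fin 4) (1 : Fin 4)
      rcases sym_F4 (isDiagramSymmetry_of_mem_Sym h1) with rfl | rfl <;> exact absurd (congrArg Fin.val h2) (by decide)
    · obtain ⟨π, h1, h2⟩ := pMin_Sym hP ((isLie_chev F _).comp e) (0 : Fin 6) (1 : Fin 6)
      rcases sym_E6 (isDiagramSymmetry_of_mem_Sym h1) with rfl | rfl <;> exact absurd (congrArg Fin.val h2) (by decide)
    · obtain ⟨π, h1, h2⟩ := pMin_Sym hP ((isLie_chev F _).comp e) (0 : Fin 7) (1 : Fin 7)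
      exact absurd (congrArg Fin.val (sym_E7 (isDiagramSymmetry_of_mem_Sym h1) ▸ h2)) (by decide)
    · obtain ⟨π, h1, h2⟩ := pMin_Sym hP ((isLie_chev F _).comp e) (0 : Fin 8) (1 : Fin 8)
      exact absurd (congrArg Fin.val (sym_E8 (isDiagramSymmetry_of_mem_Sym h1) ▸ h2)) (by decide)
  · obtain ⟨T, h, hj⟩ := isLie_2E6 hq (Nat.card_eq_fintype_card.trans hF)
    exact hpow (m := 1) h.two_le one_lt_two ((pow_one q).trans ((h.cJ_eq stG_good 0).symm.trans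
      ((pMin_cJ hP (hj.comp e) 0 2).trans (h.cJ_eq stG_good 2)))) |>.elim
  · obtain ⟨T, h, hj⟩ := isLie_3D4 hq (Nat.card_eq_fintype_card.trans hF)
    exact hpow (m := 1) (n := 3) h.two_le (by decide) ((pow_one q).trans ((h.cJ_eq stG_good 1).symm.trans
      ((pMin_cJ hP (hj.comp e) 1 0).trans (h.cJ_eq stG_good 0)))) |>.elim
  · exact .inl (.inr (.inr (.inl h)))
  · obtain ⟨T, θ, h, hj⟩ := isLie_2F4 (Nat.card_eq_fintype_card.trans hF)
    have := h.charP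
    exact hpow (m := 1) (Nat.one_lt_two_pow (by omega)) one_lt_two ((pow_one _).trans ((h.cJ_eq stG_good 0).symm.trans
      ((pMin_cJ hP (hj.comp e) 0 1).trans (h.cJ_eq stG_good 1)))) |>.elim
  · exact .inl (.inr (.inr (.inr ⟨hp, .inl h⟩)))

end CL.Chev
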