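/-
`p`-minimal groups over the derived groups `Sp₄(2)'`, `G₂(2)'`, `²G₂(3)'`, `²F₄(2)'`.
-/
import Cfsg.Agent.CHEV.PMin
import Cfsg.Agent.FGS.CITSpec
import Cfsg.Agent.S5057

set_option autoImplicit false

namespace CL.Chev

open Cfsg CL.MSS

section General

variable {K : Type*} [Group K] [Finite K] {p : ℕ} [Fact p.Prime]

omit [Finite K] [Fact p.Prime] in
theorem mem_sylow_of_commute {k b : ℕ} (h : ∀ g : K, g ^ p ^ k = 1 ∨ g ^ b = 1) (hb : (p ^ k).Coprime b) (U : Sylow p K)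
    {x g : K} (hx : x ^ p ^ k = 1) (h1 : x ≠ 1) (hU : ∀ u ∈ (U : Subgroup K), u * x = x * u) (hg : g * x = x * g) :
    g ∈ (U : Subgroup K) := by
  refine (U.is_maximal' (Q := Subgroup.centralizer {x}) (fun ⟨g, hg⟩ => ⟨k, Subtype.ext ?_⟩)
    fun u hu => Subgroup.mem_centralizer_singleton_iff.2 (hU u hu)).le (Subgroup.mem_centralizer_singleton_iff.2 hg)
  have hc : Commute g x := Subgroup.mem_centralizer_singleton_iff.1 hg
  by_contra h2
  rcases h (g * x) with h3 | h3 <;> rw [hc.mul_pow] at h3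
  · exact h2 (by simpa [hx] using h3)
  · rw [(h g).resolve_left h2, one_mul] at h3
    exact h1 ((pow_eq_one_iff_of_coprime hb).1 ⟨hx, h3⟩)

theorem exists_conj_mem_iff (U : Sylow p K) {Q : Subgroup K} (hQ : Nat.card Q = p ^ (Nat.card K).factorization p) :
    ∃ g : K, ∀ x, x ∈ (U : Subgroup K) ↔ MulAut.conj g x ∈ Q := by
  obtain ⟨g, e⟩ := MulAction.exists_smul_eq K (Sylow.ofCard Q hQ) U
  exact ⟨g⁻¹, fun x => by rw [← e, map_inv]; exact Subgroup.mem_pointwise_smul_iff_inv_smul_mem⟩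

variable {U : Sylow p K} {A : Subgroup (MulAut K)} {Y : Subgroup K} (hP : PMin p (U : Subgroup K) A Y)
include hP

theorem PMin.not_dvd_index : ¬ p ∣ Y.index := fun h => U.not_dvd_index (h.trans (Subgroup.index_dvd_of_le hP.U_le))

omit [Fact p.Prime] in
theorem PMin.exists_core (h : pCore p Y ≠ ⊥) : ∃ x ≠ 1, ∀ y ∈ Y, y * x * y⁻¹ ∈ (U : Subgroup K) :=
  let ⟨⟨x, hx⟩, h1⟩ := (Subgroup.ne_bot_iff_exists_ne_one).1 h
  ⟨x, fun e => h1 (Subtype.ext (Subtype.ext e)), fun y hy => (isPGroup_pCore p Y).le_sylow_of_normal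
    (U.subtype hP.U_le) (Subgroup.Normal.conj_mem inferInstance x hx ⟨y, hy⟩)⟩

omit [Fact p.Prime] in
theorem PMin.mem_of_normalizes [IsSimpleGroup K] {S : Set K} (h1 : S ⊆ U) (h2 : ∃ x ∈ S, x ≠ 1)
    (h3 : ∀ α ∈ A, ∀ x ∈ S, α x ∈ S) (h4 : ∀ u ∈ (U : Subgroup K), ∀ x ∈ S, u * x * u⁻¹ ∈ S) {g : K}
    (hg : ∀ x ∈ S, g * x * g⁻¹ ∈ S) : g ∈ Y := by
  refine hP.le (Subgroup.normalizer S) (fun e => ?_) (fun u hu => Subgroup.mem_normalizer_fintype (h4 u hu))
    (fun α hα g hg => Subgroup.mem_normalizer_fintype fun x hx => ?_) (Subgroup.mem_normalizer_fintype hg)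
  · obtain ⟨x, hx, h5⟩ := h2
    rcases (Subgroup.normalClosure_normal (s := S)).eq_bot_or_eq_top with h6 | h6
    · exact h5 (Subgroup.mem_bot.1 (h6 ▸ Subgroup.subset_normalClosure hx))
    · refine hP.ne_top (top_le_iff.1 (h6.ge.trans (((Subgroup.closure_le _).2 fun y hy => ?_).trans hP.U_le)))
      obtain ⟨z, hz, hy⟩ := Group.mem_conjugatesOfSet_iff.1 hy
      obtain ⟨c, rfl⟩ := isConj_iff.1 hy
      exact h1 ((e.ge trivial z).1 hz)
  · simpa using h3 α hα _ ((hg _).1 (h3 _ (inv_mem hα) x hx))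

omit [Fact p.Prime] in
theorem PMin.mem_of_pow [IsSimpleGroup K] (m n : ℕ) (h2 : ∃ u ∈ (U : Subgroup K), u ^ m = 1 ∧ u ^ n ≠ 1) {g : K}
    (hg : ∀ u ∈ (U : Subgroup K), u ^ m = 1 → ∃ v ∈ (U : Subgroup K), v ^ m = 1 ∧ g * u ^ n = v ^ n * g) : g ∈ Y := by
  refine hP.mem_of_normalizes (S := {x | ∃ u ∈ (U : Subgroup K), u ^ m = 1 ∧ u ^ n = x}) ?_ ?_ ?_ ?_ ?_
  · rintro _ ⟨u, hu, -, rfl⟩; exact pow_mem hu n
  · obtain ⟨u, hu, h1, h2⟩ := h2; exact ⟨_, ⟨u, hu, h1, rfl⟩, h2⟩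
  · rintro α hα _ ⟨u, hu, h1, rfl⟩; exact ⟨α u, hP.mapU α hα u hu, by rw [← map_pow, h1, map_one], (map_pow _ _ _).symm⟩
  · rintro w hw _ ⟨u, hu, h1, rfl⟩
    exact ⟨w * u * w⁻¹, mul_mem (mul_mem hw hu) (inv_mem hw), by simp [h1], conj_pow⟩
  · rintro _ ⟨u, hu, h1, rfl⟩
    obtain ⟨v, hv, h3, h4⟩ := hg u hu h1
    exact ⟨v, hv, h3, eq_mul_inv_of_mul_eq h4.symm⟩

omit [Fact p.Prime] in
theorem PMin.mem_of_commute [IsSimpleGroup K] {c g : K} (hc : c ∈ (U : Subgroup K)) (h1 : c ≠ 1)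
    (h2 : ∀ α ∈ A, ∃ u ∈ (U : Subgroup K), u * α c * u⁻¹ = c)
    (h3 : ∀ u, u ∈ (U : Subgroup K) ∨ u = g → ∀ w ∈ (U : Subgroup K), w * c = c * w →
      u * w * u⁻¹ ∈ (U : Subgroup K) ∧ u * w * u⁻¹ * c = c * (u * w * u⁻¹)) : g ∈ Y := by
  refine hP.mem_of_normalizes (S := {w | w ∈ (U : Subgroup K) ∧ w * c = c * w}) (fun _ h => h.1) ⟨c, ⟨hc, rfl⟩, h1⟩
    (fun α hα w hw => ?_) (fun u hu w hw => h3 u (.inl hu) w hw.1 hw.2) fun w hw => h3 g (.inr rfl) w hw.1 hw.2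
  obtain ⟨u, hu, e⟩ := h2 α hα
  have h4 := h3 _ (.inl (inv_mem hu)) _ (mul_mem (mul_mem hu (hP.mapU α hα w hw.1)) (inv_mem hu)) (by
    rw [← e]; simpa [mul_assoc] using congrArg (fun z => α z * u⁻¹) hw.2)
  simpa [mul_assoc] using h4

end General

theorem pMin_L28 {K F : Type*} [Group K] [Finite K] [Field F] [Fintype F] (hF : Fintype.card F = 8)
    (e : K ≃* Matrix.ProjectiveSpecialLinearGroup (Fin 2) F) {U : Sylow 3 K} {A : Subgroup (MulAut K)} {Y : Subgroup K}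
    (hP : PMin 3 (U : Subgroup K) A Y) : Y ≤ Subgroup.normalizer (U : Set K) := by
  obtain ⟨_, hc⟩ := facts_L28 hF e
  obtain ⟨x, h1, h2⟩ := hP.exists_core fun h => hP.ne_top (eq_top_504 hc h hP.not_dvd_index)
  have h3 : Nat.card (U : Subgroup K) = 3 ^ 2 := by rw [U.card_eq_multiplicity, hc]; decide +kernel
  have h4 : ∀ u ∈ (U : Subgroup K), ∀ v ∈ (U : Subgroup K), u * v = v * u := fun u hu v hv =>
    congrArg Subtype.val ((IsPGroup.isMulCommutative_of_card_eq_prime_sq h3).is_comm.comm ⟨u, hu⟩ ⟨v, hv⟩)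
  have h5 : x ∈ (U : Subgroup K) := by simpa using h2 1 (one_mem _)
  refine fun y hy => Subgroup.mem_normalizer_fintype fun u hu => mem_sylow_of_commute (k := 2) (b := 14) (fun g => ?_)
    (by decide) U (congrArg Subtype.val (h3 ▸ pow_card_eq_one' (x := (⟨x, h5⟩ : (U : Subgroup K))))) h1
    (fun u hu => h4 u hu x h5) ?_
  · simp only [← orderOf_dvd_iff_pow_eq_one]
    rcases (CL.CITC.spec_psl2_even (n := 3) (by decide) hF e _).1 ⟨g, rfl⟩ with h | h | h
    exacts [.inr (h.trans (by decide)), .inr (h.trans (by decide)), .inl h]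
  · have := congrArg (fun z => y * z * y⁻¹) (h4 u hu _ (h2 _ (inv_mem hy)))
    simpa [mul_assoc] using this

theorem StData.Twist.IsLie.not_pMin_two {ι κ : Type*} [Fintype κ] [DecidableEq κ] {R : RootSys ι κ} {F Γ G : Type*}
    [Field F] [Group Γ] [Group G] {D : StData R F Γ} {T : D.Twist (Fin 2)} [Finite ι] {i : G →* Γ} (h : T.IsLie i)
    [Finite G] [Finite F] [CharP F 2] {N : Subgroup G} [N.Normal] (hN : N.index = 2)
    (hmin : ∀ L : Subgroup G, L.Normal → L ≠ ⊥ → N ≤ L) (hX : ∀ a, ∃ y ∈ N, i y ∈ D.XS (T.ngt a) ∧ y ≠ 1)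
    (h0 : T.cJ 0 = 2) (h1 : T.cJ 1 = 4) {K : Type*} [Group K] [Finite K] {f₀ : K →* G} (hf₀ : Function.Injective f₀)
    (hr₀ : f₀.range = N) {U : Sylow 2 K} {A : Subgroup (MulAut K)} {Y : Subgroup K} : ¬ PMin 2 (U : Subgroup K) A Y :=
  fun hP => by
  have h2 := (sylIn_top U).map f₀
  rw [← MonoidHom.range_eq_map, hr₀] at h2
  obtain ⟨g, -, hg⟩ := h2.exists_conj
    (h.sylIn.inf_normal_of_le (N := N) (by simp [Subgroup.normalizer_eq_top]) le_top)
  obtain ⟨f, hf, hr, hU⟩ : ∃ f : K →* G, Function.Injective f ∧ f.range = N ∧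
      (U : Subgroup K).map f = D.U.comap i ⊓ N :=
    ⟨(MulAut.conj g).toMonoidHom.comp f₀, (MulAut.conj g).injective.comp hf₀, by
      rw [← MonoidHom.map_range, hr₀]; exact cj_eq_of_normal _ _, by rw [← Subgroup.map_map]; exact hg⟩
  obtain ⟨Q, hQ⟩ : ∃ Q : Fin 2 → Subgroup K, ∀ a, Q a = ((D.P (T.J a)).comap i).comap f := ⟨_, fun _ => rfl⟩
  have k0 : ∀ a : Fin 2, a + 1 ≠ a := by decide
  have k1 : ∀ Z : Subgroup K, Z ≠ ⊤ → (U : Subgroup K) ≤ Z → ∃ a, Z ≤ Q a := fun Z h3 h4 =>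
    ((h.le_or_le_P_two hN hmin hX (hU.ge.trans (Subgroup.map_mono h4))).resolve_left fun h5 => h3 (eq_top_iff.2
      fun x _ => (Subgroup.mem_map_iff_mem hf).1 (h5 (hr.le ⟨x, rfl⟩)))).imp fun a ha =>
      hQ a ▸ Subgroup.map_le_iff_le_comap.1 ha
  have k2 : ∀ a b, Q a ≤ Q b → a = b := fun a b e => by_contra fun h3 => by
    obtain ⟨_, hy, h4, h5⟩ := hX a
    obtain ⟨y, rfl⟩ := hr.ge hy
    rw [hQ, hQ] at e
    exact h5 (h.inj ((h.eq_one_of_mem_P_compl h4 (D.P_mono (fun k (hk : T.c k = b) (hk' : T.c k = a) =>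
      h3 (hk'.symm.trans hk)) (e (ngt_le_P a h4)))).trans i.map_one.symm))
  have k3 : ∀ a, Q a ≠ ⊤ := fun a e => k0 a (k2 (a + 1) a (e ▸ le_top))
  have k4 : ∀ a, (U : Subgroup K) ≤ Q a := fun a x hx => hQ a ▸ D.B_le_P _ (D.U_le_B (hU.le ⟨x, hx, rfl⟩).1)
  have k5 : ∀ a, ∃ r ∈ Finset.Icc 1 2, Nat.card (Q a) * r = Nat.card (D.B ⊓ i.range : Subgroup Γ) * (1 + T.cJ a) :=
    fun a => ⟨_, Finset.mem_Icc.2 ⟨Nat.pos_of_dvd_of_pos (hN ▸ N.relIndex_dvd_index_of_normal _) two_pos,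
      Nat.le_of_dvd two_pos (hN ▸ N.relIndex_dvd_index_of_normal _)⟩, by
      rw [← h.card_comap_P, ← Subgroup.card_mul_index (N.subgroupOf _), hQ, ← Subgroup.card_map_of_injective hf,
        Subgroup.map_comap_eq, hr, ← Subgroup.card_map_of_injective (Subgroup.subtype_injective _),
        Subgroup.subgroupOf_map_subtype]; rfl⟩
  have k6 : ∀ α ∈ A, ∀ a, ∃ b, (Q a).map α.toMonoidHom ≤ Q b := fun α hα a => k1 _ (fun e => k3 a
    (Subgroup.map_injective α.injective (e.trans (Subgroup.map_top_of_surjective _ α.surjective).symm)))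
    fun x hx => ⟨_, k4 a (hP.mapU _ (inv_mem hα) x hx), by simp⟩
  have k7 : ∀ a, Q a ≤ Y := fun a => hP.le _ (k3 a) (k4 a) fun α hα x hx => by
    obtain ⟨b, hb⟩ := k6 α hα a
    obtain ⟨c, hc⟩ := k6 _ (inv_mem hα) b
    obtain rfl := k2 a c fun x hx => hc ⟨_, hb ⟨x, hx, rfl⟩, by simp⟩
    have h3 : Nat.card (Q a) = Nat.card (Q b) := le_antisymm
      ((Subgroup.card_map_of_injective α.injective).ge.trans (Subgroup.card_le_of_le hb))
      ((Subgroup.card_map_of_injective α⁻¹.injective).ge.trans (Subgroup.card_le_of_le hc))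
    obtain rfl : a = b := by_contra fun h4 => by
      obtain ⟨r, h5, h6⟩ := k5 0
      obtain ⟨r', h7, h8⟩ := k5 1
      have h9 : Nat.card (Q 0) = Nat.card (Q 1) := by
        fin_cases a <;> fin_cases b
        exacts [absurd rfl h4, h3, h3.symm, absurd rfl h4]
      have := card_B_pos (S := D) (j := i)
      rw [h0] at h6
      rw [h1, ← h9] at h8
      simp only [Finset.mem_Icc] at h5 h7
      obtain ⟨_, _⟩ := h5
      obtain ⟨_, _⟩ := h7
      interval_cases r <;> interval_cases r' <;> omega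
    exact hb ⟨x, hx, rfl⟩
  obtain ⟨a, ha⟩ := k1 Y hP.ne_top hP.U_le
  exact k0 a (k2 _ _ ((k7 (a + 1)).trans ha))

set_option backward.isDefEq.respectTransparency false in
theorem Tits.not_pMin {K : Type*} [Group K] [Finite K] (e : K ≃* Cfsg.Lie.TitsGroup) {U : Sylow 2 K}
    {A : Subgroup (MulAut K)} {Z : Subgroup K} : ¬ PMin 2 (U : Subgroup K) A Z := by
  obtain ⟨T, θ, h4, hj, -, hY, -, hS⟩ := exists_isLie
  obtain ⟨f₀, hf₀, hr₀⟩ : ∃ f : K →* G, Function.Injective f ∧ f.range = commutator G :=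
    ⟨(commutator G).subtype.comp e.toMonoidHom, Subtype.val_injective.comp e.injective, by
      rw [← MonoidHom.map_range, MonoidHom.range_eq_top.2 e.surjective, ← MonoidHom.range_eq_map,
        Subgroup.range_subtype]⟩
  exact hj.not_pMin_two index_commutator (fun L _ => commutator_le L) (Fin.forall_fin_two.2
    ⟨⟨Y, (mem_or _ commutator_ne_bot).2.1, hY, Y_ne⟩, S ^ 2, Subgroup.sq_mem_of_index_two index_commutator _,
      map_pow j S 2 ▸ pow_mem hS 2, S_sq_ne⟩) (h4.cJ_eq hj.good 0) (h4.cJ_eq hj.good 1) hf₀ hr₀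

namespace PMinU33

open CL.K CL.CG CL.U33

def cu : ℕ := 0x8000200008080001000040400008000200010040001000040200000040002000000201010080000
def c1 : ℕ := 0x10000002008000002010080001000080400010000402000080002010080201010040401008080200
def c2 : ℕ := 0x8080402008000400010040001000080400010080402000080401000000202000040000010000201

def WU : List (ℕ × List ℕ) := [
  (0x8000000000000001000000000000000200000000000000040000000000000008000000000000001, []),
  (0x8080202000000400010000000008040402010040202010040200010080201010040401008080200, [0]),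
  (0x8000200008080001000040400008000200010040001000040200000040002000000201010080000, [1]),
  (0x10040400008040200000080202008040400010040202000080200010000202010000002010000002, [0, 0]),
  (0x10040401000000200008000000008000400000040001000080201008000400000080001000080402, [0, 1]),
  (0x10040000000080200000000402010080002008000401010080001008040002010000202010080002, [1, 0]),
  (0x8000202008000001010000001010000201000040002008080201000040201010000201008080002, [0, 0, 0]),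
  (0x10000002010000002010080002008040401008040202008000202000040000000080201000000402, [0, 0, 1]),
  (0x8080200010080400000040401010080002010080401010080401008000201000080001008080402, [0, 1, 0]),
  (0x8000002008040001010080202010080400010040401000080200008080201010080400008080401, [1, 0, 1]),
  (0x401000080000008000402000080200008040402000040202010040402008000200010040001, [0, 0, 0, 0]),
  (0x10000401010000002008000002008080400010080400000080401008040200010040202000040200, [0, 0, 0, 1]),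
  (0x10000402000080002010040402008000401010000001008000002000080201010000402008080002, [0, 0, 1, 0]),
  (0x8000001008000001008040001008080000010040400000000200008000002008000001010080001, [0, 1, 0, 1]),
  (0x8000201010040001008080200010080200000040401000040201000080202000000402010000000, [1, 0, 1, 0]),
  (0x8000400008080001000080400000040402010080201010040401008000202010000001010000002, [0, 0, 0, 0, 0]),
  (0x8000002010080001010080401010040000000040200000000201008040202008000202010000001, [0, 0, 0, 0, 1]),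
  (0x202000040000010000201000040200008040201000040202008080402008000400010040001, [0, 0, 0, 1, 0]),
  (0x40400010000201000080002000000002000040000010080201008080201008040400008080202, [0, 0, 1, 0, 1]),
  (0x8000201000040001008080201010040400010080200000080401010080002008040401010080202, [0, 1, 0, 1, 0]),
  (0x40201008000201008080001008000401010080001008000401008040201010040202008080200, [1, 0, 1, 0, 1]),
  (0x80402010000402010040002010000400000040002000080201010080002010000401010080002, [0, 0, 0, 0, 0, 0]),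
  (0x10000200010040002000040200008040002010080202010080401010040400010000200000080002, [0, 0, 0, 0, 0, 1]),
  (0x10000001010080002008040401000080400008000402000080001010000201000080002008080402, [0, 0, 0, 0, 1, 0]),
  (0x10000001008040002008040202010000002008040002010080202000080000010040402000000200, [0, 0, 0, 1, 0, 1]),
  (0x10000400010040002000080200008080401000000400008000000010080402000080401010040402, [0, 0, 1, 0, 1, 0]),
  (0x80200008000402000040001000080400010000402000080002000000202010040000010000200, [0, 1, 0, 1, 0, 1]),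
  (0x80201010080402008080401000000401010040000008000200010040200010000200000040002, [1, 0, 1, 0, 1, 0]),
  (0x40402008040201010040202000040201010080201008080401000000002000080000010080402, [0, 0, 0, 0, 0, 0, 0]),
  (0x10000402008080002010040400010040002000000200010080000010000402010040002010040200, [0, 0, 0, 0, 0, 0, 1]),
  (0x8080000000040400000000201010000401010080002008000401010000202010080002010000401, [0, 0, 0, 0, 1, 0, 1]),
  (0x10000000000000002000000000000000000008040000000000202000000402000000000010040000, [0, 0, 1, 0, 1, 0, 1])]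

def TU : List ℕ := WU.map Prod.fst

theorem chk : wordsB mul one L [(cb, [1]), (cu, [0, 1, 1, 1, 1, 0]), (c1, [0, 1, 1, 0]), (c2, [0, 1, 1, 0, 1, 0, 1, 0, 1, 1, 0])] = true ∧
    wordsB mul one [cb, cu] WU = true ∧ wordsB mul one [cb, cu, c1, c2] [(ct, [0, 2, 3, 3, 2, 0]), (cb, [0])] = true ∧
    one ∈ TU ∧ TU.toFinset.card = 32 ∧ (∀ s ∈ [cb, cu], ∀ a ∈ TU, mul s a ∈ TU) ∧
    (∀ t ∈ [(8, 4, c1), (4, 2, c2)], (∃ a ∈ TU, powC mul one a t.1 = one ∧ powC mul one a t.2.1 ≠ one) ∧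
      ∀ a ∈ TU, powC mul one a t.1 = one → ∃ b ∈ TU, powC mul one b t.1 = one ∧
        mul t.2.2 (powC mul one a t.2.1) = mul (powC mul one b t.2.1) t.2.2) := by decide +kernel

attribute [local irreducible] U33.mul

variable {K : Type*} [Group K] {φ : K → ℕ}

theorem model_comp {G : Type*} [Group G] {φ : G → ℕ} (M : Model φ) (e : K ≃* G) : Model fun k => φ (e k) where
  C := M.C.comp e.toMonoidHom e.injective
  mem_L c hc := let ⟨g, _, h⟩ := M.mem_L c hc; ⟨e.symm g, trivial, by simpa using h⟩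
  gen_L := eq_top_iff.2 fun x _ => by
    simpa using (Subgroup.closure_le ((gen (fun k => φ (e k)) L).comap e.symm.toMonoidHom)).2
      (fun g hg => Subgroup.subset_closure (by simpa using hg)) (M.gen_L.ge (Subgroup.mem_top (e x)))

theorem mem_gen_iff [Finite K] (M : Model φ) : (∀ c ∈ [cb, cu, c1, c2], Mem φ ⊤ c) ∧
    (∀ c ∈ TU, Mem φ (gen φ [cb, cu]) c) ∧ ∀ x, x ∈ gen φ [cb, cu] ↔ φ x ∈ TU := by
  obtain ⟨h1, h2, -, h3, -, h4, -⟩ := chk
  have k1 := M.C.mem_of_wordsB M.mem_L h1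
  have k2 := M.C.mem_of_wordsB (mem_gen fun c hc => k1 c (List.mem_append_left [c1, c2] hc)) h2
  refine ⟨k1, k2, fun x => ⟨gen_induction (Q := fun x => φ x ∈ TU) (M.C.map_one ▸ h3) (fun j hj s hs g hg => ?_) x,
    fun h => M.C.mem_iff.1 (k2 _ h)⟩⟩
  rw [← M.C.map_mul, hs]
  refine h4 _ ?_ _ hg
  obtain rfl | rfl : j = 0 ∨ j = 1 := by simp at hj; omega
  exacts [.head _, .tail _ (.head _)]

theorem not_pMin [Finite K] [IsSimpleGroup K] (M : Model φ) (hK : Nat.card K = 6048) {U : Sylow 2 K}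
    {A : Subgroup (MulAut K)} {Y : Subgroup K} : ¬ PMin 2 (U : Subgroup K) A Y := fun hP => by
  obtain ⟨-, -, h1, -, h2, -, h3⟩ := chk
  obtain ⟨g, hg⟩ := exists_conj_mem_iff U (Q := gen φ [cb, cu]) (by
    obtain ⟨-, k1, k2⟩ := mem_gen_iff M
    rw [hK, show 2 ^ Nat.factorization 6048 2 = 32 by decide +kernel, ← h2, ← Set.ncard_coe_finset,
      ← SetLike.coe_sort_coe, Nat.card_coe_set_eq, ← Set.ncard_image_of_injective _ M.C.inj]
    congr 1
    ext c
    simp only [Set.mem_image, List.coe_toFinset, Set.mem_ofPred_eq]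
    exact ⟨by rintro ⟨x, hx, rfl⟩; exact (k2 x).1 hx, k1 c⟩)
  obtain ⟨ψ, M, hψ⟩ : ∃ ψ : K → ℕ, Model ψ ∧ ∀ x, x ∈ (U : Subgroup K) ↔ ψ x ∈ TU :=
    ⟨_, model_comp M (MulAut.conj g), fun x => (hg x).trans ((mem_gen_iff M).2.2 _)⟩
  obtain ⟨k1, k2, k3⟩ := mem_gen_iff M
  have key : ∀ t ∈ [(8, 4, c1), (4, 2, c2)], Mem ψ ⊤ t.2.2 → Mem ψ Y t.2.2 := by
    rintro t ht ⟨g, -, e⟩
    obtain ⟨⟨a, ha, h4, h5⟩, h6⟩ := h3 t ht
    obtain ⟨a, -, rfl⟩ := k2 a ha
    refine ⟨g, hP.mem_of_pow t.1 t.2.1 ⟨a, (hψ a).2 ha, ?_, fun h => h5 ?_⟩ fun u hu h => ?_, e⟩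
    · exact M.C.inj (by rw [← M.C.powC_eq, h4, M.C.map_one])
    · rw [M.C.powC_eq, h, M.C.map_one]
    obtain ⟨b, hb, h7, h8⟩ := h6 _ ((hψ u).1 hu) (by rw [M.C.powC_eq, h, M.C.map_one])
    obtain ⟨b, -, rfl⟩ := k2 b hb
    rw [← e, M.C.powC_eq, M.C.powC_eq, M.C.map_mul, M.C.map_mul] at h8
    exact ⟨b, (hψ b).2 hb, M.C.inj (by rw [← M.C.powC_eq, h7, M.C.map_one]), M.C.inj h8⟩
  have k4 : ∀ c ∈ [cb, cu], Mem ψ Y c := fun c hc =>
    (mem_gen (fun c hc => k1 c (List.mem_append_left [c1, c2] hc)) c hc).mono fun x hx =>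
      hP.U_le ((hψ x).2 ((k3 x).1 hx))
  refine hP.ne_top (top_le_iff.1 (M.gen_L.ge.trans (M.C.gen_le (M.C.mem_of_wordsB (fun c hc => ?_) h1))))
  simp only [List.mem_cons, List.not_mem_nil, or_false] at hc
  rcases hc with rfl | rfl | rfl | rfl
  exacts [k4 _ (by simp), k4 _ (by simp), key (8, 4, c1) (by simp) (k1 _ (by simp)),
    key (4, 2, c2) (by simp) (k1 _ (by simp))]

end PMinU33

namespace PMinA6

open Equiv

def a0 : Perm (Fin 6) := swap 0 2 * swap 1 3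
def b0 : Perm (Fin 6) := swap 0 1 * swap 4 5
def s0 : Perm (Fin 6) := swap 0 1 * swap 1 2
def t0 : Perm (Fin 6) := swap 0 2 * swap 2 4 * (swap 1 3 * swap 3 5)
def T : List (Perm (Fin 6)) := [1, a0, b0, a0 * b0, b0 * a0, a0 * b0 * a0, b0 * a0 * b0, (a0 * b0) ^ 2]

theorem chk : (∀ x ∈ [a0, b0, s0, t0], Perm.sign x = 1) ∧ (∀ x ∈ T, ∀ y ∈ T, x * y ∈ T) ∧ (∀ x ∈ T, x⁻¹ ∈ T) ∧
    T.toFinset.card = 8 ∧ (∀ x ∈ T, x ^ 4 = 1 ∧ x * (a0 * b0) ^ 2 = (a0 * b0) ^ 2 * x ∧ x * a0 * x⁻¹ ≠ b0) ∧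
    (∀ x ∈ T, x ^ 2 = 1 → x = 1 ∨ x = (a0 * b0) ^ 2 ∨ (∃ u ∈ T, u * x * u⁻¹ = a0) ∨ ∃ u ∈ T, u * x * u⁻¹ = b0) ∧
    (∀ x ∈ T, ∀ y ∈ T, x ^ 2 = 1 → y ^ 2 = 1 → (x * y) ^ 2 ≠ 1 →
      ((∃ u ∈ T, u * x * u⁻¹ = a0) ∧ ∃ u ∈ T, u * y * u⁻¹ = b0) ∨
        ((∃ u ∈ T, u * x * u⁻¹ = b0) ∧ ∃ u ∈ T, u * y * u⁻¹ = a0)) ∧
    (∀ c ∈ [(a0, s0), (b0, t0)], ∀ u ∈ c.2 :: T, ∀ w ∈ T, w * c.1 = c.1 * w →
      u * w * u⁻¹ ∈ T ∧ u * w * u⁻¹ * c.1 = c.1 * (u * w * u⁻¹)) ∧
    a0 ^ 2 = 1 ∧ b0 ^ 2 = 1 ∧ (a0 * b0) ^ 2 ≠ 1 ∧ s0 ^ 3 = 1 ∧ s0 ≠ 1 ∧ (s0 * t0) ^ 5 = 1 ∧ s0 * t0 ≠ 1 := by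
  refine ⟨?_, ?_, ?_, ?_, ?_, ?_, ?_, ?_, ?_⟩ <;> decide +kernel

theorem mem_of_mem_T {H : Subgroup (Perm (Fin 6))} (ha : a0 ∈ H) (hb : b0 ∈ H) : ∀ x ∈ T, x ∈ H := by
  simp [T, ha, hb, mul_mem, pow_mem]

theorem exists_hom {K : Type*} [Group K] [Finite K] (e : K ≃* alternatingGroup (Fin 6)) (U : Sylow 2 K) :
    ∃ f : K →* Perm (Fin 6), Function.Injective f ∧ f.range = alternatingGroup (Fin 6) ∧
      ∀ x, x ∈ (U : Subgroup K) ↔ f x ∈ T := by
  obtain ⟨h1, h2, h3, h4, -⟩ := chk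
  let U0 : Subgroup (Perm (Fin 6)) := ⟨⟨⟨{x | x ∈ T}, fun {x y} hx hy => h2 x hx y hy⟩, .head _⟩, fun {x} => h3 x⟩
  have hr : ∀ e : K ≃* alternatingGroup (Fin 6), ((alternatingGroup _).subtype.comp e.toMonoidHom).range =
      alternatingGroup (Fin 6) := fun e => by
    rw [← MonoidHom.map_range, MonoidHom.range_eq_top.2 e.surjective, ← MonoidHom.range_eq_map, Subgroup.range_subtype]
  obtain ⟨g, hg⟩ := exists_conj_mem_iff U (Q := U0.comap ((alternatingGroup _).subtype.comp e.toMonoidHom)) (by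
    rw [← Subgroup.card_map_of_injective (f := (alternatingGroup _).subtype.comp e.toMonoidHom)
      (Subtype.val_injective.comp e.injective), Subgroup.map_comap_eq_self
      ((hr e).symm ▸ mem_of_mem_T (h1 _ (by simp)) (h1 _ (by simp))), (facts_A6 e).2,
      show 2 ^ Nat.factorization 360 2 = 8 by decide +kernel, ← h4]
    exact Nat.subtype_card _ fun _ => List.mem_toFinset)
  exact ⟨_, Subtype.val_injective.comp ((MulAut.conj g).trans e).injective, hr ((MulAut.conj g).trans e), hg⟩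

theorem pMin {K : Type*} [Group K] [Finite K] (e : K ≃* alternatingGroup (Fin 6)) {U : Sylow 2 K}
    {A : Subgroup (MulAut K)} {Y : Subgroup K} (hP : PMin 2 (U : Subgroup K) A Y) :
    Y ≤ Subgroup.normalizer (U : Set K) ∧ ¬ ∀ α ∈ A, ∃ u ∈ (U : Subgroup K), α = MulAut.conj u := by
  obtain ⟨_, hK⟩ := facts_A6 e
  obtain ⟨f, hf, hr, hU⟩ := exists_hom e U
  obtain ⟨h1, -, -, -, h2, h3, h4, h5, h6, h7, h8, h9, h10, h11, h12⟩ := chk
  obtain ⟨a, ha⟩ := hr.ge (h1 a0 (by simp))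
  obtain ⟨b, hb⟩ := hr.ge (h1 b0 (by simp))
  obtain ⟨s, hs⟩ := hr.ge (h1 s0 (by simp))
  obtain ⟨t, ht⟩ := hr.ge (h1 t0 (by simp))
  have ka : a ∈ (U : Subgroup K) := (hU a).2 (by simp [T, ha])
  have kb : b ∈ (U : Subgroup K) := (hU b).2 (by simp [T, hb])
  have kT : ∀ u ∈ T, u ∈ (U : Subgroup K).map f := mem_of_mem_T ⟨a, ka, ha⟩ ⟨b, kb, hb⟩
  have kc : ∀ {x c}, (∃ u ∈ T, u * f x * u⁻¹ = f c) → ∃ u ∈ (U : Subgroup K), u * x * u⁻¹ = c := fun ⟨u, hu, h⟩ =>
    let ⟨v, hv, e⟩ := kT u hu; ⟨v, hv, hf (by simpa [e] using h)⟩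
  rw [← ha, ← hb] at h2 h3 h4 h5 h8
  rw [← ha, ← map_pow, map_eq_one_iff f hf] at h6
  rw [← hb, ← map_pow, map_eq_one_iff f hf] at h7
  rw [← map_mul, ← map_pow, Ne, map_eq_one_iff f hf] at h8
  obtain ⟨α, hα, ⟨u, hu, e1⟩, v, hv, e2⟩ : ∃ α ∈ A, (∃ u ∈ (U : Subgroup K), u * α a * u⁻¹ = b) ∧
      ∃ u ∈ (U : Subgroup K), u * α b * u⁻¹ = a := by
    by_contra h
    have k1 : ∀ α ∈ A, (∃ u ∈ (U : Subgroup K), u * α a * u⁻¹ = a) ∧ ∃ u ∈ (U : Subgroup K), u * α b * u⁻¹ = b :=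
      fun α hα => ((h4 _ ((hU _).1 (hP.mapU α hα a ka)) _ ((hU _).1 (hP.mapU α hα b kb))
        (by rw [← map_pow, ← map_pow, h6, map_one, map_one]) (by rw [← map_pow, ← map_pow, h7, map_one, map_one])
        (by rwa [← map_mul, ← map_mul, ← map_pow, ← map_pow, Ne, map_eq_one_iff f hf, map_eq_one_iff α α.injective])).imp
        (And.imp kc kc) (And.imp kc kc)).resolve_right fun h' => h ⟨α, hα, h'⟩
    have k2 : ∀ c g, (f c, f g) ∈ [(f a, s0), (f b, t0)] → ∀ u, u ∈ (U : Subgroup K) ∨ u = g → ∀ w ∈ (U : Subgroup K),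
        w * c = c * w → u * w * u⁻¹ ∈ (U : Subgroup K) ∧ u * w * u⁻¹ * c = c * (u * w * u⁻¹) :=
      fun c g h u hu w hw e => (h5 _ h (f u) (List.mem_cons.2 (hu.symm.imp (congrArg f) (hU u).1)) _ ((hU w).1 hw)
        (by simpa using congrArg f e)).imp (fun h => (hU _).2 (by simpa using h)) fun h => hf (by simpa using h)
    have ks := hP.mem_of_commute ka (fun e => h8 (by simp [e, h7])) (fun α hα => (k1 α hα).1) (k2 a s (by simp [hs]))
    have kt := hP.mem_of_commute kb (fun e => h8 (by simp [e, h6])) (fun α hα => (k1 α hα).2) (k2 b t (by simp [ht]))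
    have : Fact (Nat.Prime 5) := ⟨by norm_num⟩
    have k3 := Y.orderOf_dvd_natCard ks
    have k4 := Y.orderOf_dvd_natCard (mul_mem ks kt)
    rw [← orderOf_injective f hf, hs, orderOf_eq_prime h9 h10] at k3
    rw [← orderOf_injective f hf, map_mul, hs, ht, orderOf_eq_prime h11 h12] at k4
    have k5 := Subgroup.card_dvd_of_le hP.U_le
    rw [U.card_eq_multiplicity, hK, show 2 ^ Nat.factorization 360 2 = 8 by decide +kernel] at k5
    have k6 := CL.Small.two_mul_card_dvd_factorial (CL.Small.not_comm_of_not_prime (by rw [hK]; norm_num)) Y hP.ne_top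
    have k7 := Y.card_mul_index
    obtain ⟨m, hm⟩ : 120 ∣ Nat.card Y := by omega
    rw [hK] at k6 k7
    have k8 : Y.index ≤ 3 := Nat.le_of_dvd (by decide) ⟨m, by rw [hm, mul_assoc, mul_comm m] at k7; omega⟩
    exact absurd ((Nat.le_of_dvd (Nat.factorial_pos _) k6).trans (Nat.factorial_le k8)) (by decide)
  refine ⟨fun y hy => ?_, fun h => ?_⟩
  · let O : Subgroup K := ⨅ y ∈ Y, (U : Subgroup K).comap (MulAut.conj y).toMonoidHom
    have hO : ∀ x, x ∈ O ↔ ∀ y ∈ Y, y * x * y⁻¹ ∈ (U : Subgroup K) := fun x => by simp [O, Subgroup.mem_iInf]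
    have k1 : ∀ y ∈ Y, ∀ x ∈ O, y * x * y⁻¹ ∈ O := fun y hy x hx => (hO _).2 fun z hz => by
      simpa [mul_assoc] using (hO x).1 hx _ (mul_mem hz hy)
    have k2 : ∀ x ∈ O, α x ∈ O := fun x hx => (hO _).2 fun z hz => by
      simpa using hP.mapU α hα _ ((hO x).1 hx _ (hP.mapY _ (inv_mem hα) z hz))
    have k3 : ∀ x ∈ O, x ∈ (U : Subgroup K) := fun x hx => by simpa using (hO x).1 hx 1 (one_mem _)
    by_cases h : a ∈ O ∨ b ∈ O
    · have k4 : a ∈ O := h.elim id fun h => e2 ▸ k1 v (hP.U_le hv) _ (k2 b h)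
      have k5 : b ∈ O := e1 ▸ k1 u (hP.U_le hu) _ (k2 a k4)
      exact Subgroup.mem_normalizer_fintype fun w hw => (hO w).1 ((Subgroup.mem_map_iff_mem hf).1
        (mem_of_mem_T (H := O.map f) ⟨a, k4, ha⟩ ⟨b, k5, hb⟩ _ ((hU w).1 hw))) y hy
    have k4 : ∀ x ∈ O, x ≠ 1 → x ^ 2 = 1 → x = (a * b) ^ 2 := fun x hx h1 h2 => by
      rcases h3 _ ((hU x).1 (k3 x hx)) (by rw [← map_pow, h2, map_one]) with h4 | h4 | h4 | h4
      · exact absurd ((map_eq_one_iff f hf).1 h4) h1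
      · exact hf (by simpa using h4)
      all_goals obtain ⟨w, hw, e⟩ := kc h4
      exacts [(h (.inl (e ▸ k1 w (hP.U_le hw) x hx))).elim, (h (.inr (e ▸ k1 w (hP.U_le hw) x hx))).elim]
    have k5 : ∀ x ∈ (U : Subgroup K), x ^ 4 = 1 := fun x hx => hf (by simpa using (h2 _ ((hU x).1 hx)).1)
    have k6 : (a * b) ^ 2 ∈ O := by
      obtain ⟨x, h1, hx⟩ := hP.exists_core fun h => hP.ne_top (eq_top_360 hK h hP.not_dvd_index)
      rw [← hO] at hx
      by_cases h2 : x ^ 2 = 1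
      exacts [k4 x hx h1 h2 ▸ hx, k4 _ (pow_mem hx 2) h2 ((pow_mul x 2 2).symm.trans (k5 x (k3 x hx))) ▸ pow_mem hx 2]
    refine Subgroup.le_normalizer (mem_sylow_of_commute (k := 2) (b := 15) (fun g => ?_) (by decide) U
      (k5 _ (k3 _ k6)) h8 (fun w hw => hf (by simpa using (h2 _ ((hU w).1 hw)).2.1))
      (mul_inv_eq_iff_eq_mul.1 (k4 _ (k1 y hy _ k6) (by simpa using h8) (by
        rw [conj_pow, ← pow_mul, k5 _ (mul_mem ka kb)]; simp))))
    simp only [← map_eq_one_iff f hf, map_pow]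
    rcases Cfsg.Agent.S5057.pow_eq _ (hr.le ⟨g, rfl⟩) with h | h | h
    exacts [.inr (by rw [show 15 = 3 * 5 from rfl, pow_mul, h, one_pow]), .inl h,
      .inr (by rw [show 15 = 5 * 3 from rfl, pow_mul, h, one_pow])]
  · obtain ⟨w, hw, rfl⟩ := h α hα
    exact (h2 _ ((hU _).1 (mul_mem hu hw))).2.2 (by simpa [mul_assoc] using congrArg f e1)

end PMinA6

end CL.Chev
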