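/-
CHEV library: Phan's theorem, IX.  Standard position in the four-dimensional group; the field with four elements.
-/
import Cfsg.Agent.CHEV.Phan8

set_option autoImplicit false
set_option linter.unusedSectionVars false
set_option maxHeartbeats 200000

namespace CL.Chev.Phan

open CL.Witt CL.Uni Module Cfsg Matrix CL.SpU CL.SqField

variable {F : Type*} [Field F] [Fintype F] {G : Type*} [Group G]

section Gen

variable {q : ℕ} {hF : Fintype.card F = q ^ 2} {v v' : SU 3 F q →* G} {V A B V' C : Subgroup G}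

variable (hF) in
include hF in
theorem ker_central {g : SU 4 F q →* G} {y : SU 4 F q} (hy : g y ≠ 1) {x : SU 4 F q} (hx : g x = 1) :
    x ∈ Subgroup.center (SU 4 F q) := by
  have := isSimpleGroup_PSU hF (n := 4) (by omega) (by omega)
  rcases ((MonoidHom.normal_ker g).map _ (QuotientGroup.mk'_surjective (Subgroup.center (SU 4 F q)))).eq_bot_or_eq_top with
    h | h
  · rw [Subgroup.map_eq_bot_iff, QuotientGroup.ker_mk'] at h; exact h hx
  refine absurd ((commutator_SU hF (n := 4) (by omega) (by omega)).ge.trans (b := commutator _) (c := g.ker)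
    (Subgroup.commutator_le.2 fun a _ b _ => ?_) trivial) hy
  obtain ⟨a', ha, e⟩ := h.ge (Subgroup.mem_top (a : PSU 4 F q))
  have h1 := Subgroup.mem_center_iff.1 (QuotientGroup.eq.1 e) b
  have h2 : g a = g (a'⁻¹ * a) := by rw [map_mul, map_inv, show g a' = 1 from ha, inv_one, one_mul]
  rw [MonoidHom.mem_ker, map_commutatorElement, commutatorElement_eq_one_iff_mul_comm, h2, ← map_mul, ← map_mul, h1]

theorem range_eq_sup (hq : 3 ≤ q) (ψ : SU 3 F q →* G) :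
    ψ.range = (ψ.comp (E0 hF)).range ⊔ (ψ.comp (E1 hF)).range := by
  refine le_antisymm ?_ (sup_le (by rintro _ ⟨s, rfl⟩; exact ⟨_, rfl⟩) (by rintro _ ⟨s, rfl⟩; exact ⟨_, rfl⟩))
  rintro _ ⟨g, rfl⟩
  exact gen_three hF hq (K := Subgroup.comap ψ ((ψ.comp (E0 hF)).range ⊔ (ψ.comp (E1 hF)).range))
    (fun s => Subgroup.mem_sup_left ⟨s, rfl⟩) (fun s => Subgroup.mem_sup_right ⟨s, rfl⟩) g

theorem finish {g : SU 4 F q →* G} (hk : ∀ x, g x = 1 → x ∈ Subgroup.center (SU 4 F q)) {x : Fin 4 → Fin 4 → F}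
    (hx : IsON (std hF _) x) (hv : Std hF v V A B) (hv' : Std hF v' V' B C)
    (hA : ∀ a ∈ A, ∃ s, g s = a ∧ ♭s *ᵥ x 2 = x 2 ∧ ♭s *ᵥ x 3 = x 3)
    (hB : ∀ a ∈ B, ∃ s, g s = a ∧ ♭s *ᵥ x 0 = x 0 ∧ ♭s *ᵥ x 3 = x 3)
    (hC : ∀ a ∈ C, ∃ s, g s = a ∧ ♭s *ᵥ x 0 = x 0 ∧ ♭s *ᵥ x 1 = x 1)
    (hV : 3 ≤ q ∨ Function.Injective v ∧ Function.Injective v' ∧ (∀ a ∈ V, ∃ s, g s = a ∧ ♭s *ᵥ x 3 = x 3) ∧
      ∀ a ∈ V', ∃ s, g s = a ∧ ♭s *ᵥ x 0 = x 0) :
    ∃ y, Std hF ((g.comp (MulAut.conj y).toMonoidHom).comp (F0 hF)) V A B ∧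
      Std hF ((g.comp (MulAut.conj y).toMonoidHom).comp (F1 hF)) V' B C := by
  obtain ⟨y, hy⟩ := exists_SU hF (on_single hF Fin.castSuccEmb) (hx.comp (Fin.castSucc_injective 3)) (by omega)
  have h1 : ∀ s : SU 4 F q, ∀ i, ♭s *ᵥ x i = x i → ♭(y⁻¹ * s * y) *ᵥ Pi.single i 1 = Pi.single i 1 := fun s i h => by
    induction i using Fin.lastCases with
    | cast i => exact conj_fix.2 ((hy i).symm ▸ h)
    | last =>
      have e : ♭y⁻¹ *ᵥ x (Fin.last 3) = (♭y⁻¹ *ᵥ x (Fin.last 3)) (Fin.last 3) • Pi.single (Fin.last 3) 1 := by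
        ext j
        induction j using Fin.lastCases with
        | last => simp
        | cast j =>
          rw [← B_single hF (♭y⁻¹ *ᵥ _), ← B_mat hF y, mat_inv_cancel, show ♭y *ᵥ Pi.single j.castSucc 1 = x j.castSucc from hy j]
          rw [Pi.smul_apply, Pi.single_eq_of_ne (Fin.castSucc_lt_last j).ne, smul_zero]
          exact hx.ne (Fin.castSucc_lt_last j).ne
      have e0 : ♭y⁻¹ *ᵥ x (Fin.last 3) ≠ 0 := fun h => by
        have := hx.self (Fin.last 3)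
        rw [← mat_inv_cancel y (x _), h] at this; simp at this
      have := conj_fix.2 ((mat_inv_cancel y (x (Fin.last 3))).symm ▸ h)
      rw [e, mulVec_smul] at this
      exact smul_right_injective _ (left_ne_zero_of_smul (e ▸ e0)) this
  have key : ∀ {k i : ℕ} (h : i + k ≤ 4) {u : SU k F q →* G} {U : Subgroup G}, Function.Injective u → u.range = U →
      (∀ a ∈ U, ∃ s, g s = a ∧ ∀ r : Fin 4, r < i ∨ i + k ≤ r → ♭s *ᵥ x r = x r) →
      ((g.comp (MulAut.conj y).toMonoidHom).comp (emb hF (off i h))).range = U := fun h u U a b c => by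
    rw [← range_eq_of_le a, b]
    rw [b]
    intro a ha
    obtain ⟨s, rfl, hs⟩ := c a ha
    obtain ⟨t, ht⟩ := exists_emb hF h (A := y⁻¹ * s * y) fun r hr => h1 s r (hs r hr)
    exact ⟨t, by simp [ht, mul_assoc]⟩
  have kA := key (i := 0) (by omega) hv.inj0 hv.r0 fun a ha => (hA a ha).imp fun s h => ⟨h.1, fun r hr => by
    obtain rfl | rfl : r = 2 ∨ r = 3 := by omega
    exacts [h.2.1, h.2.2]⟩
  have kB := key (i := 1) (by omega) hv.inj1 hv.r1 fun a ha => (hB a ha).imp fun s h => ⟨h.1, fun r hr => by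
    obtain rfl | rfl : r = 0 ∨ r = 3 := by omega
    exacts [h.2.1, h.2.2]⟩
  have kC := key (i := 2) (by omega) hv'.inj1 hv'.r1 fun a ha => (hC a ha).imp fun s h => ⟨h.1, fun r hr => by
    obtain rfl | rfl : r = 0 ∨ r = 1 := by omega
    exacts [h.2.1, h.2.2]⟩
  have e : ∀ {i j : ℕ} (h : i + 3 ≤ 4) (h' : j + 2 ≤ 3) (w : SU 4 F q →* G), (w.comp (emb hF (off i h))).comp (emb hF (off j h')) =
      w.comp (emb hF (off (i + j) (by omega))) := fun h h' w => MonoidHom.ext fun s => congrArg w (emb_off ..)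
  have ker : ∀ {i : ℕ} (h : i + 3 ≤ 4) (r : Fin 4), r < i ∨ i + 3 ≤ r → ∀ s,
      ((g.comp (MulAut.conj y).toMonoidHom).comp (emb hF (off i h))) s = 1 → s ∈ Subgroup.center (SU 3 F q) :=
    fun h r hr s hs => by
    have h2 := Subgroup.mem_center_iff.1 (hk _ hs) y
    rw [MulEquiv.coe_toMonoidHom, MulAut.conj_apply, inv_mul_cancel_right, mul_right_inj] at h2
    obtain ⟨c, hc⟩ := (mem_center_SU_iff hF (by omega)).1 (hk _ hs)
    rw [MulEquiv.coe_toMonoidHom, MulAut.conj_apply, h2, ← suMat_apply] at hc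
    obtain rfl : c = 1 := by simpa [hc] using congrFun (emb_fix hF h s hr) r
    rw [emb_inj hF _ (mat_ext (hc.trans (by simp)) : _ = emb hF _ 1)]; exact one_mem _
  refine ⟨y, ⟨ker _ 3 (by simp), ?_, (e ..).symm ▸ kA, (e ..).symm ▸ kB⟩, ker _ 0 (by simp), ?_, (e ..).symm ▸ kB,
    (e ..).symm ▸ kC⟩
  · rcases hV with hq | hV
    · rw [range_eq_sup (hF := hF) hq, ← hv.rng, range_eq_sup (hF := hF) hq v, hv.r0, hv.r1, e, e, kA, kB]
    · exact key _ hV.1 hv.rng fun a ha => (hV.2.2.1 a ha).imp fun s h => ⟨h.1, fun r hr => by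
        obtain rfl : r = 3 := by omega
        exact h.2⟩
  · rcases hV with hq | hV
    · rw [range_eq_sup (hF := hF) hq, ← hv'.rng, range_eq_sup (hF := hF) hq v', hv'.r0, hv'.r1, e, e, kB, kC]
    · exact key _ hV.2.1 hv'.rng fun a ha => (hV.2.2.2 a ha).imp fun s h => ⟨h.1, fun r hr => by
        obtain rfl : r = 0 := by omega
        exact h.2⟩

end Gen

section Two

variable {hF : Fintype.card F = 2 ^ 2} {v v' : SU 3 F 2 →* G} {V A B V' C : Subgroup G}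

theorem tor_eq_scalar {c : F} (hc : c ^ 2 * c = 1) {g : SU 3 F 2} (hg : ♭g = c • 1) :
    E0 hF (tor hF hc) = g * E1 hF (tor hF hc) := mat_ext (by
  rw [map_mul, hg, mat_E0, mat_E1, mat_tor hF hc]
  ext i j; fin_cases i <;> fin_cases j <;> simp <;> grind)

theorem exists_scalar {g : SU 3 F 2} (hg : g ∈ Subgroup.center (SU 3 F 2)) (hF : Fintype.card F = 2 ^ 2) :
    ∃ c : F, c ^ 2 * c = 1 ∧ ♭g = c • 1 := by
  obtain ⟨c, hc⟩ := (mem_center_SU_iff hF (by omega)).1 hg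
  refine ⟨c, ?_, hc⟩
  have := det_mat g
  rw [suMat_apply, hc] at this
  simpa [pow_succ] using this

theorem Std.inj_two (hv : Std hF v V A B) (hv' : Std hF v' V' B C) (e : ∀ s, v' (E0 hF s) = v (E1 hF s))
    (hc : ∀ x ∈ A, ∀ y ∈ C, x * y = y * x) : Function.Injective v ∧ Function.Injective v' := by
  have h2 := two_zero hF
  refine ⟨(injective_iff_map_eq_one _).2 fun g hg => ?_, (injective_iff_map_eq_one _).2 fun g hg => ?_⟩
  · obtain ⟨c, h, h'⟩ := exists_scalar (hv.ker g hg) hF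
    have h1 := hc _ (hv.mem0 (tor hF h)) _ (hv'.mem1 (wey hF))
    rw [tor_eq_scalar h h', map_mul, hg, one_mul, ← e, ← map_mul, ← map_mul] at h1
    obtain ⟨z, hz⟩ := hv'.smul h1
    have a := congrFun₂ hz 0 0
    have b := congrFun₂ hz 2 1
    simp [mat_E0, mat_E1, mat_su2] at a b
    exact mat_ext (by rw [h', show c = 1 by grind, one_smul, map_one])
  · obtain ⟨c, h, h'⟩ := exists_scalar (hv'.ker g hg) hF
    have h1 := hc _ (hv.mem0 (wey hF)) _ (hv'.mem1 (tor hF h))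
    have h3 := congrArg v' (tor_eq_scalar (hF := hF) h h')
    rw [map_mul, hg, one_mul, e] at h3
    rw [← h3, ← map_mul, ← map_mul] at h1
    obtain ⟨z, hz⟩ := hv.smul h1
    have a := congrFun₂ hz 2 2
    have b := congrFun₂ hz 1 0
    simp [mat_E0, mat_E1, mat_su2] at a b
    exact mat_ext (by rw [h', show c = 1 by grind, one_smul, map_one])

omit [Fintype F] in
theorem comb_four {α l : Fin 4 → F} (hα : ∀ i, α i ^ 3 = 1) (hl : ∀ i, l i ^ 3 = 1) (pα : ∏ i, α i = 1) (pl : ∏ i, l i = 1)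
    {j : Fin 4} (hj : l j ≠ 1) (h : ∀ j, ∃ i, l i = l j ∧ α j = l j * α i) :
    ∃ p r s, l p = 1 ∧ α p = 1 ∧ α r = 1 ∧ α s = l s ∧ r ≠ p ∧ s ≠ p ∧ r ≠ s ∧ (∀ i, i ≠ p → l i ≠ 1) ∧
      (∀ i, α i = 1 → i = p ∨ i = r) ∧ ∀ i, α i = l i → i = p ∨ i = s := by
  obtain ⟨r, h1, h2⟩ : ∃ r, l r = l j ∧ α r = 1 := by
    obtain ⟨a, a1, a2⟩ := h j
    obtain ⟨b, b1, b2⟩ := h a
    have := hα j
    have := hl j
    have : α j = 1 ∨ α a = 1 ∨ α b = 1 := by grind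
    grind
  obtain ⟨a, a1, a2⟩ := h r
  obtain ⟨s, b1, b2⟩ := h a
  have h3 := hl j
  have k1 : r ≠ a := by grind
  have k2 : a ≠ s := by grind
  have k3 : r ≠ s := by grind
  obtain ⟨p, p1, p2, p3, p4⟩ : ∃ p, r ≠ p ∧ a ≠ p ∧ s ≠ p ∧ ∀ i, i = p ∨ i = r ∨ i = a ∨ i = s := by
    revert k1 k2 k3; generalize r = r, a = a, s = s; revert r a s; decide
  have hp : ∀ f : Fin 4 → F, ∏ i, f i = f p * (f r * (f a * f s)) := fun f => by
    rw [show (Finset.univ : Finset (Fin 4)) = {p, r, a, s} by ext i; simpa using p4 i, Finset.prod_insert (by simp; tauto),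
      Finset.prod_insert (by simp; tauto), Finset.prod_pair k2]
  rw [hp] at pα pl
  refine ⟨p, r, s, by grind, by grind, h2, by grind, p1, p3, k3, fun i hi => ?_, fun i hi => ?_, fun i hi => ?_⟩ <;>
    rcases p4 i with rfl | rfl | rfl | rfl <;> grind

theorem exists_col {N q : ℕ} (X : SU N F q) (j : Fin N) : ∃ i, ♭X i j ≠ 0 := by
  by_contra h
  push Not at h
  exact one_ne_zero ((det_mat X).symm.trans (det_eq_zero_of_column_eq_zero j h))

omit [Fintype F] in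
theorem eig_of_col {N : ℕ} {M : Matrix (Fin N) (Fin N) F} {p : Fin N} (h : ∀ i, i ≠ p → M i p = 0) :
    M *ᵥ Pi.single p 1 = M p p • Pi.single p 1 := by
  ext i; by_cases e : i = p <;> simp [e, h]

variable {ω : F} (hω : ω ^ 2 * ω = 1)

theorem tor_cube : tor hF hω ^ 3 = 1 := mat_ext (by
  rw [map_pow, mat_tor hF hω]; ext i j; fin_cases i <;> fin_cases j <;> simp [pow_succ] <;> grind)

theorem norm_tor (s : SU 2 F 2) : s * tor hF hω = tor hF hω * s ∨ s * tor hF hω = tor hF hω * tor hF hω * s := by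
  obtain ⟨α, β, h, rfl⟩ := exists_su2 hF s
  have h2 := two_zero hF
  by_cases hβ : β = 0
  · exact Or.inl (mat_ext (by simp [mat_su2, hβ, mul_comm]))
  · have h3 := norm_of_ne hF hβ
    obtain rfl : α = 0 := by grind
    exact Or.inr (mat_ext (by simp [mat_su2]; grind))

theorem fix_second {σ : SU 2 F 2 →* SU 4 F 2} {α : Fin 4 → F} (h : ♭(σ (tor hF hω)) = diagonal α) {p r : Fin 4}
    (hr : α r = 1) (h1 : ∀ i, α i = 1 → i = p ∨ i = r) (h2 : ∀ s, ♭(σ s) *ᵥ Pi.single p 1 = Pi.single p 1) (h3 : r ≠ p) :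
    ∀ s, ♭(σ s) *ᵥ Pi.single r 1 = Pi.single r 1 :=
  fix_of_eig hF σ (by simp) fun s => ⟨_, eig_of_col fun i hi => by
    by_cases e : i = p
    · exact e ▸ row_of_eig hF _ ((h2 s).trans (one_smul ..).symm) h3
    have h4 : α i ≠ 1 := fun e' => by have := h1 i e'; tauto
    have h5 := congrFun₂ (congrArg (fun x => ♭(σ x)) (tor_cube (hF := hF) hω)) i i
    simp [h, diagonal_pow] at h5
    rcases norm_tor (hF := hF) hω s with h6 | h6 <;> have := congrFun₂ (congrArg (fun x => ♭(σ x)) h6) i r <;>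
      simp [h, hr] at this <;> grind⟩

theorem fix_of_eig3 {N : ℕ} (hF : Fintype.card F = 2 ^ 2) (ρ : SU 3 F 2 →* SU N F 2) {x : Fin N → F} (hx : x ≠ 0)
    (h : ∀ g, ∃ c : F, ♭(ρ g) *ᵥ x = c • x) (g : SU 3 F 2) : ♭(ρ g) *ᵥ x = x := by
  obtain ⟨ω, hω, hω'⟩ := exists_norm_one hF
  refine gen_two hF hω hω' (K := (fixS x).comap ρ) (fix_of_eig hF (ρ.comp (E0 hF)) hx fun _ => h _)
    (fix_of_eig hF (ρ.comp (E1 hF)) hx fun _ => h _) (fun t ht => ?_) g
  have h2 := two_zero hF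
  have h3 : wey hF ^ 2 = 1 := mat_ext (by simp [mat_su2, sq, one_fin_two]; grind)
  have h4 : fou hF hω hω' ^ (2 * 2) = 1 := by rw [pow_mul, sq (fou ..), fou_sq, ← map_pow, h3, map_one]
  obtain ⟨c, hc⟩ := h (dg hF ![1, 1, t] (by simp [Fin.forall_fin_succ, ht]) (RingEquiv.refl F) (fou hF hω hω'))
  have h5 := eig_eq_one hx hc (k := 2 * 2) (by rw [← map_pow, ← map_pow, h4, map_one, map_one])
  rw [pow_mul, pow_q_pow_q hF] at h5
  exact hc.trans (by rw [h5, one_smul])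

theorem mat_zeta : ♭(E0 hF (tor hF hω) * E1 hF (tor hF hω) * E1 hF (tor hF hω)) = ω • 1 := by
  simp only [map_mul, mat_E0, mat_E1, mat_tor hF hω]
  ext i j; fin_cases i <;> fin_cases j <;> simp <;> grind

theorem exists_cyc : ∃ c : SU 3 F 2, c * E0 hF (tor hF hω) =
    E0 hF (tor hF hω) * E1 hF (tor hF hω) * E1 hF (tor hF hω) * E0 hF (tor hF hω) * c :=
  ⟨E1 hF (wey hF) * E0 hF (wey hF), mat_ext (by
    have h2 := two_zero hF
    rw [map_mul _ _ (_ * _), map_mul _ _ (E0 hF (tor hF hω)), map_mul _ _ (E0 hF (tor hF hω)), mat_zeta]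
    simp only [map_mul, mat_E0, mat_E1, mat_su2]
    ext i j; fin_cases i <;> fin_cases j <;> simp <;> grind)⟩

theorem exists_pts (hω' : ω * ω ≠ 1) {ρ : SU 3 F 2 →* SU 4 F 2} (hρ : Function.Injective ρ) {α β : Fin 4 → F}
    (ha : ♭(ρ (E0 hF (tor hF hω))) = diagonal α) (hb : ♭(ρ (E1 hF (tor hF hω))) = diagonal β) :
    ∃ p r s, (∀ g, ♭(ρ g) *ᵥ Pi.single p 1 = Pi.single p 1) ∧ β p = 1 ∧ α r = 1 ∧ β s = 1 ∧ r ≠ p ∧ s ≠ p ∧ r ≠ s ∧
      (∀ i, α i = 1 → i = p ∨ i = r) ∧ ∀ i, β i = 1 → i = p ∨ i = s := by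
  have cube : ∀ {σ : SU 2 F 2 →* SU 4 F 2} {α}, ♭(σ (tor hF hω)) = diagonal α → ∀ i, α i ^ 3 = 1 := fun {σ α} h i => by
    simpa [h, diagonal_pow] using congrFun₂ (congrArg (fun x => ♭(σ x)) (tor_cube (hF := hF) hω)) i i
  have ca := cube (σ := ρ.comp (E0 hF)) ha
  have cb := cube (σ := ρ.comp (E1 hF)) hb
  have hz := mat_zeta (hF := hF) hω
  obtain ⟨c, h4⟩ := exists_cyc (hF := hF) hω
  have hz' : ♭(ρ (E0 hF (tor hF hω) * E1 hF (tor hF hω) * E1 hF (tor hF hω))) = diagonal fun i => α i * β i * β i := by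
    simp [ha, hb]
  generalize E0 hF (tor hF hω) * E1 hF (tor hF hω) * E1 hF (tor hF hω) = z at hz hz' h4
  have hc : ∀ g i j, ♭(ρ g) i j * (α j * β j * β j) = α i * β i * β i * ♭(ρ g) i j := fun g i j => by
    have : g * z = z * g := mat_ext (by simp [hz])
    simpa [hz'] using congrFun₂ (congrArg (fun x => ♭(ρ x)) this) i j
  obtain ⟨j, hj⟩ : ∃ j, α j * β j * β j ≠ 1 := by
    by_contra h
    push Not at h
    have := congrFun₂ (congrArg (suMat 3 F 2) (hρ (mat_ext (by rw [hz', funext h]; simp) : ρ z = ρ 1))) 0 0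
    simp [hz] at this
    simp [this] at hω'
  have dt : ∀ {X : SU 4 F 2} {d}, ♭X = diagonal d → ∏ i, d i = 1 := fun {X d} h => by rw [← det_diagonal, ← h, det_mat]
  obtain ⟨p, r, s, a1, a2, a3, a4, a5, a6, a7, a8, a9, a10⟩ := comb_four ca
    (fun i => by rw [mul_pow, mul_pow, ca, cb, mul_one, mul_one]) (dt ha) (dt hz') hj fun j => by
      obtain ⟨i, hi⟩ := exists_col (ρ c) j
      have h5 := congrFun₂ (congrArg (fun x => ♭(ρ x)) h4) i j
      have h6 := hc c i j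
      simp only [map_mul, ha, hz', mul_diagonal, diagonal_mul_diagonal, diagonal_mul] at h5
      have h7 := mul_left_cancel₀ hi (h6.trans (mul_comm ..))
      exact ⟨i, h7.symm, by rw [h7]; exact mul_left_cancel₀ hi (h5.trans (mul_comm ..))⟩
  refine ⟨p, r, s, fix_of_eig3 hF ρ (by simp) fun g => ⟨_, eig_of_col fun i hi => ?_⟩, ?_, a3, ?_, a5, a6, a7, a9,
    fun i hi => a10 i (by rw [hi]; simp)⟩
  · have h5 := hc g i p
    rw [a1, mul_one, eq_comm, mul_eq_right₀'] at h5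
    exact h5.resolve_left (a8 i hi)
  · linear_combination cb p - β p * a1 + β p ^ 3 * a2
  · linear_combination cb s + α s ^ 2 * β s * a4 - (β s - β s ^ 3) * ca s

theorem wey_tor : wey hF * tor hF hω = tor hF hω * tor hF hω * wey hF := mat_ext (by
  have h1 := two_zero hF
  simp [mat_su2]; grind)

theorem inj_four {a b c d : Fin 4} (h1 : a ≠ b) (h2 : a ≠ c) (h3 : a ≠ d) (h4 : b ≠ c) (h5 : b ≠ d) (h6 : c ≠ d) :
    Function.Injective ![a, b, c, d] := by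
  intro i j h
  fin_cases i <;> fin_cases j <;> simp_all [eq_comm]

theorem pos_diag (hω' : ω * ω ≠ 1) {ρ ρ' : SU 3 F 2 →* SU 4 F 2} (i1 : Function.Injective ρ) (i2 : Function.Injective ρ')
    (c2 : ρ (E0 hF (wey hF)) * ρ' (E1 hF (tor hF hω)) = ρ' (E1 hF (tor hF hω)) * ρ (E0 hF (wey hF)))
    (hg : ∀ p, (∀ g, ♭(ρ g) *ᵥ Pi.single p 1 = Pi.single p 1) → ¬ ∀ g, ♭(ρ' g) *ᵥ Pi.single p 1 = Pi.single p 1)
    {α β γ : Fin 4 → F} (hα : ♭(ρ (E0 hF (tor hF hω))) = diagonal α) (hβ : ♭(ρ (E1 hF (tor hF hω))) = diagonal β)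
    (hβ' : ♭(ρ' (E0 hF (tor hF hω))) = diagonal β) (hγ : ♭(ρ' (E1 hF (tor hF hω))) = diagonal γ) :
    ∃ u : Fin 4 → Fin 4, Function.Injective u ∧ (∀ g, ♭(ρ g) *ᵥ Pi.single (u 3) 1 = Pi.single (u 3) 1) ∧
      (∀ g, ♭(ρ' g) *ᵥ Pi.single (u 0) 1 = Pi.single (u 0) 1) ∧
      (∀ g, ♭(ρ (E0 hF g)) *ᵥ Pi.single (u 2) 1 = Pi.single (u 2) 1) ∧
      ∀ g, ♭(ρ' (E1 hF g)) *ᵥ Pi.single (u 1) 1 = Pi.single (u 1) 1 := by
  obtain ⟨p, r, s, a1, a2, a3, a4, a5, a6, a7, a8, a9⟩ := exists_pts hω hω' i1 hα hβ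
  obtain ⟨p', r', s', b1, b2, b3, b4, b5, b6, b7, b8, b9⟩ := exists_pts hω hω' i2 hβ' hγ
  have d1 : p ≠ p' := by rintro rfl; exact hg p a1 b1
  obtain rfl : p = r' := (b8 p a2).resolve_left d1
  obtain rfl : s = p' := (b8 s a4).resolve_right a6
  have d2 : r ≠ s' := by
    rintro rfl
    obtain ⟨i, hi⟩ := exists_col (ρ (E0 hF (wey hF))) s
    obtain ⟨j, hj⟩ := exists_col (ρ (E0 hF (tor hF hω))) s
    have h3 := congrFun₂ (congrArg (suMat 4 F 2) c2) i s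
    have h4 := congrFun₂ (congrArg (fun x => ♭(ρ (E0 hF x))) (wey_tor (hF := hF) hω)) i s
    simp only [map_mul, hα, hγ, mul_diagonal, diagonal_mul, diagonal_mul_diagonal] at h3 h4
    have h5 := mul_left_cancel₀ hi (h4.trans (mul_comm ..))
    have h6 := a8 s
    have h7 : α s ≠ 0 := fun e => hj (by rw [hα, diagonal_apply]; split_ifs with e' <;> simp [e', e])
    rcases b9 i ((mul_left_cancel₀ hi (h3.trans (mul_comm ..))).symm.trans b2) with rfl | rfl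
    · exact (h6 (mul_left_cancel₀ h7 (h5.symm.trans (mul_one _).symm))).elim a6 a7.symm
    · exact (h6 (by rwa [a3, mul_one] at h5)).elim a6 a7.symm
  exact ⟨![s, s', r, p], inj_four b6.symm a7.symm a6 d2.symm b7.symm a5, a1, b1,
    fix_second hω (σ := ρ.comp (E0 hF)) hα a3 a8 (fun _ => a1 _) a5,
    fix_second hω (σ := ρ'.comp (E1 hF)) hγ b4 b9 (fun _ => b1 _) b6⟩

theorem pos_two {ρ₀ ρ₀' : SU 3 F 2 →* SU 4 F 2} (i1 : Function.Injective ρ₀) (i2 : Function.Injective ρ₀')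
    (e' : ∀ s, ρ₀' (E0 hF s) = ρ₀ (E1 hF s)) (c2 : ∀ s t, ρ₀ (E0 hF s) * ρ₀' (E1 hF t) = ρ₀' (E1 hF t) * ρ₀ (E0 hF s))
    (hg : ρ₀.range ⊔ ρ₀'.range = ⊤) : ∃ x : Fin 4 → Fin 4 → F, IsON (std hF _) x ∧ (∀ g, ♭(ρ₀ g) *ᵥ x 3 = x 3) ∧
      (∀ g, ♭(ρ₀' g) *ᵥ x 0 = x 0) ∧ (∀ g, ♭(ρ₀ (E0 hF g)) *ᵥ x 2 = x 2) ∧ ∀ g, ♭(ρ₀' (E1 hF g)) *ᵥ x 1 = x 1 := by
  obtain ⟨ω, hω, hω'⟩ := exists_norm_one hF
  have t3 := tor_cube (hF := hF) hω
  have c1 : E0 hF (tor hF hω) * E1 hF (tor hF hω) = E1 hF (tor hF hω) * E0 hF (tor hF hω) :=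
    mat_ext (by simp [mat_E0, mat_E1, mat_su2, mul_comm])
  have c3 := congrArg ρ₀' c1
  have c4 := congrArg ρ₀ c1
  rw [map_mul, map_mul] at c3 c4
  rw [e'] at c3
  obtain ⟨h, H⟩ := exists_diag hF [ρ₀ (E0 hF (tor hF hω)), ρ₀ (E1 hF (tor hF hω)), ρ₀' (E1 hF (tor hF hω))]
    (by simp [← map_pow, t3]) (by simp [c2, c3, c4])
  have m : ∀ (ρ : SU 3 F 2 →* SU 4 F 2) s, (MulAut.conj h⁻¹).toMonoidHom.comp ρ s = h⁻¹ * ρ s * h := fun ρ s => by simp
  obtain ⟨α, hα⟩ := H _ (.head _)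
  obtain ⟨β, hβ⟩ := H _ (.tail _ (.head _))
  obtain ⟨γ, hγ⟩ := H _ (.tail _ (.tail _ (.head _)))
  have on := (isON_single hF (Fin 4)).map (Form.SO_le_O _ (act_mem hF h))
  obtain ⟨u, hu, h1⟩ := pos_diag hω hω' (ρ := (MulAut.conj h⁻¹).toMonoidHom.comp ρ₀)
    (ρ' := (MulAut.conj h⁻¹).toMonoidHom.comp ρ₀') ((MulAut.conj h⁻¹).injective.comp i1) ((MulAut.conj h⁻¹).injective.comp i2)
    (by simp only [MonoidHom.comp_apply, ← map_mul, c2]) (fun p a b => by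
      simp only [m, conj_fix] at a b
      obtain ⟨t, t1, t2⟩ := exists_unit (std_nondeg hF _) (on1 (on.self p)) (by simp)
      obtain ⟨y, hy⟩ := exists_SU hF (on1 (on.self p)) (on1 t1) (by omega)
      have h2 : ρ₀.range ⊔ ρ₀'.range ≤ fixS (♭h *ᵥ Pi.single p 1) :=
        sup_le (by rintro _ ⟨s, rfl⟩; exact a s) (by rintro _ ⟨s, rfl⟩; exact b s)
      have h3 : t = _ := (hy 0).symm.trans (h2 (hg ▸ Subgroup.mem_top y))
      exact one_ne_zero (t1.symm.trans (h3 ▸ t2 0))) (m .. ▸ hα) (m .. ▸ hβ) (by rw [m, e', hβ]) (m .. ▸ hγ)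
  simp only [m, conj_fix] at h1
  exact ⟨_, on.comp hu, h1⟩

/-- standard position over the field with four elements -/
theorem std_two {ψ : SU 3 F 2 →* G} (hv : Std hF v V A B) (hψ : Std hF ψ V' B C) (hc : ∀ x ∈ A, ∀ y ∈ C, x * y = y * x)
    {g : SU 4 F 2 →* ↥(V ⊔ V')} (hg : Function.Surjective g) : ∃ w : SU 4 F 2 →* G, Std hF (w.comp (F0 hF)) V A B ∧
      Std hF (w.comp (F1 hF)) V' B C ∧ (2 = 2 → Function.Injective w) := by
  obtain ⟨v', hv', e⟩ := hv.adjust hψ hc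
  obtain ⟨i1, i2⟩ := hv.inj_two hv' e hc
  have inj : Function.Injective g := (injective_iff_map_eq_one _).2 fun x hx => by
    obtain ⟨y, hy⟩ := hg ⟨v (E0 hF (wey hF)), Subgroup.mem_sup_left (hv.mem _)⟩
    have := ker_central hF (y := y) (fun h => by
      simpa [mat_E0, mat_su2] using congrFun₂ (congrArg (suMat 3 F 2)
        (i1 ((congrArg Subtype.val (hy.symm.trans h)).trans (map_one v).symm))) 0 1) hx
    rwa [Subgroup.card_eq_one.1 (card_center_SU hF (n := 4) (by omega))] at this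
  let φ := MulEquiv.ofBijective g ⟨inj, hg⟩
  let ρ₀ := φ.symm.toMonoidHom.comp (v.codRestrict (V ⊔ V') fun s => Subgroup.mem_sup_left (hv.mem s))
  let ρ₀' := φ.symm.toMonoidHom.comp (v'.codRestrict (V ⊔ V') fun s => Subgroup.mem_sup_right (hv'.mem s))
  let g' := (V ⊔ V').subtype.comp g
  have inj' : Function.Injective g' := Subtype.val_injective.comp inj
  have k : ∀ s, g' (ρ₀ s) = v s := fun s => congrArg Subtype.val (φ.apply_symm_apply _)
  have k' : ∀ s, g' (ρ₀' s) = v' s := fun s => congrArg Subtype.val (φ.apply_symm_apply _)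
  have hr : g'.range = V ⊔ V' := (range_comp_surj _ hg).trans (Subgroup.range_subtype _)
  clear_value ρ₀ ρ₀' g'
  have e' : ∀ s, ρ₀' (E0 hF s) = ρ₀ (E1 hF s) := fun s => inj' (by rw [k, k', e])
  obtain ⟨x, on, a1, b1, f1, f2⟩ := pos_two (hF := hF) (fun a b h => i1 (by rw [← k, ← k, h]))
    (fun a b h => i2 (by rw [← k', ← k', h])) e'
    (fun s t => inj' (by rw [map_mul, map_mul, k, k', hc _ (hv.mem0 _) _ (hv'.mem1 _)]))
    (Subgroup.map_injective inj' (by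
      rw [Subgroup.map_sup, MonoidHom.map_range, MonoidHom.map_range, show g'.comp ρ₀ = v from MonoidHom.ext k,
        show g'.comp ρ₀' = v' from MonoidHom.ext k', hv.rng, hv'.rng,
        ← MonoidHom.range_eq_map, hr]))
  obtain ⟨y, h1, h2⟩ := finish (g := g') (fun x hx => inj' (hx.trans (map_one _).symm) ▸ one_mem _) on hv hv'
    (fun x hx => by obtain ⟨t, rfl⟩ := hv.ex0 hx; exact ⟨_, k _, f1 t, a1 _⟩)
    (fun x hx => by obtain ⟨t, rfl⟩ := hv.ex1 hx; exact ⟨_, k _, e' t ▸ b1 _, a1 _⟩)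
    (fun x hx => by obtain ⟨t, rfl⟩ := hv'.ex1 hx; exact ⟨_, k' _, b1 _, f2 t⟩)
    (Or.inr ⟨i1, i2, fun x hx => by obtain ⟨t, rfl⟩ := hv.ex hx; exact ⟨_, k _, a1 _⟩,
      fun x hx => by obtain ⟨t, rfl⟩ := hv'.ex hx; exact ⟨_, k' _, b1 _⟩⟩)
  exact ⟨_, h1, h2, fun _ => inj'.comp (MulAut.conj y).injective⟩

end Two

end CL.Chev.Phan
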