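/-
CHEV library: Phan's theorem, X.  Standard position in the four-dimensional group over the field with nine elements.
-/
import Cfsg.Agent.CHEV.Phan9

set_option autoImplicit false
set_option linter.unusedSectionVars false
set_option maxHeartbeats 200000

namespace CL.Chev.Phan

open CL.Witt CL.Uni Module Cfsg Matrix CL.SpU CL.SqField CL.SL2Hom

theorem braid_rel {X : Type*} [Group X] {a b : X} (ha : a ^ 3 = 1) (hb : b ^ 3 = 1) (h : a * b * a = b * a * b) :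
    ((a * b * a) ^ 2) ^ 2 = 1 ∧ Commute ((a * b * a) ^ 2) a ∧ Commute ((a * b * a) ^ 2) b ∧
      a * b⁻¹ * (a * b * a)⁻¹ = (a * b * a) ^ 2 * ((a * b * a)⁻¹ * (a * b⁻¹)) := by
  have a2 : a⁻¹ = a * a := inv_eq_of_mul_eq_one_left (by rw [← ha, pow_three'])
  have d3 : (a * b) ^ 3 = (a * b * a) ^ 2 := by
    conv_rhs => rw [sq]; congr; rfl; rw [h]
    simp only [pow_succ, pow_zero, one_mul, mul_assoc]
  have d4 : a⁻¹ * (a * b * a)⁻¹ * a = a * b⁻¹ := by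
    calc _ = (a * a)⁻¹ * b⁻¹ := by group
      _ = _ := by rw [← a2, inv_inv]
  have d5 : a * (a * b * a)⁻¹ = (a * b)⁻¹ := by group
  have d1 : a * b * a * a = b * (a * b * a) := by conv_lhs => rw [h]
                                                  group
  have d2 : a * b * a * b = a * (a * b * a) := by conv_rhs => rw [h]
                                                  group
  generalize a * b * a = D at *
  have c1 : Commute (D ^ 2) a := by rw [Commute, SemiconjBy, sq, mul_assoc, d1, ← mul_assoc, d2, mul_assoc]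
  have c2 : Commute (D ^ 2) b := by rw [Commute, SemiconjBy, sq, mul_assoc, d2, ← mul_assoc, d1, mul_assoc]
  have e1 : (a⁻¹ * D⁻¹) ^ 3 = 1 := by
    rw [show a⁻¹ * D⁻¹ = a * b⁻¹ * a⁻¹ by rw [← d4]; group, conj_pow, inv_pow, hb]; simp
  have e2 : a * D⁻¹ * a⁻¹ * (D⁻¹ * (a * b⁻¹)) = 1 := by
    calc _ = a * a * (a⁻¹ * D⁻¹) ^ 3 * a := by rw [← d4, pow_three']; group
      _ = _ := by rw [e1, mul_one, ← pow_three', ha]
  have e3 : a * b⁻¹ * D⁻¹ * (a * D⁻¹ * a⁻¹) = (D ^ 2)⁻¹ := by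
    calc _ = a⁻¹ * a⁻¹ * ((a * D⁻¹) ^ 3 * a⁻¹) := by rw [← d4, pow_three']; group
      _ = _ := by rw [d5, inv_pow, d3, c1.inv_inv.eq, ← mul_assoc, ← pow_three', inv_pow, ha, inv_one, one_mul]
  have e4 : a * D⁻¹ * a⁻¹ * (a * D⁻¹ * a⁻¹) = (D ^ 2)⁻¹ := by
    calc _ = a * ((D ^ 2)⁻¹ * a⁻¹) := by group
      _ = _ := by rw [c1.inv_inv.eq, mul_inv_cancel_left]
  have e5 : a * b⁻¹ * (a * b⁻¹) = (D ^ 2)⁻¹ := by
    calc _ = a⁻¹ * ((D ^ 2)⁻¹ * a) := by rw [← d4]; group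
      _ = _ := by rw [c1.inv_left.eq, inv_mul_cancel_left]
  have e6 : a * b⁻¹ * D⁻¹ = a * D⁻¹ * a⁻¹ := mul_right_cancel (e3.trans e4.symm)
  have e7 : (D ^ 2) ^ 2 = 1 := by
    rw [← e6, show a * b⁻¹ * D⁻¹ * (D⁻¹ * (a * b⁻¹)) = a * b⁻¹ * ((D ^ 2)⁻¹ * (a * b⁻¹)) by group,
      (c1.mul_right c2.inv_right).inv_left.eq, ← mul_assoc, e5, ← _root_.mul_inv_rev, inv_eq_one] at e2
    rw [sq, e2]
  refine ⟨e7, c1, c2, ?_⟩
  rw [e6, ← inv_eq_of_mul_eq_one_right e2, eq_mul_inv_iff_mul_eq, e4, inv_eq_of_mul_eq_one_right (sq (D ^ 2) ▸ e7)]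

variable {F : Type*} [Field F] [Fintype F] {G : Type*} [Group G] (hF : Fintype.card F = 3 ^ 2)

include hF in
theorem three_zero : (3 : F) = 0 := by simpa using cast_q hF

include hF in
theorem two_ne : (2 : F) ≠ 0 := fun h => one_ne_zero (by linear_combination three_zero hF - h : (1 : F) = 0)

theorem exists_gens_SL {K : Type*} [Field K] (h3 : ((3 : ℕ) : K) = 0) (h : ∀ t : K, t ^ 3 = t) :
    ∃ a b : Matrix.SpecialLinearGroup (Fin 2) K, a ^ 3 = 1 ∧ b ^ 3 = 1 ∧ a * b * a = b * a * b ∧ ((a * b * a) ^ 2).1 = -1 ∧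
      ∀ L : Subgroup (Matrix.SpecialLinearGroup (Fin 2) K), a ∈ L → b ∈ L → ∀ s, s ∈ L := by
  have h4 : ∀ t : K, ∃ k : ℕ, t = k * 1 ∧ ∃ k : ℕ, t = k * -1 := fun t => by
    have h5 := h t
    have : t = 0 ∨ t = 1 ∨ t = -1 := by grind
    rcases this with rfl | rfl | rfl
    exacts [⟨0, by simp, 0, by simp⟩, ⟨1, by simp, 2, by grind⟩, ⟨2, by grind, 1, by simp⟩]
  refine ⟨upper 1, lower (-1), by rw [CTM.upper_pow, h3, zero_mul, CTM.upper_zero],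
    by rw [CTM.lower_pow, h3, zero_mul, CTM.lower_zero], (CTM.braid_iff one_ne_zero).2 (one_mul _), ?_,
    fun L ha hb => CTM.mem_of_upper_lower (fun t => ?_) fun t => ?_⟩
  · simp [coe_upper, coe_lower, sq]; ext i j; fin_cases i <;> fin_cases j <;> simp
  · obtain ⟨k, rfl, -⟩ := h4 t; rw [← CTM.upper_pow]; exact pow_mem ha k
  · obtain ⟨-, -, k, rfl⟩ := h4 t; rw [← CTM.lower_pow]; exact pow_mem hb k

include hF in
theorem exists_gens : ∃ a b : SU 2 F 3, a ^ 3 = 1 ∧ b ^ 3 = 1 ∧ a * b * a = b * a * b ∧ ♭((a * b * a) ^ 2) = -1 ∧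
    ∀ K : Subgroup (SU 2 F 3), a ∈ K → b ∈ K → ∀ s, s ∈ K := by
  obtain ⟨φ, P, hP⟩ := exists_coord hF
  obtain ⟨a, b, h1, h2, h3, h4, h5⟩ := exists_gens_SL (K := fixedSubfield hF) (Subtype.ext (cast_q hF))
    fun t => Subtype.ext t.2
  refine ⟨φ a, φ b, by rw [← map_pow, h1, map_one], by rw [← map_pow, h2, map_one], by simp only [← map_mul, h3], ?_,
    fun K ha hb s => ?_⟩
  · rw [← map_mul, ← map_mul, ← map_pow, hP, h4]
    simp [Matrix.map_neg]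
  · obtain ⟨s, rfl⟩ := φ.surjective s
    exact h5 (K.comap φ.toMonoidHom) ha hb s

variable {hF}

omit [Fintype F] in
theorem exists_bool {d : Fin 4 → F} (h2 : (2 : F) ≠ 0) (h : ∀ i, d i ^ 2 = 1) (hp : ∏ i, d i = 1) :
    ∃ b : Fin 4 → Bool, (b 0 ^^ b 1 ^^ b 2 ^^ b 3) = false ∧ ∀ i, d i = if b i then -1 else 1 := by
  have : ∀ i, ∃ b : Bool, d i = if b then -1 else 1 := fun i =>
    (sq_eq_one_iff.1 (h i)).elim (fun e => ⟨false, e⟩) fun e => ⟨true, e⟩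
  choose b hb using this
  refine ⟨b, ?_, hb⟩
  have h3 : (-1 : F) ≠ 1 := fun e => h2 (by linear_combination -e)
  rw [Fin.prod_univ_four, hb, hb, hb, hb] at hp
  revert hp
  cases b 0 <;> cases b 1 <;> cases b 2 <;> cases b 3 <;> simp [h3]

theorem bool_pat (b c : Fin 4 → Bool) (h1 : (b 0 ^^ b 1 ^^ b 2 ^^ b 3) = false) (h2 : (c 0 ^^ c 1 ^^ c 2 ^^ c 3) = false)
    (h3 : ¬ ∀ i, b i = b 0) : (∃ i j, i ≠ j ∧ b i = false ∧ b j = false) ∧ (∃ i, b i = true) ∧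
      ((¬ ∀ i, c i = c 0) → (¬ ∀ i, (b i ^^ c i) = (b 0 ^^ c 0)) → ∀ e f, ∃ i, b i = e ∧ c i = f) := by
  have key : ∀ b₀ b₁ b₂ b₃ c₀ c₁ c₂ c₃ : Bool, let b := ![b₀, b₁, b₂, b₃]; let c := ![c₀, c₁, c₂, c₃]
      (b 0 ^^ b 1 ^^ b 2 ^^ b 3) = false → (c 0 ^^ c 1 ^^ c 2 ^^ c 3) = false → (¬ ∀ i, b i = b 0) →
      (∃ i j, i ≠ j ∧ b i = false ∧ b j = false) ∧ (∃ i, b i = true) ∧
      ((¬ ∀ i, c i = c 0) → (¬ ∀ i, (b i ^^ c i) = (b 0 ^^ c 0)) → ∀ e f, ∃ i, b i = e ∧ c i = f) := by decide +kernel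
  have e : ∀ b : Fin 4 → Bool, b = ![b 0, b 1, b 2, b 3] := fun b => by ext i; fin_cases i <;> rfl
  have := key (b 0) (b 1) (b 2) (b 3) (c 0) (c 1) (c 2) (c 3)
  rw [← e b, ← e c] at this
  exact this h1 h2 h3

variable (hF) in
theorem inv_pat {w w' : SU 4 F 3} (h : w ^ 2 = 1) (h' : w' ^ 2 = 1) (hc : w * w' = w' * w)
    (n : w ∉ Subgroup.center (SU 4 F 3)) : ∃ x : Fin 4 → Fin 4 → F, IsON (std hF _) x ∧
      (∃ i j, i ≠ j ∧ ♭w *ᵥ x i = x i ∧ ♭w *ᵥ x j = x j) ∧ (∃ i, ♭w *ᵥ x i = -x i) ∧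
      (w' ∉ Subgroup.center (SU 4 F 3) → w * w' ∉ Subgroup.center (SU 4 F 3) → ∃ u : Fin 4 → Fin 4, Function.Injective u ∧
        (♭w *ᵥ x (u 0) = -x (u 0) ∧ ♭w *ᵥ x (u 1) = -x (u 1) ∧ ♭w *ᵥ x (u 2) = x (u 2) ∧ ♭w *ᵥ x (u 3) = x (u 3)) ∧
        ♭w' *ᵥ x (u 0) = x (u 0) ∧ ♭w' *ᵥ x (u 1) = -x (u 1) ∧ ♭w' *ᵥ x (u 3) = x (u 3)) := by
  have p4 : ∀ {w : SU 4 F 3}, w ^ 2 = 1 → w ^ (3 + 1) = 1 := fun h => by rw [show 3 + 1 = 2 * 2 from rfl, pow_mul, h, one_pow]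
  obtain ⟨y, H⟩ := exists_diag hF [w, w'] (by simp [p4 h, p4 h']) (by simp [hc])
  have key : ∀ {w : SU 4 F 3}, w ^ 2 = 1 → (∃ d, ♭(y⁻¹ * w * y) = diagonal d) → ∃ b : Fin 4 → Bool,
      (b 0 ^^ b 1 ^^ b 2 ^^ b 3) = false ∧ ∀ i, ♭w *ᵥ (♭y *ᵥ Pi.single i 1) =
        (if b i then -1 else 1 : F) • ♭y *ᵥ Pi.single i 1 := fun {w} h ⟨d, hd⟩ => by
    have h1 : ∀ i, ♭w *ᵥ (♭y *ᵥ Pi.single i 1) = d i • ♭y *ᵥ Pi.single i 1 := fun i => by
      rw [← mulVec_smul, ← Pi.single_smul, smul_eq_mul, ← diagonal_mulVec_single, ← hd]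
      simp only [mulVec_mulVec, ← map_mul, mul_assoc, mul_inv_cancel_left]
    obtain ⟨b, h2, h3⟩ := exists_bool (two_ne hF) (fun i => eig_eq_one (fun e => by
      simpa [e] using (B_mat hF y _ _).trans ((isON_single hF _).self i)) (h1 i) h) (by rw [← det_diagonal, ← hd, det_mat])
    exact ⟨b, h2, fun i => h3 i ▸ h1 i⟩
  have cen : ∀ {w : SU 4 F 3} {c : F}, (∀ i, ♭w *ᵥ (♭y *ᵥ Pi.single i 1) = c • ♭y *ᵥ Pi.single i 1) →
      w ∈ Subgroup.center (SU 4 F 3) := fun {w c} h => (mem_center_SU_iff hF (by omega)).2 ⟨c, by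
    have : ♭w * ♭y = c • ♭y := Matrix.ext_of_mulVec_single fun i => by rw [← mulVec_mulVec, h, smul_mulVec]
    rw [← suMat_apply, ← mul_inv_cancel_right w y, map_mul, map_mul, this, smul_mul_assoc, ← map_mul, mul_inv_cancel, map_one]⟩
  obtain ⟨b, b1, b2⟩ := key h (H w (by simp))
  obtain ⟨c, c1, c2⟩ := key h' (H w' (by simp))
  obtain ⟨⟨i, j, a1, a2, a3⟩, ⟨k, a4⟩, a5⟩ := bool_pat b c b1 c1 fun e => n (cen fun i => e i ▸ b2 i)
  refine ⟨fun i => ♭y *ᵥ Pi.single i 1, (isON_single hF (Fin 4)).map (Form.SO_le_O _ (act_mem hF y)),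
    ⟨i, j, a1, by simp only [b2, a2]; simp, by simp only [b2, a3]; simp⟩, ⟨k, by simp only [b2, a4]; simp⟩, fun n' n'' => ?_⟩
  choose u hu hu' using a5 (fun e => n' (cen fun i => e i ▸ c2 i)) fun e => n'' (cen (c := if b 0 ^^ c 0 then -1 else 1) fun i => by
    rw [map_mul, ← mulVec_mulVec, c2, mulVec_smul, b2, smul_smul, ← e i]
    cases b i <;> cases c i <;> simp)
  have ne : ∀ {e f e' f'}, (e, f) ≠ (e', f') → u e f ≠ u e' f' := fun {e f e' f'} h k => h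
    (Prod.ext ((hu e f).symm.trans (k ▸ hu e' f')) ((hu' e f).symm.trans (k ▸ hu' e' f')))
  refine ⟨![u true false, u true true, u false true, u false false], inj_four (ne (by simp)) (ne (by simp)) (ne (by simp))
    (ne (by simp)) (ne (by simp)) (ne (by simp)), ?_⟩
  simp only [b2, c2]
  simp [hu, hu']

variable (hF) in
include hF in
theorem fix_of_anti {w i j c : SU 4 F 3} (h : w ^ 2 = 1) (n : w ∉ Subgroup.center (SU 4 F 3)) (hi : Commute w i)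
    (hj : Commute w j) (hij : i * j = w * (j * i)) (c1 : Commute c w) (c2 : Commute c i) (c3 : Commute c j) (hc : c ^ 3 = 1)
    {x : Fin 4 → F} (hx : ♭w *ᵥ x = -x) : ♭c *ᵥ x = x := by
  obtain ⟨e, on, ⟨p, r, a1, a2, a3⟩, -⟩ := inv_pat hF h h rfl n
  have h2 := two_ne hF
  let W := LinearMap.eqLocus (mulVecLin ♭w) (LinearMap.lsmul F _ (-1))
  have hW : ∀ {x}, x ∈ W ↔ ♭w *ᵥ x = -x := fun {x} => by simp [W, LinearMap.mem_eqLocus]
  have on' := on2 (on.self p) (on.self r) (on.ne a1)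
  have h3 : finrank F W ≤ 2 := by
    have h4 := (std_nondeg hF (Fin 4)).finrank_add_finrank_perp (Submodule.span F (Set.range ![e p, e r]))
    rw [finrank_span_eq_card on'.linearIndependent] at h4
    have h5 : W ≤ (std hF _).perp (Submodule.span F (Set.range ![e p, e r])) := fun x hx => (Form.mem_perp_span _).2 (by
      have k : ∀ y, ♭w *ᵥ y = y → (std hF _).B y x = 0 := fun y hy => B_eig hF w (hy.trans (one_smul F y).symm)
        ((hW.1 hx).trans (neg_one_smul F x).symm) fun e => h2 (by linear_combination -e)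
      simp [k _ a2, k _ a3])
    have := Submodule.finrank_mono h5
    simp at h4; omega
  have mv : ∀ {a b : SU 4 F 3}, Commute a b → ∀ x, ♭a *ᵥ (♭b *ᵥ x) = ♭b *ᵥ (♭a *ᵥ x) := fun h x => by
    rw [mulVec_mulVec, mulVec_mulVec, ← map_mul, ← map_mul, h.eq]
  have inv : ∀ {g}, Commute w g → ∀ x, ♭w *ᵥ x = -x → ♭w *ᵥ (♭g *ᵥ x) = -(♭g *ᵥ x) := fun h x hx => by
    rw [mv h, hx, mulVec_neg]
  by_contra h0
  obtain ⟨y, y0, y1, y2⟩ : ∃ y, y ≠ 0 ∧ ♭w *ᵥ y = -y ∧ ♭c *ᵥ y = y := by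
    have k : ∀ x, ♭w *ᵥ x = -x → ♭w *ᵥ (♭c *ᵥ x - x) = -(♭c *ᵥ x - x) := fun x hx => by
      rw [mulVec_sub, inv c1.symm x hx, hx]; abel
    by_cases h5 : ♭c *ᵥ (♭c *ᵥ x - x) = ♭c *ᵥ x - x
    · exact ⟨_, sub_ne_zero.2 h0, k x hx, h5⟩
    refine ⟨_, sub_ne_zero.2 h5, k _ (k x hx), ?_⟩
    have h6 : ♭c *ᵥ ♭c *ᵥ ♭c *ᵥ x = x := by
      rw [mulVec_mulVec, mulVec_mulVec, ← map_mul, ← map_mul, ← pow_three', hc, map_one, one_mulVec]
    simp only [mulVec_sub, h6]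
    linear_combination (norm := module) (three_zero hF) • (♭c *ᵥ x - ♭c *ᵥ ♭c *ᵥ x)
  have key : ∀ {g}, Commute w g → Commute c g → ∃ α : F, α • y = ♭g *ᵥ y := fun {g} g1 g2 => by
    by_contra h5
    have h6 : Submodule.span F (Set.range ![y, ♭g *ᵥ y]) = W := Submodule.eq_of_le_of_finrank_le
      (Submodule.span_le.2 (by simp [Set.insert_subset_iff, hW, y1, inv g1 y y1]))
      (by rwa [finrank_span_eq_card ((LinearIndependent.pair_iff' y0).2 fun α e => h5 ⟨α, e⟩)])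
    have h7 := h6 ▸ hW.2 hx
    rw [range_cons, range_cons, range_empty, Set.union_empty, Set.singleton_union, Submodule.mem_span_pair] at h7
    obtain ⟨s, t, rfl⟩ := h7
    exact h0 (by rw [mulVec_add, mulVec_smul, mulVec_smul, mv g2, y2])
  obtain ⟨α, hα⟩ := key hi c2
  obtain ⟨β, hβ⟩ := key hj c3
  have h5 := congrArg (fun g => ♭g *ᵥ y) hij
  have h6 : ♭(i * j) *ᵥ y = (α * β) • y := by rw [map_mul, ← mulVec_mulVec, ← hβ, mulVec_smul, ← hα, smul_smul, mul_comm]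
  simp only [map_mul, ← mulVec_mulVec, ← hα, ← hβ, mulVec_smul, y1] at h5
  have h7 : (α * β) • y = 0 := (smul_eq_zero.1 (show (2 : F) • (α * β) • y = 0 by
    linear_combination (norm := module) h5)).resolve_left h2
  exact y0 (by rw [← mat_inv_cancel (i * j)⁻¹ y, inv_inv, h6, h7, mulVec_zero])

variable {v v' : SU 3 F 3 →* G} {V A B V' C : Subgroup G}

theorem Std.not_cen (hv : Std hF v V A B) {d : Fin 3 → F} {s : SU 3 F 3} (hs : ♭s = diagonal d)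
    (h : ∀ t, v s * v t = v t * v s) : d 0 = d 1 ∧ d 1 = d 2 := by
  obtain ⟨c, hc⟩ := hv.smul (g := s * E0 hF (wey hF)) (g' := E0 hF (wey hF) * s) (by rw [map_mul, map_mul, h])
  obtain ⟨c', hc'⟩ := hv.smul (g := s * E1 hF (wey hF)) (g' := E1 hF (wey hF) * s) (by rw [map_mul, map_mul, h])
  have h0 := det_mat s
  rw [hs, det_diagonal, Fin.prod_univ_three] at h0
  have a1 := congrFun₂ hc 2 2
  have a2 := congrFun₂ hc 1 0
  have a3 := congrFun₂ hc' 0 0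
  have a4 := congrFun₂ hc' 2 1
  simp only [map_mul, hs, Matrix.smul_apply, diagonal_mul, mul_diagonal] at a1 a2 a3 a4
  simp [mat_E0, mat_E1, mat_su2] at a1 a2 a3 a4
  clear hc hc' h hs
  grind

theorem pow_four_of_cen {x : SU 4 F 3} (hF : Fintype.card F = 3 ^ 2) (hx : x ∈ Subgroup.center (SU 4 F 3)) : x ^ 4 = 1 := by
  obtain ⟨c, hc⟩ := (mem_center_SU_iff hF (by omega)).1 hx
  have := det_mat x
  rw [← suMat_apply] at hc
  rw [hc] at this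
  exact mat_ext (by rw [map_pow, hc, smul_pow, show c ^ 4 = 1 by simpa using this]; simp)

theorem eq_one_of_cen {x : SU 4 F 3} (hF : Fintype.card F = 3 ^ 2) (hx : x ∈ Subgroup.center (SU 4 F 3)) {y : Fin 4 → F}
    (h0 : y ≠ 0) (h : ♭x *ᵥ y = y) : x = 1 := by
  obtain ⟨c, hc⟩ := (mem_center_SU_iff hF (by omega)).1 hx
  rw [← suMat_apply] at hc
  rw [hc, smul_mulVec, one_mulVec] at h
  exact mat_ext (by rw [hc, smul_left_injective F h0 (h.trans (one_smul F y).symm), one_smul, map_one])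

variable {g : SU 4 F 3 →* G} (hk : ∀ x, g x = 1 → x ∈ Subgroup.center (SU 4 F 3))
include hk hF

theorem uniq3 {x y : SU 4 F 3} (e : g x = g y) (hx : x ^ 3 = 1) (hy : y ^ 3 = 1) : x = y := by
  have h1 := hk (x⁻¹ * y) (by rw [map_mul, map_inv, e, inv_mul_cancel])
  have h2 : (x⁻¹ * y) ^ 3 = 1 := by
    rwa [← mul_inv_cancel_left x y, Commute.mul_pow (Subgroup.mem_center_iff.1 h1 x), hx, one_mul] at hy
  have h3 := pow_four_of_cen hF h1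
  rwa [pow_succ, h2, one_mul, inv_mul_eq_one] at h3

theorem lift3 {y : G} (hy : y ∈ g.range) (h : y ^ 3 = 1) : ∃ x, g x = y ∧ x ^ 3 = 1 := by
  obtain ⟨x, rfl⟩ := hy
  rw [← map_pow] at h
  refine ⟨x * x ^ 3, by rw [map_mul, h, mul_one], ?_⟩
  rw [Commute.mul_pow (Commute.self_pow x 3), ← pow_succ', pow_four_of_cen hF (hk _ h)]

theorem comm3 {x y : SU 4 F 3} (e : g x * g y = g y * g x) (hy : y ^ 3 = 1) : Commute x y :=
  mul_inv_eq_iff_eq_mul.1 (uniq3 (hF := hF) hk (by rw [map_mul, map_mul, e, map_inv, mul_inv_cancel_right])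
    (by rw [conj_pow, hy]; simp) hy)

theorem braid3 {x y : SU 4 F 3} (e : g x * g y * g x = g y * g x * g y) (hx : x ^ 3 = 1) (hy : y ^ 3 = 1) :
    x * y * x = y * x * y := by
  have := uniq3 (hF := hF) hk (x := x * y * x * (x * y)⁻¹) (y := y)
    (by rw [map_mul, map_mul, map_mul, e, map_inv, map_mul, mul_assoc (g y), mul_inv_cancel_right]) (by rw [conj_pow, hx]; simp) hy
  rwa [mul_inv_eq_iff_eq_mul, ← mul_assoc] at this

omit hk in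
theorem exists_cyc3 : ∃ n : SU 3 F 3, ∀ s, n * E0 hF s = E1 hF s * n :=
  ⟨mkSU hF !![0, 0, 1; 1, 0, 0; 0, 1, 0] (by
    ext i j; fin_cases i <;> fin_cases j <;> simp [Matrix.mul_apply, ct_apply, Fin.sum_univ_succ]) (by simp [det_fin_three]),
    fun s => mat_ext (by simp [mat_mk, mat_E0, mat_E1])⟩

set_option maxHeartbeats 400000 in
theorem std_three_aux (hv : Std hF v V A B) (hv' : Std hF v' V' B C) (hc : ∀ x ∈ A, ∀ y ∈ C, x * y = y * x)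
    (hr : g.range = V ⊔ V') : ∃ x : Fin 4 → Fin 4 → F, IsON (std hF _) x ∧
      (∀ a ∈ A, ∃ s, g s = a ∧ ♭s *ᵥ x 2 = x 2 ∧ ♭s *ᵥ x 3 = x 3) ∧
      (∀ a ∈ B, ∃ s, g s = a ∧ ♭s *ᵥ x 0 = x 0 ∧ ♭s *ᵥ x 3 = x 3) ∧
      ∀ a ∈ C, ∃ s, g s = a ∧ ♭s *ᵥ x 0 = x 0 ∧ ♭s *ᵥ x 1 = x 1 := by
  obtain ⟨a, b, ha, hb, hab, hz, hgen⟩ := exists_gens hF
  have m : ∀ s, v s ∈ g.range := fun s => hr ▸ Subgroup.mem_sup_left (hv.mem s)
  have m' : ∀ s, v' s ∈ g.range := fun s => hr ▸ Subgroup.mem_sup_right (hv'.mem s)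
  have h2 := two_ne hF
  have h3 : (-1 : F) ≠ 1 := fun e => h2 (by linear_combination -e)
  obtain ⟨a₁, a1, a2⟩ := lift3 (hF := hF) hk (m (E0 hF a)) (by simp [← map_pow, ha])
  obtain ⟨b₁, b1, b2⟩ := lift3 (hF := hF) hk (m (E0 hF b)) (by simp [← map_pow, hb])
  obtain ⟨a₃, a3, a4⟩ := lift3 (hF := hF) hk (m' (E1 hF a)) (by simp [← map_pow, ha])
  obtain ⟨b₃, b3, b4⟩ := lift3 (hF := hF) hk (m' (E1 hF b)) (by simp [← map_pow, hb])
  obtain ⟨r1, r2, r3, r4⟩ := braid_rel a2 b2 (braid3 (hF := hF) hk (by simp only [a1, b1, ← map_mul, hab]) a2 b2)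
  obtain ⟨s1, s2, s3, s4⟩ := braid_rel a4 b4 (braid3 (hF := hF) hk (by simp only [a3, b3, ← map_mul, hab]) a4 b4)
  have c1 : Commute a₁ a₃ := comm3 (hF := hF) hk (by rw [a1, a3, hc _ (hv.mem0 _) _ (hv'.mem1 _)]) a4
  have c2 : Commute a₁ b₃ := comm3 (hF := hF) hk (by rw [a1, b3, hc _ (hv.mem0 _) _ (hv'.mem1 _)]) b4
  have c3 : Commute b₁ a₃ := comm3 (hF := hF) hk (by rw [b1, a3, hc _ (hv.mem0 _) _ (hv'.mem1 _)]) a4
  have c4 : Commute b₁ b₃ := comm3 (hF := hF) hk (by rw [b1, b3, hc _ (hv.mem0 _) _ (hv'.mem1 _)]) b4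
  have g1 : g ((a₁ * b₁ * a₁) ^ 2) = v (E0 hF ((a * b * a) ^ 2)) := by simp [a1, b1]
  have g3 : g ((a₃ * b₃ * a₃) ^ 2) = v' (E1 hF ((a * b * a) ^ 2)) := by simp [a3, b3]
  generalize (a * b * a) ^ 2 = z at hz g1 g3
  have z0 : ♭(E0 hF z) = diagonal ![-1, -1, 1] := by rw [mat_E0, hz]; ext i j; fin_cases i <;> fin_cases j <;> simp
  have z1 : ♭(E1 hF z) = diagonal ![1, -1, -1] := by rw [mat_E1, hz]; ext i j; fin_cases i <;> fin_cases j <;> simp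
  have cen : ∀ {x y}, x ∈ Subgroup.center (SU 4 F 3) → y ∈ g.range → g x * y = y * g x := by
    rintro x _ hx ⟨y, rfl⟩; rw [← map_mul, ← map_mul, Subgroup.mem_center_iff.1 hx]
  have n1 : (a₁ * b₁ * a₁) ^ 2 ∉ Subgroup.center _ := fun h => h3 (hv.not_cen z0 fun t => g1 ▸ cen h (m t)).2
  have n3 : (a₃ * b₃ * a₃) ^ 2 ∉ Subgroup.center _ := fun h => h3 (hv'.not_cen z1 fun t => g3 ▸ cen h (m' t)).1.symm
  have T : ∀ {a b c : SU 4 F 3}, ((a * b * a) ^ 2) ^ 2 = 1 → (a * b * a) ^ 2 ∉ Subgroup.center _ →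
      Commute ((a * b * a) ^ 2) a → Commute ((a * b * a) ^ 2) b →
      a * b⁻¹ * (a * b * a)⁻¹ = (a * b * a) ^ 2 * ((a * b * a)⁻¹ * (a * b⁻¹)) → Commute c a → Commute c b → c ^ 3 = 1 →
      ∀ {x}, ♭((a * b * a) ^ 2) *ᵥ x = -x → c ∈ fixS x := fun r1 n r2 r3 r4 c1 c2 hc x hx =>
    fix_of_anti hF r1 n (r2.mul_right r3.inv_right) ((r2.mul_right r3).mul_right r2).inv_right r4
      (((c1.mul_right c2).mul_right c1).pow_right 2) (c1.mul_right c2.inv_right) ((c1.mul_right c2).mul_right c1).inv_right hc hx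
  have T3 := fun x hx => And.intro (T r1 n1 r2 r3 r4 c1.symm c3.symm a4 (x := x) hx) (T r1 n1 r2 r3 r4 c2.symm c4.symm b4 hx)
  have T1' := fun x hx => And.intro (T s1 n3 s2 s3 s4 c1 c2 a2 (x := x) hx) (T s1 n3 s2 s3 s4 c3 c4 b2 hx)
  have wm : ∀ {K : Subgroup (SU 4 F 3)} {a b}, a ∈ K → b ∈ K → (a * b * a) ^ 2 ∈ K := fun ha hb =>
    pow_mem (mul_mem (mul_mem ha hb) ha) 2
  have T3' : ∀ x, ♭((a₁ * b₁ * a₁) ^ 2) *ᵥ x = -x → ♭((a₃ * b₃ * a₃) ^ 2) *ᵥ x = x := fun x hx => wm (T3 x hx).1 (T3 x hx).2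
  have c5 : Commute ((a₁ * b₁ * a₁) ^ 2) ((a₃ * b₃ * a₃) ^ 2) :=
    wm (K := Subgroup.centralizer {_}) (Subgroup.mem_centralizer_singleton_iff.2 (((c1.mul_right c2).mul_right c1).pow_right 2))
      (Subgroup.mem_centralizer_singleton_iff.2 (((c3.mul_right c4).mul_right c3).pow_right 2)) _ rfl |>.symm
  have wm1 : ∀ {K : Subgroup (SU 4 F 3)}, a₁ ∈ K → b₁ ∈ K → (a₁ * b₁ * a₁) ^ 2 ∈ K := wm
  generalize (a₁ * b₁ * a₁) ^ 2 = w₁ at *
  generalize (a₃ * b₃ * a₃) ^ 2 = w₃ at *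
  obtain ⟨e, on, ⟨p, -, -, p2, -⟩, ⟨k, k1⟩, pat⟩ := inv_pat hF r1 s1 c5.eq n1
  have e0 : ∀ i, e i ≠ 0 := fun i h => by simpa [h] using on.self i
  have T1 : ∀ x, ♭w₁ *ᵥ x = x → a₁ ∈ fixS x ∧ b₁ ∈ fixS x := fun x hx => T1' x (by
    obtain ⟨c, hc⟩ := (mem_center_SU_iff hF (by omega)).1 (show w₃ * w₁ ∈ Subgroup.center _ by
      by_contra h
      obtain ⟨u, -, ⟨-, u1, -⟩, -, u2, -⟩ := pat n3 (c5.eq ▸ h)
      refine e0 (u 1) ((smul_eq_zero.1 (show (2 : F) • e (u 1) = 0 by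
        linear_combination (norm := module) u2 - T3' _ u1)).resolve_left h2))
    have h4 : ∀ y, ♭w₃ *ᵥ (♭w₁ *ᵥ y) = c • y := fun y => by rw [mulVec_mulVec, ← map_mul, suMat_apply, hc]; simp [smul_mulVec]
    have h5 := h4 (e k)
    rw [k1, mulVec_neg, T3' _ k1, ← neg_one_smul F] at h5
    rw [← neg_one_smul F, smul_left_injective F (e0 k) h5, ← h4, hx])
  have LF : ∀ (u : SU 2 F 3 →* G) {K : Subgroup (SU 4 F 3)} {a' b'}, g a' = u a → g b' = u b → a' ∈ K → b' ∈ K →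
      ∀ t, ∃ s ∈ K, g s = u t := fun u K a' b' e1 e2 k1 k2 => hgen ((K.map g).comap u) ⟨_, k1, e1⟩ ⟨_, k2, e2⟩
  obtain ⟨S, S1, S2, S3⟩ : ∃ S : Subgroup (SU 4 F 3), a₁ ∈ S ∧ b₁ ∈ S ∧ ∀ s ∈ S, g s = 1 → s = 1 :=
    ⟨fixS (e p), (T1 _ p2).1, (T1 _ p2).2, fun s h h' => eq_one_of_cen hF (hk s h') (e0 p) h⟩
  obtain ⟨n, hn⟩ := exists_cyc3 (hF := hF)
  obtain ⟨y, hy⟩ := m n
  have g2 : ∀ {x s}, g x = v (E0 hF s) → g (y * x * y⁻¹) = v (E1 hF s) := fun h => by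
    rw [map_mul, map_mul, map_inv, hy, h, ← map_mul, hn, map_mul, mul_inv_cancel_right]
  have nm : ∀ {x}, g x ∈ A → x ^ 3 = 1 → x ∈ S.comap (MulAut.conj (y * w₁ * y⁻¹)).toMonoidHom := fun {x} h h' => by
    obtain ⟨t, ht⟩ := hv.ex0 (hv.nm1.2 (show ♭z 1 0 = 0 by simp [hz]) _ h)
    obtain ⟨s, h4, h5⟩ := LF (v.comp (E0 hF)) a1 b1 S1 S2 t
    have h6 : g s = g (y * w₁ * y⁻¹ * x * (y * w₁ * y⁻¹)⁻¹) := by
      rw [h5, MonoidHom.comp_apply, ht, map_mul _ _ (_⁻¹), map_mul _ _ x, map_inv, g2 g1]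
    have h7 : (y * w₁ * y⁻¹ * x * (y * w₁ * y⁻¹)⁻¹) ^ 3 = 1 := by rw [conj_pow, h']; simp
    rwa [uniq3 (hF := hF) hk h6 (S3 _ (pow_mem h4 3) (by rw [map_pow, h6, ← map_pow, h7, map_one])) h7] at h4
  have c6 : w₁ * (y * w₁ * y⁻¹) = y * w₁ * y⁻¹ * w₁ := by
    have h5 : y * w₁ * y⁻¹ * w₁ * (y * w₁ * y⁻¹)⁻¹ ∈ S :=
      Subgroup.mem_comap.1 (wm1 (nm (a1 ▸ hv.mem0 _) a2) (nm (b1 ▸ hv.mem0 _) b2))
    have h4 := S3 _ (mul_mem (inv_mem (wm1 S1 S2)) h5) (by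
      have : E1 hF z * E0 hF z = E0 hF z * E1 hF z := mat_ext (by simp [z0, z1, mul_comm])
      rw [map_mul, map_mul _ _ (_⁻¹), map_mul _ _ w₁, map_inv, map_inv, g2 g1, g1,
        ← map_mul, this, map_mul, mul_inv_cancel_right, inv_mul_cancel])
    rwa [inv_mul_eq_one, eq_mul_inv_iff_mul_eq] at h4
  obtain ⟨x, on', -, -, pat'⟩ := inv_pat hF r1 (by rw [conj_pow, r1]; simp) c6 n1
  obtain ⟨u, hu, ⟨u0, u1, u2, u3⟩, u4, -, u5⟩ := pat' (fun h => h3 (hv.not_cen z1 fun t => g2 g1 ▸ cen h (m t)).1.symm)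
    fun h => h3 (hv.not_cen (s := E0 hF z * E1 hF z) (d := ![-1, 1, -1]) (by
      rw [map_mul, z0, z1, diagonal_mul_diagonal]; congr 1; ext i; fin_cases i <;> simp)
      fun t => by rw [map_mul, ← g1, ← g2 g1, ← map_mul]; exact cen h (m t)).1
  have T2 : ∀ x, ♭(y * w₁ * y⁻¹) *ᵥ x = x → y * a₁ * y⁻¹ ∈ fixS x ∧ y * b₁ * y⁻¹ ∈ fixS x := fun x hx => by
    rw [← inv_inv y, inv_inv y⁻¹] at hx ⊢
    exact ⟨conj_fix.2 (T1 _ (conj_fix.1 hx)).1, conj_fix.2 (T1 _ (conj_fix.1 hx)).2⟩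
  refine ⟨_, on'.comp hu, fun t ht => ?_, fun t ht => ?_, fun t ht => ?_⟩
  · obtain ⟨t, rfl⟩ := hv.ex0 ht
    exact (LF (v.comp (E0 hF)) (K := fixS _ ⊓ fixS _) a1 b1 ⟨(T1 _ u2).1, (T1 _ u3).1⟩ ⟨(T1 _ u2).2, (T1 _ u3).2⟩ t).imp
      fun s h => ⟨h.2, h.1⟩
  · obtain ⟨t, rfl⟩ := hv.ex1 ht
    exact (LF (v.comp (E1 hF)) (K := fixS _ ⊓ fixS _) (g2 a1) (g2 b1) ⟨(T2 _ u4).1, (T2 _ u5).1⟩
      ⟨(T2 _ u4).2, (T2 _ u5).2⟩ t).imp fun s h => ⟨h.2, h.1⟩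
  · obtain ⟨t, rfl⟩ := hv'.ex1 ht
    exact (LF (v'.comp (E1 hF)) (K := fixS _ ⊓ fixS _) a3 b3 ⟨(T3 _ u0).1, (T3 _ u1).1⟩ ⟨(T3 _ u0).2, (T3 _ u1).2⟩ t).imp
      fun s h => ⟨h.2, h.1⟩

omit hk in
/-- standard position over the field with nine elements -/
theorem std_three (hv : Std hF v V A B) (hv' : Std hF v' V' B C) (hc : ∀ x ∈ A, ∀ y ∈ C, x * y = y * x)
    {g : SU 4 F 3 →* ↥(V ⊔ V')} (hg : Function.Surjective g) : ∃ w : SU 4 F 3 →* G, Std hF (w.comp (F0 hF)) V A B ∧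
      Std hF (w.comp (F1 hF)) V' B C ∧ (3 = 2 → Function.Injective w) := by
  have hr : ((V ⊔ V').subtype.comp g).range = V ⊔ V' := (range_comp_surj _ hg).trans (Subgroup.range_subtype _)
  obtain ⟨y, hy⟩ : v (E0 hF (wey hF)) ∈ ((V ⊔ V').subtype.comp g).range := hr.ge (Subgroup.mem_sup_left (hv.mem _))
  have hk : ∀ x, (V ⊔ V').subtype.comp g x = 1 → x ∈ Subgroup.center (SU 4 F 3) := fun x => ker_central hF (y := y) fun h => by
    simpa [mat_su2] using congrFun₂ (congrArg (suMat 2 F 3) (hv.inj0 ((hy.symm.trans h).trans (map_one _).symm))) 0 0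
  obtain ⟨x, on, h1, h2, h3⟩ := std_three_aux hk hv hv' hc hr
  obtain ⟨y, h4, h5⟩ := finish hk on hv hv' h1 h2 h3 (Or.inl le_rfl)
  exact ⟨_, h4, h5, by simp⟩

end CL.Chev.Phan
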