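/-
Dickson's lemma over an arbitrary finite-dimensional monogenic algebra `R = k[z]`, and the key lemma
on two quadratic elements `1 + α`, `1 + β`: the group generated by `1 + kα`, `1 + kβ` contains
`1 + r(z) α` for every polynomial `r`, where `z = αβ + βα`.
-/
import Mathlib
import Cfsg.Agent.CHEV.QuadRing

set_option autoImplicit false

namespace CL.Quad

open Matrix
open scoped MatrixGroups

section Gen

/-- matrices that are upper unitriangular modulo `z` -/
def triZ {R : Type*} [CommRing R] (z : R) : Subgroup SL(2, R) where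
  carrier := {g | z ∣ g 1 0 ∧ z ∣ g 0 0 - 1}
  one_mem' := ⟨by sl2_simp; simp, by sl2_simp; simp⟩
  mul_mem' := by
    rintro a b ⟨⟨x, hx⟩, ⟨y, hy⟩⟩ ⟨⟨x', hx'⟩, ⟨y', hy'⟩⟩
    refine ⟨⟨x * b 0 0 + a 1 1 * x', ?_⟩, ⟨y * b 0 0 + y' + a 0 1 * x', ?_⟩⟩ <;> sl2_simp
    · linear_combination b 0 0 * hx + a 1 1 * hx'
    · linear_combination b 0 0 * hy + hy' + a 0 1 * hx'
  inv_mem' := by
    rintro a ⟨⟨x, hx⟩, ⟨y, hy⟩⟩
    have hd := det_ent a
    refine ⟨⟨-x, ?_⟩, ⟨a 0 1 * x - y * a 1 1, ?_⟩⟩ <;> sl2_simp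
    · linear_combination -hx
    · linear_combination hd + a 0 1 * hx - a 1 1 * hy

theorem mem_triZ {R : Type*} [CommRing R] {z : R} {g : SL(2, R)} :
    g ∈ triZ z ↔ z ∣ g 1 0 ∧ z ∣ g 0 0 - 1 := Iff.rfl

theorem E12_mem_triZ {R : Type*} [CommRing R] (z r : R) : E12 r ∈ triZ z :=
  ⟨by sl2_simp; simp, by sl2_simp; simp⟩

theorem E21_mem_triZ {R : Type*} [CommRing R] (z r : R) : E21 (z * r) ∈ triZ z :=
  ⟨by sl2_simp; simp, by sl2_simp; simp⟩

variable {k : Type*} [Field k]

theorem exists_const_add {R : Type*} [CommRing R] [Algebra k R] {z : R}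
    (hgen : Algebra.adjoin k {z} = ⊤) (r : R) : ∃ c : k, ∃ r' : R, r = algebraMap k R c + z * r' := by
  have hr : r ∈ Algebra.adjoin k {z} := hgen ▸ Algebra.mem_top
  rw [Algebra.adjoin_singleton_eq_range_aeval] at hr
  obtain ⟨p, rfl⟩ := hr
  refine ⟨p.coeff 0, Polynomial.aeval z p.divX, ?_⟩
  show Polynomial.aeval z p = _
  conv_lhs => rw [← Polynomial.X_mul_divX_add p]
  rw [map_add, map_mul, Polynomial.aeval_X, Polynomial.aeval_C, add_comm]

theorem ring_gen_step {R : Type*} [CommRing R] [Algebra k R] [FiniteDimensional k R]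
    (hk2 : (2 : k) ≠ 0) (hk3 : Nat.card k ≠ 3) {z : R}
    (hgen : Algebra.adjoin k {z} = ⊤) {H : Subgroup SL(2, R)} (hT : H ≤ triZ z)
    (h1 : ∀ c : k, E12 (algebraMap k R c) ∈ H) (h2 : ∀ c : k, E21 (algebraMap k R c * z) ∈ H)
    {b : R} (hzb : z * b = 0)
    (hu : ∀ r : R, ∃ n ∈ kerI (Ideal.span {b}), E12 r * n ∈ H)
    (hl : ∀ r : R, ∃ n ∈ kerI (Ideal.span {b}), E21 (z * r) * n ∈ H) :
    (∀ r, E12 r ∈ H) ∧ ∀ r, E21 (z * r) ∈ H := by
  set I : Ideal R := Ideal.span {b} with hI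
  have N := kerI_normal I
  have h11 : E12 (1 : R) ∈ H := by simpa using h1 1
  obtain ⟨u, hu2⟩ : ∃ u : R, 2 * u = 1 := ⟨algebraMap k R 2⁻¹, by
    rw [← map_ofNat (algebraMap k R) 2, ← map_mul, mul_inv_cancel₀ hk2, map_one]⟩
  have hIk : ∀ x ∈ I, ∃ c : k, x = algebraMap k R c * b := by
    intro x hx
    obtain ⟨r, rfl⟩ := Ideal.mem_span_singleton'.1 hx
    obtain ⟨c, r', rfl⟩ := exists_const_add hgen r
    exact ⟨c, by linear_combination r' * hzb⟩
  have hJI : ∀ a ∈ Ideal.span {z}, ∀ x ∈ I, a * x = 0 := by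
    intro a ha x hx
    obtain ⟨r, rfl⟩ := Ideal.mem_span_singleton'.1 hx
    obtain ⟨s, rfl⟩ := Ideal.mem_span_singleton'.1 ha
    linear_combination r * s * hzb
  -- lifting torus elements
  have htor : ∀ (t s : R) (h : t * s = 1), z ∣ t - 1 → ∃ n ∈ kerI I, Dg t s h * n ∈ H := by
    intro t s h ⟨y, hy⟩
    have hs : s - 1 = z * (-s * y) := by linear_combination h - s * hy
    have hK : ∀ g, (∃ n ∈ kerI I, g * n ∈ H) ↔ g ∈ H ⊔ kerI I := by
      intro g
      constructor
      · rintro ⟨n, hn, hg⟩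
        have := Subgroup.mul_mem _ (Subgroup.mem_sup_left (T := kerI I) hg)
          (Subgroup.mem_sup_right ((kerI I).inv_mem hn))
        simpa using this
      · intro hg
        have hg' : g ∈ ((H ⊔ kerI I : Subgroup SL(2, R)) : Set SL(2, R)) := hg
        rw [Subgroup.mul_normal] at hg'
        obtain ⟨x, hx, n, hn, rfl⟩ := hg'
        exact ⟨n⁻¹, (kerI I).inv_mem hn, by simpa using hx⟩
    rw [hK, Dg_eq, hs, hy]
    exact Subgroup.mul_mem _ (Subgroup.mul_mem _ (Subgroup.mul_mem _ ((hK _).1 (hl _))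
      ((hK _).1 (hu _))) ((hK _).1 (hl _))) ((hK _).1 (hu _))
  obtain ⟨t0, ht0, ht02⟩ := exists_sq_ne_one hk2 hk3
  have ht0' : algebraMap k R t0 * algebraMap k R t0⁻¹ = 1 := by
    rw [← map_mul, mul_inv_cancel₀ ht0, map_one]
  have hdiv : ∀ c : k, algebraMap k R (c / (t0 ^ 2 - 1)) * (algebraMap k R t0 ^ 2 - 1) =
      algebraMap k R c := by
    intro c
    rw [← map_pow, ← map_one (algebraMap k R), ← map_sub, ← map_mul,
      div_mul_cancel₀ _ (sub_ne_zero.2 ht02)]
  by_cases hb : z ∣ b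
  · obtain ⟨y, hy⟩ := hb
    have hII : ∀ a ∈ I, ∀ x ∈ I, a * x = 0 := by
      intro a ha x hx
      refine hJI a ?_ x hx
      obtain ⟨r, rfl⟩ := Ideal.mem_span_singleton'.1 ha
      exact Ideal.mem_span_singleton'.2 ⟨r * y, by rw [hy]; ring⟩
    have hlo : ∀ (t s : R), t * s = 1 → z ∣ t - 1 → ∀ x, z * x ∈ loA H → s ^ 2 * (z * x) ∈ loA H := by
      intro t s h ht x hx
      obtain ⟨n, hn, hH⟩ := htor t s h ht
      have := H.mul_mem (H.mul_mem hH hx) (H.inv_mem hH)
      rw [mul_assoc (Dg t s h) n, ← comm_of_kerI hJI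
        (E21_mem_kerI (Ideal.mem_span_singleton.2 (dvd_mul_right z x))) hn] at this
      have e : Dg t s h * (E21 (z * x) * n) * (Dg t s h * n)⁻¹ =
          Dg t s h * E21 (z * x) * (Dg t s h)⁻¹ := by group
      rw [e, conj_E21_of_lower rfl] at this
      exact this
    have : IsArtinianRing R := IsArtinianRing.of_finite k R
    obtain ⟨m, w, hw⟩ := IsArtinian.exists_pow_succ_smul_dvd z (1 : R)
    simp only [smul_eq_mul, mul_one, Nat.succ_eq_add_one] at hw
    have hw' : ∀ j : ℕ, z ^ m * (z * w) ^ j = z ^ m := by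
      intro j
      induction j with
      | zero => simp
      | succ j ih =>
        calc z ^ m * (z * w) ^ (j + 1) = (z ^ (m + 1) * w) * (z * w) ^ j := by ring
          _ = z ^ m := by rw [hw, ih]
    obtain ⟨e, he1, he2, he3⟩ : ∃ e : R, e * e = e ∧ z ∣ e ∧ z ^ m * e = z ^ m :=
      ⟨(z * w) ^ (m + 1), by linear_combination (z * w ^ (m + 1)) * hw' (m + 1),
        ⟨z ^ m * w ^ (m + 1), by ring⟩, hw' _⟩
    have hT1 : ∀ c : k, algebraMap k R c * (z * (1 - e)) ∈ loA H := by
      intro c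
      have hc : ∀ c : k, z * algebraMap k R c ∈ loA H := fun c => by rw [mul_comm]; exact h2 c
      have a1 := hlo ((1 - e) + algebraMap k R t0⁻¹ * e) ((1 - e) + algebraMap k R t0 * e)
        (by linear_combination (e * e) * ht0' +
          (2 - algebraMap k R t0 - algebraMap k R t0⁻¹) * he1)
        (by obtain ⟨y, rfl⟩ := he2; exact ⟨(algebraMap k R t0⁻¹ - 1) * y, by ring⟩) _
        (hc (c / (t0 ^ 2 - 1)))
      have a2 := (loA H).sub_mem (hc c) ((loA H).sub_mem a1 (hc (c / (t0 ^ 2 - 1))))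
      convert a2 using 1
      linear_combination (z * e) * hdiv c + (z * algebraMap k R (c / (t0 ^ 2 - 1)) *
        (1 - algebraMap k R t0) ^ 2) * he1
    have hT2 : ∀ ν : R, IsNilpotent ν → z ∣ ν → z * ν ∈ loA H := by
      intro ν hν hzν
      have hz1 : z * 1 ∈ loA H := by simpa [mem_loA] using h2 1
      obtain ⟨s1, hs1⟩ := (IsNilpotent.isUnit_one_add
        (Commute.isNilpotent_mul_left (Commute.all (u * u) ν) hν)).exists_left_inv
      obtain ⟨s2, hs2⟩ := (IsNilpotent.isUnit_one_sub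
        (Commute.isNilpotent_mul_left (Commute.all (u * u) ν) hν)).exists_left_inv
      obtain ⟨y, hy⟩ := hzν
      have a1 := hlo _ _ hs1 ⟨-s1 * u * u * y, by linear_combination hs1 - s1 * u * u * hy⟩ _ hz1
      have a2 := hlo _ _ hs2 ⟨s2 * u * u * y, by linear_combination hs2 + s2 * u * u * hy⟩ _ hz1
      convert (loA H).sub_mem a1 a2 using 1
      linear_combination (-(z * ν * (2 * u + 1))) * hu2
    have hloI : ∀ x ∈ I, E21 x ∈ H := by
      intro x hx
      obtain ⟨c, rfl⟩ := hIk x hx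
      obtain ⟨c1, y1, hy1⟩ := exists_const_add hgen y
      obtain ⟨e', he'⟩ := he2
      have hnil : IsNilpotent (z * (algebraMap k R c * y1 * (1 - e))) := by
        refine ⟨m + 1, ?_⟩
        rw [mul_pow, mul_pow]
        linear_combination (-(z * (algebraMap k R c * y1) ^ (m + 1) * (1 - e) ^ m)) * he3
      have := (loA H).add_mem (hT1 (c * c1)) (hT2 _ hnil (dvd_mul_right _ _))
      rw [← mem_loA]
      convert this using 1
      rw [map_mul]
      linear_combination (algebraMap k R c * (1 - e)) * hy + (algebraMap k R c * z * (1 - e)) * hy1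
        + (algebraMap k R c * b) * he' + (algebraMap k R c * e') * hzb
    have hupI : ∀ x ∈ I, E12 x ∈ H := by
      intro x hx
      have hx' : -(u * x) ∈ I := I.neg_mem (I.mul_mem_left _ hx)
      have hnH := hloI _ hx'
      have := H.mul_mem (H.mul_mem (H.mul_mem (H.mul_mem (H.mul_mem h11 hnH) (H.inv_mem h11))
            (H.mul_mem (H.mul_mem (H.inv_mem h11) hnH) h11)) (H.inv_mem hnH)) (H.inv_mem hnH)
      rw [conj_trick hII (E21_mem_kerI hx'), E21_10] at this
      convert this using 2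
      linear_combination (-x) * hu2
    have hker : ∀ n ∈ kerI I, n ∈ H := by
      intro n hn
      have a1 := (mem_kerI.1 hn).1
      exact mem_of_kerI_of_isUnit h11 hupI hloI hn
        (IsUnit.of_mul_eq_one (1 - (n 0 0 - 1)) (by linear_combination -hII _ a1 _ a1))
    constructor
    · intro r
      obtain ⟨n, hn, hH⟩ := hu r
      exact (H.mul_mem_cancel_right (hker n hn)).1 hH
    · intro r
      obtain ⟨n, hn, hH⟩ := hl r
      exact (H.mul_mem_cancel_right (hker n hn)).1 hH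
  · have hIz : ∀ x ∈ I, z ∣ x → x = 0 := by
      intro x hx hzx
      obtain ⟨c, rfl⟩ := hIk x hx
      by_cases hc : c = 0
      · simp [hc]
      · exfalso
        apply hb
        have := Dvd.dvd.mul_left hzx (algebraMap k R c⁻¹)
        rwa [← mul_assoc, ← map_mul, inv_mul_cancel₀ hc, map_one, one_mul] at this
    have hE : ∀ n ∈ kerI I, n ∈ triZ z → n = E12 (n 0 1) := by
      intro n hn hn'
      obtain ⟨a1, a2, a3, a4⟩ := mem_kerI.1 hn
      have hd := det_ent n
      have b1 := hIz _ a3 hn'.1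
      have b2 := hIz _ a1 hn'.2
      apply sl_ext <;> sl2_simp
      · linear_combination b2
      · exact b1
      · linear_combination hd - n 1 1 * b2 + n 0 1 * b1
    obtain ⟨c0, r0, hb0⟩ := exists_const_add hgen b
    have hc0 : c0 ≠ 0 := by
      rintro rfl
      exact hb ⟨r0, by simpa using hb0⟩
    have hc0' : algebraMap k R c0⁻¹ * algebraMap k R c0 = 1 := by
      rw [← map_mul, inv_mul_cancel₀ hc0, map_one]
    obtain ⟨e, he1, he2, he3⟩ : ∃ e : R, e * e = e ∧ z ∣ 1 - e ∧ b = algebraMap k R c0 * e :=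
      ⟨algebraMap k R c0⁻¹ * b,
        by linear_combination (algebraMap k R c0⁻¹ ^ 2 * b) * hb0 + (algebraMap k R c0⁻¹ * b) * hc0'
          + (algebraMap k R c0⁻¹ ^ 2 * r0) * hzb,
        ⟨-algebraMap k R c0⁻¹ * r0, by linear_combination (-algebraMap k R c0⁻¹) * hb0 - hc0'⟩,
        by linear_combination (-b) * hc0'⟩
    have hts : (e + algebraMap k R t0 * (1 - e)) * (e + algebraMap k R t0⁻¹ * (1 - e)) = 1 := by
      linear_combination ((1 - e) * (1 - e)) * ht0' +
          (2 - algebraMap k R t0 - algebraMap k R t0⁻¹) * he1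
    have hzt : z ∣ (e + algebraMap k R t0 * (1 - e)) - 1 := by
      obtain ⟨y, hy⟩ := he2
      exact ⟨(algebraMap k R t0 - 1) * y, by linear_combination (algebraMap k R t0 - 1) * hy⟩
    obtain ⟨n, hn, hH⟩ := htor _ _ hts hzt
    have hn' : n ∈ triZ z := by
      have : Dg _ _ hts ∈ triZ z := ⟨by sl2_simp; simp, hzt⟩
      exact ((triZ z).mul_mem_cancel_left this).1 (hT hH)
    rw [hE n hn hn'] at hH
    have hupI : ∀ x ∈ I, E12 x ∈ H := by
      intro x hx
      obtain ⟨c, rfl⟩ := hIk x hx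
      have a1 := H.mul_mem (H.mul_mem hH (h1 (c * c0 / (t0 ^ 2 - 1)))) (H.inv_mem hH)
      rw [conj_E12_of_upper (by sl2_simp; simp)] at a1
      have a2 := (upA H).sub_mem (h1 (c * c0)) ((upA H).sub_mem a1 (h1 (c * c0 / (t0 ^ 2 - 1))))
      rw [← mem_upA]
      convert a2 using 1
      sl2_simp
      have := hdiv (c * c0)
      rw [map_mul] at this ⊢
      linear_combination (algebraMap k R c) * he3 + (1 - e) * this +
        (algebraMap k R (c * c0 / (t0 ^ 2 - 1)) * (1 - algebraMap k R t0) ^ 2) * he1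
    constructor
    · intro r
      obtain ⟨n, hn, hH⟩ := hu r
      have hn' : n ∈ triZ z := ((triZ z).mul_mem_cancel_left (E12_mem_triZ z r)).1 (hT hH)
      rw [hE n hn hn'] at hH
      exact (H.mul_mem_cancel_right (hupI _ (mem_kerI.1 hn).2.1)).1 hH
    · intro r
      obtain ⟨n, hn, hH⟩ := hl r
      have hn' : n ∈ triZ z := ((triZ z).mul_mem_cancel_left (E21_mem_triZ z r)).1 (hT hH)
      rw [hE n hn hn'] at hH
      exact (H.mul_mem_cancel_right (hupI _ (mem_kerI.1 hn).2.1)).1 hH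

universe v

theorem ring_gen_aux (hk2 : (2 : k) ≠ 0) (hk3 : Nat.card k ≠ 3) (n : ℕ) :
    ∀ (R : Type v) [CommRing R] [Algebra k R] [FiniteDimensional k R], Module.finrank k R = n →
      ∀ z : R, Algebra.adjoin k {z} = ⊤ → ∀ H : Subgroup SL(2, R), H ≤ triZ z →
        (∀ c : k, E12 (algebraMap k R c) ∈ H) → (∀ c : k, E21 (algebraMap k R c * z) ∈ H) →
        (∀ r, E12 r ∈ H) ∧ ∀ r, E21 (z * r) ∈ H := by
  induction n using Nat.strong_induction_on with
  | _ n ih =>
    intro R _ _ _ hn z hgen H hT h1 h2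
    by_cases hz : IsUnit z
    · obtain ⟨a1, a2⟩ := ring_unit hk2 hk3 _ R rfl z hz hgen H h1 h2
      exact ⟨a1, fun r => a2 _⟩
    · obtain ⟨b, hb0, hzb⟩ : ∃ b : R, b ≠ 0 ∧ z * b = 0 := by
        by_contra hcon
        push Not at hcon
        have hinj : Function.Injective (LinearMap.mulLeft k z) := by
          rw [injective_iff_map_eq_zero]
          intro a ha
          by_contra h0
          exact hcon a h0 ha
        obtain ⟨y, hy⟩ := LinearMap.injective_iff_surjective.1 hinj 1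
        exact hz (IsUnit.of_mul_eq_one y hy)
      have hI : Ideal.span {b} ≠ ⊥ := fun h => hb0 (Ideal.span_singleton_eq_bot.1 h)
      obtain ⟨a1, a2⟩ := ih _ (hn ▸ finrank_quot_lt (k := k) hI) (R ⧸ Ideal.span {b}) rfl
        (Ideal.Quotient.mk _ z) (adjoin_quot hgen _)
        (H.map (Matrix.SpecialLinearGroup.map (n := Fin 2) (Ideal.Quotient.mk (Ideal.span {b}))))
        (by
          rintro _ ⟨g, hg, rfl⟩
          obtain ⟨c1, c2⟩ := hT hg
          refine ⟨map_dvd (Ideal.Quotient.mk (Ideal.span {b})) c1, ?_⟩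
          have := map_dvd (Ideal.Quotient.mk (Ideal.span {b})) c2
          rwa [map_sub, map_one] at this)
        (fun c => ⟨_, h1 c, map_E12 _ _⟩) (fun c => ⟨_, h2 c, by rw [map_E21, map_mul]; rfl⟩)
      refine ring_gen_step hk2 hk3 hgen hT h1 h2 hzb (fun r => exists_lift ?_)
        (fun r => exists_lift ?_)
      · rw [map_E12]; exact a1 _
      · rw [map_E21, map_mul]; exact a2 _

/-- Dickson's lemma over a finite-dimensional monogenic algebra -/
theorem ring_gen (hk2 : (2 : k) ≠ 0) (hk3 : Nat.card k ≠ 3) {R : Type*} [CommRing R] [Algebra k R]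
    [FiniteDimensional k R] {z : R} (hgen : Algebra.adjoin k {z} = ⊤) {H : Subgroup SL(2, R)}
    (h1 : ∀ c : k, E12 (algebraMap k R c) ∈ H) (h2 : ∀ c : k, E21 (algebraMap k R c * z) ∈ H) :
    (∀ r, E12 r ∈ H) ∧ ∀ r, E21 (z * r) ∈ H := by
  obtain ⟨a1, a2⟩ := ring_gen_aux hk2 hk3 _ R rfl z hgen (H ⊓ triZ z) inf_le_right
    (fun c => ⟨h1 c, E12_mem_triZ _ _⟩) (fun c => ⟨h2 c, by rw [mul_comm]; exact E21_mem_triZ _ _⟩)
  exact ⟨fun r => (a1 r).1, fun r => (a2 r).1⟩

end Gen

section Key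

open Polynomial

variable {k : Type*} [Field k] {A : Type*} [Ring A] [Algebra k A]

theorem comm_z_left {α β : A} (hα : α * α = 0) : α * (α * β + β * α) = (α * β + β * α) * α := by
  rw [mul_add, add_mul, ← mul_assoc, hα, mul_assoc β α α, hα, mul_assoc]; simp

theorem comm_aeval {x z : A} (h : x * z = z * x) (p : k[X]) : x * aeval z p = aeval z p * x := by
  induction p using Polynomial.induction_on' with
  | add p q hp hq => rw [map_add, mul_add, add_mul, hp, hq]
  | monomial n a =>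
    rw [aeval_monomial]
    exact ((Algebra.commute_algebraMap_right a x).mul_right ((show Commute x z from h).pow_right n)).eq

/-- The key lemma. -/
theorem key_lemma [FiniteDimensional k A] (hk2 : (2 : k) ≠ 0) (hk3 : Nat.card k ≠ 3) {α β : A}
    (hα : α * α = 0) (hβ : β * β = 0) {H : Subgroup Aˣ}
    (hA : ∀ c : k, ∃ g ∈ H, (g : A) = 1 + c • α) (hB : ∀ c : k, ∃ g ∈ H, (g : A) = 1 + c • β)
    (r : k[X]) : ∃ g ∈ H, (g : A) = 1 + aeval (α * β + β * α) r * α := by
  set z := α * β + β * α with hz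
  have hzα : α * z = z * α := comm_z_left hα
  have hzβ : β * z = z * β := by rw [hz, add_comm]; exact comm_z_left hβ
  have e1 : α * (β * α) = z * α := by rw [hz, add_mul, mul_assoc β α α, hα, mul_assoc]; simp
  have e2 : β * (α * β) = z * β := by rw [hz, add_mul, mul_assoc α β β, hβ, mul_assoc]; simp
  have cα : ∀ (p : k[X]) (x : A), α * (aeval z p * x) = aeval z p * (α * x) := fun p x => by
    rw [← mul_assoc, comm_aeval hzα, mul_assoc]
  have cβ : ∀ (p : k[X]) (x : A), β * (aeval z p * x) = aeval z p * (β * x) := fun p x => by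
    rw [← mul_assoc, comm_aeval hzβ, mul_assoc]
  have hαα : ∀ x : A, α * (α * x) = 0 := fun x => by rw [← mul_assoc, hα, zero_mul]
  have hββ : ∀ x : A, β * (β * x) = 0 := fun x => by rw [← mul_assoc, hβ, zero_mul]
  have hzint : IsIntegral k z := Algebra.IsIntegral.isIntegral z
  set f := minpoly k z with hf
  have hF : X * f ≠ 0 := mul_ne_zero X_ne_zero (minpoly.ne_zero hzint)
  let R := AdjoinRoot (X * f)
  have : FiniteDimensional k R := (AdjoinRoot.powerBasis hF).finite
  let mk : k[X] →+* R := AdjoinRoot.mk (X * f)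
  let S : Set (SL(2, R) × Aˣ) :=
    {x | ∃ c : k, x.1 = E12 (algebraMap k R c) ∧ x.2 ∈ H ∧ (x.2 : A) = 1 + c • α} ∪
    {x | ∃ c : k, x.1 = E21 (algebraMap k R c * AdjoinRoot.root (X * f)) ∧ x.2 ∈ H ∧
      (x.2 : A) = 1 + c • β}
  have hSinv : ∀ x ∈ S, x⁻¹ ∈ S := by
    have hinv : ∀ (γ : A) (c : k) (g : Aˣ), γ * γ = 0 → (g : A) = 1 + c • γ →
        ((g⁻¹ : Aˣ) : A) = 1 + (-c) • γ := by
      intro γ c g hγ hg
      apply Units.inv_eq_of_mul_eq_one_right
      rw [hg, add_mul, mul_add, mul_add, smul_mul_smul_comm, hγ]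
      simp
    rintro x (⟨c, a1, a2, a3⟩ | ⟨c, a1, a2, a3⟩)
    · exact Or.inl ⟨-c, by rw [map_neg, E12_neg, ← a1]; rfl, H.inv_mem a2, hinv α c _ hα a3⟩
    · exact Or.inr ⟨-c, by rw [map_neg, neg_mul, E21_neg, ← a1]; rfl, H.inv_mem a2,
        hinv β c _ hβ a3⟩
  let Rel : SL(2, R) × Aˣ → Prop := fun x => x.2 ∈ H ∧ ∃ a b c d : k[X],
    x.1 0 0 = mk (1 + X * a) ∧ x.1 0 1 = mk b ∧ x.1 1 0 = mk (X * c) ∧ x.1 1 1 = mk (1 + X * d) ∧
    (x.2 : A) = 1 + aeval z a * (α * β) + aeval z b * α + aeval z c * β + aeval z d * (β * α)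
  have hC : ∀ c : k, algebraMap k R c = mk (C c) := fun c => rfl
  have hX : AdjoinRoot.root (X * f) = mk X := rfl
  have hstep : ∀ x ∈ S, ∀ y, Rel y → Rel (x * y) := by
    rintro x (⟨t, a1, a2, a3⟩ | ⟨t, a1, a2, a3⟩) y ⟨hy, a, b, c, d, b1, b2, b3, b4, b5⟩
    · refine ⟨H.mul_mem a2 hy, a + C t * c, b + C t + C t * (d * X), c, d, ?_, ?_, ?_, ?_, ?_⟩
      · simp only [Prod.fst_mul, a1]; sl2_simp
        rw [b1, b3, hC]; simp only [map_add, map_mul, map_one]; ring
      · simp only [Prod.fst_mul, a1]; sl2_simp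
        rw [b2, b4, hC]; simp only [map_add, map_mul, map_one]; ring
      · simp only [Prod.fst_mul, a1]; sl2_simp
        rw [b3]; ring
      · simp only [Prod.fst_mul, a1]; sl2_simp
        rw [b4]; ring
      · rw [Prod.snd_mul, Units.val_mul, a3, b5]
        simp only [add_mul, mul_add, one_mul, mul_one, smul_mul_assoc, cα, hαα, hα, e1, mul_zero,
          smul_zero, map_add, map_mul, aeval_C, aeval_X, mul_assoc,
          Algebra.algebraMap_eq_smul_one]
        abel
    · refine ⟨H.mul_mem a2 hy, a, b, c + C t + C t * (a * X), d + C t * b, ?_, ?_, ?_, ?_, ?_⟩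
      · simp only [Prod.fst_mul, a1]; sl2_simp
        rw [b1]; ring
      · simp only [Prod.fst_mul, a1]; sl2_simp
        rw [b2]; ring
      · simp only [Prod.fst_mul, a1]; sl2_simp
        rw [b1, b3, hC, hX]; simp only [map_add, map_mul, map_one]; ring
      · simp only [Prod.fst_mul, a1]; sl2_simp
        rw [b2, b4, hC, hX]; simp only [map_add, map_mul, map_one]; ring
      · rw [Prod.snd_mul, Units.val_mul, a3, b5]
        simp only [add_mul, mul_add, one_mul, mul_one, smul_mul_assoc, cβ, hββ, hβ, e2, mul_zero,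
          smul_zero, map_add, map_mul, aeval_C, aeval_X, mul_assoc,
          Algebra.algebraMap_eq_smul_one]
        abel
  have hRel : ∀ x ∈ Subgroup.closure S, Rel x := by
    intro x hx
    induction hx using Subgroup.closure_induction_left with
    | one => exact ⟨H.one_mem, 0, 0, 0, 0, by simp [one_00], by simp [one_01], by simp [one_10],
        by simp [one_11], by simp⟩
    | mul_left x hx y _ ih => exact hstep x hx y ih
    | inv_mul_cancel x hx y _ ih => exact hstep _ (hSinv x hx) y ih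
  obtain ⟨a1, -⟩ := ring_gen hk2 hk3 (R := R) (z := AdjoinRoot.root (X * f))
    AdjoinRoot.adjoinRoot_eq_top (H := (Subgroup.closure S).map (MonoidHom.fst _ _))
    (fun c => by
      obtain ⟨g, hg, e⟩ := hA c
      exact ⟨(E12 (algebraMap k R c), g), Subgroup.subset_closure (Or.inl ⟨c, rfl, hg, e⟩), rfl⟩)
    (fun c => by
      obtain ⟨g, hg, e⟩ := hB c
      exact ⟨(E21 (algebraMap k R c * AdjoinRoot.root (X * f)), g),
        Subgroup.subset_closure (Or.inr ⟨c, rfl, hg, e⟩), rfl⟩)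
  obtain ⟨x, hx, ex⟩ := a1 (mk r)
  obtain ⟨hxH, a, b, c, d, b1, b2, b3, b4, b5⟩ := hRel x hx
  have ex' : x.1 = E12 (mk r) := ex
  rw [ex'] at b1 b2 b3 b4
  have hzero : ∀ p : k[X], mk (X * p) = 0 → aeval z p = 0 := by
    intro p hp
    obtain ⟨q, hq⟩ := (mul_dvd_mul_iff_left X_ne_zero).1 (AdjoinRoot.mk_eq_zero.1 hp)
    rw [hq, map_mul, minpoly.aeval, zero_mul]
  refine ⟨x.2, hxH, ?_⟩
  have c1 : aeval z a = 0 := hzero a (by
    rw [E12_00, map_add, map_one] at b1; linear_combination -b1)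
  have c3 : aeval z c = 0 := hzero c b3.symm
  have c4 : aeval z d = 0 := hzero d (by
    rw [E12_11, map_add, map_one] at b4; linear_combination -b4)
  have c2 : aeval z b = aeval z r := by
    obtain ⟨q, hq⟩ := AdjoinRoot.mk_eq_mk.1 b2
    rw [← sub_eq_zero, ← neg_eq_zero, neg_sub, ← map_sub, hq, map_mul, map_mul, minpoly.aeval]
    simp
  rw [b5, c1, c2, c3, c4]
  simp

end Key

end CL.Quad
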