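/-
Unipotent subgroups of the unit group of an algebra; a Baer–Suzuki type theorem for unipotent
linear groups.
-/
import Mathlib
import Cfsg.Prelude.Def_RootSubgroups

set_option autoImplicit false

namespace CL.Quad

open Cfsg

section Alg

variable (k : Type*) [Field k] {A : Type*} [Ring A] [Algebra k A]

/-- the span of the `g - 1`, `g ∈ H` -/
def aug (H : Subgroup Aˣ) : Submodule k A := Submodule.span k {x | ∃ g ∈ H, x = (g : A) - 1}

/-- `H` is unipotent -/
def Unip (H : Subgroup Aˣ) : Prop := ∃ n : ℕ, aug k H ^ n = ⊥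

variable {k}

theorem sub_one_mem_aug {H : Subgroup Aˣ} {g : Aˣ} (hg : g ∈ H) : (g : A) - 1 ∈ aug k H :=
  Submodule.subset_span ⟨g, hg, rfl⟩

theorem aug_le {H : Subgroup Aˣ} {J : Submodule k A} : aug k H ≤ J ↔ ∀ g ∈ H, (g : A) - 1 ∈ J := by
  rw [aug, Submodule.span_le]
  exact ⟨fun h g hg => h ⟨g, hg, rfl⟩, by rintro h _ ⟨g, hg, rfl⟩; exact h g hg⟩

theorem aug_mono {H K : Subgroup Aˣ} (h : H ≤ K) : aug k H ≤ aug k K :=
  aug_le.2 fun _ hg => sub_one_mem_aug (h hg)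

theorem aug_mul_le (H : Subgroup Aˣ) : aug k H * aug k H ≤ aug k H := by
  rw [aug, Submodule.span_mul_span, Submodule.span_le]
  rintro _ ⟨_, ⟨g, hg, rfl⟩, _, ⟨h, hh, rfl⟩, rfl⟩
  have e : ((g : A) - 1) * ((h : A) - 1) =
      (((g * h : Aˣ) : A) - 1) - ((g : A) - 1) - ((h : A) - 1) := by
    rw [Units.val_mul]; noncomm_ring
  show ((g : A) - 1) * ((h : A) - 1) ∈ aug k H
  rw [e]
  exact Submodule.sub_mem _ (Submodule.sub_mem _ (sub_one_mem_aug (H.mul_mem hg hh))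
    (sub_one_mem_aug hg)) (sub_one_mem_aug hh)

theorem pow_le_pow_of_le {I J : Submodule k A} (h : I ≤ J) (n : ℕ) : I ^ n ≤ J ^ n :=
  pow_le_pow_left' h n

theorem unip_of_le_nil {H : Subgroup Aˣ} {J : Submodule k A} {n : ℕ} (hJ : J ^ n = ⊥)
    (h : aug k H ≤ J) : Unip k H :=
  ⟨n, le_bot_iff.1 (hJ ▸ pow_le_pow_of_le h n)⟩

theorem Unip.mono {H K : Subgroup Aˣ} (hK : Unip k K) (h : H ≤ K) : Unip k H := by
  obtain ⟨n, hn⟩ := hK
  exact unip_of_le_nil hn (aug_mono h)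

theorem pow_succ_le_self {J : Submodule k A} (hJ : J * J ≤ J) (n : ℕ) : J ^ (n + 1) ≤ J := by
  induction n with
  | zero => simp
  | succ n ih => rw [pow_succ]; exact (mul_le_mul_left ih _).trans hJ

theorem inv_sub_one_mem {J : Submodule k A} (hJ : J * J ≤ J) {g : Aˣ} (hg : (g : A) - 1 ∈ J)
    (hn : IsNilpotent ((g : A) - 1)) : ((g⁻¹ : Aˣ) : A) - 1 ∈ J := by
  obtain ⟨n, hn⟩ := hn
  have key : ∀ m : ℕ, ∃ y ∈ J, ((g⁻¹ : Aˣ) : A) - 1 = y + (1 - (g : A)) ^ (m + 1) * (g⁻¹ : Aˣ) := by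
    intro m
    induction m with
    | zero => exact ⟨0, J.zero_mem, by simp [sub_mul]⟩
    | succ m ih =>
      obtain ⟨y, hy, e⟩ := ih
      refine ⟨y + (1 - (g : A)) ^ (m + 1), J.add_mem hy ?_, ?_⟩
      · refine pow_succ_le_self hJ m (Submodule.pow_mem_pow _ ?_ _)
        have := J.neg_mem hg
        rwa [neg_sub] at this
      · rw [e, pow_succ (1 - (g : A)) (m + 1), mul_assoc _ (1 - (g : A)), sub_mul, one_mul,
          Units.mul_inv, mul_sub, mul_one]
        abel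
  obtain ⟨y, hy, e⟩ := key n
  rw [e, ← neg_sub, neg_pow, pow_succ ((g : A) - 1), hn]
  simpa using hy

/-- the group `1 + J` for a nilpotent algebra `J` -/
def onePlus (J : Submodule k A) (hJ : J * J ≤ J) (hn : ∃ n : ℕ, J ^ n = ⊥) : Subgroup Aˣ where
  carrier := {g | (g : A) - 1 ∈ J}
  one_mem' := by simp
  mul_mem' := fun {g h} hg hh => by
    have e : ((g * h : Aˣ) : A) - 1 =
        ((g : A) - 1) * ((h : A) - 1) + ((g : A) - 1) + ((h : A) - 1) := by
      rw [Units.val_mul]; noncomm_ring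
    show ((g * h : Aˣ) : A) - 1 ∈ J
    rw [e]
    exact J.add_mem (J.add_mem (hJ (Submodule.mul_mem_mul hg hh)) hg) hh
  inv_mem' := fun {g} hg => by
    obtain ⟨n, hn⟩ := hn
    refine inv_sub_one_mem hJ hg ⟨n, ?_⟩
    have := Submodule.pow_mem_pow J hg n
    rwa [hn, Submodule.mem_bot] at this

theorem aug_biSup_le {J : Submodule k A} (hJ : J * J ≤ J) (hn : ∃ n : ℕ, J ^ n = ⊥)
    {S : Set (Subgroup Aˣ)} (h : ∀ B ∈ S, aug k B ≤ J) : aug k (⨆ B ∈ S, B) ≤ J := by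
  have : (⨆ B ∈ S, B) ≤ onePlus J hJ hn := iSup₂_le fun B hB g hg => aug_le.1 (h B hB) g hg
  exact aug_le.2 fun g hg => this hg

theorem aug_closure_le {J : Submodule k A} (hJ : J * J ≤ J) (hn : ∃ n : ℕ, J ^ n = ⊥)
    {S : Set Aˣ} (h : ∀ g ∈ S, (g : A) - 1 ∈ J) : aug k (Subgroup.closure S) ≤ J := by
  have : Subgroup.closure S ≤ onePlus J hJ hn := (Subgroup.closure_le _).2 h
  exact aug_le.2 fun g hg => this hg

theorem aug_sup_le {J : Submodule k A} (hJ : J * J ≤ J) (hn : ∃ n : ℕ, J ^ n = ⊥)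
    {U V : Subgroup Aˣ} (hU : aug k U ≤ J) (hV : aug k V ≤ J) : aug k (U ⊔ V) ≤ J := by
  have : U ⊔ V ≤ onePlus J hJ hn :=
    sup_le (fun g hg => aug_le.1 hU g hg) (fun g hg => aug_le.1 hV g hg)
  exact aug_le.2 fun g hg => this hg

theorem Unip.sup_of_normalizes {U V : Subgroup Aˣ} (hU : Unip k U) (hV : Unip k V)
    (h : ∀ u ∈ U, ∀ v ∈ V, u * v * u⁻¹ ∈ V) : Unip k (U ⊔ V) := by
  obtain ⟨a, ha⟩ := hU
  obtain ⟨m, hm⟩ := hV
  set I := aug k U with hI
  set J := aug k V with hJ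
  set S : Submodule k A := 1 ⊔ I with hS
  have hII : I * I ≤ I := aug_mul_le U
  have hJJ : J * J ≤ J := aug_mul_le V
  have hIS : I ≤ S := le_sup_right
  have h1S : 1 ≤ S := le_sup_left
  have hSS : S * S ≤ S := by
    rw [hS, Submodule.mul_sup, Submodule.sup_mul, Submodule.sup_mul, one_mul, mul_one, one_mul]
    exact sup_le le_rfl (sup_le le_sup_right (hII.trans le_sup_right))
  have hJS : J * S ≤ S * J := by
    have hJ1 : J ≤ S * J := by
      calc J = 1 * J := (one_mul J).symm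
        _ ≤ S * J := mul_le_mul_left h1S _
    rw [hS, Submodule.mul_sup, mul_one, ← hS]
    refine sup_le hJ1 ?_
    rw [hJ, hI, aug, aug, Submodule.span_mul_span, Submodule.span_le]
    rintro _ ⟨_, ⟨v, hv, rfl⟩, _, ⟨u, hu, rfl⟩, rfl⟩
    have hv' : u⁻¹ * v * u ∈ V := by simpa using h _ (U.inv_mem hu) v hv
    have e : ((v : A) - 1) * ((u : A) - 1) =
        (u : A) * (((u⁻¹ * v * u : Aˣ) : A) - 1) - ((v : A) - 1) := by
      simp only [Units.val_mul, mul_sub, ← mul_assoc, Units.mul_inv, one_mul, mul_one, sub_mul]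
    show ((v : A) - 1) * ((u : A) - 1) ∈ S * J
    rw [e]
    refine Submodule.sub_mem _ (Submodule.mul_mem_mul ?_ (sub_one_mem_aug hv'))
      (hJ1 (sub_one_mem_aug hv))
    have := S.add_mem (hIS (sub_one_mem_aug hu)) (Submodule.one_le.1 h1S)
    simpa using this
  set T := S * J with hT
  have hST : S * T ≤ T := by rw [hT, ← mul_assoc]; exact mul_le_mul_left hSS _
  have hTS : T * S ≤ T := by
    rw [hT, mul_assoc]; exact (mul_le_mul_right hJS _).trans hST
  have hTJ : T * J ≤ T := by rw [hT, mul_assoc]; exact mul_le_mul_right hJJ _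
  have hTT : T * T ≤ T := by
    calc T * T = T * S * J := (mul_assoc T S J).symm
      _ ≤ T * J := mul_le_mul_left hTS _
      _ ≤ T := hTJ
  have hpS : ∀ n : ℕ, J ^ n * S ≤ S * J ^ n := by
    intro n
    induction n with
    | zero => simp
    | succ n ih =>
      calc J ^ (n + 1) * S = J ^ n * (J * S) := by rw [pow_succ, mul_assoc]
        _ ≤ J ^ n * (S * J) := mul_le_mul_right hJS _
        _ = J ^ n * S * J := by rw [mul_assoc]
        _ ≤ S * J ^ n * J := mul_le_mul_left ih _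
        _ = S * J ^ (n + 1) := by rw [pow_succ, mul_assoc]
  have hTp : ∀ n : ℕ, T ^ n ≤ S * J ^ n := by
    intro n
    induction n with
    | zero => simpa using h1S
    | succ n ih =>
      calc T ^ (n + 1) = T ^ n * (S * J) := pow_succ _ _
        _ ≤ S * J ^ n * (S * J) := mul_le_mul_left ih _
        _ = S * (J ^ n * S) * J := by simp only [mul_assoc]
        _ ≤ S * (S * J ^ n) * J := mul_le_mul_left (mul_le_mul_right (hpS n) _) _
        _ = S * S * J ^ (n + 1) := by simp only [pow_succ, mul_assoc]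
        _ ≤ S * J ^ (n + 1) := mul_le_mul_left hSS _
  have hIp : ∀ n : ℕ, I ^ n ≤ S := by
    intro n
    rcases n with _ | n
    · simpa using h1S
    · exact (pow_succ_le_self hII n).trans hIS
  have hL : ∀ n : ℕ, (I ⊔ T) ^ n ≤ I ^ n ⊔ T := by
    intro n
    induction n with
    | zero => simp
    | succ n ih =>
      rw [pow_succ]
      refine (mul_le_mul_left ih _).trans ?_
      rw [Submodule.mul_sup, Submodule.sup_mul, Submodule.sup_mul]
      refine sup_le (sup_le (by rw [pow_succ]; exact le_sup_left) ?_) (sup_le ?_ ?_)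
      · exact ((mul_le_mul_right hIS _).trans hTS).trans le_sup_right
      · exact ((mul_le_mul_left (hIp n) _).trans hST).trans le_sup_right
      · exact hTT.trans le_sup_right
  have hnil : (I ⊔ T) ^ (a * m) = ⊥ := by
    rw [pow_mul, eq_bot_iff]
    have h1 := hL a
    rw [ha, bot_sup_eq] at h1
    refine (pow_le_pow_of_le h1 m).trans ((hTp m).trans ?_)
    rw [hm, Submodule.mul_bot]
  have hLL : (I ⊔ T) * (I ⊔ T) ≤ I ⊔ T := by
    have := hL 2
    rw [pow_two, pow_two] at this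
    exact this.trans (sup_le_sup_right hII _)
  refine unip_of_le_nil hnil (aug_sup_le hLL ⟨_, hnil⟩ le_sup_left ?_)
  refine le_trans ?_ le_sup_right
  calc J = 1 * J := (one_mul J).symm
    _ ≤ S * J := mul_le_mul_left h1S _

theorem mem_conjBy {G : Type*} [Group G] {B : Subgroup G} {g x : G} :
    x ∈ conjBy B g ↔ g⁻¹ * x * g ∈ B := by
  constructor
  · rintro ⟨y, hy, rfl⟩
    simpa [mul_assoc] using hy
  · intro h
    exact ⟨_, h, by simp [mul_assoc]⟩

theorem conj_mem_conjBy {G : Type*} [Group G] {B : Subgroup G} (g : G) {x : G} (hx : x ∈ B) :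
    g * x * g⁻¹ ∈ conjBy B g := ⟨x, hx, rfl⟩

/-- the normalising step of the Baer–Suzuki argument -/
theorem exists_normalizing {G : Subgroup Aˣ} {W : Set (Subgroup Aˣ)} (hWG : ∀ B ∈ W, B ≤ G)
    (hWconj : ∀ B ∈ W, ∀ g ∈ G, conjBy B g ∈ W) {J0 J1 : Submodule k A} (h01 : J0 ≤ J1)
    (hJ0 : J0 * J0 ≤ J0) (hJ1 : J1 * J1 ≤ J1) (hn : ∃ n : ℕ, J1 ^ n = ⊥)
    (hex : ∃ B ∈ W, aug k B ≤ J1 ∧ ¬ aug k B ≤ J0) :
    ∃ B ∈ W, aug k B ≤ J1 ∧ ¬ aug k B ≤ J0 ∧
      ∀ b ∈ B, ∀ C ∈ W, aug k C ≤ J0 → aug k (conjBy C b) ≤ J0 := by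
  classical
  obtain ⟨N, hN⟩ := hn
  have hex2 : ∃ i : ℕ, ¬ ∃ B ∈ W, aug k B ≤ J0 ⊔ J1 ^ (i + 1) ∧ ¬ aug k B ≤ J0 := by
    refine ⟨N, ?_⟩
    rintro ⟨B, -, h1, h2⟩
    rw [pow_succ, hN, Submodule.bot_mul, sup_bot_eq] at h1
    exact h2 h1
  have hspec := Nat.find_spec hex2
  have hne : Nat.find hex2 ≠ 0 := by
    intro h0
    rw [h0] at hspec
    obtain ⟨B, hB, h1, h2⟩ := hex
    exact hspec ⟨B, hB, by rw [zero_add, pow_one]; exact h1.trans le_sup_right, h2⟩
  obtain ⟨j, hj⟩ := Nat.exists_eq_succ_of_ne_zero hne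
  have hmin := Nat.find_min hex2 (m := j) (by omega)
  rw [hj] at hspec
  push Not at hmin hspec
  obtain ⟨B, hB, h1, h2⟩ := hmin
  have hp : J1 ^ (j + 1) ≤ J1 := pow_succ_le_self hJ1 j
  refine ⟨B, hB, h1.trans (sup_le h01 hp), h2, fun b hb C hC hC0 => ?_⟩
  apply hspec _ (hWconj C hC b (hWG B hB hb))
  set K := J0 ⊔ J1 ^ (j + 1 + 1) with hK
  set L := J0 ⊔ J1 ^ (j + 1) with hL
  have hKL : K * L ≤ K := by
    rw [hK, hL, Submodule.mul_sup, Submodule.sup_mul, Submodule.sup_mul]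
    refine sup_le (sup_le (hJ0.trans le_sup_left) ?_) (sup_le ?_ ?_)
    · refine le_trans ?_ le_sup_right
      calc J1 ^ (j + 1 + 1) * J0 ≤ J1 ^ (j + 1 + 1) * J1 := mul_le_mul_right h01 _
        _ = J1 ^ (j + 1) * (J1 * J1) := by rw [pow_succ J1 (j + 1), mul_assoc]
        _ ≤ J1 ^ (j + 1) * J1 := mul_le_mul_right hJ1 _
        _ = J1 ^ (j + 1 + 1) := (pow_succ _ _).symm
    · refine le_trans ?_ le_sup_right
      calc J0 * J1 ^ (j + 1) ≤ J1 * J1 ^ (j + 1) := mul_le_mul_left h01 _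
        _ = J1 ^ (j + 1 + 1) := (pow_succ' _ _).symm
    · refine le_trans ?_ le_sup_right
      calc J1 ^ (j + 1 + 1) * J1 ^ (j + 1) ≤ J1 ^ (j + 1 + 1) * J1 := mul_le_mul_right hp _
        _ = J1 ^ (j + 1) * (J1 * J1) := by rw [pow_succ J1 (j + 1), mul_assoc]
        _ ≤ J1 ^ (j + 1) * J1 := mul_le_mul_right hJ1 _
        _ = J1 ^ (j + 1 + 1) := (pow_succ _ _).symm
  have hL0 : L * J0 ≤ K := by
    rw [hL, Submodule.sup_mul]
    refine sup_le (hJ0.trans le_sup_left) (le_trans ?_ le_sup_right)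
    calc J1 ^ (j + 1) * J0 ≤ J1 ^ (j + 1) * J1 := mul_le_mul_right h01 _
      _ = J1 ^ (j + 1 + 1) := (pow_succ _ _).symm
  rw [aug_le]
  rintro _ ⟨c, hc, rfl⟩
  have hγ : (c : A) - 1 ∈ J0 := aug_le.1 hC0 c hc
  have hx : (b : A) - 1 ∈ L := aug_le.1 h1 b hb
  have hy : ((b⁻¹ : Aˣ) : A) - 1 ∈ L := aug_le.1 h1 _ (B.inv_mem hb)
  have h3 : (b : A) * ((c : A) - 1) ∈ K := by
    have := K.add_mem (hL0 (Submodule.mul_mem_mul hx hγ)) (Submodule.mem_sup_left hγ)
    convert this using 1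
    noncomm_ring
  have h4 := K.add_mem (hKL (Submodule.mul_mem_mul h3 hy)) h3
  show ((b * c * b⁻¹ : Aˣ) : A) - 1 ∈ K
  convert h4 using 1
  simp only [Units.val_mul, mul_sub, sub_mul, mul_one, Units.mul_inv]
  abel

/-- Baer–Suzuki for unipotent groups -/
theorem unip_biSup [FiniteDimensional k A] {G : Subgroup Aˣ} {W : Set (Subgroup Aˣ)}
    (hWG : ∀ B ∈ W, B ≤ G) (hWW : ∀ B ∈ W, ∀ C ∈ W, Unip k (B ⊔ C))
    (hWconj : ∀ B ∈ W, ∀ g ∈ G, conjBy B g ∈ W) : Unip k (⨆ B ∈ W, B) := by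
  classical
  let gen : Set (Subgroup Aˣ) → Subgroup Aˣ := fun S => ⨆ B ∈ S, B
  let Good : Set (Subgroup Aˣ) → Prop := fun S => S ⊆ W ∧ Unip k (gen S)
  let Max : Set (Subgroup Aˣ) → Prop := fun S => Good S ∧
    ∀ T, Good T → aug k (gen S) ≤ aug k (gen T) → aug k (gen T) ≤ aug k (gen S)
  have hgen : ∀ S, ∀ B ∈ S, B ≤ gen S := fun S B hB => le_iSup₂_of_le (f := fun B (_ : B ∈ S) => B) B hB le_rfl
  have hbd : ∀ (s : Set ℕ), s.Nonempty → (∀ x ∈ s, x ≤ Module.finrank k A) →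
      ∃ x ∈ s, ∀ y ∈ s, y ≤ x := by
    intro s hs hb
    have hb' : BddAbove s := ⟨_, hb⟩
    exact ⟨sSup s, Nat.sSup_mem hs hb', fun y hy => le_csSup hb' hy⟩
  have hmax : ∀ S, Good S → ∃ T, Max T ∧ aug k (gen S) ≤ aug k (gen T) := by
    intro S hS
    obtain ⟨_, ⟨T, ⟨hT, hST⟩, rfl⟩, hT2⟩ := hbd
      ((fun T => Module.finrank k (aug k (gen T))) '' {T | Good T ∧ aug k (gen S) ≤ aug k (gen T)})
      ⟨_, S, ⟨hS, le_rfl⟩, rfl⟩ (by rintro _ ⟨T, -, rfl⟩; exact Submodule.finrank_le _)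
    refine ⟨T, ⟨hT, fun T' hT' h => ?_⟩, hST⟩
    exact (Submodule.eq_of_le_of_finrank_le h (hT2 _ ⟨T', ⟨hT', hST.trans h⟩, rfl⟩)).ge
  let D : Set (Subgroup Aˣ) → Set (Subgroup Aˣ) → Set (Subgroup Aˣ) := fun P Q =>
    {B | B ∈ W ∧ aug k B ≤ aug k (gen P) ∧ aug k B ≤ aug k (gen Q)}
  have huniq : ∀ P Q, Max P → Max Q → aug k (gen P) = aug k (gen Q) := by
    by_contra hcon
    push Not at hcon
    obtain ⟨P0, Q0, hP0, hQ0, hne0⟩ := hcon
    obtain ⟨_, ⟨⟨P, Q⟩, ⟨hP, hQ, hne⟩, rfl⟩, hPQ⟩ := hbd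
      ((fun x : Set (Subgroup Aˣ) × Set (Subgroup Aˣ) => Module.finrank k (aug k (gen (D x.1 x.2)))) ''
        {x | Max x.1 ∧ Max x.2 ∧ aug k (gen x.1) ≠ aug k (gen x.2)})
      ⟨_, (P0, Q0), ⟨hP0, hQ0, hne0⟩, rfl⟩ (by rintro _ ⟨T, -, rfl⟩; exact Submodule.finrank_le _)
    simp only at hP hQ hne hPQ
    have hDP : aug k (gen (D P Q)) ≤ aug k (gen P) :=
      aug_biSup_le (aug_mul_le _) hP.1.2 fun B hB => hB.2.1
    have hDQ : aug k (gen (D P Q)) ≤ aug k (gen Q) :=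
      aug_biSup_le (aug_mul_le _) hQ.1.2 fun B hB => hB.2.2
    have hDu : Unip k (gen (D P Q)) := by
      obtain ⟨n, hn⟩ := hP.1.2
      exact unip_of_le_nil hn hDP
    have side : ∀ P' Q', Max P' → Max Q' → aug k (gen P') ≠ aug k (gen Q') →
        aug k (gen (D P Q)) ≤ aug k (gen P') → aug k (gen (D P Q)) ≤ aug k (gen Q') →
        ∃ B ∈ W, aug k B ≤ aug k (gen P') ∧ ¬ aug k B ≤ aug k (gen (D P Q)) ∧
          ∀ b ∈ B, ∀ v ∈ gen (D P Q), b * v * b⁻¹ ∈ gen (D P Q) := by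
      intro P' Q' hP' hQ' hne' h1 h2
      obtain ⟨B, hB, a1, a2, a3⟩ := exists_normalizing hWG hWconj h1 (aug_mul_le _) (aug_mul_le _)
        hP'.1.2 (by
          by_contra hc
          push Not at hc
          have : aug k (gen P') ≤ aug k (gen Q') :=
            aug_biSup_le (aug_mul_le _) hQ'.1.2 fun B hB =>
              (hc B (hP'.1.1 hB) (aug_mono (hgen _ B hB))).trans h2
          exact hne' (le_antisymm this (hP'.2 _ hQ'.1 this)))
      refine ⟨B, hB, a1, a2, fun b hb => ?_⟩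
      have : gen (D P Q) ≤ (gen (D P Q)).comap (MulAut.conj b).toMonoidHom := by
        refine iSup₂_le fun C hC c hc => ?_
        have h3 := a3 b hb C hC.1 (aug_mono (hgen _ C hC))
        exact hgen (D P Q) (conjBy C b) ⟨hWconj C hC.1 b (hWG B hB hb), h3.trans hDP, h3.trans hDQ⟩
          (conj_mem_conjBy b hc)
      exact fun v hv => this hv
    obtain ⟨B, hB, b1, b2, b3⟩ := side P Q hP hQ hne hDP hDQ
    obtain ⟨C, hC, c1, c2, c3⟩ := side Q P hQ hP hne.symm hDQ hDP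
    have hV : Unip k ((B ⊔ C) ⊔ gen (D P Q)) := by
      refine (hWW B hB C hC).sup_of_normalizes hDu ?_
      have : B ⊔ C ≤ Subgroup.normalizer (gen (D P Q) : Set Aˣ) := by
        refine sup_le (fun b hb => ?_) (fun b hb => ?_)
        · refine Subgroup.mem_normalizer_iff.2 fun v => ⟨b3 b hb v, fun h => ?_⟩
          simpa [mul_assoc] using b3 _ (B.inv_mem hb) _ h
        · refine Subgroup.mem_normalizer_iff.2 fun v => ⟨c3 b hb v, fun h => ?_⟩
          simpa [mul_assoc] using c3 _ (C.inv_mem hb) _ h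
      exact fun u hu v hv => (Subgroup.mem_normalizer_iff.1 (this hu) v).1 hv
    have hVg : Good (insert B (insert C (D P Q))) := by
      refine ⟨?_, hV.mono (iSup₂_le ?_)⟩
      · rintro X (rfl | rfl | hX)
        exacts [hB, hC, hX.1]
      · rintro X (rfl | rfl | hX)
        exacts [le_sup_left.trans le_sup_left, le_sup_right.trans le_sup_left,
          (hgen _ X hX).trans le_sup_right]
    obtain ⟨R, hR, hVR⟩ := hmax _ hVg
    have fin : ∀ P', Max P' → aug k (gen (D P Q)) ≤ aug k (gen P') → ∀ B' ∈ W,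
        B' ∈ insert B (insert C (D P Q)) → aug k B' ≤ aug k (gen P') →
        ¬ aug k B' ≤ aug k (gen (D P Q)) → aug k (gen P') = aug k (gen R) := by
      intro P' hP' h1 B' hB' h2 h3 h4
      by_contra hne'
      have h5 := hPQ _ ⟨(P', R), ⟨hP', hR, hne'⟩, rfl⟩
      have h6 : aug k (gen (D P Q)) ≤ aug k (gen (D P' R)) := by
        refine aug_mono (iSup₂_le fun X hX => hgen _ X ⟨hX.1, (aug_mono (hgen _ X hX)).trans h1,
          (aug_mono (hgen _ X (Or.inr (Or.inr hX)))).trans hVR⟩)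
      have h7 := Submodule.eq_of_le_of_finrank_le h6 h5
      apply h4
      rw [h7]
      exact aug_mono (hgen _ B' ⟨hB', h3, (aug_mono (hgen _ B' h2)).trans hVR⟩)
    exact hne ((fin P hP hDP B hB (Or.inl rfl) b1 b2).trans
      (fin Q hQ hDQ C hC (Or.inr (Or.inl rfl)) c1 c2).symm)
  obtain ⟨P, hP, -⟩ := hmax ∅ ⟨Set.empty_subset _, ⟨1, by
    rw [pow_one, eq_bot_iff, aug_le]
    intro g hg
    have : g = 1 := by simpa [gen] using hg
    simp [this]⟩⟩
  obtain ⟨n, hn⟩ := hP.1.2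
  refine unip_of_le_nil hn (aug_biSup_le (aug_mul_le _) ⟨n, hn⟩ fun B hB => ?_)
  obtain ⟨T, hT, hBT⟩ := hmax {B} ⟨by simpa using hB, (hWW B hB B hB).mono (by simp [gen])⟩
  rw [huniq P T hP hT]
  exact (aug_mono (hgen {B} B rfl)).trans hBT

theorem conjBy_biSup {Γ : Type*} [Group Γ] {G : Subgroup Γ} {W : Set (Subgroup Γ)}
    (hWconj : ∀ B ∈ W, ∀ g ∈ G, conjBy B g ∈ W) {g : Γ} (hg : g ∈ G) {x : Γ}
    (hx : x ∈ ⨆ B ∈ W, B) : g * x * g⁻¹ ∈ ⨆ B ∈ W, B := by
  have : (⨆ B ∈ W, B) ≤ (⨆ B ∈ W, B).comap (MulAut.conj g).toMonoidHom :=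
    iSup₂_le fun C hC c hc =>
      (le_iSup₂_of_le (f := fun B (_ : B ∈ W) => B) _ (hWconj C hC g hg) le_rfl :
        conjBy C g ≤ ⨆ B ∈ W, B) (conj_mem_conjBy g hc)
  exact this hx

variable (k) in
/-- `G` has no non-trivial unipotent normal subgroup -/
def NU (G : Subgroup Aˣ) : Prop :=
  ∀ U ≤ G, (∀ g ∈ G, ∀ u ∈ U, g * u * g⁻¹ ∈ U) → Unip k U → U = ⊥

theorem Unip.conjBy {U : Subgroup Aˣ} (hU : Unip k U) (g : Aˣ) : Unip k (conjBy U g) := by
  obtain ⟨n, hn⟩ := hU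
  let φ : A →ₐ[k] A :=
    { toFun := fun x => (g : A) * x * (g⁻¹ : Aˣ)
      map_one' := by simp
      map_mul' := fun x y => by simp [mul_assoc]
      map_zero' := by simp
      map_add' := fun x y => by simp [mul_add, add_mul]
      commutes' := fun c => by simp [Algebra.algebraMap_eq_smul_one] }
  refine unip_of_le_nil (J := (aug k U).map φ.toLinearMap) (n := n) ?_ ?_
  · rw [← Submodule.map_pow, hn, Submodule.map_bot]
  · rw [aug_le]
    rintro _ ⟨u, hu, rfl⟩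
    refine ⟨_, sub_one_mem_aug hu, ?_⟩
    simp [φ, mul_sub, sub_mul]

theorem NU.of_normal [FiniteDimensional k A] {G N : Subgroup Aˣ} (hG : NU k G) (hN : N ≤ G)
    (hn : ∀ g ∈ G, ∀ x ∈ N, g * x * g⁻¹ ∈ N) : NU k N := by
  intro U hU hUn hUu
  let W : Set (Subgroup Aˣ) := {B | ∃ g ∈ G, B = conjBy U g}
  have hWN : ∀ B ∈ W, B ≤ N := by
    rintro _ ⟨g, hg, rfl⟩ _ ⟨u, hu, rfl⟩
    exact hn g hg u (hU hu)
  have hconj : ∀ B ∈ W, ∀ g ∈ G, conjBy B g ∈ W := by
    rintro _ ⟨g, hg, rfl⟩ h hh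
    refine ⟨h * g, G.mul_mem hh hg, ?_⟩
    ext x
    simp [mul_assoc]
  have hW := unip_biSup (k := k) (G := G) (W := W) (fun B hB => (hWN B hB).trans hN) (by
    rintro B hB _ ⟨g, hg, rfl⟩
    obtain ⟨h, hh, e⟩ := hB
    refine (e ▸ hUu.conjBy h).sup_of_normalizes (hUu.conjBy g) fun b hb v hv => ?_
    rw [mem_conjBy] at hv ⊢
    have h1 : g⁻¹ * b * g ∈ N := by
      simpa using hn _ (G.inv_mem hg) b (hWN B ⟨h, hh, e⟩ hb)
    simpa [mul_assoc] using hUn _ h1 _ hv) hconj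
  have := hG _ (iSup₂_le fun B hB => (hWN B hB).trans hN) (fun g hg u hu => conjBy_biSup hconj hg hu) hW
  rw [eq_bot_iff, ← this]
  refine le_iSup₂_of_le (f := fun B (_ : B ∈ W) => B) U ⟨1, G.one_mem, ?_⟩ le_rfl
  ext x
  simp

end Alg

section End

variable {k : Type*} [Field k] {M : Type*} [AddCommGroup M] [Module k M]

theorem isUnipotentOn_iff' {H : Subgroup (LinearMap.GeneralLinearGroup k M)} :
    IsUnipotentOn H ↔ ∃ n : ℕ, ∀ l : List (LinearMap.GeneralLinearGroup k M), (∀ g ∈ l, g ∈ H) →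
      l.length = n →
      (l.map fun g : LinearMap.GeneralLinearGroup k M => (g : M →ₗ[k] M) - 1).prod = 0 := by
  unfold IsUnipotentOn
  have : ∀ l : List (LinearMap.GeneralLinearGroup k M),
      (List.map (fun g : M →ₗ[k] M => g - 1) (l >>= fun a => pure (a : M →ₗ[k] M))) =
        l.map fun g : LinearMap.GeneralLinearGroup k M => (g : M →ₗ[k] M) - 1 := by
    intro l
    induction l with
    | nil => rfl
    | cons a l ih => simpa using ih
  simp only [← this]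

theorem isUnipotentOn_iff {H : Subgroup (LinearMap.GeneralLinearGroup k M)} :
    IsUnipotentOn H ↔ Unip k H := by
  rw [isUnipotentOn_iff']
  constructor
  · rintro ⟨n, hn⟩
    refine ⟨n, ?_⟩
    rw [aug, Submodule.span_pow, Submodule.span_eq_bot]
    intro x hx
    obtain ⟨f, rfl⟩ := Set.mem_pow.1 hx
    choose g hg using fun i => (f i).2
    have := hn (List.ofFn g) (by
      intro x hx
      obtain ⟨i, rfl⟩ := List.mem_ofFn.1 hx
      exact (hg i).1) (by simp)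
    rw [List.map_ofFn] at this
    have e : (fun i => (f i : M →ₗ[k] M)) =
        (fun g : LinearMap.GeneralLinearGroup k M => (g : M →ₗ[k] M) - 1) ∘ g :=
      funext fun i => (hg i).2
    rw [e]
    exact this
  · rintro ⟨n, hn⟩
    refine ⟨n, fun l hl hlen => ?_⟩
    rw [← Submodule.mem_bot k, ← hn, ← hlen]
    clear hlen
    induction l with
    | nil => exact Submodule.one_le.1 le_rfl
    | cons a l ih =>
      rw [List.map_cons, List.prod_cons, List.length_cons, pow_succ']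
      exact Submodule.mul_mem_mul (sub_one_mem_aug (hl a (by simp)))
        (ih fun g hg => hl g (by simp [hg]))

theorem NU_of_irreducible {G : Subgroup (LinearMap.GeneralLinearGroup k M)}
    (hG : IsIrreducibleFor G) : NU k G := by
  intro U hU hn ⟨n, hu⟩
  let P : Submodule k M := aug k U • (⊤ : Submodule k M)
  have hP : ∀ g ∈ G, ∀ w ∈ P, (g : M →ₗ[k] M) w ∈ P := by
    intro g hg w hw
    refine Submodule.smul_induction_on (p := fun w => (g : M →ₗ[k] M) w ∈ P) hw ?_ ?_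
    · intro r hr m _
      have : (g : M →ₗ[k] M) * r * (g⁻¹ : LinearMap.GeneralLinearGroup k M) ∈ aug k U := by
        induction hr using Submodule.span_induction with
        | mem x hx =>
          obtain ⟨u, hu, rfl⟩ := hx
          have := sub_one_mem_aug (k := k) (hn g hg u hu)
          convert this using 1
          simp [mul_sub, sub_mul]
        | zero => simp
        | add x y _ _ hx hy => rw [mul_add, add_mul]; exact Submodule.add_mem _ hx hy
        | smul c x _ hx => rw [mul_smul_comm, smul_mul_assoc]; exact Submodule.smul_mem _ _ hx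
      have h2 := Submodule.smul_mem_smul this (Submodule.mem_top (x := (g : M →ₗ[k] M) m))
      convert h2 using 1
      show _ = ((g : M →ₗ[k] M) * r * (g⁻¹ : LinearMap.GeneralLinearGroup k M) * g) m
      rw [mul_assoc, Units.inv_mul, mul_one]
      rfl
    · intro x y hx hy
      rw [map_add]; exact P.add_mem hx hy
  rcases hG.2 P hP with h | h
  · rw [eq_bot_iff]
    intro u hu
    rw [Subgroup.mem_bot]
    ext m
    have := Submodule.smul_mem_smul (sub_one_mem_aug (k := k) hu) (Submodule.mem_top (x := m))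
    change _ ∈ P at this
    rw [h, Submodule.mem_bot] at this
    exact sub_eq_zero.1 this
  · exfalso
    have h2 : ∀ m : ℕ, aug k U ^ m • (⊤ : Submodule k M) = ⊤ := by
      intro m
      induction m with
      | zero => rw [pow_zero, Submodule.one_smul]
      | succ m ih =>
        rw [pow_succ, ← smul_eq_mul, Submodule.smul_assoc]
        change aug k U ^ m • P = ⊤
        rw [h, ih]
    obtain ⟨m, hm⟩ := hG.1
    have h3 := h2 n
    rw [hu, Submodule.bot_smul] at h3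
    exact hm ((Submodule.mem_bot k).1 (h3 ▸ Submodule.mem_top))

end End

end CL.Quad
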