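/-
Quadratic pairs, part 1: quadratic endomorphisms, root spaces, root subgroups, opposite pairs.
-/
import Mathlib
import Cfsg.Agent.CHEV.QuadKey
import Cfsg.Agent.CHEV.QuadUnip
import Cfsg.Agent.CHEV.RankOne

set_option autoImplicit false

namespace CL.Quad

open Cfsg Polynomial LinearMap Module

section Units

variable {A : Type*} [Ring A]

/-- the unit `1 + α` for `α² = 0` -/
def un (α : A) (h : α * α = 0) : Aˣ where
  val := 1 + α
  inv := 1 - α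
  val_inv := by rw [add_mul, mul_sub, mul_sub, h]; simp
  inv_val := by rw [sub_mul, mul_add, mul_add, h]; simp

theorem un_val (α : A) (h : α * α = 0) : (un α h : A) = 1 + α := rfl
theorem un_inv_val (α : A) (h : α * α = 0) : (((un α h)⁻¹ : Aˣ) : A) = 1 - α := rfl
theorem un_sub_one (α : A) (h : α * α = 0) : (un α h : A) - 1 = α := add_sub_cancel_left _ _

theorem inv_val_of_sq {g : Aˣ} (h : ((g : A) - 1) * ((g : A) - 1) = 0) :
    ((g⁻¹ : Aˣ) : A) = 1 - ((g : A) - 1) := by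
  apply Units.inv_eq_of_mul_eq_one_right
  have : (g : A) * (1 - ((g : A) - 1)) = 1 - ((g : A) - 1) * ((g : A) - 1) := by noncomm_ring
  rw [this, h, sub_zero]

theorem eq_one_iff_sub {g : Aˣ} : g = 1 ↔ (g : A) - 1 = 0 := by
  rw [sub_eq_zero, Units.val_eq_one]

/-- conjugation of a ring element by a unit -/
def cj (g : Aˣ) (x : A) : A := (g : A) * x * ((g⁻¹ : Aˣ) : A)

theorem cj_mul (g : Aˣ) (x y : A) : cj g (x * y) = cj g x * cj g y := by simp [cj, mul_assoc]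
theorem cj_add (g : Aˣ) (x y : A) : cj g (x + y) = cj g x + cj g y := by simp [cj, mul_add, add_mul]
theorem cj_sub (g : Aˣ) (x y : A) : cj g (x - y) = cj g x - cj g y := by simp [cj, mul_sub, sub_mul]
theorem cj_neg (g : Aˣ) (x : A) : cj g (-x) = - cj g x := by simp [cj]
theorem cj_zero (g : Aˣ) : cj g (0 : A) = 0 := by simp [cj]
theorem cj_one (g : Aˣ) : cj g (1 : A) = 1 := by simp [cj]
theorem one_cj (x : A) : cj 1 x = x := by simp [cj]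
theorem cj_cj (g h : Aˣ) (x : A) : cj g (cj h x) = cj (g * h) x := by simp [cj, mul_assoc]
theorem cj_inv_cj (g : Aˣ) (x : A) : cj g⁻¹ (cj g x) = x := by rw [cj_cj, inv_mul_cancel, one_cj]
theorem cj_cj_inv (g : Aˣ) (x : A) : cj g (cj g⁻¹ x) = x := by rw [cj_cj, mul_inv_cancel, one_cj]
theorem cj_eq_zero {g : Aˣ} {x : A} : cj g x = 0 ↔ x = 0 :=
  ⟨fun h => by rw [← cj_inv_cj g x, h, cj_zero], fun h => by rw [h, cj_zero]⟩
theorem cj_val (g h : Aˣ) : ((g * h * g⁻¹ : Aˣ) : A) = cj g h := by simp [cj]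
theorem cj_val_sub_one (g h : Aˣ) : ((g * h * g⁻¹ : Aˣ) : A) - 1 = cj g ((h : A) - 1) := by
  rw [cj_sub, cj_one, cj_val]
theorem cj_smul {k : Type*} [Field k] [Algebra k A] (g : Aˣ) (c : k) (x : A) :
    cj g (c • x) = c • cj g x := by simp [cj]
theorem cj_of_comm {g : Aˣ} {x : A} (h : (g : A) * x = x * g) : cj g x = x := by
  rw [cj, h, mul_assoc, Units.mul_inv, mul_one]

theorem exists_inv_poly {k : Type*} [Field k] [Algebra k A] [FiniteDimensional k A] {z β : A}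
    (hinj : ∀ r : k[X], z * (aeval z r * β) = 0 → aeval z r * β = 0) :
    ∃ s : k[X], aeval z s * z * β = β := by
  let L : k[X] →ₗ[k] A := (LinearMap.mulRight k β).comp (aeval z).toLinearMap
  have hmap : ∀ x ∈ range L, LinearMap.mulLeft k z x ∈ range L := by
    rintro _ ⟨r, rfl⟩
    exact ⟨X * r, by simp [L, mul_assoc]⟩
  have hi : Function.Injective ((LinearMap.mulLeft k z).restrict hmap) := by
    rw [injective_iff_map_eq_zero]
    rintro ⟨_, r, rfl⟩ h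
    exact Subtype.ext (hinj r (congrArg Subtype.val h))
  obtain ⟨⟨_, s, rfl⟩, hs⟩ := LinearMap.injective_iff_surjective.1 hi ⟨β, 1, by simp [L]⟩
  refine ⟨s, ?_⟩
  have h1 : z * (aeval z s * β) = β := congrArg Subtype.val hs
  rw [← comm_aeval rfl, mul_assoc, h1]

end Units

variable {k : Type*} [Field k] {M : Type*} [AddCommGroup M] [Module k M]

theorem mul_eq_zero_iff {x y : M →ₗ[k] M} : x * y = 0 ↔ range y ≤ ker x :=
  (LinearMap.range_le_ker_iff).symm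

theorem mul_zero_of_range {x y y' : M →ₗ[k] M} (h : x * y = 0) (hr : range y' ≤ range y) :
    x * y' = 0 := mul_eq_zero_iff.2 (hr.trans (mul_eq_zero_iff.1 h))

theorem mul_zero_of_ker {x x' y : M →ₗ[k] M} (h : x * y = 0) (hr : ker x ≤ ker x') :
    x' * y = 0 := mul_eq_zero_iff.2 ((mul_eq_zero_iff.1 h).trans hr)

theorem range_mul_le (x y : M →ₗ[k] M) : range (x * y) ≤ range x := by
  rintro _ ⟨m, rfl⟩; exact ⟨y m, rfl⟩

theorem ker_le_ker_mul (x y : M →ₗ[k] M) : ker y ≤ ker (x * y) := by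
  intro m hm
  rw [mem_ker] at hm ⊢
  rw [Module.End.mul_apply, hm, map_zero]

/-- if `x` is the identity on the range of `y` -/
theorem mul_eq_of_range {x y y' : M →ₗ[k] M} (h : x * y = y) (hr : range y' ≤ range y) :
    x * y' = y' := by
  have : (x - 1) * y' = 0 := mul_zero_of_range (by rw [sub_mul, h, one_mul, sub_self]) hr
  rwa [sub_mul, one_mul, sub_eq_zero] at this

theorem mul_eq_of_ker {x x' y : M →ₗ[k] M} (h : x * y = x) (hr : ker x ≤ ker x') :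
    x' * y = x' := by
  have : x' * (y - 1) = 0 := mul_zero_of_ker (by rw [mul_sub, h, mul_one, sub_self]) hr
  rwa [mul_sub, mul_one, sub_eq_zero] at this

/-- the rank -/
noncomputable def rk (α : M →ₗ[k] M) : ℕ := finrank k (range α)

theorem range_cj (g : (M →ₗ[k] M)ˣ) (α : M →ₗ[k] M) :
    range (cj g α) = (range α).map (g : M →ₗ[k] M) := by
  apply le_antisymm
  · rintro _ ⟨m, rfl⟩
    exact ⟨_, ⟨_, rfl⟩, rfl⟩
  · rintro _ ⟨_, ⟨m, rfl⟩, rfl⟩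
    refine ⟨(g : M →ₗ[k] M) m, ?_⟩
    show ((g : M →ₗ[k] M) * α * (g⁻¹ : (M →ₗ[k] M)ˣ) * g) m = _
    rw [mul_assoc, Units.inv_mul, mul_one]; rfl

theorem unit_inj (g : (M →ₗ[k] M)ˣ) : Function.Injective (g : M →ₗ[k] M) :=
  (LinearMap.GeneralLinearGroup.toLinearEquiv g).injective

theorem ker_cj (g : (M →ₗ[k] M)ˣ) (α : M →ₗ[k] M) :
    ker (cj g α) = (ker α).map (g : M →ₗ[k] M) := by
  apply le_antisymm
  · intro m hm
    refine ⟨((g⁻¹ : (M →ₗ[k] M)ˣ) : M →ₗ[k] M) m, ?_, ?_⟩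
    · apply unit_inj g
      rw [map_zero]; exact hm
    · show ((g : M →ₗ[k] M) * (g⁻¹ : (M →ₗ[k] M)ˣ)) m = m
      rw [Units.mul_inv]; rfl
  · rintro _ ⟨m, hm, rfl⟩
    show ((g : M →ₗ[k] M) * α * (g⁻¹ : (M →ₗ[k] M)ˣ) * g) m = 0
    rw [mul_assoc, Units.inv_mul, mul_one, Module.End.mul_apply, mem_ker.1 hm, map_zero]

theorem rk_cj (g : (M →ₗ[k] M)ˣ) (α : M →ₗ[k] M) : rk (cj g α) = rk α := by
  rw [rk, range_cj]
  exact LinearEquiv.finrank_map_eq (LinearMap.GeneralLinearGroup.toLinearEquiv g) _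

/-- quadratic endomorphisms whose scalar family lies in `G` (including `0`) -/
def Qe (G : Subgroup (M →ₗ[k] M)ˣ) : Set (M →ₗ[k] M) :=
  {α | α * α = 0 ∧ ∀ c : k, ∃ g ∈ G, (g : M →ₗ[k] M) = 1 + c • α}

/-- the non-zero members of `Qe G` of minimal rank -/
def Qd (G : Subgroup (M →ₗ[k] M)ˣ) : Set (M →ₗ[k] M) :=
  {α | α ∈ Qe G ∧ α ≠ 0 ∧ ∀ β ∈ Qe G, β ≠ 0 → rk α ≤ rk β}

variable {G : Subgroup (M →ₗ[k] M)ˣ}

theorem Qe.sq {α : M →ₗ[k] M} (h : α ∈ Qe G) : α * α = 0 := h.1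
theorem Qd.sq {α : M →ₗ[k] M} (h : α ∈ Qd G) : α * α = 0 := h.1.1
theorem Qd.ne {α : M →ₗ[k] M} (h : α ∈ Qd G) : α ≠ 0 := h.2.1

theorem Qe.mem {α : M →ₗ[k] M} (h : α ∈ Qe G) {g : (M →ₗ[k] M)ˣ} (c : k)
    (hg : (g : M →ₗ[k] M) = 1 + c • α) : g ∈ G := by
  obtain ⟨g', hg', e⟩ := h.2 c
  rwa [Units.ext (hg.trans e.symm)]

theorem Qe.mem' {α : M →ₗ[k] M} (h : α ∈ Qe G) {g : (M →ₗ[k] M)ˣ}
    (hg : (g : M →ₗ[k] M) - 1 = α) : g ∈ G :=
  Qe.mem h 1 (by rw [one_smul, ← hg, add_sub_cancel])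

theorem Qe.un_mem {α : M →ₗ[k] M} (h : α ∈ Qe G) : un α h.1 ∈ G := Qe.mem' h (un_sub_one _ _)

theorem Qe_zero : (0 : M →ₗ[k] M) ∈ Qe G := ⟨by simp, fun _ => ⟨1, G.one_mem, by simp⟩⟩

theorem Qe.smul {α : M →ₗ[k] M} (h : α ∈ Qe G) (c : k) : c • α ∈ Qe G :=
  ⟨by rw [smul_mul_smul_comm, h.1, smul_zero], fun d => by rw [smul_smul]; exact h.2 _⟩

theorem Qe.neg {α : M →ₗ[k] M} (h : α ∈ Qe G) : -α ∈ Qe G := by
  simpa using Qe.smul h (-1)

theorem Qe.add {α β : M →ₗ[k] M} (h : α ∈ Qe G) (h' : β ∈ Qe G) (h1 : α * β = 0)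
    (h2 : β * α = 0) : α + β ∈ Qe G := by
  refine ⟨by rw [add_mul, mul_add, mul_add, h.1, h'.1, h1, h2]; simp, fun c => ?_⟩
  obtain ⟨g, hg, e⟩ := h.2 c
  obtain ⟨g', hg', e'⟩ := h'.2 c
  refine ⟨g * g', G.mul_mem hg hg', ?_⟩
  rw [Units.val_mul, e, e', add_mul, mul_add, mul_add, smul_mul_smul_comm, h1, smul_add]
  simp only [one_mul, mul_one, smul_zero, add_zero]
  abel

theorem Qe.mono {H : Subgroup (M →ₗ[k] M)ˣ} (hH : H ≤ G) {α : M →ₗ[k] M} (h : α ∈ Qe H) :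
    α ∈ Qe G := ⟨h.1, fun c => by obtain ⟨g, hg, e⟩ := h.2 c; exact ⟨g, hH hg, e⟩⟩

theorem Qe.cj {α : M →ₗ[k] M} (h : α ∈ Qe G) {g : (M →ₗ[k] M)ˣ} (hg : g ∈ G) : cj g α ∈ Qe G := by
  refine ⟨by rw [← cj_mul, h.1, cj_zero], fun c => ?_⟩
  obtain ⟨x, hx, e⟩ := h.2 c
  exact ⟨g * x * g⁻¹, G.mul_mem (G.mul_mem hg hx) (G.inv_mem hg), by
    rw [cj_val, e, cj_add, cj_one, cj_smul]⟩

theorem Qd.cj {α : M →ₗ[k] M} (h : α ∈ Qd G) {g : (M →ₗ[k] M)ˣ} (hg : g ∈ G) : cj g α ∈ Qd G :=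
  ⟨Qe.cj h.1 hg, fun e => h.2.1 (cj_eq_zero.1 e), fun β hβ h0 => by rw [rk_cj]; exact h.2.2 β hβ h0⟩

theorem Qd.rk_eq {α β : M →ₗ[k] M} (h : α ∈ Qd G) (h' : β ∈ Qd G) : rk α = rk β :=
  le_antisymm (h.2.2 β h'.1 h'.2.1) (h'.2.2 α h.1 h.2.1)

theorem Qd.of_rk_le {α β : M →ₗ[k] M} (h : α ∈ Qd G) (h' : β ∈ Qe G) (h0 : β ≠ 0)
    (hr : rk β ≤ rk α) : β ∈ Qd G :=
  ⟨h', h0, fun γ hγ hγ0 => hr.trans (h.2.2 γ hγ hγ0)⟩

theorem mem_quadraticElements {σ : (M →ₗ[k] M)ˣ} :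
    σ ∈ quadraticElements G ↔ (σ : M →ₗ[k] M) - 1 ∈ Qe G ∧ (σ : M →ₗ[k] M) - 1 ≠ 0 := by
  constructor
  · rintro ⟨-, hq, hs⟩
    refine ⟨⟨hq.1, fun c => ⟨un (c • ((σ : M →ₗ[k] M) - 1)) ?_, hs ⟨c, rfl⟩, rfl⟩⟩, hq.2⟩
    rw [smul_mul_smul_comm, hq.1, smul_zero]
  · rintro ⟨h, h0⟩
    exact ⟨Qe.mem' h rfl, ⟨h.1, h0⟩, fun τ ⟨c, hc⟩ => Qe.mem h c hc⟩

theorem mem_minimal {σ : (M →ₗ[k] M)ˣ} :
    σ ∈ minimalQuadraticElements G ↔ (σ : M →ₗ[k] M) - 1 ∈ Qd G := by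
  constructor
  · rintro ⟨h, hm⟩
    rw [mem_quadraticElements] at h
    refine ⟨h.1, h.2, fun β hβ h0 => ?_⟩
    have := hm (un β hβ.1) (mem_quadraticElements.2 (by rw [un_sub_one]; exact ⟨hβ, h0⟩))
    rwa [commutatorRank, commutatorRank, un_sub_one] at this
  · rintro ⟨h, h0, hm⟩
    refine ⟨mem_quadraticElements.2 ⟨h, h0⟩, fun τ hτ => ?_⟩
    rw [mem_quadraticElements] at hτ
    exact hm _ hτ.1 hτ.2

variable (G) in
/-- the root space of `α` -/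
def lie (α : M →ₗ[k] M) : Submodule k (M →ₗ[k] M) where
  carrier := {β | β ∈ Qe G ∧ range β ≤ range α ⊓ ker α ∧ ker α ≤ ker β}
  zero_mem' := ⟨Qe_zero, by simp, by simp⟩
  add_mem' := by
    rintro a b ⟨a1, a2, a3⟩ ⟨b1, b2, b3⟩
    refine ⟨Qe.add a1 b1 (mul_eq_zero_iff.2 ((b2.trans inf_le_right).trans a3))
      (mul_eq_zero_iff.2 ((a2.trans inf_le_right).trans b3)), ?_, fun m hm => ?_⟩
    · rintro _ ⟨m, rfl⟩
      exact Submodule.add_mem _ (a2 ⟨m, rfl⟩) (b2 ⟨m, rfl⟩)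
    · rw [mem_ker, LinearMap.add_apply, mem_ker.1 (a3 hm), mem_ker.1 (b3 hm), add_zero]
  smul_mem' := by
    rintro c a ⟨a1, a2, a3⟩
    refine ⟨Qe.smul a1 c, ?_, fun m hm => ?_⟩
    · rintro _ ⟨m, rfl⟩
      exact Submodule.smul_mem _ c (a2 ⟨m, rfl⟩)
    · rw [mem_ker, LinearMap.smul_apply, mem_ker.1 (a3 hm), smul_zero]

theorem mem_lie {α β : M →ₗ[k] M} (hα : α * α = 0) :
    β ∈ lie G α ↔ β ∈ Qe G ∧ range β ≤ range α ∧ ker α ≤ ker β :=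
  ⟨fun h => ⟨h.1, h.2.1.trans inf_le_left, h.2.2⟩,
    fun h => ⟨h.1, le_inf h.2.1 (h.2.1.trans (mul_eq_zero_iff.1 hα)), h.2.2⟩⟩

theorem lie.qe {α β : M →ₗ[k] M} (h : β ∈ lie G α) : β ∈ Qe G := h.1
theorem lie.range_le {α β : M →ₗ[k] M} (h : β ∈ lie G α) : range β ≤ range α :=
  h.2.1.trans inf_le_left
theorem lie.ker_le {α β : M →ₗ[k] M} (h : β ∈ lie G α) : ker α ≤ ker β := h.2.2

theorem lie.mul_zero {α β γ : M →ₗ[k] M} (h : β ∈ lie G α) (h' : γ ∈ lie G α) : β * γ = 0 :=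
  mul_eq_zero_iff.2 ((h'.2.1.trans inf_le_right).trans h.2.2)

theorem self_mem_lie {α : M →ₗ[k] M} (h : α ∈ Qe G) : α ∈ lie G α :=
  (mem_lie h.1).2 ⟨h, le_rfl, le_rfl⟩

theorem lie_congr {α β : M →ₗ[k] M} (hr : range α = range β) (hk : ker α = ker β) :
    lie G α = lie G β := by
  ext γ
  show (_ ∧ _ ∧ _) ↔ (_ ∧ _ ∧ _)
  rw [hr, hk]

theorem lie.cj {α β : M →ₗ[k] M} (h : β ∈ lie G α) {g : (M →ₗ[k] M)ˣ} (hg : g ∈ G) :
    cj g β ∈ lie G (cj g α) := by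
  refine ⟨Qe.cj h.1 hg, ?_, ?_⟩
  · rw [range_cj, range_cj, ker_cj]
    exact le_inf (Submodule.map_mono (lie.range_le h))
      (Submodule.map_mono (h.2.1.trans inf_le_right))
  · rw [ker_cj, ker_cj]; exact Submodule.map_mono h.2.2

theorem cj_mem_lie_iff {α β : M →ₗ[k] M} {g : (M →ₗ[k] M)ˣ} (hg : g ∈ G) :
    cj g β ∈ lie G (cj g α) ↔ β ∈ lie G α :=
  ⟨fun h => by simpa only [cj_inv_cj] using lie.cj h (G.inv_mem hg), fun h => lie.cj h hg⟩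

variable (G) in
/-- the root subgroup of `α` -/
def rootGrp (α : M →ₗ[k] M) : Subgroup (M →ₗ[k] M)ˣ where
  carrier := {g | (g : M →ₗ[k] M) - 1 ∈ lie G α}
  one_mem' := by simp
  mul_mem' := fun {g h} hg hh => by
    have e : ((g * h : (M →ₗ[k] M)ˣ) : M →ₗ[k] M) - 1 =
        ((g : M →ₗ[k] M) - 1) * ((h : M →ₗ[k] M) - 1) + (((g : M →ₗ[k] M) - 1) + ((h : M →ₗ[k] M) - 1)) := by
      rw [Units.val_mul]; noncomm_ring
    show _ ∈ lie G α
    rw [e, lie.mul_zero hg hh, zero_add]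
    exact Submodule.add_mem _ hg hh
  inv_mem' := fun {g} hg => by
    show _ ∈ lie G α
    rw [inv_val_of_sq (lie.mul_zero hg hg), sub_sub_cancel_left]
    exact Submodule.neg_mem _ hg

theorem mem_rootGrp {α : M →ₗ[k] M} {g : (M →ₗ[k] M)ˣ} :
    g ∈ rootGrp G α ↔ (g : M →ₗ[k] M) - 1 ∈ lie G α := Iff.rfl

theorem un_mem_rootGrp {α β : M →ₗ[k] M} (h : β ∈ lie G α) (hβ : β * β = 0) :
    un β hβ ∈ rootGrp G α := by rw [mem_rootGrp, un_sub_one]; exact h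

theorem rootGrp_le (α : M →ₗ[k] M) : rootGrp G α ≤ G := fun _ hg => Qe.mem' hg.1 rfl

theorem rootGrp_congr {α β : M →ₗ[k] M} (h : lie G α = lie G β) : rootGrp G α = rootGrp G β := by
  ext g; rw [mem_rootGrp, mem_rootGrp, h]

theorem lie_eq_of_rootGrp_eq {α β : M →ₗ[k] M} (h : rootGrp G α = rootGrp G β) :
    lie G α = lie G β := by
  ext γ
  constructor
  · intro hγ
    have := un_mem_rootGrp hγ hγ.1.1
    rwa [h, mem_rootGrp, un_sub_one] at this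
  · intro hγ
    have := un_mem_rootGrp hγ hγ.1.1
    rwa [← h, mem_rootGrp, un_sub_one] at this

theorem conjBy_rootGrp (α : M →ₗ[k] M) {g : (M →ₗ[k] M)ˣ} (hg : g ∈ G) :
    conjBy (rootGrp G α) g = rootGrp G (cj g α) := by
  ext x
  rw [mem_conjBy, mem_rootGrp, mem_rootGrp, ← cj_mem_lie_iff hg, ← cj_val_sub_one]
  simp [mul_assoc]

theorem rootGrp_comm {α : M →ₗ[k] M} {g h : (M →ₗ[k] M)ˣ} (hg : g ∈ rootGrp G α)
    (hh : h ∈ rootGrp G α) : g * h = h * g := by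
  ext1
  have e : ∀ g h : (M →ₗ[k] M)ˣ, ((g * h : (M →ₗ[k] M)ˣ) : M →ₗ[k] M) =
      ((g : M →ₗ[k] M) - 1) * ((h : M →ₗ[k] M) - 1) + ((g : M →ₗ[k] M) + h - 1) := by
    intro g h; rw [Units.val_mul]; noncomm_ring
  rw [e, e, lie.mul_zero hg hh, lie.mul_zero hh hg, add_comm (g : M →ₗ[k] M)]

theorem rootGrp_isMulCommutative (α : M →ₗ[k] M) : IsMulCommutative (rootGrp G α) :=
  ⟨⟨fun x y => Subtype.ext (rootGrp_comm x.2 y.2)⟩⟩

theorem rootGrp_ne_bot {α : M →ₗ[k] M} (h : α ∈ Qd G) : rootGrp G α ≠ ⊥ := by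
  intro e
  have := un_mem_rootGrp (self_mem_lie h.1) h.1.1
  rw [e, Subgroup.mem_bot, eq_one_iff_sub, un_sub_one] at this
  exact h.2.1 this

theorem aug_rootGrp (α : M →ₗ[k] M) : aug k (rootGrp G α) = lie G α := by
  apply le_antisymm (aug_le.2 fun g hg => hg)
  intro β hβ
  have := sub_one_mem_aug (k := k) (un_mem_rootGrp hβ hβ.1.1)
  rwa [un_sub_one] at this

theorem finrank_lie_cj (α : M →ₗ[k] M) {g : (M →ₗ[k] M)ˣ} (hg : g ∈ G) :
    finrank k (lie G (cj g α)) = finrank k (lie G α) := by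
  let φ : (M →ₗ[k] M) ≃ₗ[k] (M →ₗ[k] M) :=
    { toFun := cj g
      map_add' := cj_add g
      map_smul' := cj_smul g
      invFun := cj g⁻¹
      left_inv := cj_inv_cj g
      right_inv := cj_cj_inv g }
  have : lie G (cj g α) = (lie G α).map φ.toLinearMap := by
    apply le_antisymm
    · intro β hβ
      refine ⟨cj g⁻¹ β, ?_, cj_cj_inv g β⟩
      have := lie.cj hβ (G.inv_mem hg)
      rwa [cj_inv_cj] at this
    · rintro _ ⟨β, hβ, rfl⟩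
      exact lie.cj hβ hg
  rw [this]
  exact LinearEquiv.finrank_map_eq φ _

section FD

variable [FiniteDimensional k M]

theorem ker_eq_of_le_of_rk {α β : M →ₗ[k] M} (h : ker α ≤ ker β) (hr : rk α ≤ rk β) :
    ker α = ker β := by
  apply Submodule.eq_of_le_of_finrank_le h
  have e1 := LinearMap.finrank_range_add_finrank_ker α
  have e2 := LinearMap.finrank_range_add_finrank_ker β
  unfold rk at hr
  omega

theorem lie.range_eq {α β : M →ₗ[k] M} (hα : α ∈ Qd G) (h : β ∈ lie G α) (h0 : β ≠ 0) :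
    range β = range α :=
  Submodule.eq_of_le_of_finrank_le (lie.range_le h) (hα.2.2 β h.1 h0)

theorem lie.ker_eq {α β : M →ₗ[k] M} (hα : α ∈ Qd G) (h : β ∈ lie G α) (h0 : β ≠ 0) :
    ker β = ker α :=
  (ker_eq_of_le_of_rk h.2.2 (hα.2.2 β h.1 h0)).symm

theorem lie.qd {α β : M →ₗ[k] M} (hα : α ∈ Qd G) (h : β ∈ lie G α) (h0 : β ≠ 0) : β ∈ Qd G :=
  Qd.of_rk_le hα h.1 h0 (Submodule.finrank_mono (lie.range_le h))

theorem lie.lie_eq {α β : M →ₗ[k] M} (hα : α ∈ Qd G) (h : β ∈ lie G α) (h0 : β ≠ 0) :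
    lie G β = lie G α := lie_congr (lie.range_eq hα h h0) (lie.ker_eq hα h h0)

theorem lie.rootGrp_eq {α β : M →ₗ[k] M} (hα : α ∈ Qd G) (h : β ∈ lie G α) (h0 : β ≠ 0) :
    rootGrp G β = rootGrp G α := rootGrp_congr (lie.lie_eq hα h h0)

theorem sameActionSubgroup_eq {σ : (M →ₗ[k] M)ˣ} (hσ : σ ∈ minimalQuadraticElements G) :
    sameActionSubgroup G σ = rootGrp G ((σ : M →ₗ[k] M) - 1) := by
  rw [mem_minimal] at hσ
  apply le_antisymm
  · rw [sameActionSubgroup, Subgroup.closure_le]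
    rintro τ ⟨h1, h2, h3⟩
    rw [mem_minimal] at h1
    exact (mem_lie hσ.1.1).2 ⟨h1.1, h3.le, h2.ge⟩
  · intro τ hτ
    by_cases h0 : (τ : M →ₗ[k] M) - 1 = 0
    · rw [eq_one_iff_sub.2 h0]; exact Subgroup.one_mem _
    · exact Subgroup.subset_closure ⟨mem_minimal.2 (lie.qd hσ hτ h0), lie.ker_eq hσ hτ h0,
        lie.range_eq hσ hτ h0⟩

theorem mem_roots {E : Subgroup (M →ₗ[k] M)ˣ} :
    E ∈ quadraticRootSubgroups G ↔ ∃ α ∈ Qd G, E = rootGrp G α := by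
  constructor
  · rintro ⟨σ, hσ, rfl⟩
    exact ⟨_, mem_minimal.1 hσ, sameActionSubgroup_eq hσ⟩
  · rintro ⟨α, hα, rfl⟩
    have : un α hα.1.1 ∈ minimalQuadraticElements G := by rw [mem_minimal, un_sub_one]; exact hα
    exact ⟨_, this, by rw [sameActionSubgroup_eq this, un_sub_one]⟩

theorem rootGrp_mem_roots {α : M →ₗ[k] M} (h : α ∈ Qd G) :
    rootGrp G α ∈ quadraticRootSubgroups G := mem_roots.2 ⟨α, h, rfl⟩

theorem roots_conj {E : Subgroup (M →ₗ[k] M)ˣ} (hE : E ∈ quadraticRootSubgroups G)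
    {g : (M →ₗ[k] M)ˣ} (hg : g ∈ G) : conjBy E g ∈ quadraticRootSubgroups G := by
  obtain ⟨α, hα, rfl⟩ := mem_roots.1 hE
  rw [conjBy_rootGrp α hg]
  exact rootGrp_mem_roots (Qd.cj hα hg)

theorem roots_le {E : Subgroup (M →ₗ[k] M)ˣ} (hE : E ∈ quadraticRootSubgroups G) : E ≤ G := by
  obtain ⟨α, -, rfl⟩ := mem_roots.1 hE
  exact rootGrp_le α

omit [FiniteDimensional k M] in
theorem exists_Qd {α : M →ₗ[k] M} (hα : α ∈ Qe G) (h0 : α ≠ 0) : ∃ β, β ∈ Qd G := by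
  obtain ⟨β, hβ, hm⟩ := (InvImage.wf (rk : (M →ₗ[k] M) → ℕ) wellFounded_lt).has_min
    {β | β ∈ Qe G ∧ β ≠ 0} ⟨α, hα, h0⟩
  exact ⟨β, hβ.1, hβ.2, fun γ hγ hγ0 => not_lt.1 (hm γ ⟨hγ, hγ0⟩)⟩

/-- consequence of the key lemma -/
theorem aeval_mul_mem_lie (hk2 : (2 : k) ≠ 0) (hk3 : Nat.card k ≠ 3) {α β : M →ₗ[k] M}
    (hα : α ∈ Qe G) (hβ : β ∈ Qe G) (r : k[X]) : aeval (α * β + β * α) r * α ∈ lie G α := by
  have hc := comm_aeval (comm_z_left (β := β) hα.1) r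
  refine (mem_lie hα.1).2 ⟨⟨?_, fun c => ?_⟩, ?_, ker_le_ker_mul _ _⟩
  · rw [mul_assoc, ← mul_assoc α, hc, mul_assoc, hα.1, mul_zero, mul_zero]
  · obtain ⟨g, hg, e⟩ := key_lemma hk2 hk3 hα.1 hβ.1 hα.2 hβ.2 (c • r)
    exact ⟨g, hg, by rw [e, map_smul, smul_mul_assoc]⟩
  · rw [← hc]; exact range_mul_le _ _

omit [FiniteDimensional k M] in
theorem z_mul {α β : M →ₗ[k] M} (hα : α * α = 0) : (α * β + β * α) * α = α * β * α := by
  rw [add_mul, mul_assoc β, hα, mul_zero, add_zero]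

theorem exists_inv_of_ne (hk2 : (2 : k) ≠ 0) (hk3 : Nat.card k ≠ 3) {α β : M →ₗ[k] M}
    (hα : α ∈ Qd G) (hβ : β ∈ Qe G) (h : α * β * α ≠ 0) :
    ∃ s : k[X], aeval (α * β + β * α) s * (α * β + β * α) * α = α := by
  apply exists_inv_poly
  intro r hr
  have hc := comm_aeval (comm_z_left (β := β) hα.1.1) r
  have h1 := aeval_mul_mem_lie hk2 hk3 hα.1 hβ X
  rw [aeval_X] at h1
  have h2 := lie.ker_eq hα h1 (by rwa [z_mul hα.1.1])
  rw [← hc, ← mul_assoc] at hr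
  rw [← hc]
  exact mul_zero_of_ker hr h2.le

/-- opposite pairs -/
def Opp (α β : M →ₗ[k] M) : Prop := range α ⊓ ker β = ⊥ ∧ range β ⊓ ker α = ⊥

omit [FiniteDimensional k M] in
theorem Opp.symm {α β : M →ₗ[k] M} (h : Opp α β) : Opp β α := ⟨h.2, h.1⟩

omit [FiniteDimensional k M] in
theorem Opp.ne_zero {α β : M →ₗ[k] M} (h : Opp α β) (h0 : α ≠ 0) : α * β * α ≠ 0 := by
  intro e
  apply h0
  ext m
  have h1 : β (α m) ∈ range β ⊓ ker α := ⟨⟨_, rfl⟩, congrArg (fun f : M →ₗ[k] M => f m) e⟩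
  rw [h.2, Submodule.mem_bot] at h1
  have h2 : α m ∈ range α ⊓ ker β := ⟨⟨_, rfl⟩, h1⟩
  rwa [h.1, Submodule.mem_bot] at h2

omit [FiniteDimensional k M] in
theorem Opp.cj {α β : M →ₗ[k] M} (h : Opp α β) (g : (M →ₗ[k] M)ˣ) : Opp (cj g α) (cj g β) := by
  constructor
  · rw [range_cj, ker_cj, ← Submodule.map_inf _ (unit_inj g), h.1, Submodule.map_bot]
  · rw [range_cj, ker_cj, ← Submodule.map_inf _ (unit_inj g), h.2, Submodule.map_bot]

theorem Opp.of_lie {α β α' β' : M →ₗ[k] M} (h : Opp α β) (hα : α ∈ Qd G) (hβ : β ∈ Qd G)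
    (hα' : α' ∈ lie G α) (hβ' : β' ∈ lie G β) (h1 : α' ≠ 0) (h2 : β' ≠ 0) : Opp α' β' := by
  unfold Opp
  rw [lie.range_eq hα hα' h1, lie.range_eq hβ hβ' h2, lie.ker_eq hα hα' h1, lie.ker_eq hβ hβ' h2]
  exact h

theorem exists_partner_poly (hk2 : (2 : k) ≠ 0) (hk3 : Nat.card k ≠ 3) {α β : M →ₗ[k] M}
    (hα : α ∈ Qd G) (hβ : β ∈ Qd G) (h : α * β * α ≠ 0) :
    ∃ s : k[X], aeval (α * β + β * α) s * (α * β + β * α) * α = α ∧
      aeval (α * β + β * α) s * (α * β + β * α) * β = β := by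
  obtain ⟨s, hs⟩ := exists_inv_of_ne hk2 hk3 hα hβ.1 h
  set z := α * β + β * α with hz
  have hzα : α * z = z * α := comm_z_left hα.1.1
  have e2 : z * β = β * α * β := by rw [hz, add_comm]; exact z_mul hβ.1.1
  have e1 : z * α = α * β * α := z_mul hα.1.1
  have h' : β * α * β ≠ 0 := by
    intro h0
    apply h
    have : z * (z * α) = 0 := by
      rw [e1, ← mul_assoc, ← mul_assoc, ← hzα, mul_assoc α z, e2, h0]; simp
    rw [← e1, ← hs, mul_assoc _ z, ← mul_assoc z, comm_aeval rfl, mul_assoc, this, mul_zero]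
  obtain ⟨t, ht⟩ := exists_inv_of_ne hk2 hk3 hβ hα.1 h'
  rw [add_comm, ← hz] at ht
  refine ⟨t, ?_, ht⟩
  have c1 : α * aeval z t = aeval z t * α := comm_aeval hzα t
  have h3 : aeval z t * z * (z * α) = z * α := by
    rw [e1, mul_assoc α β α]
    calc aeval z t * z * (α * (β * α)) = α * (aeval z t * z * β) * α := by
          simp only [← mul_assoc]; rw [c1, mul_assoc _ z α, ← hzα, ← mul_assoc]
      _ = α * (β * α) := by rw [ht, mul_assoc]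
  have c2 : aeval z t * aeval z s = aeval z s * aeval z t := by
    rw [← map_mul, mul_comm, map_mul]
  have c3 : z * aeval z s = aeval z s * z := comm_aeval rfl s
  calc aeval z t * z * α = aeval z t * z * (aeval z s * z * α) := by rw [hs]
    _ = aeval z s * (aeval z t * z * (z * α)) := by
        simp only [← mul_assoc]; rw [mul_assoc _ z (aeval z s), c3, ← mul_assoc, c2]
    _ = α := by rw [h3, ← mul_assoc, hs]

theorem exists_partner (hk2 : (2 : k) ≠ 0) (hk3 : Nat.card k ≠ 3) {α β : M →ₗ[k] M}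
    (hα : α ∈ Qd G) (hβ : β ∈ Qd G) (h : α * β * α ≠ 0) :
    ∃ β' ∈ lie G β, α * β' * α = α ∧ β' * α * β' = β' := by
  obtain ⟨s, h1, h2⟩ := exists_partner_poly hk2 hk3 hα hβ h
  have hm := aeval_mul_mem_lie hk2 hk3 hβ.1 hα.1 s
  rw [add_comm] at hm
  set z := α * β + β * α with hz
  have hzα : α * z = z * α := comm_z_left hα.1.1
  have hzβ : β * z = z * β := by rw [hz, add_comm]; exact comm_z_left hβ.1.1
  have c1 : α * aeval z s = aeval z s * α := comm_aeval hzα s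
  have c2 : β * aeval z s = aeval z s * β := comm_aeval hzβ s
  have e1 : z * α = α * β * α := z_mul hα.1.1
  have e2 : z * β = β * α * β := by rw [hz, add_comm]; exact z_mul hβ.1.1
  refine ⟨_, hm, ?_, ?_⟩
  · rw [← mul_assoc, c1, mul_assoc _ α, mul_assoc, ← e1, ← mul_assoc, h1]
  · calc aeval z s * β * α * (aeval z s * β) = aeval z s * (aeval z s * (β * α * β)) := by
          simp only [← mul_assoc]
          rw [mul_assoc _ α (aeval z s), c1, ← mul_assoc, mul_assoc _ β (aeval z s), c2, ← mul_assoc]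
      _ = _ := by rw [← e2, ← mul_assoc _ z, h2]

omit [FiniteDimensional k M] in
theorem opp_of_partner {α β : M →ₗ[k] M} (h1 : α * β * α = α) (h2 : β * α * β = β) : Opp α β := by
  have key : ∀ α β : M →ₗ[k] M, α * β * α = α → range α ⊓ ker β = ⊥ := by
    intro α β h
    rw [eq_bot_iff]
    rintro _ ⟨⟨m, rfl⟩, hm⟩
    rw [Submodule.mem_bot, ← h, Module.End.mul_apply, Module.End.mul_apply, mem_ker.1 hm, map_zero]
  exact ⟨key α β h1, key β α h2⟩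

theorem opp_iff (hk2 : (2 : k) ≠ 0) (hk3 : Nat.card k ≠ 3) {α β : M →ₗ[k] M}
    (hα : α ∈ Qd G) (hβ : β ∈ Qd G) : Opp α β ↔ α * β * α ≠ 0 := by
  refine ⟨fun h => h.ne_zero hα.2.1, fun h => ?_⟩
  obtain ⟨β', hβ', h1, h2⟩ := exists_partner hk2 hk3 hα hβ h
  have h0 : β' ≠ 0 := by
    rintro rfl
    exact hα.2.1 (by simpa using h1.symm)
  have := opp_of_partner h1 h2
  unfold Opp at this ⊢
  rwa [lie.range_eq hβ hβ' h0, lie.ker_eq hβ hβ' h0] at this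

theorem Opp.partner (hk2 : (2 : k) ≠ 0) (hk3 : Nat.card k ≠ 3) {α β α' : M →ₗ[k] M}
    (h : Opp α β) (hα : α ∈ Qd G) (hβ : β ∈ Qd G) (hα' : α' ∈ lie G α) (h0 : α' ≠ 0) :
    ∃ β' ∈ lie G β, α' * β' * α' = α' ∧ β' * α' * β' = β' :=
  exists_partner hk2 hk3 (lie.qd hα hα' h0) hβ
    ((h.of_lie hα hβ hα' (self_mem_lie hβ.1) h0 hβ.2.1).ne_zero h0)

theorem not_opp (hk2 : (2 : k) ≠ 0) (hk3 : Nat.card k ≠ 3) {α β : M →ₗ[k] M}
    (hα : α ∈ Qd G) (hβ : β ∈ Qd G) (h : ¬ Opp α β) : α * β * α = 0 ∧ β * α * β = 0 := by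
  constructor
  · by_contra h1
    exact h ((opp_iff hk2 hk3 hα hβ).2 h1)
  · by_contra h1
    exact h ((opp_iff hk2 hk3 hβ hα).2 h1).symm

end FD

end CL.Quad
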