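/-
Quadratic pairs, part 2: opposite pairs are special rank one pairs; non-opposite pairs generate
unipotent groups of class at most two; the trichotomy.
-/
import Mathlib
import Cfsg.Agent.CHEV.QuadPair1
import Cfsg.Agent.CHEV.RankOneSpecial

set_option autoImplicit false

namespace CL.Quad

open Cfsg Polynomial LinearMap Module
open scoped commutatorElement

section Alg

variable {k : Type*} [Field k] {A : Type*} [Ring A] [Algebra k A]

theorem cj_un_partner {α β : A} (hα : α * α = 0) (hβ : β * β = 0) (h1 : α * β * α = α)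
    (h2 : β * α * β = β) : cj (un β hβ)⁻¹ α = - cj (un α hα)⁻¹ β := by
  simp only [cj, inv_inv, un_inv_val, un_val]
  have e1 : (1 - β) * α * (1 + β) = α + α * β - β * α - β * α * β := by noncomm_ring
  have e2 : (1 - α) * β * (1 + α) = β + β * α - α * β - α * β * α := by noncomm_ring
  rw [e1, e2, h1, h2]; abel

theorem commutator_val {α β : A} (hα : α * α = 0) (hβ : β * β = 0) (h1 : α * β * α = 0)
    (h2 : β * α * β = 0) {g h : Aˣ} (hg : (g : A) - 1 = α) (hh : (h : A) - 1 = β) :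
    ((⁅g, h⁆ : Aˣ) : A) - 1 = α * β - β * α := by
  have e1 : (g : A) = 1 + α := by rw [← hg]; abel
  have e2 : (h : A) = 1 + β := by rw [← hh]; abel
  rw [commutatorElement_def, Units.val_mul, Units.val_mul, Units.val_mul,
    inv_val_of_sq (by rw [hg, hα]), inv_val_of_sq (by rw [hh, hβ]), hg, hh, e1, e2]
  have : (1 + α) * (1 + β) * (1 - α) * (1 - β) - 1 = α * β - β * α - (α * α) * (1 - β)
      - (1 + α) * (β * β) + β * α * β - (α * β * α) * (1 - β) := by noncomm_ring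
  rw [this, hα, hβ, h1, h2]; simp

/-- in `1 + J` with `J³ = 0`, commutators are central -/
theorem comm_central_of_cube {J : Submodule k A} (hJ : J * J ≤ J) (h3 : J ^ 3 = ⊥) {x y z : Aˣ}
    (hx : (x : A) - 1 ∈ J) (hy : (y : A) - 1 ∈ J) (hz : (z : A) - 1 ∈ J) :
    ⁅x, y⁆ * z = z * ⁅x, y⁆ := by
  have h30 : ∀ a ∈ J, ∀ b ∈ J, ∀ c ∈ J, a * b * c = 0 := by
    intro a ha b hb c hc
    have : a * b * c ∈ J ^ 3 := by
      rw [pow_succ, pow_two]; exact Submodule.mul_mem_mul (Submodule.mul_mem_mul ha hb) hc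
    rwa [h3, Submodule.mem_bot] at this
  have hw : (((y * x)⁻¹ : Aˣ) : A) - 1 ∈ J :=
    (onePlus J hJ ⟨3, h3⟩).inv_mem ((onePlus J hJ ⟨3, h3⟩).mul_mem hy hx)
  set a := (x : A) - 1 with ha
  set b := (y : A) - 1 with hb
  set c := (z : A) - 1 with hc
  set w := (((y * x)⁻¹ : Aˣ) : A) - 1 with hw'
  have e : ((⁅x, y⁆ : Aˣ) : A) = 1 + (a * b - b * a) := by
    have e1 : ⁅x, y⁆ = x * y * (y * x)⁻¹ := by rw [commutatorElement_def]; group
    have e2 : ((x * y : Aˣ) : A) = (a * b - b * a) + ((y * x : Aˣ) : A) := by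
      rw [Units.val_mul, Units.val_mul, ha, hb]; noncomm_ring
    rw [e1, Units.val_mul, e2, add_mul, Units.mul_inv, add_comm]
    have e3 : (((y * x)⁻¹ : Aˣ) : A) = 1 + w := by rw [hw']; abel
    rw [e3, mul_add, mul_one, sub_mul (a * b), h30 a hx b hy w hw, h30 b hy a hx w hw]; simp
  ext1
  have e4 : (z : A) = 1 + c := by rw [hc]; abel
  rw [Units.val_mul, Units.val_mul, e, e4]
  have : (1 + (a * b - b * a)) * (1 + c) = (1 + c) * (1 + (a * b - b * a)) + a * b * c - b * a * c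
      - c * a * b + c * b * a := by noncomm_ring
  rw [this, h30 a hx b hy c hz, h30 b hy a hx c hz, h30 c hz a hx b hy, h30 c hz b hy a hx]; simp

theorem class_two_of_cube {J : Submodule k A} (hJ : J * J ≤ J) (h3 : J ^ 3 = ⊥) {X : Subgroup Aˣ}
    (hX : aug k X ≤ J) : ⁅⁅X, X⁆, X⁆ = ⊥ := by
  rw [Subgroup.commutator_eq_bot_iff_le_centralizer, Subgroup.commutator_le]
  intro x hx y hy z hz
  exact (comm_central_of_cube hJ h3 (aug_le.1 hX x hx) (aug_le.1 hX y hy) (aug_le.1 hX z hz)).symm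

end Alg

variable {k : Type*} [Field k] {M : Type*} [AddCommGroup M] [Module k M]

/-- endomorphisms lowering the flag `0 ≤ W₁ ≤ W₂ ≤ M` -/
def flagJ (W₁ W₂ : Submodule k M) : Submodule k (M →ₗ[k] M) where
  carrier := {x | range x ≤ W₂ ∧ W₂.map x ≤ W₁ ∧ W₁ ≤ ker x}
  zero_mem' := ⟨by simp, by simp, by simp⟩
  add_mem' := by
    rintro a b ⟨a1, a2, a3⟩ ⟨b1, b2, b3⟩
    refine ⟨?_, ?_, fun m hm => ?_⟩
    · rintro _ ⟨m, rfl⟩
      exact Submodule.add_mem _ (a1 ⟨m, rfl⟩) (b1 ⟨m, rfl⟩)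
    · rintro _ ⟨m, hm, rfl⟩
      exact Submodule.add_mem _ (a2 ⟨m, hm, rfl⟩) (b2 ⟨m, hm, rfl⟩)
    · rw [mem_ker, LinearMap.add_apply, mem_ker.1 (a3 hm), mem_ker.1 (b3 hm), add_zero]
  smul_mem' := by
    rintro c a ⟨a1, a2, a3⟩
    refine ⟨?_, ?_, fun m hm => ?_⟩
    · rintro _ ⟨m, rfl⟩
      exact Submodule.smul_mem _ c (a1 ⟨m, rfl⟩)
    · rintro _ ⟨m, hm, rfl⟩
      exact Submodule.smul_mem _ c (a2 ⟨m, hm, rfl⟩)
    · rw [mem_ker, LinearMap.smul_apply, mem_ker.1 (a3 hm), smul_zero]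

theorem flagJ_mul (W₁ W₂ : Submodule k M) : flagJ W₁ W₂ * flagJ W₁ W₂ ≤ flagJ W₁ W₂ := by
  rw [Submodule.mul_le]
  rintro a ⟨a1, a2, a3⟩ b ⟨b1, b2, b3⟩
  refine ⟨(range_mul_le _ _).trans a1, ?_, b3.trans (ker_le_ker_mul _ _)⟩
  rintro _ ⟨m, hm, rfl⟩
  have : a (b m) = 0 := a3 (b2 ⟨m, hm, rfl⟩)
  show a (b m) ∈ W₁
  rw [this]; exact W₁.zero_mem

theorem flagJ_cube (W₁ W₂ : Submodule k M) : flagJ W₁ W₂ ^ 3 = ⊥ := by
  rw [eq_bot_iff, pow_succ, pow_two, mul_assoc, Submodule.mul_le]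
  rintro a ⟨-, -, a3⟩ x hx
  rw [Submodule.mem_bot, mul_eq_zero_iff]
  refine le_trans ?_ a3
  refine Submodule.mul_induction_on hx ?_ ?_
  · rintro b ⟨-, b2, -⟩ c ⟨c1, -, -⟩ _ ⟨m, rfl⟩
    exact b2 ⟨_, c1 ⟨m, rfl⟩, rfl⟩
  · rintro x y hx hy _ ⟨m, rfl⟩
    exact Submodule.add_mem _ (hx ⟨m, rfl⟩) (hy ⟨m, rfl⟩)

variable {G : Subgroup (M →ₗ[k] M)ˣ}

theorem comm_mem_Qe {α β : M →ₗ[k] M} (hα : α ∈ Qe G) (hβ : β ∈ Qe G) (h1 : α * β * α = 0)
    (h2 : β * α * β = 0) : α * β - β * α ∈ Qe G := by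
  refine ⟨?_, fun c => ?_⟩
  · have : (α * β - β * α) * (α * β - β * α) = (α * β * α) * β - α * (β * β) * α - β * (α * α) * β
        + (β * α * β) * α := by noncomm_ring
    rw [this, h1, h2, hα.1, hβ.1]; simp
  · have hc := Qe.smul hα c
    refine ⟨⁅un _ hc.1, un _ hβ.1⁆, ?_, ?_⟩
    · exact G.mul_mem (G.mul_mem (G.mul_mem (Qe.un_mem hc) (Qe.un_mem hβ))
        (G.inv_mem (Qe.un_mem hc))) (G.inv_mem (Qe.un_mem hβ))
    · have := commutator_val hc.1 hβ.1 (by simp [h1]) (by simp [h2]) (un_sub_one _ hc.1)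
        (un_sub_one _ hβ.1)
      rw [sub_eq_iff_eq_add'] at this
      rw [this, smul_sub, smul_mul_assoc, mul_smul_comm]

variable [FiniteDimensional k M]

theorem rk_mul_add (β α : M →ₗ[k] M) :
    rk (β * α) + finrank k (range α ⊓ ker β : Submodule k M) = rk α := by
  have h1 := LinearMap.finrank_range_add_finrank_ker (β.domRestrict (range α))
  rw [LinearMap.range_domRestrict, LinearMap.ker_domRestrict] at h1
  have h2 : finrank k ((ker β).comap (range α).subtype) =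
      finrank k (range α ⊓ ker β : Submodule k M) := by
    rw [← Submodule.map_comap_subtype]
    exact (Submodule.finrank_map_subtype_eq _ _).symm
  have h3 : range (β * α) = (range α).map β := LinearMap.range_comp α β
  rw [← h2, rk, rk, ← h1, h3]

theorem rk_sub_le (x y : M →ₗ[k] M) : rk (x - y) ≤ finrank k (range x ⊔ range y : Submodule k M) := by
  apply Submodule.finrank_mono
  rintro _ ⟨m, rfl⟩
  exact Submodule.sub_mem _ (Submodule.mem_sup_left ⟨m, rfl⟩) (Submodule.mem_sup_right ⟨m, rfl⟩)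

/-- structure of a class two pair -/
theorem class2_struct {α β : M →ₗ[k] M} (hα : α ∈ Qd G) (hβ : β ∈ Qd G) (h1 : α * β * α = 0)
    (h2 : β * α * β = 0) (h0 : α * β - β * α ≠ 0) :
    α * β - β * α ∈ Qd G ∧ range α ⊓ ker β ≤ range (α * β - β * α) ∧
      range β ⊓ ker α ≤ range (α * β - β * α) ∧ ker (α * β - β * α) ≤ range α ⊔ ker β ∧
      ker (α * β - β * α) ≤ range β ⊔ ker α ∧ (range α ⊓ ker β) ⊓ (range β ⊓ ker α) = ⊥ := by
  have hQ := comm_mem_Qe hα.1 hβ.1 h1 h2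
  have a1 : range (α * β) ≤ range α ⊓ ker β :=
    le_inf (range_mul_le _ _) (mul_eq_zero_iff.1 (by rw [← mul_assoc, h2]))
  have a2 : range (β * α) ≤ range β ⊓ ker α :=
    le_inf (range_mul_le _ _) (mul_eq_zero_iff.1 (by rw [← mul_assoc, h1]))
  have b1 := rk_mul_add β α
  have b2 := rk_mul_add α β
  have b3 := Qd.rk_eq hα hβ
  have b4 := hα.2.2 _ hQ h0
  have b5 := rk_sub_le (α * β) (β * α)
  have b6 := Submodule.finrank_sup_add_finrank_inf_eq (range (α * β)) (range (β * α))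
  have b7 := Submodule.finrank_mono a1
  have b8 := Submodule.finrank_mono a2
  unfold rk at b1 b2 b3 b4 b5
  have c1 : range (α * β) = range α ⊓ ker β := Submodule.eq_of_le_of_finrank_le a1 (by omega)
  have c2 : range (β * α) = range β ⊓ ker α := Submodule.eq_of_le_of_finrank_le a2 (by omega)
  have c3 : range (α * β) ⊓ range (β * α) = ⊥ := Submodule.finrank_eq_zero.1 (by omega)
  have c4 : range (α * β - β * α) = range (α * β) ⊔ range (β * α) := by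
    refine Submodule.eq_of_le_of_finrank_le ?_ (by omega)
    rintro _ ⟨m, rfl⟩
    exact Submodule.sub_mem _ (Submodule.mem_sup_left ⟨m, rfl⟩) (Submodule.mem_sup_right ⟨m, rfl⟩)
  have d : ∀ m ∈ ker (α * β - β * α), (α * β) m = 0 ∧ (β * α) m = 0 := by
    intro m hm
    have e : (α * β) m = (β * α) m := sub_eq_zero.1 (mem_ker.1 hm)
    have : (α * β) m ∈ range (α * β) ⊓ range (β * α) := ⟨⟨m, rfl⟩, ⟨m, e.symm⟩⟩
    rw [c3, Submodule.mem_bot] at this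
    exact ⟨this, e ▸ this⟩
  have key : ∀ α β : M →ₗ[k] M, range (β * α) = range β ⊓ ker α → ∀ m, (α * β) m = 0 →
      m ∈ range α ⊔ ker β := by
    intro α β c m hm
    have : β m ∈ range (β * α) := by rw [c]; exact ⟨⟨m, rfl⟩, hm⟩
    obtain ⟨n, hn⟩ := this
    rw [← add_sub_cancel (α n) m]
    refine Submodule.add_mem _ (Submodule.mem_sup_left ⟨n, rfl⟩) (Submodule.mem_sup_right ?_)
    rw [mem_ker, map_sub, ← hn, Module.End.mul_apply, sub_self]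
  refine ⟨Qd.of_rk_le hα hQ h0 (by unfold rk; omega), ?_, ?_, fun m hm => key α β c2 m (d m hm).1,
    fun m hm => key β α c1 m (d m hm).2, by rw [← c1, ← c2, c3]⟩
  · rw [c4, ← c1]; exact le_sup_left
  · rw [c4, ← c2]; exact le_sup_right

theorem triple_zero {α β a₁ a₂ b : M →ₗ[k] M} (hα : α ∈ Qd G) (hβ : β ∈ Qd G)
    (hk2 : (2 : k) ≠ 0) (hk3 : Nat.card k ≠ 3) (h : ¬ Opp α β) (h₁ : a₁ ∈ lie G α)
    (h₂ : a₂ ∈ lie G α) (hb : b ∈ lie G β) : a₁ * b * a₂ = 0 := by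
  by_cases hb0 : b = 0
  · simp [hb0]
  have hno : ¬ Opp α b := fun h' => h (by
    have := lie.lie_eq hβ hb hb0
    exact h'.of_lie hα (lie.qd hβ hb hb0) (self_mem_lie hα.1) (this ▸ self_mem_lie hβ.1) hα.2.1 hβ.2.1)
  have h3 := (not_opp hk2 hk3 hα (lie.qd hβ hb hb0) hno).1
  have h4 := mul_zero_of_range h3 (lie.range_le h₂)
  rw [mul_assoc] at h4 ⊢
  exact mul_zero_of_ker h4 (lie.ker_le h₁)

omit [FiniteDimensional k M] in
theorem aug_sup_le_flagJ {α β : M →ₗ[k] M} {W₁ W₂ : Submodule k M} (h1 : lie G α ≤ flagJ W₁ W₂)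
    (h2 : lie G β ≤ flagJ W₁ W₂) : aug k (rootGrp G α ⊔ rootGrp G β) ≤ flagJ W₁ W₂ := by
  have a1 := flagJ_mul W₁ W₂
  have a2 := flagJ_cube W₁ W₂
  rw [← aug_rootGrp] at h1 h2
  generalize flagJ W₁ W₂ = J at *
  exact aug_sup_le a1 ⟨3, a2⟩ h1 h2

theorem lie_le_flagJ_nonopp {α β : M →ₗ[k] M} (hα : α ∈ Qd G) (hβ : β ∈ Qd G)
    (hk2 : (2 : k) ≠ 0) (hk3 : Nat.card k ≠ 3) (h : ¬ Opp α β) :
    lie G α ≤ flagJ (ker α ⊓ ker β) (range α ⊔ range β) := by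
  intro a ha
  refine ⟨(lie.range_le ha).trans le_sup_left, ?_, inf_le_left.trans (lie.ker_le ha)⟩
  rw [Submodule.map_sup]
  refine sup_le ?_ ?_
  · rintro _ ⟨_, ⟨m, rfl⟩, rfl⟩
    have : a (α m) = 0 := congrArg (fun f : M →ₗ[k] M => f m) (lie.mul_zero ha (self_mem_lie hα.1))
    rw [this]; exact Submodule.zero_mem _
  · rintro _ ⟨_, ⟨m, rfl⟩, rfl⟩
    refine ⟨congrArg (fun f : M →ₗ[k] M => f (β m)) (lie.mul_zero (self_mem_lie hα.1) ha), ?_⟩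
    exact congrArg (fun f : M →ₗ[k] M => f m)
      (triple_zero hβ hα hk2 hk3 (fun h' => h h'.symm) (self_mem_lie hβ.1) (self_mem_lie hβ.1) ha)

theorem aug_nonopp {α β : M →ₗ[k] M} (hα : α ∈ Qd G) (hβ : β ∈ Qd G)
    (hk2 : (2 : k) ≠ 0) (hk3 : Nat.card k ≠ 3) (h : ¬ Opp α β) :
    aug k (rootGrp G α ⊔ rootGrp G β) ≤ flagJ (ker α ⊓ ker β) (range α ⊔ range β) := by
  refine aug_sup_le_flagJ (lie_le_flagJ_nonopp hα hβ hk2 hk3 h) ?_
  rw [inf_comm, sup_comm]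
  exact lie_le_flagJ_nonopp hβ hα hk2 hk3 (fun h' => h h'.symm)

theorem unip_nonopp {α β : M →ₗ[k] M} (hα : α ∈ Qd G) (hβ : β ∈ Qd G)
    (hk2 : (2 : k) ≠ 0) (hk3 : Nat.card k ≠ 3) (h : ¬ Opp α β) :
    Unip k (rootGrp G α ⊔ rootGrp G β) :=
  unip_of_le_nil (flagJ_cube _ _) (aug_nonopp hα hβ hk2 hk3 h)

theorem class_two_nonopp {α β : M →ₗ[k] M} (hα : α ∈ Qd G) (hβ : β ∈ Qd G)
    (hk2 : (2 : k) ≠ 0) (hk3 : Nat.card k ≠ 3) (h : ¬ Opp α β) :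
    ⁅⁅rootGrp G α ⊔ rootGrp G β, rootGrp G α ⊔ rootGrp G β⁆, rootGrp G α ⊔ rootGrp G β⁆ = ⊥ := by
  have a0 := aug_nonopp hα hβ hk2 hk3 h
  have a1 := flagJ_mul (ker α ⊓ ker β) (range α ⊔ range β)
  have a2 := flagJ_cube (ker α ⊓ ker β) (range α ⊔ range β)
  generalize flagJ (ker α ⊓ ker β) (range α ⊔ range β) = J at *
  exact class_two_of_cube a1 a2 a0

omit [FiniteDimensional k M] in
theorem not_unip_of_partner {X : Subgroup (M →ₗ[k] M)ˣ} {α β : M →ₗ[k] M} (hα : α ∈ aug k X)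
    (hβ : β ∈ aug k X) (h0 : α ≠ 0) (h : α * β * α = α) : ¬ Unip k X := by
  rintro ⟨n, hn⟩
  have key : ∀ n : ℕ, α ∈ aug k X ^ (n + 1) := by
    intro n
    induction n with
    | zero => simpa using hα
    | succ n ih =>
      rw [← h, mul_assoc, pow_succ]
      exact Submodule.mul_mem_mul ih (aug_mul_le X (Submodule.mul_mem_mul hβ hα))
  have := key n
  rw [pow_succ, hn, Submodule.bot_mul, Submodule.mem_bot] at this
  exact h0 this

theorem Opp.not_unip {α β : M →ₗ[k] M} (h : Opp α β) (hα : α ∈ Qd G) (hβ : β ∈ Qd G)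
    (hk2 : (2 : k) ≠ 0) (hk3 : Nat.card k ≠ 3) : ¬ Unip k (rootGrp G α ⊔ rootGrp G β) := by
  obtain ⟨β', hβ', h1, -⟩ := h.partner hk2 hk3 hα hβ (self_mem_lie hα.1) hα.2.1
  refine not_unip_of_partner (β := β') ?_ ?_ hα.2.1 h1
  · exact aug_mono le_sup_left (by rw [aug_rootGrp]; exact self_mem_lie hα.1)
  · exact aug_mono le_sup_right (by rw [aug_rootGrp]; exact hβ')

/-- a class two pair -/
structure C2 (G : Subgroup (M →ₗ[k] M)ˣ) (α β : M →ₗ[k] M) : Prop where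
  left : α ∈ Qd G
  right : β ∈ Qd G
  nopp : ¬ Opp α β
  ne : α * β - β * α ≠ 0

omit [FiniteDimensional k M] in
theorem C2.symm {α β : M →ₗ[k] M} (h : C2 G α β) : C2 G β α :=
  ⟨h.right, h.left, fun h' => h.nopp h'.symm, fun e => h.ne (by rw [← neg_sub, e, neg_zero])⟩

section C2

variable (hk2 : (2 : k) ≠ 0) (hk3 : Nat.card k ≠ 3) {α β : M →ₗ[k] M} (h : C2 G α β)
include hk2 hk3 h

theorem C2.struct : α * β - β * α ∈ Qd G ∧ range α ⊓ ker β ≤ range (α * β - β * α) ∧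
      range β ⊓ ker α ≤ range (α * β - β * α) ∧ ker (α * β - β * α) ≤ range α ⊔ ker β ∧
      ker (α * β - β * α) ≤ range β ⊔ ker α ∧ (range α ⊓ ker β) ⊓ (range β ⊓ ker α) = ⊥ :=
  class2_struct h.left h.right (not_opp hk2 hk3 h.left h.right h.nopp).1
    (not_opp hk2 hk3 h.left h.right h.nopp).2 h.ne

theorem C2.qd : α * β - β * α ∈ Qd G := (h.struct hk2 hk3).1

theorem C2.aba {a₁ a₂ b : M →ₗ[k] M} (h₁ : a₁ ∈ lie G α) (h₂ : a₂ ∈ lie G α) (hb : b ∈ lie G β) :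
    a₁ * b * a₂ = 0 := triple_zero h.left h.right hk2 hk3 h.nopp h₁ h₂ hb

theorem C2.bab {b₁ b₂ a : M →ₗ[k] M} (h₁ : b₁ ∈ lie G β) (h₂ : b₂ ∈ lie G β) (ha : a ∈ lie G α) :
    b₁ * a * b₂ = 0 := h.symm.aba hk2 hk3 h₁ h₂ ha

theorem C2.comm_mem {a b : M →ₗ[k] M} (ha : a ∈ lie G α) (hb : b ∈ lie G β) :
    a * b - b * a ∈ lie G (α * β - β * α) := by
  obtain ⟨s1, s2, s3, s4, s5, -⟩ := h.struct hk2 hk3
  have hα := self_mem_lie h.left.1
  have hβ := self_mem_lie h.right.1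
  refine (mem_lie s1.1.1).2 ⟨comm_mem_Qe ha.1 hb.1 (h.aba hk2 hk3 ha ha hb) (h.bab hk2 hk3 hb hb ha),
    ?_, fun m hm => ?_⟩
  · rintro _ ⟨m, rfl⟩
    refine Submodule.sub_mem _ (s2 ⟨lie.range_le ha ⟨_, rfl⟩, ?_⟩) (s3 ⟨lie.range_le hb ⟨_, rfl⟩, ?_⟩)
    · exact congrArg (fun f : M →ₗ[k] M => f m) (h.bab hk2 hk3 hβ hb ha)
    · exact congrArg (fun f : M →ₗ[k] M => f m) (h.aba hk2 hk3 hα ha hb)
  · have e1 : range α ⊔ ker β ≤ ker (a * b) :=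
      sup_le (mul_eq_zero_iff.1 (h.aba hk2 hk3 ha hα hb)) ((lie.ker_le hb).trans (ker_le_ker_mul _ _))
    have e2 : range β ⊔ ker α ≤ ker (b * a) :=
      sup_le (mul_eq_zero_iff.1 (h.bab hk2 hk3 hb hβ ha)) ((lie.ker_le ha).trans (ker_le_ker_mul _ _))
    rw [mem_ker, LinearMap.sub_apply, mem_ker.1 (e1 (s4 hm)), mem_ker.1 (e2 (s5 hm)), sub_zero]

theorem C2.comm_ne {a b : M →ₗ[k] M} (ha : a ∈ lie G α) (hb : b ∈ lie G β) (ha0 : a ≠ 0)
    (hb0 : b ≠ 0) : a * b - b * a ≠ 0 := by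
  intro e
  rw [sub_eq_zero] at e
  obtain ⟨-, -, -, -, -, s6⟩ := h.struct hk2 hk3
  have hα := self_mem_lie h.left.1
  have hβ := self_mem_lie h.right.1
  have h1 : a * b = 0 := by
    ext m
    have : (a * b) m ∈ (range α ⊓ ker β) ⊓ (range β ⊓ ker α) := by
      refine ⟨⟨lie.range_le ha ⟨_, rfl⟩, ?_⟩, ?_⟩
      · exact congrArg (fun f : M →ₗ[k] M => f m) (h.bab hk2 hk3 hβ hb ha)
      · rw [e]
        exact ⟨lie.range_le hb ⟨_, rfl⟩, congrArg (fun f : M →ₗ[k] M => f m) (h.aba hk2 hk3 hα ha hb)⟩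
    rwa [s6, Submodule.mem_bot] at this
  have h2 : b * a = 0 := e ▸ h1
  apply h.ne
  rw [mul_zero_of_ker (mul_zero_of_range h1 (lie.range_eq h.right hb hb0).ge)
      (lie.ker_eq h.left ha ha0).le,
    mul_zero_of_ker (mul_zero_of_range h2 (lie.range_eq h.left ha ha0).ge)
      (lie.ker_eq h.right hb hb0).le, sub_zero]

theorem C2.of_lie {a b : M →ₗ[k] M} (ha : a ∈ lie G α) (hb : b ∈ lie G β) (ha0 : a ≠ 0)
    (hb0 : b ≠ 0) : C2 G a b :=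
  ⟨lie.qd h.left ha ha0, lie.qd h.right hb hb0, fun h' => h.nopp (h'.of_lie (lie.qd h.left ha ha0)
    (lie.qd h.right hb hb0) (lie.lie_eq h.left ha ha0 ▸ self_mem_lie h.left.1)
    (lie.lie_eq h.right hb hb0 ▸ self_mem_lie h.right.1) h.left.2.1 h.right.2.1),
    h.comm_ne hk2 hk3 ha hb ha0 hb0⟩

theorem C2.mul_left {a : M →ₗ[k] M} (ha : a ∈ lie G α) : a * (α * β - β * α) = 0 := by
  rw [mul_sub, ← mul_assoc, ← mul_assoc, lie.mul_zero ha (self_mem_lie h.left.1),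
    h.aba hk2 hk3 ha (self_mem_lie h.left.1) (self_mem_lie h.right.1)]; simp

theorem C2.mul_right {a : M →ₗ[k] M} (ha : a ∈ lie G α) : (α * β - β * α) * a = 0 := by
  rw [sub_mul, mul_assoc β, lie.mul_zero (self_mem_lie h.left.1) ha,
    h.aba hk2 hk3 (self_mem_lie h.left.1) ha (self_mem_lie h.right.1)]; simp

theorem C2.lie_le_flagJ_left :
    lie G α ≤ flagJ (range (α * β - β * α)) (ker (α * β - β * α)) := by
  obtain ⟨-, s2, -, -, s5, -⟩ := h.struct hk2 hk3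
  intro a ha
  refine ⟨mul_eq_zero_iff.1 (h.mul_right hk2 hk3 ha), ?_, mul_eq_zero_iff.1 (h.mul_left hk2 hk3 ha)⟩
  refine (Submodule.map_mono s5).trans ?_
  rw [Submodule.map_sup]
  refine sup_le ?_ ?_
  · rintro _ ⟨_, ⟨m, rfl⟩, rfl⟩
    exact s2 ⟨lie.range_le ha ⟨_, rfl⟩, congrArg (fun f : M →ₗ[k] M => f m)
      (h.bab hk2 hk3 (self_mem_lie h.right.1) (self_mem_lie h.right.1) ha)⟩
  · rintro _ ⟨m, hm, rfl⟩
    rw [mem_ker.1 (lie.ker_le ha hm)]; exact Submodule.zero_mem _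

theorem C2.lie_le_flagJ_right :
    lie G β ≤ flagJ (range (α * β - β * α)) (ker (α * β - β * α)) := by
  have := h.symm.lie_le_flagJ_left hk2 hk3
  rwa [← neg_sub, range_neg, ker_neg] at this

theorem C2.aug_sup_le' : aug k (rootGrp G α ⊔ rootGrp G β) ≤
    flagJ (range (α * β - β * α)) (ker (α * β - β * α)) :=
  aug_sup_le_flagJ (h.lie_le_flagJ_left hk2 hk3) (h.lie_le_flagJ_right hk2 hk3)

theorem C2.commutator_val {e f : (M →ₗ[k] M)ˣ} (he : e ∈ rootGrp G α) (hf : f ∈ rootGrp G β) :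
    ((⁅e, f⁆ : (M →ₗ[k] M)ˣ) : M →ₗ[k] M) - 1 =
      ((e : M →ₗ[k] M) - 1) * ((f : M →ₗ[k] M) - 1) - ((f : M →ₗ[k] M) - 1) * ((e : M →ₗ[k] M) - 1) :=
  CL.Quad.commutator_val he.1.1 hf.1.1 (h.aba hk2 hk3 he he hf) (h.bab hk2 hk3 hf hf he) rfl rfl

theorem C2.commutator_mem {e f : (M →ₗ[k] M)ˣ} (he : e ∈ rootGrp G α) (hf : f ∈ rootGrp G β) :
    ⁅e, f⁆ ∈ rootGrp G (α * β - β * α) := by
  rw [mem_rootGrp, h.commutator_val hk2 hk3 he hf]
  exact h.comm_mem hk2 hk3 he hf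

theorem C2.not_commute {e f : (M →ₗ[k] M)ˣ} (he : e ∈ rootGrp G α) (hf : f ∈ rootGrp G β)
    (he1 : e ≠ 1) (hf1 : f ≠ 1) : e * f ≠ f * e := by
  rw [Ne, ← commutatorElement_eq_one_iff_mul_comm, eq_one_iff_sub, h.commutator_val hk2 hk3 he hf]
  exact h.comm_ne hk2 hk3 he hf (fun e => he1 (eq_one_iff_sub.2 e)) (fun e => hf1 (eq_one_iff_sub.2 e))

end C2

omit [FiniteDimensional k M] in
theorem comm_of_flagJ {δ : M →ₗ[k] M} {g d : (M →ₗ[k] M)ˣ}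
    (hg : (g : M →ₗ[k] M) - 1 ∈ flagJ (range δ) (ker δ)) (hd : d ∈ rootGrp G δ) : g * d = d * g := by
  ext1
  have e : ∀ g h : (M →ₗ[k] M)ˣ, ((g * h : (M →ₗ[k] M)ˣ) : M →ₗ[k] M) =
      ((g : M →ₗ[k] M) - 1) * ((h : M →ₗ[k] M) - 1) + ((g : M →ₗ[k] M) + h - 1) := by
    intro g h; rw [Units.val_mul]; noncomm_ring
  rw [e, e, mul_eq_zero_iff.2 ((lie.range_le hd).trans hg.2.2),
    mul_eq_zero_iff.2 (hg.1.trans (lie.ker_le hd)), add_comm (g : M →ₗ[k] M)]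

omit [FiniteDimensional k M] in
theorem fixedSubmodule_rootGrp {δ : M →ₗ[k] M} (hδ : δ ∈ Qe G) :
    fixedSubmodule (rootGrp G δ) = ker δ := by
  apply le_antisymm
  · have := iInf₂_le (f := fun (g : (M →ₗ[k] M)ˣ) (_ : g ∈ rootGrp G δ) => ker ((g : M →ₗ[k] M) - 1))
      _ (un_mem_rootGrp (self_mem_lie hδ) hδ.1)
    rwa [un_sub_one] at this
  · exact le_iInf₂ fun g hg => lie.ker_le hg

omit [FiniteDimensional k M] in
theorem commutatorSubmodule_rootGrp {δ : M →ₗ[k] M} (hδ : δ ∈ Qe G) :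
    commutatorSubmodule (rootGrp G δ) = range δ := by
  apply le_antisymm
  · exact iSup₂_le fun g hg => lie.range_le hg
  · have := le_iSup₂ (f := fun (g : (M →ₗ[k] M)ˣ) (_ : g ∈ rootGrp G δ) => range ((g : M →ₗ[k] M) - 1))
      _ (un_mem_rootGrp (self_mem_lie hδ) hδ.1)
    rwa [un_sub_one] at this

omit [FiniteDimensional k M] in
theorem mem_core_of_flagJ {δ : M →ₗ[k] M} (hδ : δ ∈ Qe G) {g : (M →ₗ[k] M)ˣ} (hgG : g ∈ G)
    (hg : (g : M →ₗ[k] M) - 1 ∈ flagJ (range δ) (ker δ)) :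
    g ∈ quadraticUnipotentCore G (rootGrp G δ) := by
  refine ⟨hgG, ?_, ?_, ?_, ?_⟩
  · apply Subgroup.centralizer_le_normalizer
    intro d hd
    exact (comm_of_flagJ hg hd).symm
  · rw [fixedSubmodule_rootGrp hδ]
    exact fun m => hg.1 ⟨m, rfl⟩
  · rw [fixedSubmodule_rootGrp hδ, commutatorSubmodule_rootGrp hδ]
    exact fun m hm => hg.2.1 ⟨m, hm, rfl⟩
  · rw [commutatorSubmodule_rootGrp hδ]
    exact fun m hm => sub_eq_zero.1 (hg.2.2 hm)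

/-- commuting root subgroups -/
theorem commutator_eq_bot_of_comm (hk2 : (2 : k) ≠ 0) (hk3 : Nat.card k ≠ 3) {α β : M →ₗ[k] M}
    (hα : α ∈ Qd G) (hβ : β ∈ Qd G) (h : ¬ Opp α β) (h0 : α * β - β * α = 0) :
    ⁅rootGrp G α, rootGrp G β⁆ = ⊥ := by
  rw [eq_bot_iff, Subgroup.commutator_le]
  intro e he f hf
  rw [Subgroup.mem_bot, eq_one_iff_sub, commutator_val he.1.1 hf.1.1
    (triple_zero hα hβ hk2 hk3 h he he hf) (triple_zero hβ hα hk2 hk3 (fun h' => h h'.symm) hf hf he)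
    rfl rfl]
  by_contra hne
  have he0 : (e : M →ₗ[k] M) - 1 ≠ 0 := fun e0 => hne (by simp [e0])
  have hf0 : (f : M →ₗ[k] M) - 1 ≠ 0 := fun e0 => hne (by simp [e0])
  have c2 : C2 G ((e : M →ₗ[k] M) - 1) ((f : M →ₗ[k] M) - 1) :=
    ⟨lie.qd hα he he0, lie.qd hβ hf hf0, fun h' => h (h'.of_lie (lie.qd hα he he0)
      (lie.qd hβ hf hf0) (lie.lie_eq hα he he0 ▸ self_mem_lie hα.1)
      (lie.lie_eq hβ hf hf0 ▸ self_mem_lie hβ.1) hα.2.1 hβ.2.1), hne⟩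
  exact c2.comm_ne hk2 hk3 (lie.lie_eq hα he he0 ▸ self_mem_lie hα.1)
    (lie.lie_eq hβ hf hf0 ▸ self_mem_lie hβ.1) hα.2.1 hβ.2.1 h0

theorem trichotomy (hk2 : (2 : k) ≠ 0) (hk3 : Nat.card k ≠ 3) {α β : M →ₗ[k] M}
    (hα : α ∈ Qd G) (hβ : β ∈ Qd G) :
    Opp α β ∨ ⁅rootGrp G α, rootGrp G β⁆ = ⊥ ∨ C2 G α β := by
  by_cases h : Opp α β
  · exact Or.inl h
  by_cases h0 : α * β - β * α = 0
  · exact Or.inr (Or.inl (commutator_eq_bot_of_comm hk2 hk3 hα hβ h h0))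
  · exact Or.inr (Or.inr ⟨hα, hβ, h, h0⟩)

/-! ### opposite pairs -/

theorem conjBy_partner {α β a b : M →ₗ[k] M} (hα : α ∈ Qd G) (hβ : β ∈ Qd G) (ha : a ∈ lie G α)
    (hb : b ∈ lie G β) (ha0 : a ≠ 0) (h1 : a * b * a = a) (h2 : b * a * b = b) :
    conjBy (rootGrp G α) (un b hb.1.1)⁻¹ = conjBy (rootGrp G β) (un a ha.1.1)⁻¹ := by
  have hb0 : b ≠ 0 := by
    rintro rfl
    exact ha0 (by simpa using h1.symm)
  rw [← lie.rootGrp_eq hα ha ha0, ← lie.rootGrp_eq hβ hb hb0,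
    conjBy_rootGrp _ (G.inv_mem (Qe.un_mem hb.1)), conjBy_rootGrp _ (G.inv_mem (Qe.un_mem ha.1)),
    cj_un_partner ha.1.1 hb.1.1 h1 h2]
  exact rootGrp_congr (lie_congr (range_neg _) (ker_neg _))

theorem Opp.cond {α β : M →ₗ[k] M} (h : Opp α β) (hα : α ∈ Qd G) (hβ : β ∈ Qd G)
    (hk2 : (2 : k) ≠ 0) (hk3 : Nat.card k ≠ 3) {a : (M →ₗ[k] M)ˣ} (ha : a ∈ rootGrp G α)
    (ha1 : a ≠ 1) : ∃ b ∈ rootGrp G β, b ≠ 1 ∧
      conjBy (rootGrp G α) b⁻¹ = conjBy (rootGrp G β) a⁻¹ ∧ b⁻¹ * a * b = a⁻¹ * b⁻¹ * a := by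
  have ha0 : (a : M →ₗ[k] M) - 1 ≠ 0 := fun e => ha1 (eq_one_iff_sub.2 e)
  obtain ⟨b, hb, h1, h2⟩ := h.partner hk2 hk3 hα hβ ha ha0
  have hb0 : b ≠ 0 := by
    rintro rfl
    exact ha0 (by simpa using h1.symm)
  have ea : a = un _ ha.1.1 := Units.ext (by rw [un_val, add_sub_cancel])
  refine ⟨un b hb.1.1, un_mem_rootGrp hb _, fun e => hb0 ?_, ?_, ?_⟩
  · rwa [eq_one_iff_sub, un_sub_one] at e
  · rw [conjBy_partner hα hβ ha hb ha0 h1 h2, ← ea]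
  · have := cj_un_partner ha.1.1 hb.1.1 h1 h2
    rw [← ea] at this
    have e1 := cj_val_sub_one (un b hb.1.1)⁻¹ a
    have e2 := cj_val_sub_one a⁻¹ (un b hb.1.1)⁻¹
    rw [inv_inv] at e1 e2
    rw [un_inv_val, sub_sub_cancel_left, cj_neg, ← this, ← e1, sub_left_inj] at e2
    exact Units.ext e2.symm

omit [FiniteDimensional k M] in
theorem Opp.rootGrp_ne {α β : M →ₗ[k] M} (h : Opp α β) (hα : α ∈ Qd G) (hβ : β ∈ Qd G) :
    rootGrp G α ≠ rootGrp G β := by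
  intro e
  have := lie_eq_of_rootGrp_eq e
  apply h.ne_zero hα.2.1
  rw [lie.mul_zero (self_mem_lie hα.1) (this ▸ self_mem_lie hβ.1), zero_mul]

theorem Opp.rankOne {α β : M →ₗ[k] M} (h : Opp α β) (hα : α ∈ Qd G) (hβ : β ∈ Qd G)
    (hk2 : (2 : k) ≠ 0) (hk3 : Nat.card k ≠ 3) : IsRankOnePair (rootGrp G α) (rootGrp G β) := by
  have hn : ∀ α, Group.IsNilpotent (rootGrp G α) := fun α => by
    have := rootGrp_isMulCommutative (G := G) α
    open scoped IsMulCommutative in exact inferInstance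
  refine ⟨h.rootGrp_ne hα hβ, hn α, hn β, fun a ha ha1 => ?_, fun a ha ha1 => ?_⟩
  · obtain ⟨b, hb, hb1, e, -⟩ := h.cond hα hβ hk2 hk3 ha ha1
    exact ⟨b, hb, hb1, e⟩
  · obtain ⟨b, hb, hb1, e, -⟩ := h.symm.cond hβ hα hk2 hk3 ha ha1
    exact ⟨b, hb, hb1, e⟩

theorem Opp.special {α β : M →ₗ[k] M} (h : Opp α β) (hα : α ∈ Qd G) (hβ : β ∈ Qd G)
    (hk2 : (2 : k) ≠ 0) (hk3 : Nat.card k ≠ 3) :
    IsSpecialRankOnePair (rootGrp G α) (rootGrp G β) := by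
  have hr := h.rankOne hα hβ hk2 hk3
  refine ⟨hr, fun a ha ha1 b hb _ e => ?_⟩
  obtain ⟨b', hb', -, e', hs⟩ := h.cond hα hβ hk2 hk3 ha ha1
  rw [CL.RankOne.partner_unique hr hb hb' e e']
  exact hs

theorem Opp.exists_conj {α β : M →ₗ[k] M} (h : Opp α β) (hα : α ∈ Qd G) (hβ : β ∈ Qd G)
    (hk2 : (2 : k) ≠ 0) (hk3 : Nat.card k ≠ 3) :
    ∃ g ∈ rootGrp G α ⊔ rootGrp G β, conjBy (rootGrp G α) g = rootGrp G β := by
  obtain ⟨x, hx, e, -⟩ := CL.RankOne.exists_swap (h.rankOne hα hβ hk2 hk3)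
  exact ⟨x, hx, e⟩

theorem Opp.finrank_eq {α β : M →ₗ[k] M} (h : Opp α β) (hα : α ∈ Qd G) (hβ : β ∈ Qd G)
    (hk2 : (2 : k) ≠ 0) (hk3 : Nat.card k ≠ 3) : finrank k (lie G α) = finrank k (lie G β) := by
  obtain ⟨g, hg, e⟩ := h.exists_conj hα hβ hk2 hk3
  have hgG : g ∈ G := sup_le (rootGrp_le α) (rootGrp_le β) hg
  rw [conjBy_rootGrp _ hgG] at e
  rw [← lie_eq_of_rootGrp_eq e, finrank_lie_cj _ hgG]

theorem C2.not_rankOne (hk2 : (2 : k) ≠ 0) (hk3 : Nat.card k ≠ 3) {α β : M →ₗ[k] M}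
    (h : C2 G α β) : ¬ IsRankOnePair (rootGrp G α) (rootGrp G β) := by
  intro hr
  have ha := un_mem_rootGrp (self_mem_lie h.left.1) h.left.1.1
  have ha1 : un α h.left.1.1 ≠ 1 := fun e => h.left.2.1 (by rwa [eq_one_iff_sub, un_sub_one] at e)
  obtain ⟨b, hb, hb1, e⟩ := hr.cond_left _ ha ha1
  set a := un α h.left.1.1
  have h1 : b⁻¹ * a * b⁻¹⁻¹ ∈ conjBy (rootGrp G β) a⁻¹ := e ▸ conj_mem_conjBy _ ha
  rw [mem_conjBy, inv_inv, inv_inv] at h1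
  have hc := h.commutator_mem hk2 hk3 ha (inv_mem hb)
  have hflag := aug_le.1 (h.aug_sup_le' hk2 hk3) a (Subgroup.mem_sup_left ha)
  have h2 := comm_of_flagJ hflag hc
  have e2 : a * (b⁻¹ * a * b) * a⁻¹ = a * ⁅a, b⁻¹⁆⁻¹ := by
    have : a * ⁅a, b⁻¹⁆⁻¹ = a * (b⁻¹ * a * b) * a⁻¹ := by
      simp only [commutatorElement_def]; group
    rw [this]
  rw [e2] at h1
  have h3 : a * (a * ⁅a, b⁻¹⁆⁻¹) = (a * ⁅a, b⁻¹⁆⁻¹) * a := by
    rw [mul_assoc a _ a, ((show Commute a ⁅a, b⁻¹⁆ from h2).inv_right).eq]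
  by_cases h4 : a * ⁅a, b⁻¹⁆⁻¹ = 1
  · rw [mul_inv_eq_one] at h4
    have hb' := comm_of_flagJ (aug_le.1 (h.aug_sup_le' hk2 hk3) b (Subgroup.mem_sup_right hb)) hc
    rw [← h4] at hb'
    exact h.not_commute hk2 hk3 ha hb ha1 hb1 hb'.symm
  · exact h.not_commute hk2 hk3 ha h1 ha1 h4 h3

theorem rankOne_iff (hk2 : (2 : k) ≠ 0) (hk3 : Nat.card k ≠ 3) {α β : M →ₗ[k] M}
    (hα : α ∈ Qd G) (hβ : β ∈ Qd G) : IsRankOnePair (rootGrp G α) (rootGrp G β) ↔ Opp α β := by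
  refine ⟨fun hr => ?_, fun h => h.rankOne hα hβ hk2 hk3⟩
  rcases trichotomy hk2 hk3 hα hβ with h | h | h
  · exact h
  · exact absurd h (CL.RankOne.commutator_ne_bot hr)
  · exact absurd hr (h.not_rankOne hk2 hk3)

end CL.Quad
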