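/-
Quadratic pairs, part 3: embeddings of `SL₂`, absence of isolated vertices, class two pairs.
-/
import Mathlib
import Cfsg.Agent.CHEV.QuadPair2
import Cfsg.Agent.CHEV.RankOneQuad

set_option autoImplicit false

namespace CL.Quad

open Cfsg Polynomial LinearMap Module
open scoped commutatorElement MatrixGroups

section SL2

variable {A : Type*} [Ring A] {K : Type*} [CommRing K]

/-- data for an embedding of `SL₂(K)` into the units of a ring -/
structure SLData (θ : K →+ A) (α β : A) : Prop where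
  aa : α * α = 0
  bb : β * β = 0
  aba : α * β * α = α
  bab : β * α * β = β
  mul : ∀ x y, θ (x * y) = θ x * θ y
  one_a : θ 1 * α = α
  one_b : θ 1 * β = β
  ca : ∀ x, α * θ x = θ x * α
  cb : ∀ x, β * θ x = θ x * β

/-- the representation of `SL₂(K)` -/
def SLData.hom0 {θ : K →+ A} {α β : A} (h : SLData θ α β) : SL(2, K) →* A where
  toFun g := 1 - α * β - β * α + θ (g 0 0) * (α * β) + θ (g 0 1) * α + θ (g 1 0) * β +
    θ (g 1 1) * (β * α)
  map_one' := by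
    sl2_simp
    rw [map_zero, ← mul_assoc, ← mul_assoc, h.one_a, h.one_b, zero_mul, zero_mul]; abel
  map_mul' g g' := by
    have cα : ∀ x w, α * (θ x * w) = θ x * (α * w) := fun x w => by
      rw [← mul_assoc, h.ca, mul_assoc]
    have cβ : ∀ x w, β * (θ x * w) = θ x * (β * w) := fun x w => by
      rw [← mul_assoc, h.cb, mul_assoc]
    have a1 : ∀ w, α * (α * w) = 0 := fun w => by rw [← mul_assoc, h.aa, zero_mul]
    have a2 : ∀ w, β * (β * w) = 0 := fun w => by rw [← mul_assoc, h.bb, zero_mul]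
    have a5 : α * (β * α) = α := by rw [← mul_assoc, h.aba]
    have a6 : β * (α * β) = β := by rw [← mul_assoc, h.bab]
    sl2_simp
    simp only [map_add, h.mul, add_mul, mul_add, sub_mul, mul_sub, one_mul, mul_one, mul_assoc,
      cα, cβ, a1, a2, a5, a6, h.aa, h.bb, mul_zero]
    abel

/-- the representation of `SL₂(K)` by units -/
def SLData.hom {θ : K →+ A} {α β : A} (h : SLData θ α β) : SL(2, K) →* Aˣ := h.hom0.toHomUnits

theorem SLData.hom_val {θ : K →+ A} {α β : A} (h : SLData θ α β) (g : SL(2, K)) :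
    (h.hom g : A) = 1 - α * β - β * α + θ (g 0 0) * (α * β) + θ (g 0 1) * α + θ (g 1 0) * β +
      θ (g 1 1) * (β * α) := rfl

theorem SLData.hom_E12 {θ : K →+ A} {α β : A} (h : SLData θ α β) (r : K) :
    (h.hom (E12 r) : A) = 1 + θ r * α := by
  rw [h.hom_val]
  sl2_simp
  rw [map_zero, ← mul_assoc, ← mul_assoc, h.one_a, h.one_b, zero_mul]; abel

theorem SLData.hom_E21 {θ : K →+ A} {α β : A} (h : SLData θ α β) (r : K) :
    (h.hom (E21 r) : A) = 1 + θ r * β := by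
  rw [h.hom_val]
  sl2_simp
  rw [map_zero, ← mul_assoc, ← mul_assoc, h.one_a, h.one_b, zero_mul]; abel

theorem SLData.injective {θ : K →+ A} {α β : A} (h : SLData θ α β)
    (hθ : ∀ x, θ x * α = 0 → x = 0) : Function.Injective h.hom := by
  rw [injective_iff_map_eq_one]
  intro g hg
  have e := h.hom_val g
  rw [hg, Units.val_one] at e
  have cα : ∀ x w, α * (θ x * w) = θ x * (α * w) := fun x w => by
    rw [← mul_assoc, h.ca, mul_assoc]
  have cβ : ∀ x w, β * (θ x * w) = θ x * (β * w) := fun x w => by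
    rw [← mul_assoc, h.cb, mul_assoc]
  have a1 : ∀ w, α * (α * w) = 0 := fun w => by rw [← mul_assoc, h.aa, zero_mul]
  have a2 : ∀ w, β * (β * w) = 0 := fun w => by rw [← mul_assoc, h.bb, zero_mul]
  have a3 : ∀ w, α * (β * (α * w)) = α * w := fun w => by
    rw [← mul_assoc, ← mul_assoc, h.aba]
  have a5 : α * (β * α) = α := by rw [← mul_assoc, h.aba]
  have key : ∀ u v : A, u * 1 * v = u * (1 - α * β - β * α + θ (g 0 0) * (α * β) + θ (g 0 1) * α +
      θ (g 1 0) * β + θ (g 1 1) * (β * α)) * v := fun u v => by rw [← e]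
  have b1 := key (α * β) α
  have b2 := key (α * β) (β * α)
  have b3 := key α α
  have b4 := key α (β * α)
  simp only [add_mul, mul_add, mul_sub, mul_one, mul_assoc,
      cα, cβ, a1, a2, a3, a5, h.aa, mul_zero, sub_self, zero_add, add_zero, sub_zero] at b1 b2 b3 b4
  apply sl_ext <;> sl2_simp
  · exact sub_eq_zero.1 (hθ _ (by rw [map_sub, sub_mul, h.one_a, ← b1, sub_self]))
  · exact hθ _ b2.symm
  · exact hθ _ b3.symm
  · exact sub_eq_zero.1 (hθ _ (by rw [map_sub, sub_mul, h.one_a, ← b4, sub_self]))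

theorem range_le_of_elem {K : Type*} [Field K] {Γ : Type*} [Group Γ] (φ : SL(2, K) →* Γ)
    {H : Subgroup Γ} (h1 : ∀ r, φ (E12 r) ∈ H) (h2 : ∀ r, φ (E21 r) ∈ H) : φ.range ≤ H := by
  rintro _ ⟨g, rfl⟩
  exact mem_of_elem (H := H.comap φ) h1 h2 g

theorem slData_of_partner {k : Type*} [Field k] [Algebra k A] {α β : A} (hα : α * α = 0)
    (hβ : β * β = 0) (h1 : α * β * α = α) (h2 : β * α * β = β) :
    SLData (algebraMap k A).toAddMonoidHom α β :=
  ⟨hα, hβ, h1, h2, fun x y => map_mul (algebraMap k A) x y, by simp, by simp,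
    fun x => (Algebra.commutes x α).symm, fun x => (Algebra.commutes x β).symm⟩

theorem E12_commutator {k : Type*} [Field k] {t : k} (ht : t ≠ 0) (ht2 : t ^ 2 ≠ 1) (r : k) :
    E12 r = ⁅Dg t t⁻¹ (mul_inv_cancel₀ ht), E12 (r / (t ^ 2 - 1))⁆ := by
  rw [commutatorElement_def, conj_E12_of_upper rfl, ← E12_neg, ← E12_add, Dg_00]
  congr 1
  field_simp [sub_ne_zero.2 ht2]
  ring

end SL2

variable {k : Type*} [Field k] {M : Type*} [AddCommGroup M] [Module k M]
variable {G : Subgroup (M →ₗ[k] M)ˣ}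

theorem three_lt_card (hk2 : (2 : k) ≠ 0) (hk3 : Nat.card k ≠ 3) : 3 < ENat.card k := by
  cases finite_or_infinite k with
  | inl _ =>
    let _ := Fintype.ofFinite k
    have := five_le_card hk2 hk3
    rw [ENat.card_eq_coe_fintype_card]
    exact_mod_cast (by omega : 3 < Fintype.card k)
  | inr _ => rw [ENat.card_eq_top_of_infinite]; exact ENat.natCast_lt_top 3

/-- a partner pair generates `SL₂(k)` -/
theorem exists_psl2_of_partner {α β a b : M →ₗ[k] M} (ha : a ∈ lie G α) (hb : b ∈ lie G β)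
    (ha0 : a ≠ 0) (h1 : a * b * a = a) (h2 : b * a * b = b) :
    ∃ A₀ B₀ : Subgroup (M →ₗ[k] M)ˣ, A₀ ≤ rootGrp G α ∧ B₀ ≤ rootGrp G β ∧ IsPSL2PairOver k A₀ B₀ := by
  have h := slData_of_partner (k := k) ha.1.1 hb.1.1 h1 h2
  refine ⟨(upperUnipotentSL2 k).map h.hom, (lowerUnipotentSL2 k).map h.hom, ?_, ?_, h.hom, ?_, ?_,
    rfl, rfl⟩
  · rintro _ ⟨g, hg, rfl⟩
    obtain ⟨t, rfl⟩ := CL.RankOne.mem_upperUnipotent.1 hg
    rw [mem_rootGrp, show CL.SL2Hom.upper t = E12 t from rfl, h.hom_E12, add_sub_cancel_left]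
    exact (Algebra.smul_def t a) ▸ Submodule.smul_mem _ t ha
  · rintro _ ⟨g, hg, rfl⟩
    obtain ⟨t, rfl⟩ := CL.RankOne.mem_lowerUnipotent.1 hg
    rw [mem_rootGrp, show CL.SL2Hom.lower t = E21 t from rfl, h.hom_E21, add_sub_cancel_left]
    exact (Algebra.smul_def t b) ▸ Submodule.smul_mem _ t hb
  · rw [← Subgroup.map_sup, CL.RankOne.upper_sup_lower, MonoidHom.range_eq_map]
  · rw [(MonoidHom.ker_eq_bot_iff _).2 (h.injective fun x hx => ?_)]
    · exact bot_le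
    · have : x • a = 0 := by rw [Algebra.smul_def]; exact hx
      exact (smul_eq_zero.1 this).resolve_right ha0

/-- elements of a root group with a partner are commutators -/
theorem mem_commutator_of_partner (hk2 : (2 : k) ≠ 0) (hk3 : Nat.card k ≠ 3)
    {α β b : M →ₗ[k] M} {g : (M →ₗ[k] M)ˣ} (ha : g ∈ rootGrp G α) (hb : b ∈ lie G β)
    (h1 : ((g : M →ₗ[k] M) - 1) * b * ((g : M →ₗ[k] M) - 1) = (g : M →ₗ[k] M) - 1)
    (h2 : b * ((g : M →ₗ[k] M) - 1) * b = b) :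
    g ∈ ⁅rootGrp G α ⊔ rootGrp G β, rootGrp G α⁆ := by
  have h := slData_of_partner (k := k) ha.1.1 hb.1.1 h1 h2
  obtain ⟨t, ht, ht2⟩ := exists_sq_ne_one hk2 hk3
  have e1 : ∀ r, h.hom (E12 r) ∈ rootGrp G α := by
    intro r
    rw [mem_rootGrp, h.hom_E12, add_sub_cancel_left]
    exact (Algebra.smul_def r ((g : M →ₗ[k] M) - 1)) ▸ Submodule.smul_mem _ r ha
  have e2 : ∀ r, h.hom (E21 r) ∈ rootGrp G β := by
    intro r
    rw [mem_rootGrp, h.hom_E21, add_sub_cancel_left]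
    exact (Algebra.smul_def r b) ▸ Submodule.smul_mem _ r hb
  have e3 : g = h.hom (E12 1) := Units.ext (by rw [h.hom_E12]; simp)
  rw [e3, E12_commutator ht ht2, map_commutatorElement]
  exact Subgroup.commutator_mem_commutator (range_le_of_elem h.hom
    (fun r => Subgroup.mem_sup_left (e1 r)) (fun r => Subgroup.mem_sup_right (e2 r)) ⟨_, rfl⟩) (e1 _)

variable [FiniteDimensional k M]

theorem Opp.exists_psl2 {α β : M →ₗ[k] M} (h : Opp α β) (hα : α ∈ Qd G) (hβ : β ∈ Qd G)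
    (hk2 : (2 : k) ≠ 0) (hk3 : Nat.card k ≠ 3) :
    ∃ A₀ B₀ : Subgroup (M →ₗ[k] M)ˣ, A₀ ≤ rootGrp G α ∧ B₀ ≤ rootGrp G β ∧ IsPSL2PairOver k A₀ B₀ := by
  obtain ⟨b, hb, h1, h2⟩ := h.partner hk2 hk3 hα hβ (self_mem_lie hα.1) hα.2.1
  exact exists_psl2_of_partner (self_mem_lie hα.1) hb hα.2.1 h1 h2

theorem Opp.le_commutator {α β : M →ₗ[k] M} (h : Opp α β) (hα : α ∈ Qd G) (hβ : β ∈ Qd G)
    (hk2 : (2 : k) ≠ 0) (hk3 : Nat.card k ≠ 3) :
    rootGrp G α ≤ ⁅rootGrp G α ⊔ rootGrp G β, rootGrp G α⁆ := by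
  intro g hg
  by_cases h1 : g = 1
  · rw [h1]; exact one_mem _
  obtain ⟨b, hb, h1, h2⟩ := h.partner hk2 hk3 hα hβ hg (fun e => h1 (eq_one_iff_sub.2 e))
  exact mem_commutator_of_partner hk2 hk3 hg hb h1 h2

/-- no isolated vertices -/
theorem exists_opp_cj (hk2 : (2 : k) ≠ 0) (hk3 : Nat.card k ≠ 3) {H : Subgroup (M →ₗ[k] M)ˣ}
    (hH : H ≤ G) (hN : NU k H) {α : M →ₗ[k] M} (hα : α ∈ Qd G) (hαH : rootGrp G α ≤ H) :
    ∃ g ∈ H, Opp α (cj g α) := by
  by_contra hcon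
  push Not at hcon
  let W : Set (Subgroup (M →ₗ[k] M)ˣ) := {B | ∃ g ∈ H, B = conjBy (rootGrp G α) g}
  have hWH : ∀ B ∈ W, B ≤ H := by
    rintro _ ⟨g, hg, rfl⟩
    exact CL.RankOne.conjBy_le_of_mem hαH hg
  have hWc : ∀ B ∈ W, ∀ g ∈ H, conjBy B g ∈ W := by
    rintro _ ⟨g, hg, rfl⟩ h hh
    exact ⟨h * g, H.mul_mem hh hg, CL.RankOne.conjBy_conjBy _ _ _⟩
  have hu : Unip k (⨆ B ∈ W, B) := by
    refine unip_biSup hWH ?_ hWc
    rintro _ ⟨g, hg, rfl⟩ _ ⟨h, hh, rfl⟩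
    rw [conjBy_rootGrp _ (hH hg), conjBy_rootGrp _ (hH hh)]
    refine unip_nonopp (Qd.cj hα (hH hg)) (Qd.cj hα (hH hh)) hk2 hk3 fun ho => ?_
    have := ho.cj g⁻¹
    rw [cj_inv_cj, cj_cj] at this
    exact hcon _ (H.mul_mem (H.inv_mem hg) hh) this
  have := hN _ (iSup₂_le hWH) (fun g hg u hu => conjBy_biSup hWc hg hu) hu
  apply rootGrp_ne_bot hα
  rw [eq_bot_iff, ← this]
  exact le_iSup₂_of_le (f := fun B (_ : B ∈ W) => B) _ ⟨1, H.one_mem, (CL.RankOne.conjBy_one _).symm⟩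
    le_rfl

theorem exists_opp (hk2 : (2 : k) ≠ 0) (hk3 : Nat.card k ≠ 3) (hN : NU k G) {α : M →ₗ[k] M}
    (hα : α ∈ Qd G) : ∃ β ∈ Qd G, Opp α β := by
  obtain ⟨g, hg, h⟩ := exists_opp_cj hk2 hk3 le_rfl hN hα (rootGrp_le α)
  exact ⟨_, Qd.cj hα hg, h⟩

/-- a common neighbour of `E` and `[E, F]` -/
theorem C2.exists_mid (hk2 : (2 : k) ≠ 0) (hk3 : Nat.card k ≠ 3) {α γ δ' : M →ₗ[k] M}
    (h : C2 G α γ) (hδ' : δ' ∈ Qd G) (ho : Opp (α * γ - γ * α) δ') :
    ∃ g ∈ rootGrp G γ, Opp α (cj g δ') ∧ Opp (α * γ - γ * α) (cj g δ') := by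
  obtain ⟨hδ, s2, -, -, s5, -⟩ := h.struct hk2 hk3
  obtain ⟨d, hd, h1, h2⟩ := ho.partner hk2 hk3 hδ hδ' (self_mem_lie hδ.1) hδ.2.1
  have hd0 : d ≠ 0 := by
    rintro rfl
    exact hδ.2.1 (by simpa using h1.symm)
  have hγ := self_mem_lie h.right.1
  have hα := self_mem_lie h.left.1
  have hc : ∀ c : k, (c • γ) * (c • γ) = 0 := fun c => (Qe.smul h.right.1 c).1
  have hm : ∀ c : k, un (c • γ) (hc c) ∈ rootGrp G γ := fun c =>
    un_mem_rootGrp (Submodule.smul_mem _ c hγ) _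
  have γδ : γ * (α * γ - γ * α) = 0 := by
    have := h.symm.mul_left hk2 hk3 hγ
    rwa [← neg_sub, mul_neg, neg_eq_zero] at this
  have δγ : (α * γ - γ * α) * γ = 0 := by
    have := h.symm.mul_right hk2 hk3 hγ
    rwa [← neg_sub, neg_mul, neg_eq_zero] at this
  obtain ⟨c, hcne⟩ : ∃ c : k, α * cj (un (c • γ) (hc c)) d * α ≠ 0 := by
    by_contra hcon
    push Not at hcon
    have e0 := hcon 0
    have e1 := hcon 1
    have e2 := hcon (-1)
    simp only [cj, un_val, un_inv_val, zero_smul, one_smul, neg_smul, add_zero, sub_zero, one_mul,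
      mul_one] at e0 e1 e2
    have e3 : (2 : k) • (α * γ * d * α - α * d * γ * α) = 0 := by
      have : (2 : k) • (α * γ * d * α - α * d * γ * α) =
          α * ((1 + γ) * d * (1 - γ)) * α - α * ((1 + -γ) * d * (1 - -γ)) * α := by
        rw [two_smul]; noncomm_ring
      rw [this, e1, e2, sub_zero]
    have e4 := (smul_eq_zero.1 e3).resolve_left hk2
    have e5 : (α * γ - γ * α) * d * α + α * d * (α * γ - γ * α) = 0 := by
      have : (α * γ - γ * α) * d * α + α * d * (α * γ - γ * α) =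
          (α * γ * d * α - α * d * γ * α) - γ * (α * d * α) + (α * d * α) * γ := by noncomm_ring
      rw [this, e4, e0]; simp
    have r1 : range (α * γ) ≤ range (α * γ - γ * α) := le_trans (le_inf (range_mul_le _ _)
      (mul_eq_zero_iff.1 (by rw [← mul_assoc]; exact h.bab hk2 hk3 hγ hγ hα))) s2
    have r2 : ker (α * γ - γ * α) ≤ ker (γ * α) := s5.trans (sup_le
      (mul_eq_zero_iff.1 (h.bab hk2 hk3 hγ hγ hα)) (ker_le_ker_mul _ _))
    have f1 : α * γ = 0 := by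
      have := congrArg (· * γ) e5
      simp only [add_mul, zero_mul] at this
      rw [mul_assoc (α * d), δγ, mul_zero, add_zero, mul_assoc _ α γ, mul_eq_of_range h1 r1] at this
      exact this
    have f2 : γ * α = 0 := by
      have := congrArg (γ * ·) e5
      simp only [mul_add, mul_zero] at this
      rw [← mul_assoc γ, ← mul_assoc γ, γδ, zero_mul, zero_mul, zero_add, ← mul_assoc γ,
        ← mul_assoc γ, mul_assoc (γ * α), mul_eq_of_ker (by rw [← mul_assoc]; exact h1) r2] at this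
      exact this
    exact h.ne (by rw [f1, f2, sub_zero])
  have hg := rootGrp_le γ (hm c)
  have hdq := lie.qd hδ' hd hd0
  refine ⟨_, hm c, ?_, ?_⟩
  · have := (opp_iff hk2 hk3 h.left (Qd.cj hdq hg)).2 hcne
    exact this.of_lie h.left (Qd.cj hdq hg) hα
      (lie.cj (lie.lie_eq hδ' hd hd0 ▸ self_mem_lie hδ'.1) hg) h.left.2.1 (Qd.cj hδ' hg).2.1
  · have := ho.cj (un (c • γ) (hc c))
    rwa [cj_of_comm] at this
    rw [un_val, add_mul, mul_add, smul_mul_assoc, mul_smul_comm, γδ, δγ, one_mul, mul_one]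

section C2

variable (hk2 : (2 : k) ≠ 0) (hk3 : Nat.card k ≠ 3) (hN : NU k G) {α β : M →ₗ[k] M} (h : C2 G α β)
include hk2 hk3 hN h

theorem C2.finrank_left : finrank k (lie G α) = finrank k (lie G (α * β - β * α)) := by
  obtain ⟨δ', hδ', ho⟩ := exists_opp hk2 hk3 hN (h.qd hk2 hk3)
  obtain ⟨g, hg, h1, h2⟩ := h.exists_mid hk2 hk3 hδ' ho
  have := Qd.cj hδ' (rootGrp_le _ hg)
  rw [h1.finrank_eq h.left this hk2 hk3, h2.finrank_eq (h.qd hk2 hk3) this hk2 hk3]

theorem C2.finrank_right : finrank k (lie G β) = finrank k (lie G (α * β - β * α)) := by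
  rw [h.symm.finrank_left hk2 hk3 hN, ← neg_sub, lie_congr (range_neg _) (ker_neg _)]

theorem C2.surj_right {a d : M →ₗ[k] M} (ha : a ∈ lie G α) (ha0 : a ≠ 0)
    (hd : d ∈ lie G (α * β - β * α)) : ∃ b ∈ lie G β, a * b - b * a = d := by
  let L := (LinearMap.mulLeft k a - LinearMap.mulRight k a).restrict
    (p := lie G β) (q := lie G (α * β - β * α)) (fun b hb => h.comm_mem hk2 hk3 ha hb)
  have hi : Function.Injective L := by
    rw [injective_iff_map_eq_zero]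
    rintro ⟨b, hb⟩ e
    by_contra hne
    exact h.comm_ne hk2 hk3 ha hb ha0 (fun e => hne (Subtype.ext e)) (congrArg Subtype.val e)
  obtain ⟨⟨b, hb⟩, e⟩ := (LinearMap.injective_iff_surjective_of_finrank_eq_finrank
    (h.finrank_right hk2 hk3 hN)).1 hi ⟨d, hd⟩
  exact ⟨b, hb, congrArg Subtype.val e⟩

theorem C2.surj_left {b d : M →ₗ[k] M} (hb : b ∈ lie G β) (hb0 : b ≠ 0)
    (hd : d ∈ lie G (α * β - β * α)) : ∃ a ∈ lie G α, a * b - b * a = d := by
  obtain ⟨a, ha, e⟩ := h.symm.surj_right hk2 hk3 hN hb hb0 (d := -d) (by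
    rw [← neg_sub (α * β), lie_congr (range_neg _) (ker_neg _)]; exact Submodule.neg_mem _ hd)
  exact ⟨a, ha, by rw [← neg_sub, e, neg_neg]⟩

theorem C2.exists_commutator_left {e d : (M →ₗ[k] M)ˣ} (he : e ∈ rootGrp G α) (he1 : e ≠ 1)
    (hd : d ∈ rootGrp G (α * β - β * α)) : ∃ f ∈ rootGrp G β, ⁅e, f⁆ = d := by
  obtain ⟨b, hb, eb⟩ := h.surj_right hk2 hk3 hN he (fun e => he1 (eq_one_iff_sub.2 e)) hd
  refine ⟨_, un_mem_rootGrp hb hb.1.1, Units.ext ?_⟩
  rw [← sub_left_inj, h.commutator_val hk2 hk3 he (un_mem_rootGrp hb hb.1.1), un_sub_one, eb]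

theorem C2.exists_commutator_right {f d : (M →ₗ[k] M)ˣ} (hf : f ∈ rootGrp G β) (hf1 : f ≠ 1)
    (hd : d ∈ rootGrp G (α * β - β * α)) : ∃ e ∈ rootGrp G α, ⁅e, f⁆ = d := by
  obtain ⟨a, ha, ea⟩ := h.surj_left hk2 hk3 hN hf (fun e => hf1 (eq_one_iff_sub.2 e)) hd
  refine ⟨_, un_mem_rootGrp ha ha.1.1, Units.ext ?_⟩
  rw [← sub_left_inj, h.commutator_val hk2 hk3 (un_mem_rootGrp ha ha.1.1) hf, un_sub_one, ea]

theorem C2.commutator_eq : ⁅rootGrp G α, rootGrp G β⁆ = rootGrp G (α * β - β * α) := by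
  apply le_antisymm
  · rw [Subgroup.commutator_le]
    exact fun e he f hf => h.commutator_mem hk2 hk3 he hf
  · intro d hd
    obtain ⟨e, he, he1⟩ := (Subgroup.bot_or_exists_ne_one _).resolve_left (rootGrp_ne_bot h.left)
    obtain ⟨f, hf, rfl⟩ := h.exists_commutator_left hk2 hk3 hN he he1 hd
    exact Subgroup.commutator_mem_commutator he hf

theorem C2.closure_left {e : (M →ₗ[k] M)ˣ} (he : e ∈ rootGrp G α) (he1 : e ≠ 1) :
    Subgroup.closure ((fun f => e * f * e⁻¹ * f⁻¹) '' (rootGrp G β : Set (M →ₗ[k] M)ˣ)) =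
      ⁅rootGrp G α, rootGrp G β⁆ := by
  apply le_antisymm
  · rw [Subgroup.closure_le]
    rintro _ ⟨f, hf, rfl⟩
    exact Subgroup.commutator_mem_commutator he hf
  · rw [h.commutator_eq hk2 hk3 hN]
    intro d hd
    obtain ⟨f, hf, rfl⟩ := h.exists_commutator_left hk2 hk3 hN he he1 hd
    exact Subgroup.subset_closure ⟨f, hf, rfl⟩

theorem C2.closure_right {f : (M →ₗ[k] M)ˣ} (hf : f ∈ rootGrp G β) (hf1 : f ≠ 1) :
    Subgroup.closure ((fun e => e * f * e⁻¹ * f⁻¹) '' (rootGrp G α : Set (M →ₗ[k] M)ˣ)) =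
      ⁅rootGrp G α, rootGrp G β⁆ := by
  apply le_antisymm
  · rw [Subgroup.closure_le]
    rintro _ ⟨e, he, rfl⟩
    exact Subgroup.commutator_mem_commutator he hf
  · rw [h.commutator_eq hk2 hk3 hN]
    intro d hd
    obtain ⟨e, he, rfl⟩ := h.exists_commutator_right hk2 hk3 hN hf hf1 hd
    exact Subgroup.subset_closure ⟨e, he, rfl⟩

theorem C2.core : ((rootGrp G α ⊔ rootGrp G β : Subgroup (M →ₗ[k] M)ˣ) : Set (M →ₗ[k] M)ˣ) ⊆
    quadraticUnipotentCore G ⁅rootGrp G α, rootGrp G β⁆ := by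
  intro g hg
  rw [h.commutator_eq hk2 hk3 hN]
  exact mem_core_of_flagJ (h.qd hk2 hk3).1 (sup_le (rootGrp_le α) (rootGrp_le β) hg)
    (aug_le.1 (h.aug_sup_le' hk2 hk3) g hg)

theorem C2.commutator_mem_roots : ⁅rootGrp G α, rootGrp G β⁆ ∈ quadraticRootSubgroups G := by
  rw [h.commutator_eq hk2 hk3 hN]; exact rootGrp_mem_roots (h.qd hk2 hk3)

theorem C2.commutator_ne_bot : ⁅rootGrp G α, rootGrp G β⁆ ≠ ⊥ := by
  rw [h.commutator_eq hk2 hk3 hN]; exact rootGrp_ne_bot (h.qd hk2 hk3)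

theorem C2.rootCommutatorCase {S : Set (Subgroup (M →ₗ[k] M)ˣ)}
    (hS : rootGrp G (α * β - β * α) ∈ S) : RootCommutatorCase S (rootGrp G α) (rootGrp G β) := by
  refine ⟨by rwa [h.commutator_eq hk2 hk3 hN], fun c hc x hx => ?_,
    fun e he he1 => h.closure_left hk2 hk3 hN he he1, fun f hf hf1 => h.closure_right hk2 hk3 hN hf hf1⟩
  rw [h.commutator_eq hk2 hk3 hN] at hc
  exact (comm_of_flagJ (aug_le.1 (h.aug_sup_le' hk2 hk3) x hx) hc).symm

end C2

end CL.Quad
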