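/-
Quadratic pairs, part 4: the structure of the group generated by two opposite root subgroups.
-/
import Mathlib
import Cfsg.Agent.CHEV.QuadPair3

set_option autoImplicit false

namespace CL.Quad

open Cfsg Polynomial LinearMap Module
open scoped commutatorElement MatrixGroups

theorem rootCommutatorCase_subgroupOf {Γ : Type*} [Group Γ] {S : Set (Subgroup Γ)} {A B H : Subgroup Γ}
    (hA : A ≤ H) (hB : B ≤ H) (h : RootCommutatorCase S A B) :
    RootCommutatorCase ((fun A : Subgroup Γ => A.subgroupOf H) '' S) (A.subgroupOf H) (B.subgroupOf H) := by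
  have hm : ∀ {C : Subgroup Γ}, C ≤ H → (C.subgroupOf H).map H.subtype = C := fun hC => by
    rw [Subgroup.subgroupOf_map_subtype, inf_eq_left.2 hC]
  have hAB : ⁅A, B⁆ ≤ H := (Subgroup.commutator_mono hA hB).trans (Subgroup.commutator_le_self H)
  have e : ⁅A.subgroupOf H, B.subgroupOf H⁆ = (⁅A, B⁆).subgroupOf H := by
    apply Subgroup.map_injective H.subtype_injective
    rw [Subgroup.map_commutator, hm hA, hm hB, hm hAB]
  refine ⟨⟨_, h.1, e.symm⟩, fun c hc x hx => ?_, fun a ha ha1 => ?_, fun b hb hb1 => ?_⟩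
  · rw [e] at hc
    rw [← Subgroup.subgroupOf_sup hA hB] at hx
    exact Subtype.ext (h.2.1 c hc x hx)
  · apply Subgroup.map_injective H.subtype_injective
    rw [e, hm hAB, ← h.2.2.1 a ha (fun e => ha1 (Subtype.ext e)), MonoidHom.map_closure]
    congr 1
    ext y
    constructor
    · rintro ⟨_, ⟨b, hb, rfl⟩, rfl⟩
      exact ⟨b, hb, rfl⟩
    · rintro ⟨b, hb, rfl⟩
      exact ⟨_, ⟨⟨b, hB hb⟩, hb, rfl⟩, rfl⟩
  · apply Subgroup.map_injective H.subtype_injective
    rw [e, hm hAB, ← h.2.2.2 b hb (fun e => hb1 (Subtype.ext e)), MonoidHom.map_closure]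
    congr 1
    ext y
    constructor
    · rintro ⟨_, ⟨a, ha, rfl⟩, rfl⟩
      exact ⟨a, ha, rfl⟩
    · rintro ⟨a, ha, rfl⟩
      exact ⟨_, ⟨⟨a, hA ha⟩, ha, rfl⟩, rfl⟩

/-- relative version of the root subgroup axioms -/
theorem isRootSubgroupSet_of {Γ : Type*} [Group Γ] {S : Set (Subgroup Γ)}
    (h1 : ∀ A ∈ S, IsMulCommutative A) (h2 : ∀ A ∈ S, A ≠ ⊥)
    (h3 : ∀ A ∈ S, ∀ g ∈ ⨆ B ∈ S, B, conjBy A g ∈ S)
    (h4 : ∀ A ∈ S, ∀ B ∈ S, ⁅A, B⁆ = ⊥ ∨ IsRankOnePair A B ∨ RootCommutatorCase S A B) :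
    IsRootSubgroupSet ((fun A : Subgroup Γ => A.subgroupOf (⨆ B ∈ S, B)) '' S) := by
  set H := ⨆ B ∈ S, B with hH
  have hle : ∀ A ∈ S, A ≤ H := fun A hA => le_iSup₂ (f := fun B (_ : B ∈ S) => B) A hA
  have hm : ∀ {C : Subgroup Γ}, C ≤ H → (C.subgroupOf H).map H.subtype = C := fun hC => by
    rw [Subgroup.subgroupOf_map_subtype, inf_eq_left.2 hC]
  constructor
  · rintro _ ⟨A, hA, rfl⟩
    have := h1 A hA
    infer_instance
  · rintro _ ⟨A, hA, rfl⟩ e
    apply h2 A hA
    rw [← hm (hle A hA)]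
    simp only at e
    rw [e, Subgroup.map_bot]
  · apply Subgroup.map_injective H.subtype_injective
    rw [iSup_image, ← MonoidHom.range_eq_map, Subgroup.range_subtype]
    simp only [Subgroup.map_iSup]
    exact iSup_congr fun A => iSup_congr fun hA => hm (hle A hA)
  · rintro _ ⟨A, hA, rfl⟩ g
    refine ⟨_, h3 A hA g g.2, ?_⟩
    ext x
    simp only [Subgroup.mem_subgroupOf, CL.RankOne.mem_conjBy]
    rfl
  · rintro _ ⟨A, hA, rfl⟩ _ ⟨B, hB, rfl⟩
    rcases h4 A hA B hB with h | h | h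
    · left
      apply Subgroup.map_injective H.subtype_injective
      rw [Subgroup.map_commutator, hm (hle A hA), hm (hle B hB), h, Subgroup.map_bot]
    · exact Or.inr (Or.inl (CL.RankOne.subgroupOf_pair h (hle A hA) (hle B hB)))
    · exact Or.inr (Or.inr (rootCommutatorCase_subgroupOf (hle A hA) (hle B hB) h))



/-- units supported in the corner `e A e` -/
def corner {A : Type*} [Ring A] (e : A) : Subgroup Aˣ where
  carrier := {g | ((g : A) - 1) * e = (g : A) - 1 ∧ e * ((g : A) - 1) = (g : A) - 1}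
  one_mem' := by simp
  mul_mem' := by
    rintro g h ⟨g1, g2⟩ ⟨h1, h2⟩
    have e1 : ((g * h : Aˣ) : A) - 1 =
        ((g : A) - 1) * ((h : A) - 1) + ((g : A) - 1) + ((h : A) - 1) := by
      rw [Units.val_mul]; noncomm_ring
    constructor
    · rw [e1, add_mul, add_mul, mul_assoc, h1, g1]
    · rw [e1, mul_add, mul_add, ← mul_assoc, h2, g2]
  inv_mem' := by
    rintro g ⟨g1, g2⟩
    have e1 : ((g⁻¹ : Aˣ) : A) - 1 = -((g⁻¹ : Aˣ) : A) * ((g : A) - 1) := by
      simp only [mul_sub, neg_mul, Units.inv_mul, mul_one]; abel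
    have e2 : ((g⁻¹ : Aˣ) : A) - 1 = ((g : A) - 1) * -((g⁻¹ : Aˣ) : A) := by simp [sub_mul]
    constructor
    · rw [e1, mul_assoc, g1]
    · rw [e2, ← mul_assoc, g2]

variable {k : Type*} [Field k] {M : Type*} [AddCommGroup M] [Module k M]
variable {G : Subgroup (M →ₗ[k] M)ˣ}

theorem rootGrp_le_corner {α β : M →ₗ[k] M} (h0 : α * α = 0) (h1 : α * β * α = α) :
    rootGrp G α ≤ corner (α * β + β * α) := by
  intro g hg
  constructor
  · refine mul_eq_of_ker (x := α) ?_ (lie.ker_le hg)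
    rw [mul_add, ← mul_assoc, ← mul_assoc, h0, h1, zero_mul, zero_add]
  · refine mul_eq_of_range (y := α) ?_ (lie.range_le hg)
    rw [z_mul h0, h1]

theorem opp_structure (hk2 : (2 : k) ≠ 0) {α β : M →ₗ[k] M} (hα : α ∈ Qe G) (hβ : β ∈ Qe G)
    (h0 : α ≠ 0) (h1 : α * β * α = α) (h2 : β * α * β = β) {X : Subgroup (M →ₗ[k] M)ˣ}
    (hX : X = rootGrp G α ⊔ rootGrp G β) :
    (∃! i : (M →ₗ[k] M)ˣ, i ∈ X ∧ i ≠ 1 ∧ i * i = 1 ∧ (∀ x ∈ X, i * x = x * i) ∧
      (∀ m ∈ commutatorSubmodule X, (i : M →ₗ[k] M) m = -m) ∧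
      (∀ m ∈ fixedSubmodule X, (i : M →ₗ[k] M) m = m)) ∧
    IsCompl (fixedSubmodule X) (commutatorSubmodule X) := by
  obtain ⟨e, he⟩ : ∃ e, e = α * β + β * α := ⟨_, rfl⟩
  have hXe : X ≤ corner e := by
    rw [hX, he]
    exact sup_le (rootGrp_le_corner hα.1 h1) (by rw [add_comm]; exact rootGrp_le_corner hβ.1 h2)
  have ha : un α hα.1 ∈ X := hX ▸ Subgroup.mem_sup_left (un_mem_rootGrp (self_mem_lie hα) _)
  have hb : un β hβ.1 ∈ X := hX ▸ Subgroup.mem_sup_right (un_mem_rootGrp (self_mem_lie hβ) _)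
  obtain ⟨ae, ea⟩ := hXe ha
  obtain ⟨be, eb⟩ := hXe hb
  rw [un_sub_one] at ae ea be eb
  have ee : e * e = e := by
    conv_lhs => rw [he]
    rw [← he, he, add_mul, mul_assoc, mul_assoc, ← he, ae, be, he]
  have hfix : fixedSubmodule X = ker e := by
    apply le_antisymm
    · intro m hm
      simp only [Cfsg.fixedSubmodule, Submodule.mem_iInf] at hm
      have m1 := hm _ ha
      have m2 := hm _ hb
      rw [un_sub_one, mem_ker] at m1 m2
      rw [mem_ker, he, LinearMap.add_apply, Module.End.mul_apply, Module.End.mul_apply, m1, m2]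
      simp
    · refine le_iInf₂ fun g hg => ?_
      rw [← (hXe hg).1]
      exact ker_le_ker_mul _ _
  have hcom : commutatorSubmodule X = range e := by
    apply le_antisymm
    · refine iSup₂_le fun g hg => ?_
      rw [← (hXe hg).2]
      exact range_mul_le _ _
    · have r1 := le_iSup₂ (f := fun (g : (M →ₗ[k] M)ˣ) (_ : g ∈ X) => range ((g : M →ₗ[k] M) - 1)) _ ha
      have r2 := le_iSup₂ (f := fun (g : (M →ₗ[k] M)ˣ) (_ : g ∈ X) => range ((g : M →ₗ[k] M) - 1)) _ hb
      rw [un_sub_one] at r1 r2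
      rintro _ ⟨m, rfl⟩
      rw [he]
      exact Submodule.add_mem _ (r1 ⟨_, rfl⟩) (r2 ⟨_, rfl⟩)
  have hc : IsCompl (range e) (ker e) := LinearMap.IsIdempotentElem.isCompl ee
  rw [hfix, hcom]
  refine ⟨?_, hc.symm⟩
  set w := un α hα.1 * (un β hβ.1)⁻¹ * un α hα.1 with hw
  have hw1 : (w : M →ₗ[k] M) = 1 - e + α - β := by
    rw [hw, Units.val_mul, Units.val_mul, un_val, un_inv_val, he]
    have : (1 + α) * (1 - β) * (1 + α) = 1 - (α * β + β * α) + α - β + α * α + (α - α * β * α) := by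
      noncomm_ring
    rw [this, hα.1, h1]; simp
  have hi : ((w * w : (M →ₗ[k] M)ˣ) : M →ₗ[k] M) = 1 - e - e := by
    rw [Units.val_mul, hw1]
    have : (1 - e + α - β) * (1 - e + α - β) = 1 - e - e + e * e + (α - α * e) + (α - e * α)
      - (β - β * e) - (β - e * β) + α * α + β * β - (α * β + β * α) := by noncomm_ring
    rw [this, ee, ae, ea, be, eb, hα.1, hβ.1, ← he]; simp
  have hwX : w ∈ X := X.mul_mem (X.mul_mem ha (X.inv_mem hb)) ha
  refine ⟨w * w, ⟨X.mul_mem hwX hwX, fun h => h0 ?_, ?_, fun x hx => ?_, ?_, ?_⟩, ?_⟩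
  · rw [h, Units.val_one] at hi
    have : (2 : k) • α = 0 := by
      have := congrArg (· * α) hi
      simp only [sub_mul, ea, one_mul] at this
      rw [two_smul]
      calc α + α = α + α + (α - α - α) - α := by rw [← this]; abel
        _ = 0 := by abel
    exact (smul_eq_zero.1 this).resolve_left hk2
  · ext1
    rw [Units.val_mul, hi]
    have : (1 - e - e) * (1 - e - e) = 1 + 4 • (e * e - e) := by noncomm_ring
    rw [this, ee]; simp
  · ext1
    rw [Units.val_mul (w * w), Units.val_mul x, hi]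
    obtain ⟨x1, x2⟩ := hXe hx
    have : e * x = x * e := by
      rw [← sub_add_cancel (x : M →ₗ[k] M) 1, mul_add, add_mul, x1, x2, mul_one, one_mul]
    rw [sub_mul, sub_mul, mul_sub, mul_sub, this, one_mul, mul_one]
  · rintro _ ⟨m, rfl⟩
    rw [hi]
    have : e (e m) = e m := congrArg (fun f : M →ₗ[k] M => f m) ee
    simp [this]
  · intro m hm
    rw [hi]
    simp [mem_ker.1 hm]
  · rintro j ⟨-, -, -, -, j1, j2⟩
    ext m
    have m1 : e (e m) = e m := congrArg (fun f : M →ₗ[k] M => f m) ee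
    have m2 := j1 _ ⟨m, rfl⟩
    have m3 := j2 (m - e m) (by rw [mem_ker, map_sub, m1, sub_self])
    rw [map_sub, m2] at m3
    rw [hi]
    simp only [LinearMap.sub_apply, Module.End.one_apply]
    rw [← m3]; abel

universe u in
theorem opp_sl2 {k : Type u} [Field k] {M : Type*} [AddCommGroup M] [Module k M]
    [FiniteDimensional k M] {G : Subgroup (M →ₗ[k] M)ˣ} (hk2 : (2 : k) ≠ 0) (hk3 : Nat.card k ≠ 3)
    {α β : M →ₗ[k] M} (hα : α ∈ Qd G) (hβ : β ∈ Qd G) (h : α * β * α ≠ 0)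
    {H : Subgroup (M →ₗ[k] M)ˣ} (hA : ∀ c : k, ∃ g ∈ H, (g : M →ₗ[k] M) = 1 + c • α)
    (hB : ∀ c : k, ∃ g ∈ H, (g : M →ₗ[k] M) = 1 + c • β)
    (hH : ∀ L : Subgroup (M →ₗ[k] M)ˣ, (∀ c : k, ∃ g ∈ L, (g : M →ₗ[k] M) = 1 + c • α) →
      (∀ c : k, ∃ g ∈ L, (g : M →ₗ[k] M) = 1 + c • β) → H ≤ L) :
    ∃ (K : Type u) (_ : Field K) (_ : Algebra k K) (lam : K), IsAlgebraic k lam ∧
      IntermediateField.adjoin k ({lam} : Set K) = ⊤ ∧ Nonempty (H ≃* SL(2, K)) := by
  obtain ⟨s, h1, h2⟩ := exists_partner_poly hk2 hk3 hα hβ h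
  have hkA := key_lemma hk2 hk3 hα.1.1 hβ.1.1 hA hB
  have hkB := key_lemma hk2 hk3 hβ.1.1 hα.1.1 hB hA
  have hlie := aeval_mul_mem_lie hk2 hk3 hα.1 hβ.1
  rw [add_comm (β * α)] at hkB
  have hzα : α * (α * β + β * α) = (α * β + β * α) * α := comm_z_left hα.1.1
  have hzβ : β * (α * β + β * α) = (α * β + β * α) * β := by
    rw [add_comm]; exact comm_z_left hβ.1.1
  have e1 : (α * β + β * α) * α = α * β * α := z_mul hα.1.1
  have e2 : (α * β + β * α) * β = β * α * β := by rw [add_comm]; exact z_mul hβ.1.1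
  generalize α * β + β * α = z at *
  have cα : ∀ p : k[X], α * aeval z p = aeval z p * α := comm_aeval hzα
  have cβ : ∀ p : k[X], β * aeval z p = aeval z p * β := comm_aeval hzβ
  have cc : ∀ p q : k[X], aeval z p * aeval z q = aeval z q * aeval z p := fun p q => by
    rw [← map_mul, mul_comm, map_mul]
  obtain ⟨b, hb⟩ : ∃ b, b = aeval z s * β := ⟨_, rfl⟩
  have cb : ∀ p : k[X], b * aeval z p = aeval z p * b := fun p => by
    rw [hb, mul_assoc, cβ, ← mul_assoc, cc, mul_assoc]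
  have aba : α * b * α = α := by
    rw [hb, ← mul_assoc, cα, mul_assoc _ α, mul_assoc, ← e1, ← mul_assoc, h1]
  have bab : b * α * b = b := by
    have : b * α * b = aeval z s * (b * α * β) := by
      conv_lhs => rw [mul_assoc b, hb, ← mul_assoc α, cα, ← hb]
      simp only [← mul_assoc]
      rw [cb]
    rw [this, hb, mul_assoc _ β, mul_assoc _ _ β, ← e2, ← mul_assoc _ z, h2]
  have bb : b * b = 0 := by
    conv_lhs => rw [hb, ← mul_assoc, ← hb, cb, hb]
    rw [mul_assoc, mul_assoc, hβ.1.1, mul_zero, mul_zero]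
  obtain ⟨e, he⟩ : ∃ e, e = α * b + b * α := ⟨_, rfl⟩
  have ea : e * α = α := by rw [he, z_mul hα.1.1, aba]
  have eb : e * b = b := by rw [he, add_comm, z_mul bb, bab]
  have ae : α * e = α := by rw [he, comm_z_left hα.1.1, ← he, ea]
  have be : b * e = b := by rw [he, add_comm, comm_z_left bb, add_comm, ← he, eb]
  have ee : e * e = e := by
    conv_lhs => rw [he]
    rw [← he, he, add_mul, mul_assoc, mul_assoc, ← he, ae, be, he]
  have ce : ∀ p : k[X], e * aeval z p = aeval z p * e := fun p => by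
    rw [he, add_mul, mul_add, mul_assoc, cb, ← mul_assoc, cα, mul_assoc b, cα, ← mul_assoc b, cb,
      mul_assoc, mul_assoc]
  let I : Ideal k[X] :=
    { carrier := {p | aeval z p * α = 0}
      zero_mem' := by simp
      add_mem' := fun {p q} hp hq => by
        show aeval z (p + q) * α = 0
        rw [map_add, add_mul, hp, hq, add_zero]
      smul_mem' := fun p q hq => by
        show aeval z (p * q) * α = 0
        rw [map_mul, mul_assoc, hq, mul_zero] }
  have hI : I.IsMaximal := by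
    rw [Ideal.isMaximal_iff]
    refine ⟨fun h1 => hα.2.1 (by simpa using (show aeval z 1 * α = 0 from h1)), ?_⟩
    intro J p hIJ hp hpJ
    have hker := lie.ker_eq hα (hlie p) hp
    obtain ⟨q, hq⟩ := exists_inv_poly (k := k) (z := aeval z p) (β := α) (fun r hr => by
      rw [← aeval_comp, ← cα] at hr ⊢
      rw [← mul_assoc] at hr
      exact mul_zero_of_ker hr hker.le)
    have : 1 - q.comp p * p ∈ I := by
      show aeval z (1 - q.comp p * p) * α = 0
      rw [map_sub, map_mul, aeval_comp, sub_mul, hq, map_one, one_mul, sub_self]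
    have := J.add_mem (hIJ this) (J.mul_mem_left (q.comp p) hpJ)
    rwa [sub_add_cancel] at this
  let _ : Field (k[X] ⧸ I) := Ideal.Quotient.field I
  let f : k[X] →+ (M →ₗ[k] M) :=
    { toFun := fun p => aeval z p * e
      map_zero' := by simp
      map_add' := fun p q => by rw [map_add, add_mul] }
  let θ : (k[X] ⧸ I) →+ (M →ₗ[k] M) := QuotientAddGroup.lift I.toAddSubgroup f (fun p hp => by
    have hp' : aeval z p * α = 0 := hp
    show aeval z p * e = 0
    rw [he, mul_add, ← mul_assoc, ← mul_assoc, hp', ← cb, mul_assoc b, hp']; simp)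
  have hθ : ∀ p : k[X], θ (Ideal.Quotient.mk I p) = aeval z p * e := fun p => rfl
  have hθ1 : θ 1 = e := by rw [← map_one (Ideal.Quotient.mk I), hθ, map_one, one_mul]
  have hd : SLData θ α b := by
    refine ⟨hα.1.1, bb, aba, bab, fun x y => ?_, by rw [hθ1, ea], by rw [hθ1, eb], fun x => ?_,
      fun x => ?_⟩
    · obtain ⟨x, rfl⟩ := Ideal.Quotient.mk_surjective x
      obtain ⟨y, rfl⟩ := Ideal.Quotient.mk_surjective y
      rw [← map_mul, hθ, hθ, hθ, map_mul, mul_assoc _ e, ← mul_assoc e, ce, mul_assoc _ e, ee,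
        mul_assoc]
    · obtain ⟨x, rfl⟩ := Ideal.Quotient.mk_surjective x
      rw [hθ, ← mul_assoc, cα, mul_assoc, mul_assoc, ae, ea]
    · obtain ⟨x, rfl⟩ := Ideal.Quotient.mk_surjective x
      rw [hθ, ← mul_assoc, cb, mul_assoc, mul_assoc, be, eb]
  have hinj : Function.Injective hd.hom := hd.injective fun x hx => by
    obtain ⟨x, rfl⟩ := Ideal.Quotient.mk_surjective x
    rw [hθ, mul_assoc, ea] at hx
    exact Ideal.Quotient.eq_zero_iff_mem.2 hx
  have hrange : hd.hom.range = H := by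
    apply le_antisymm
    · refine range_le_of_elem _ (fun r => ?_) (fun r => ?_)
      · obtain ⟨r, rfl⟩ := Ideal.Quotient.mk_surjective r
        obtain ⟨g, hg, eg⟩ := hkA r
        convert hg using 1
        ext1
        rw [hd.hom_E12, hθ, mul_assoc, ea, eg]
      · obtain ⟨r, rfl⟩ := Ideal.Quotient.mk_surjective r
        obtain ⟨g, hg, eg⟩ := hkB (r * s)
        convert hg using 1
        ext1
        rw [hd.hom_E21, hθ, mul_assoc, eb, eg, hb, map_mul, mul_assoc]
    · refine hH _ (fun c => ⟨_, ⟨E12 (Ideal.Quotient.mk I (C c)), rfl⟩, ?_⟩)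
        (fun c => ⟨_, ⟨E21 (Ideal.Quotient.mk I (C c * X)), rfl⟩, ?_⟩)
      · rw [hd.hom_E12, hθ, mul_assoc, ea, aeval_C, Algebra.smul_def]
      · rw [hd.hom_E21, hθ, mul_assoc, eb, map_mul, aeval_C, aeval_X, hb, mul_assoc,
          ← mul_assoc z, comm_aeval rfl, h2, Algebra.smul_def]
  have haeval : ∀ p : k[X], aeval (Ideal.Quotient.mk I X) p = Ideal.Quotient.mk I p := fun p => by
    have := aeval_algHom_apply (Ideal.Quotient.mkₐ k I) X p
    rw [aeval_X_left_apply] at this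
    exact this
  refine ⟨k[X] ⧸ I, inferInstance, inferInstance, Ideal.Quotient.mk I X, ?_, ?_,
    ⟨(MulEquiv.subgroupCongr hrange.symm).trans (MonoidHom.ofInjective hinj).symm⟩⟩
  · have hzint : IsIntegral k z := Algebra.IsIntegral.isIntegral z
    refine ⟨minpoly k z, minpoly.ne_zero hzint, ?_⟩
    rw [haeval]
    apply Ideal.Quotient.eq_zero_iff_mem.2
    show aeval z (minpoly k z) * α = 0
    rw [minpoly.aeval, zero_mul]
  · rw [eq_top_iff]
    intro x _
    obtain ⟨x, rfl⟩ := Ideal.Quotient.mk_surjective x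
    have := aeval_mem_adjoin_singleton k (p := x) (Ideal.Quotient.mk I X)
    rw [haeval] at this
    exact IntermediateField.algebra_adjoin_le_adjoin k _ this

end CL.Quad
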