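/-
Quadratic pairs, part 5: the components of the rank one graph and the groups they generate.
-/
import Mathlib
import Cfsg.Agent.CHEV.QuadPair4

set_option autoImplicit false

namespace CL.Quad

open Cfsg Polynomial LinearMap Module
open scoped commutatorElement MatrixGroups

theorem isQuasisimple_of {Γ : Type*} [Group Γ] {H : Subgroup Γ} (hperf : ⁅H, H⁆ = H) (hne : H ≠ ⊥)
    (h : ∀ N ≤ H, (∀ g ∈ H, ∀ n ∈ N, g * n * g⁻¹ ∈ N) → N = H ∨ ∀ n ∈ N, ∀ g ∈ H, n * g = g * n) :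
    IsQuasisimple H := by
  refine ⟨Subgroup.isPerfect_iff.2 hperf, ?_⟩
  have hnt : Nontrivial (H ⧸ Subgroup.center H) := by
    rw [QuotientGroup.nontrivial_iff]
    intro e
    apply hne
    rw [← hperf, eq_bot_iff, Subgroup.commutator_le]
    intro x hx y hy
    have : (⟨x, hx⟩ : H) ∈ Subgroup.center H := e ▸ Subgroup.mem_top _
    rw [Subgroup.mem_bot, commutatorElement_eq_one_iff_mul_comm]
    exact (congrArg Subtype.val (Subgroup.mem_center_iff.1 this ⟨y, hy⟩)).symm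
  refine ⟨fun K hK => ?_⟩
  let N : Subgroup H := K.comap (QuotientGroup.mk' (Subgroup.center H))
  have hN : N.Normal := hK.comap _
  rcases h (N.map H.subtype) (Subgroup.map_subtype_le _) (by
    rintro g hg _ ⟨n, hn, rfl⟩
    exact ⟨_, hN.conj_mem n hn ⟨g, hg⟩, rfl⟩) with e | e
  · right
    rw [eq_top_iff]
    intro x _
    obtain ⟨x, rfl⟩ := QuotientGroup.mk_surjective x
    obtain ⟨y, hy, e'⟩ : (x : Γ) ∈ N.map H.subtype := by rw [e]; exact x.2
    rw [← Subtype.ext e']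
    exact hy
  · left
    rw [eq_bot_iff]
    intro x hx
    obtain ⟨x, rfl⟩ := QuotientGroup.mk_surjective x
    rw [Subgroup.mem_bot, QuotientGroup.eq_one_iff, Subgroup.mem_center_iff]
    intro g
    exact Subtype.ext (e x ⟨x, hx, rfl⟩ g g.2).symm

theorem commutator_le_of_abelian_mod {Γ : Type*} [Group Γ] {H N B : Subgroup Γ} (hB : B ≤ H)
    (hN : N ≤ H) (hn : ∀ g ∈ H, ∀ n ∈ N, g * n * g⁻¹ ∈ N) (hc : ∀ a ∈ B, ∀ b ∈ B, a * b = b * a) :
    ⁅B ⊔ N, B⁆ ≤ N := by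
  rw [Subgroup.commutator_le]
  intro x hx b hb
  have : ∀ b ∈ B, ⁅x, b⁆ ∈ N := by
    have hxH : B ⊔ N ≤ H := sup_le hB hN
    refine CL.RankOne.sup_induction (p := fun x => ∀ b ∈ B, ⁅x, b⁆ ∈ N) hx ?_ ?_ ?_ ?_
    · intro b _; simp
    · intro a ha b hb
      rw [commutatorElement_eq_one_iff_mul_comm.2 (hc a ha b hb)]; exact N.one_mem
    · intro n hn' b hb
      have := N.mul_mem hn' (hn b (hB hb) _ (N.inv_mem hn'))
      simpa [commutatorElement_def, mul_assoc] using this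
    · intro x y hx hy ihx ihy b hb
      have e : ⁅x * y, b⁆ = x * ⁅y, b⁆ * x⁻¹ * ⁅x, b⁆ := by
        simp only [commutatorElement_def]; group
      rw [e]
      exact N.mul_mem (hn x (hxH hx) _ (ihy b hb)) (ihx b hb)
  exact this b hb

variable {k : Type*} [Field k] {M : Type*} [AddCommGroup M] [Module k M]

/-- the component of a root subgroup in the rank one graph -/
def comp (G A : Subgroup (M →ₗ[k] M)ˣ) : Set (Subgroup (M →ₗ[k] M)ˣ) :=
  componentOf (FAdj (quadraticRootSubgroups G)) (quadraticRootSubgroups G) A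

/-- the group generated by a set of subgroups -/
abbrev gen {Γ : Type*} [Group Γ] (S : Set (Subgroup Γ)) : Subgroup Γ := ⨆ B ∈ S, B

theorem le_gen {Γ : Type*} [Group Γ] {S : Set (Subgroup Γ)} {B : Subgroup Γ} (h : B ∈ S) :
    B ≤ gen S := le_iSup₂ (f := fun B (_ : B ∈ S) => B) B h

theorem gen_le {Γ : Type*} [Group Γ] {S : Set (Subgroup Γ)} {H : Subgroup Γ} (h : ∀ B ∈ S, B ≤ H) :
    gen S ≤ H := iSup₂_le h

theorem gen_commutator_eq_bot {Γ : Type*} [Group Γ] {S T : Set (Subgroup Γ)}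
    (h : ∀ A ∈ S, ∀ B ∈ T, ⁅A, B⁆ = ⊥) : ⁅gen S, gen T⁆ = ⊥ := by
  rw [Subgroup.commutator_eq_bot_iff_le_centralizer]
  refine gen_le fun A hA => Subgroup.le_centralizer_iff.1 (gen_le fun B hB => ?_)
  exact Subgroup.le_centralizer_iff.1 (Subgroup.commutator_eq_bot_iff_le_centralizer.1 (h A hA B hB))

theorem conjBy_of_commutator_eq_bot {Γ : Type*} [Group Γ] {A B : Subgroup Γ} (h : ⁅A, B⁆ = ⊥)
    {g : Γ} (hg : g ∈ A) : conjBy B g = B :=
  CL.RankOne.conjBy_eq_self_iff.2 (Subgroup.centralizer_le_normalizer _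
    (Subgroup.commutator_eq_bot_iff_le_centralizer.1 h hg))

variable {G : Subgroup (M →ₗ[k] M)ˣ}

theorem comp_subset {A : Subgroup (M →ₗ[k] M)ˣ} : comp G A ⊆ quadraticRootSubgroups G :=
  fun _ h => h.1

theorem self_mem_comp {A : Subgroup (M →ₗ[k] M)ˣ} (hA : A ∈ quadraticRootSubgroups G) :
    A ∈ comp G A := ⟨hA, Relation.ReflTransGen.refl⟩

theorem comp_trans {A B C : Subgroup (M →ₗ[k] M)ˣ} (h1 : B ∈ comp G A) (h2 : C ∈ comp G B) :
    C ∈ comp G A := ⟨h2.1, h1.2.trans h2.2⟩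

theorem comp_symm {A B : Subgroup (M →ₗ[k] M)ˣ} (hA : A ∈ quadraticRootSubgroups G)
    (h1 : B ∈ comp G A) : A ∈ comp G B := by
  refine ⟨hA, ?_⟩
  obtain ⟨-, h⟩ := h1
  induction h with
  | refl => exact Relation.ReflTransGen.refl
  | tail _ h2 ih => exact Relation.ReflTransGen.head ⟨h2.2.1, h2.1, RankOnePair_symm h2.2.2⟩ ih

theorem comp_eq {A B : Subgroup (M →ₗ[k] M)ˣ} (hA : A ∈ quadraticRootSubgroups G)
    (h1 : B ∈ comp G A) : comp G B = comp G A :=
  Set.Subset.antisymm (fun _ h => comp_trans h1 h) (fun _ h => comp_trans (comp_symm hA h1) h)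

theorem mem_comp_of_rankOne {A B : Subgroup (M →ₗ[k] M)ˣ} (hA : A ∈ quadraticRootSubgroups G)
    (hB : B ∈ quadraticRootSubgroups G) (h : IsRankOnePair A B) : B ∈ comp G A :=
  ⟨hB, Relation.ReflTransGen.single ⟨hA, hB, h⟩⟩

theorem comp_conj {A B : Subgroup (M →ₗ[k] M)ˣ} (hA : A ∈ quadraticRootSubgroups G)
    (hB : B ∈ comp G A) : ∃ g ∈ gen (comp G A), B = conjBy A g := by
  obtain ⟨hB, h⟩ := hB
  induction h with
  | refl => exact ⟨1, one_mem _, (CL.RankOne.conjBy_one _).symm⟩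
  | tail h1 h2 ih =>
    obtain ⟨g, hg, e⟩ := ih h2.1
    obtain ⟨x, hx, e', -⟩ := CL.RankOne.exists_swap h2.2.2
    refine ⟨x * g, mul_mem (sup_le (le_gen (S := comp G A) ⟨h2.1, h1⟩)
      (le_gen (S := comp G A) ⟨hB, h1.tail h2⟩) hx) hg, ?_⟩
    rw [← CL.RankOne.conjBy_conjBy, ← e, e']

variable [FiniteDimensional k M]

theorem gen_roots_le : gen (quadraticRootSubgroups G) ≤ G := gen_le fun _ hB => roots_le hB

omit [FiniteDimensional k M] in
theorem gen_comp_le_gen {A : Subgroup (M →ₗ[k] M)ˣ} :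
    gen (comp G A) ≤ gen (quadraticRootSubgroups G) := gen_le fun _ hB => le_gen hB.1

theorem gen_roots_normal {g : (M →ₗ[k] M)ˣ} (hg : g ∈ G) {x : (M →ₗ[k] M)ˣ}
    (hx : x ∈ gen (quadraticRootSubgroups G)) : g * x * g⁻¹ ∈ gen (quadraticRootSubgroups G) :=
  conjBy_biSup (fun _ hB _ hg => roots_conj hB hg) hg hx

variable (hk2 : (2 : k) ≠ 0) (hk3 : Nat.card k ≠ 3)
include hk2 hk3

theorem Opp.mem_comp {α β : M →ₗ[k] M} (h : Opp α β) (hα : α ∈ Qd G) (hβ : β ∈ Qd G) :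
    rootGrp G β ∈ comp G (rootGrp G α) :=
  mem_comp_of_rankOne (rootGrp_mem_roots hα) (rootGrp_mem_roots hβ) (h.rankOne hα hβ hk2 hk3)

variable (hN : NU k G)
include hN

theorem C2.mem_comp_left {α β : M →ₗ[k] M} (h : C2 G α β) :
    rootGrp G (α * β - β * α) ∈ comp G (rootGrp G α) := by
  obtain ⟨δ', hδ', ho⟩ := exists_opp hk2 hk3 hN (h.qd hk2 hk3)
  obtain ⟨g, hg, h1, h2⟩ := h.exists_mid hk2 hk3 hδ' ho
  have := Qd.cj hδ' (rootGrp_le _ hg)
  exact comp_trans (h1.mem_comp hk2 hk3 h.left this) (h2.symm.mem_comp hk2 hk3 this (h.qd hk2 hk3))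

theorem C2.mem_comp_right {α β : M →ₗ[k] M} (h : C2 G α β) :
    rootGrp G (α * β - β * α) ∈ comp G (rootGrp G β) := by
  have := h.symm.mem_comp_left hk2 hk3 hN
  rwa [← neg_sub, rootGrp_congr (lie_congr (range_neg _) (ker_neg _))] at this

theorem mem_comp_of_ne_bot {A B : Subgroup (M →ₗ[k] M)ˣ} (hA : A ∈ quadraticRootSubgroups G)
    (hB : B ∈ quadraticRootSubgroups G) (h : ⁅A, B⁆ ≠ ⊥) : B ∈ comp G A := by
  obtain ⟨α, hα, rfl⟩ := mem_roots.1 hA
  obtain ⟨β, hβ, rfl⟩ := mem_roots.1 hB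
  rcases trichotomy hk2 hk3 hα hβ with h' | h' | h'
  · exact h'.mem_comp hk2 hk3 hα hβ
  · exact absurd h' h
  · exact comp_trans (h'.mem_comp_left hk2 hk3 hN) (comp_symm hB (h'.mem_comp_right hk2 hk3 hN))

theorem comp_conj_root {A B C : Subgroup (M →ₗ[k] M)ˣ} (hB : B ∈ comp G A)
    (hC : C ∈ quadraticRootSubgroups G) {g : (M →ₗ[k] M)ˣ} (hg : g ∈ C) : conjBy B g ∈ comp G A := by
  by_cases h : ⁅C, B⁆ = ⊥
  · rwa [conjBy_of_commutator_eq_bot h hg]
  · have h1 := mem_comp_of_ne_bot hk2 hk3 hN hC hB.1 h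
    have h2 := mem_comp_of_ne_bot hk2 hk3 hN hC (roots_conj hB.1 (roots_le hC hg)) (by
      rwa [← CL.RankOne.conjBy_of_mem hg, ← CL.RankOne.conjBy_commutator, Ne,
        CL.RankOne.conjBy_eq_bot_iff])
    exact comp_trans hB (comp_trans (comp_symm hC h1) h2)

theorem comp_conj_gen {A : Subgroup (M →ₗ[k] M)ˣ} {g : (M →ₗ[k] M)ˣ}
    (hg : g ∈ gen (quadraticRootSubgroups G)) : ∀ B ∈ comp G A, conjBy B g ∈ comp G A := by
  let L : Subgroup (M →ₗ[k] M)ˣ :=
    { carrier := {g | ∀ B, B ∈ comp G A ↔ conjBy B g ∈ comp G A}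
      one_mem' := fun B => by rw [CL.RankOne.conjBy_one]
      mul_mem' := fun {g h} hg hh B => by rw [← CL.RankOne.conjBy_conjBy, ← hg, ← hh]
      inv_mem' := fun {g} hg B => by rw [hg (conjBy B g⁻¹), CL.RankOne.conjBy_conjBy_inv] }
  have : gen (quadraticRootSubgroups G) ≤ L := gen_le fun C hC g hg B =>
    ⟨fun hB => comp_conj_root hk2 hk3 hN hB hC hg, fun hB => by
      have := comp_conj_root hk2 hk3 hN hB hC (C.inv_mem hg)
      rwa [CL.RankOne.conjBy_inv_conjBy] at this⟩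
  exact fun B hB => (this hg B).1 hB

theorem gen_comp_normal {A : Subgroup (M →ₗ[k] M)ˣ} {g : (M →ₗ[k] M)ˣ}
    (hg : g ∈ gen (quadraticRootSubgroups G)) {x : (M →ₗ[k] M)ˣ} (hx : x ∈ gen (comp G A)) :
    g * x * g⁻¹ ∈ gen (comp G A) :=
  conjBy_biSup (fun B hB _ hg => comp_conj_gen hk2 hk3 hN hg B hB) hg hx

theorem NU_gen_comp (A : Subgroup (M →ₗ[k] M)ˣ) : NU k (gen (comp G A)) :=
  (hN.of_normal gen_roots_le fun _ hg _ hx => gen_roots_normal hg hx).of_normal gen_comp_le_gen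
    fun _ hg _ hx => gen_comp_normal hk2 hk3 hN hg hx

theorem comp_commute {A B : Subgroup (M →ₗ[k] M)ˣ} (hA : A ∈ quadraticRootSubgroups G)
    (hB : B ∈ quadraticRootSubgroups G) (h : comp G A ≠ comp G B) :
    ∀ C ∈ comp G A, ∀ D ∈ comp G B, ⁅C, D⁆ = ⊥ := by
  intro C hC D hD
  by_contra hne
  have := mem_comp_of_ne_bot hk2 hk3 hN hC.1 hD.1 hne
  exact h (by rw [← comp_eq hA (comp_trans hC this), comp_eq hB hD])

theorem gen_comp_perfect (A : Subgroup (M →ₗ[k] M)ˣ) :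
    ⁅gen (comp G A), gen (comp G A)⁆ = gen (comp G A) := by
  refine le_antisymm (Subgroup.commutator_le_self _) (gen_le fun B hB => ?_)
  obtain ⟨α, hα, rfl⟩ := mem_roots.1 hB.1
  obtain ⟨β, hβ, h⟩ := exists_opp hk2 hk3 hN hα
  refine (h.le_commutator hα hβ hk2 hk3).trans (Subgroup.commutator_mono (sup_le (le_gen hB) ?_)
    (le_gen hB))
  exact le_gen (comp_trans hB (h.mem_comp hk2 hk3 hα hβ))

theorem gen_comp_quasisimple {A : Subgroup (M →ₗ[k] M)ˣ} (hA : A ∈ quadraticRootSubgroups G) :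
    IsQuasisimple (gen (comp G A)) := by
  refine isQuasisimple_of (gen_comp_perfect hk2 hk3 hN A) (fun e => ?_) fun N hNH hn => ?_
  · obtain ⟨α, hα, rfl⟩ := mem_roots.1 hA
    exact rootGrp_ne_bot hα (le_bot_iff.1 (e ▸ le_gen (self_mem_comp hA)))
  have hH0 : gen (comp G A) ≤ gen (quadraticRootSubgroups G) := gen_comp_le_gen
  have hHG : gen (comp G A) ≤ G := hH0.trans gen_roots_le
  by_cases hex : ∃ B ∈ comp G A, B ≤ N
  · left
    obtain ⟨B, hB, hBN⟩ := hex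
    refine le_antisymm hNH (gen_le fun C hC => ?_)
    have h1 := comp_trans (comp_symm hA hB) hC
    obtain ⟨g, hg, rfl⟩ := comp_conj hB.1 h1
    rw [comp_eq hA hB] at hg
    rintro _ ⟨b, hb, rfl⟩
    exact hn g hg b (hBN hb)
  right
  push Not at hex
  have key : ∀ B ∈ comp G A, ∀ n ∈ N, ⁅B, conjBy B n⁆ = ⊥ := by
    intro B hB n hnN
    obtain ⟨α, hα, rfl⟩ := mem_roots.1 hB.1
    have hle : conjBy (rootGrp G α) n ≤ rootGrp G α ⊔ N :=
      CL.RankOne.conjBy_le_of_mem le_sup_left (Subgroup.mem_sup_right hnN)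
    have hc := commutator_le_of_abelian_mod (le_gen hB) hNH hn fun a ha b hb => rootGrp_comm ha hb
    have hnG := hHG (hNH hnN)
    rw [conjBy_rootGrp _ hnG] at hle ⊢
    rcases trichotomy hk2 hk3 hα (Qd.cj hα hnG) with h | h | h
    · exact absurd ((h.le_commutator hα (Qd.cj hα hnG) hk2 hk3).trans
        ((Subgroup.commutator_mono (sup_le le_sup_left hle) le_rfl).trans hc)) (hex _ hB)
    · exact h
    · refine absurd ?_ (hex _ (comp_trans hB (h.mem_comp_left hk2 hk3 hN)))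
      rw [← h.commutator_eq hk2 hk3 hN, Subgroup.commutator_comm]
      exact (Subgroup.commutator_mono hle le_rfl).trans hc
  have hNN : NU k N := (NU_gen_comp hk2 hk3 hN A).of_normal hNH hn
  have hcen : gen (comp G A) ≤ Subgroup.centralizer N := by
    refine gen_le fun B hB b hb n hnN => ?_
    let W : Set (Subgroup (M →ₗ[k] M)ˣ) := {C | ∃ n ∈ N, C = conjBy B n}
    have hW : ∀ C ∈ W, ∀ D ∈ W, ⁅C, D⁆ = ⊥ := by
      rintro _ ⟨m, hm, rfl⟩ _ ⟨m', hm', rfl⟩
      have := key B hB _ (N.mul_mem (N.inv_mem hm) hm')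
      rw [← CL.RankOne.conjBy_eq_bot_iff (g := m), CL.RankOne.conjBy_commutator,
        CL.RankOne.conjBy_conjBy, mul_inv_cancel_left] at this
      exact this
    have hu : Unip k (gen W) := by
      refine unip_biSup (G := gen W) (fun C hC => le_gen hC) ?_ fun C hC g hg => ?_
      · intro C hC D hD
        have h0 := hW C hC D hD
        obtain ⟨m, hm, rfl⟩ := hC
        obtain ⟨m', hm', rfl⟩ := hD
        obtain ⟨α, hα, e1⟩ := mem_roots.1 (roots_conj hB.1 (hHG (hNH hm)))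
        obtain ⟨β, hβ, e2⟩ := mem_roots.1 (roots_conj hB.1 (hHG (hNH hm')))
        rw [e1, e2] at h0 ⊢
        exact unip_nonopp hα hβ hk2 hk3 fun ho =>
          CL.RankOne.commutator_ne_bot (ho.rankOne hα hβ hk2 hk3) h0
      · have : ⁅gen W, C⁆ = ⊥ := by
          rw [Subgroup.commutator_eq_bot_iff_le_centralizer]
          exact gen_le fun D hD => Subgroup.commutator_eq_bot_iff_le_centralizer.1 (hW D hD C hC)
        rwa [conjBy_of_commutator_eq_bot this hg]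
    have hWn : ∀ C ∈ W, ∀ g ∈ N, conjBy C g ∈ W := by
      rintro _ ⟨m, hm, rfl⟩ g hg
      exact ⟨g * m, N.mul_mem hg hm, CL.RankOne.conjBy_conjBy _ _ _⟩
    have h0 := hNN (gen W ⊓ N) inf_le_right
      (fun g hg u hu => ⟨conjBy_biSup hWn hg hu.1, N.mul_mem (N.mul_mem hg hu.2) (N.inv_mem hg)⟩)
      (hu.mono inf_le_left)
    have h1 : ⁅n, b⁆ ∈ gen W ⊓ N := by
      constructor
      · refine mul_mem (le_gen (S := W) (B := conjBy B n) ⟨n, hnN, rfl⟩ (conj_mem_conjBy n hb)) ?_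
        exact le_gen (S := W) (B := B) ⟨1, N.one_mem, (CL.RankOne.conjBy_one _).symm⟩ (inv_mem hb)
      · have := N.mul_mem hnN (hn b (le_gen hB hb) _ (N.inv_mem hnN))
        simpa [commutatorElement_def, mul_assoc] using this
    rw [h0, Subgroup.mem_bot, commutatorElement_eq_one_iff_mul_comm] at h1
    exact h1
  exact fun n hn g hg => hcen hg n hn

theorem comp_class {A : Subgroup (M →ₗ[k] M)ˣ} (hA : A ∈ quadraticRootSubgroups G) :
    IsRootSubgroupClass ((fun B : Subgroup (M →ₗ[k] M)ˣ => B.subgroupOf (gen (comp G A))) ''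
      comp G A) := by
  refine ⟨isRootSubgroupSet_of ?_ ?_ ?_ ?_, ⟨_, A, self_mem_comp hA, rfl⟩, ?_⟩
  · intro B hB
    obtain ⟨α, hα, rfl⟩ := mem_roots.1 hB.1
    exact rootGrp_isMulCommutative α
  · intro B hB
    obtain ⟨α, hα, rfl⟩ := mem_roots.1 hB.1
    exact rootGrp_ne_bot hα
  · intro B hB g hg
    exact comp_conj_gen hk2 hk3 hN (gen_comp_le_gen hg) B hB
  · intro B hB C hC
    obtain ⟨α, hα, rfl⟩ := mem_roots.1 hB.1
    obtain ⟨β, hβ, rfl⟩ := mem_roots.1 hC.1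
    rcases trichotomy hk2 hk3 hα hβ with h | h | h
    · exact Or.inr (Or.inl (h.rankOne hα hβ hk2 hk3))
    · exact Or.inl h
    · exact Or.inr (Or.inr (h.rootCommutatorCase hk2 hk3 hN
        (comp_trans hB (h.mem_comp_left hk2 hk3 hN))))
  · rintro _ ⟨B, hB, rfl⟩ _ ⟨C, hC, rfl⟩
    obtain ⟨g, hg, rfl⟩ := comp_conj hB.1 (comp_trans (comp_symm hA hB) hC)
    rw [comp_eq hA hB] at hg
    refine ⟨⟨g, hg⟩, ?_⟩
    ext x
    simp only [Subgroup.mem_subgroupOf, CL.RankOne.mem_conjBy]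
    rfl

theorem finite_comps :
    Finite {S : Set (Subgroup (M →ₗ[k] M)ˣ) // ∃ A ∈ quadraticRootSubgroups G, S = comp G A} := by
  have : ∀ S : {S : Set (Subgroup (M →ₗ[k] M)ˣ) // ∃ A ∈ quadraticRootSubgroups G, S = comp G A},
      ∃ α β : M →ₗ[k] M, α ∈ Qd G ∧ β ∈ Qd G ∧ Opp α β ∧ S.1 = comp G (rootGrp G α) := by
    rintro ⟨S, A, hA, rfl⟩
    obtain ⟨α, hα, rfl⟩ := mem_roots.1 hA
    obtain ⟨β, hβ, h⟩ := exists_opp hk2 hk3 hN hα
    exact ⟨α, β, hα, hβ, h, rfl⟩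
  choose a b ha hb ho hS using this
  refine LinearIndependent.finite (R := k) (f := a) ?_
  rw [linearIndependent_iff']
  intro s c hc i hi
  have hcomm : ∀ j, j ≠ i → a j * b i = b i * a j := by
    intro j hj
    have h1 := comp_commute hk2 hk3 hN (rootGrp_mem_roots (ha j)) (rootGrp_mem_roots (ha i))
      (fun e => hj (Subtype.ext (by rw [hS, hS, e]))) _ (self_mem_comp (rootGrp_mem_roots (ha j)))
      _ ((ho i).mem_comp hk2 hk3 (ha i) (hb i))
    have h2 := Subgroup.commutator_eq_bot_iff_le_centralizer.1 h1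
      (un_mem_rootGrp (self_mem_lie (ha j).1) (ha j).1.1) _
      (un_mem_rootGrp (self_mem_lie (hb i).1) (hb i).1.1)
    have h3 := congrArg Units.val h2
    simp only [Units.val_mul, un_val, mul_add, add_mul, one_mul, mul_one] at h3
    have h4 : (1 + b i + (a j + b i * a j)) - (1 + a j + b i) =
        (1 + a j + (b i + a j * b i)) - (1 + a j + b i) := by rw [h3]
    calc a j * b i = (1 + a j + (b i + a j * b i)) - (1 + a j + b i) := by abel
      _ = (1 + b i + (a j + b i * a j)) - (1 + a j + b i) := h4.symm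
      _ = b i * a j := by abel
  have h5 : b i * (∑ j ∈ s, c j • a j) * b i = 0 := by rw [hc]; simp
  rw [Finset.mul_sum, Finset.sum_mul, Finset.sum_eq_single_of_mem i hi] at h5
  · rw [mul_smul_comm, smul_mul_assoc] at h5
    exact (smul_eq_zero.1 h5).resolve_right ((ho i).symm.ne_zero (hb i).2.1)
  · intro j _ hj
    rw [mul_smul_comm, smul_mul_assoc, ← hcomm j hj, mul_assoc, (hb i).1.1, mul_zero, smul_zero]

end CL.Quad
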