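/-
Quadratic pairs, part 6: decomposition of quadratic elements and the central product theorem.
-/
import Mathlib
import Cfsg.Agent.CHEV.QuadPair5

set_option autoImplicit false

namespace CL.Quad

open Cfsg Polynomial LinearMap Module
open scoped commutatorElement MatrixGroups

universe u v

variable {k : Type u} [Field k] {M : Type v} [AddCommGroup M] [Module k M]
variable {G : Subgroup (M →ₗ[k] M)ˣ}

theorem lie_mono {H : Subgroup (M →ₗ[k] M)ˣ} (h : H ≤ G) (α : M →ₗ[k] M) : lie H α ≤ lie G α :=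
  fun _ hβ => ⟨Qe.mono h hβ.1, hβ.2⟩

theorem lie_le_of_mem {H : Subgroup (M →ₗ[k] M)ˣ} {α β : M →ₗ[k] M} (h : β ∈ lie G α) :
    lie H β ≤ lie H α :=
  fun _ hγ => ⟨hγ.1, (lie.range_le hγ).trans h.2.1, h.2.2.trans hγ.2.2⟩

theorem Qe_rootGrp {α β : M →ₗ[k] M} (h : β ∈ lie G α) : β ∈ Qe (rootGrp G α) :=
  ⟨h.1.1, fun c => ⟨un _ (Qe.smul h.1 c).1, un_mem_rootGrp (Submodule.smul_mem _ c h) _, rfl⟩⟩

theorem val_comm_iff {g h : (M →ₗ[k] M)ˣ} : g * h = h * g ↔
    ((g : M →ₗ[k] M) - 1) * ((h : M →ₗ[k] M) - 1) = ((h : M →ₗ[k] M) - 1) * ((g : M →ₗ[k] M) - 1) := by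
  have e : ∀ g h : (M →ₗ[k] M)ˣ, ((g * h : (M →ₗ[k] M)ˣ) : M →ₗ[k] M) =
      ((g : M →ₗ[k] M) - 1) * ((h : M →ₗ[k] M) - 1) + ((g : M →ₗ[k] M) + h - 1) := by
    intro g h; rw [Units.val_mul]; noncomm_ring
  rw [Units.ext_iff, e, e, add_comm (h : M →ₗ[k] M), add_left_inj]

theorem Qe_closure {α : M →ₗ[k] M} (h : α ∈ Qe G) :
    α ∈ Qe (Subgroup.closure (quadraticElements G)) := by
  refine ⟨h.1, fun c => ⟨un _ (Qe.smul h c).1, ?_, rfl⟩⟩
  by_cases h0 : c • α = 0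
  · have : un _ (Qe.smul h c).1 = 1 := eq_one_iff_sub.2 ((un_sub_one _ _).trans h0)
    rw [this]; exact one_mem _
  · exact Subgroup.subset_closure (mem_quadraticElements.2 (by
      rw [un_sub_one]; exact ⟨Qe.smul h c, h0⟩))

theorem closure_quadraticElements_le : Subgroup.closure (quadraticElements G) ≤ G :=
  (Subgroup.closure_le _).2 fun _ h => h.1

theorem quadraticElements_mono {H : Subgroup (M →ₗ[k] M)ˣ} (h : H ≤ G) :
    quadraticElements H ⊆ quadraticElements G := fun _ hσ =>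
  mem_quadraticElements.2 ⟨Qe.mono h (mem_quadraticElements.1 hσ).1, (mem_quadraticElements.1 hσ).2⟩

variable [FiniteDimensional k M] (hk2 : (2 : k) ≠ 0) (hk3 : Nat.card k ≠ 3)
include hk2 hk3

theorem exists_decomp {α : M →ₗ[k] M} (hα : α ∈ Qe G) :
    ∃ α₀ ∈ lie G α, α - α₀ ∈ Submodule.span k (Qd G ∩ lie G α) ∧ ∀ β ∈ Qd G, β * α₀ * β = 0 := by
  induction hn : rk α using Nat.strong_induction_on generalizing α with
  | _ n ih =>
  by_cases h : ∀ β ∈ Qd G, β * α * β = 0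
  · exact ⟨α, self_mem_lie hα, by simp, h⟩
  push Not at h
  obtain ⟨β, hβ, h⟩ := h
  obtain ⟨s, hs⟩ := exists_inv_of_ne hk2 hk3 hβ hα h
  have hm := aeval_mul_mem_lie hk2 hk3 hα hβ.1 (s * X)
  have hzα : α * (α * β + β * α) = (α * β + β * α) * α := comm_z_left hα.1
  have hzβ : β * (α * β + β * α) = (α * β + β * α) * β := by
    rw [add_comm]; exact comm_z_left hβ.1.1
  have e1 : (α * β + β * α) * α = α * β * α := z_mul hα.1
  rw [add_comm] at hs
  rw [map_mul, aeval_X] at hm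
  generalize α * β + β * α = z at *
  have cα : α * aeval z s = aeval z s * α := comm_aeval hzα s
  have h1 : aeval z s * z * α * β = α * β := by
    rw [mul_assoc _ z, ← hzα, ← mul_assoc, ← cα, mul_assoc, mul_assoc, ← mul_assoc _ z, hs]
  have hαβ : α * β ≠ 0 := fun e => h (by rw [mul_assoc, e, mul_zero])
  have hq : aeval z s * z * α ∈ Qd G := by
    refine Qd.of_rk_le hβ hm.1 (fun e => hαβ (by rw [← h1, e, zero_mul])) ?_
    rw [mul_assoc, e1, ← mul_assoc, ← mul_assoc]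
    have a1 := rk_mul_add (aeval z s * α) β
    have a2 : rk (aeval z s * α * β * α) ≤ rk (aeval z s * α * β) :=
      Submodule.finrank_mono (range_mul_le _ _)
    omega
  have hm0 : α - aeval z s * z * α ∈ lie G α := Submodule.sub_mem _ (self_mem_lie hα) hm
  have hlt : rk (α - aeval z s * z * α) < n := by
    rw [← hn]
    by_contra hle
    have := ker_eq_of_le_of_rk (lie.ker_le hm0) (not_lt.1 hle)
    exact hαβ (mul_zero_of_ker (x := α - aeval z s * z * α) (by rw [sub_mul, h1, sub_self]) this.ge)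
  obtain ⟨α₀, a1, a2, a3⟩ := ih _ hlt hm0.1 rfl
  refine ⟨α₀, lie_le_of_mem hm0 a1, ?_, a3⟩
  have := Submodule.add_mem _ (Submodule.span_mono (Set.inter_subset_inter_right _
    (lie_le_of_mem hm0)) a2) (Submodule.subset_span (R := k) (s := Qd G ∩ lie G α) ⟨hq, hm⟩)
  convert this using 1
  abel

theorem comm_of_null (hN : NU k G) {α : M →ₗ[k] M} (hα : α ∈ Qe G)
    (h : ∀ β ∈ Qd G, β * α * β = 0) {β : M →ₗ[k] M} (hβ : β ∈ Qd G) : α * β = β * α := by
  have Pcj : ∀ {x : M →ₗ[k] M} {g : (M →ₗ[k] M)ˣ}, g ∈ G → (∀ γ ∈ Qd G, γ * x * γ = 0) →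
      ∀ γ ∈ Qd G, γ * cj g x * γ = 0 := by
    intro x g hg hx γ hγ
    have := hx _ (Qd.cj hγ (G.inv_mem hg))
    rw [← cj_eq_zero (g := g), cj_mul, cj_mul, cj_cj_inv] at this
    exact this
  have P0 : ∀ {x : M →ₗ[k] M}, x ∈ Qe G → rk x ≤ rk β → (∀ γ ∈ Qd G, γ * x * γ = 0) → x = 0 := by
    intro x hx hr hP
    by_contra h0
    have hq := Qd.of_rk_le hβ hx h0 hr
    obtain ⟨γ, hγ, ho⟩ := exists_opp hk2 hk3 hN hq
    exact ho.symm.ne_zero hγ.2.1 (hP γ hγ)
  have h1 := h β hβ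
  have Pδ : ∀ γ ∈ Qd G, γ * (α * β - β * α) * γ = 0 := by
    intro γ hγ
    have a1 := Pcj (Qe.un_mem hβ.1) h γ hγ
    have a2 := h γ hγ
    simp only [cj, un_val, un_inv_val] at a1
    have : γ * (α * β - β * α) * γ = γ * α * γ - γ * ((1 + β) * α * (1 - β)) * γ
      - γ * (β * α * β) * γ := by noncomm_ring
    rw [this, a1, a2, h1]; simp
  have h2 : α * β * α = 0 := by
    have hm := aeval_mul_mem_lie hk2 hk3 hα hβ.1 X
    rw [aeval_X, z_mul hα.1] at hm
    refine P0 hm.1 ?_ fun γ hγ => ?_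
    · have a1 := rk_mul_add α β
      have a2 : rk (α * β * α) ≤ rk (α * β) := Submodule.finrank_mono (range_mul_le _ _)
      omega
    · have a1 := Pcj (Qe.un_mem hα) Pδ γ hγ
      have a2 := Pδ γ hγ
      simp only [cj, un_val, un_inv_val] at a1
      have : (2 : k) • (γ * (α * β * α) * γ) = γ * (α * β - β * α) * γ -
          γ * ((1 + α) * (α * β - β * α) * (1 - α)) * γ + γ * (α * α) * β * (1 - α) * γ
          + γ * (1 + α) * β * (α * α) * γ := by
        rw [two_smul]; noncomm_ring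
      rw [a1, a2, hα.1] at this
      exact (smul_eq_zero.1 (by simpa using this)).resolve_left hk2
  refine sub_eq_zero.1 (P0 (comm_mem_Qe hα hβ.1 h2 h1) ?_ Pδ)
  have a2 : range (β * α) ≤ range β ⊓ ker α :=
    le_inf (range_mul_le _ _) (mul_eq_zero_iff.1 (by rw [← mul_assoc, h2]))
  have b2 := rk_mul_add α β
  have b5 := rk_sub_le (α * β) (β * α)
  have b6 := Submodule.finrank_sup_add_finrank_inf_eq (range (α * β)) (range (β * α))
  have b8 := Submodule.finrank_mono a2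
  unfold rk at *
  omega

theorem Qe_cent_of_null (hN : NU k G) {α : M →ₗ[k] M} (hα : α ∈ Qe G)
    (h : ∀ β ∈ Qd G, β * α * β = 0) :
    α ∈ Qe (G ⊓ Subgroup.centralizer (gen (quadraticRootSubgroups G) : Set (M →ₗ[k] M)ˣ)) := by
  refine ⟨hα.1, fun c => ⟨un _ (Qe.smul hα c).1, ⟨Qe.un_mem (Qe.smul hα c), ?_⟩, rfl⟩⟩
  have : gen (quadraticRootSubgroups G) ≤ Subgroup.centralizer {un _ (Qe.smul hα c).1} := by
    refine gen_le fun B hB g hg => ?_
    obtain ⟨β, hβ, rfl⟩ := mem_roots.1 hB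
    rw [Subgroup.mem_centralizer_singleton_iff, val_comm_iff, un_sub_one]
    by_cases h0 : (g : M →ₗ[k] M) - 1 = 0
    · simp [h0]
    · rw [mul_smul_comm, smul_mul_assoc, comm_of_null hk2 hk3 hN hα h (lie.qd hβ hg h0)]
  intro g hg
  exact Subgroup.mem_centralizer_singleton_iff.1 (this hg)

theorem mem_lie_sup (hN : NU k G) {α : M →ₗ[k] M} (hα : α ∈ Qe G) :
    α ∈ Submodule.span k (Qd G ∩ lie G α) ⊔
      lie (G ⊓ Subgroup.centralizer (gen (quadraticRootSubgroups G) : Set (M →ₗ[k] M)ˣ)) α := by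
  obtain ⟨α₀, h1, h2, h3⟩ := exists_decomp hk2 hk3 hα
  rw [← sub_add_cancel α α₀]
  refine Submodule.add_mem _ (Submodule.mem_sup_left ?_) (Submodule.mem_sup_right ?_)
  · rwa [sub_add_cancel]
  · rw [sub_add_cancel]
    exact ⟨Qe_cent_of_null hk2 hk3 hN h1.1 h3, h1.2⟩

theorem gen_sup_cent (hN : NU k G) (hG : Subgroup.closure (quadraticElements G) = G) :
    gen (quadraticRootSubgroups G) ⊔
      (G ⊓ Subgroup.centralizer (gen (quadraticRootSubgroups G) : Set (M →ₗ[k] M)ˣ)) = G := by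
  refine le_antisymm (sup_le gen_roots_le inf_le_left) ?_
  conv_lhs => rw [← hG]
  rw [Subgroup.closure_le]
  intro σ hσ
  have hα := (mem_quadraticElements.1 hσ).1
  refine Qe.mem' (lie.qe (α := (σ : M →ₗ[k] M) - 1) ?_) rfl
  refine (sup_le ?_ (lie_mono le_sup_right _) : _ ≤ lie _ _) (mem_lie_sup hk2 hk3 hN hα)
  rw [Submodule.span_le]
  rintro β ⟨h1, h2⟩
  exact ⟨Qe.mono ((le_gen (rootGrp_mem_roots h1)).trans le_sup_left) (Qe_rootGrp (self_mem_lie h1.1)),
    h2.2⟩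

/-- the central product decomposition, inductive form -/
theorem central_product_aux (n : ℕ) : ∀ G : Subgroup (M →ₗ[k] M)ˣ,
    finrank k (Submodule.span k (Qe G)) = n → NU k G → Subgroup.closure (quadraticElements G) = G →
    ∃ (ι : Type v) (_ : Finite ι) (Gi : ι → Subgroup (M →ₗ[k] M)ˣ),
      (∀ i, Gi i ≤ G ∧ ∀ g ∈ G, ∀ x ∈ Gi i, g * x * g⁻¹ ∈ Gi i) ∧
      (∀ i j, i ≠ j → ⁅Gi i, Gi j⁆ = ⊥) ∧
      (∀ i, IsQuasisimple (Gi i) ∧ Subgroup.closure (quadraticElements G ∩ Gi i) = Gi i) ∧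
      ∀ α ∈ Qe G, α ∈ ⨆ i, lie (Gi i) α := by
  induction n using Nat.strong_induction_on with
  | _ n ih =>
  intro G hn hN hG
  by_cases h0 : ∀ α ∈ Qe G, α = 0
  · exact ⟨PEmpty, inferInstance, fun i => i.elim, fun i => i.elim, fun i => i.elim, fun i => i.elim,
      fun α hα => by rw [h0 α hα]; exact Submodule.zero_mem _⟩
  push Not at h0
  obtain ⟨α₁, hα₁, h0⟩ := h0
  obtain ⟨α, hα⟩ := exists_Qd hα₁ h0
  obtain ⟨β, hβ, ho⟩ := exists_opp hk2 hk3 hN hα
  obtain ⟨G₀, hG₀⟩ : ∃ G₀, G₀ = gen (quadraticRootSubgroups G) := ⟨_, rfl⟩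
  obtain ⟨C, hC⟩ : ∃ C, C = G ⊓ Subgroup.centralizer (G₀ : Set (M →ₗ[k] M)ˣ) := ⟨_, rfl⟩
  obtain ⟨G', hG'⟩ : ∃ G', G' = Subgroup.closure (quadraticElements C) := ⟨_, rfl⟩
  have hG'C : G' ≤ C := hG' ▸ closure_quadraticElements_le
  have hCG : C ≤ G := hC ▸ inf_le_left
  have hCc : C ≤ Subgroup.centralizer (G₀ : Set (M →ₗ[k] M)ˣ) := hC ▸ inf_le_right
  have hG'G : G' ≤ G := hG'C.trans hCG
  have hG₀n : ∀ g ∈ G, ∀ x ∈ G₀, g * x * g⁻¹ ∈ G₀ := fun g hg x hx => by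
    rw [hG₀] at hx ⊢; exact gen_roots_normal hg hx
  have hCn : ∀ g ∈ G, ∀ x ∈ C, g * x * g⁻¹ ∈ C := by
    intro g hg x hx
    rw [hC]
    refine ⟨G.mul_mem (G.mul_mem hg (hCG hx)) (G.inv_mem hg), fun y hy => ?_⟩
    have := hCc hx _ (hG₀n _ (G.inv_mem hg) y hy)
    calc y * (g * x * g⁻¹) = g * (g⁻¹ * y * g⁻¹⁻¹ * x) * g⁻¹ := by group
      _ = g * x * g⁻¹ * y := by rw [this]; group
  have hQC : ∀ γ ∈ Qe C, γ ∈ Qe G' := fun γ hγ => hG' ▸ Qe_closure hγ
  have hG'n : ∀ g ∈ G, ∀ x ∈ G', g * x * g⁻¹ ∈ G' := by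
    intro g hg x hx
    have : G' ≤ G'.comap (MulAut.conj g).toMonoidHom := by
      conv_lhs => rw [hG']
      rw [Subgroup.closure_le]
      intro σ hσ
      have h1 := (mem_quadraticElements.1 hσ).1
      have h2 : cj g ((σ : M →ₗ[k] M) - 1) ∈ Qe C := by
        refine ⟨by rw [← cj_mul, h1.1, cj_zero], fun c => ?_⟩
        obtain ⟨x, hx, e⟩ := h1.2 c
        exact ⟨_, hCn g hg x hx, by rw [cj_val, e, cj_add, cj_one, cj_smul]⟩
      exact Qe.mem' (hQC _ h2) (cj_val_sub_one g σ)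
    exact this hx
  have hgen' : Subgroup.closure (quadraticElements G') = G' := by
    refine le_antisymm closure_quadraticElements_le ?_
    conv_lhs => rw [hG']
    exact Subgroup.closure_mono fun σ hσ => mem_quadraticElements.2
      ⟨hQC _ (mem_quadraticElements.1 hσ).1, (mem_quadraticElements.1 hσ).2⟩
  have hlt : finrank k (Submodule.span k (Qe G')) < n := by
    rw [← hn]
    apply Submodule.finrank_lt_finrank_of_lt
    refine lt_of_le_of_ne (Submodule.span_mono fun γ hγ => Qe.mono hG'G hγ) fun e => ?_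
    have h1 : α ∈ Submodule.span k (Qe G') := e ▸ Submodule.subset_span hα.1
    have h2 : ∀ x ∈ Submodule.span k (Qe G'), β * x * β = 0 := by
      intro x hx
      induction hx using Submodule.span_induction with
      | mem x hx =>
        have := hCc (hG'C (Qe.un_mem hx)) _ (hG₀ ▸ le_gen (rootGrp_mem_roots hβ)
          (un_mem_rootGrp (self_mem_lie hβ.1) hβ.1.1))
        rw [val_comm_iff, un_sub_one, un_sub_one] at this
        rw [this, mul_assoc, hβ.1.1, mul_zero]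
      | zero => simp
      | add x y _ _ hx hy => rw [mul_add, add_mul, hx, hy, add_zero]
      | smul c x _ hx => rw [mul_smul_comm, smul_mul_assoc, hx, smul_zero]
    exact ho.symm.ne_zero hβ.2.1 (h2 α h1)
  obtain ⟨ι, hι, Gi, a1, a2, a3, a4⟩ := ih _ hlt G' rfl (hN.of_normal hG'G hG'n) hgen'
  have hsup : ∀ γ ∈ Qe G, γ ∈ Submodule.span k (Qd G ∩ lie G γ) ⊔ lie G' γ := by
    intro γ hγ
    have := mem_lie_sup hk2 hk3 hN hγ
    rw [← hG₀, ← hC] at this
    have h1 : lie C γ ≤ lie G' γ := fun x hx => ⟨hQC x hx.1, hx.2⟩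
    exact SetLike.le_def.1 (sup_le_sup_left h1 _) this
  have hGsup : G ≤ G₀ ⊔ G' := by
    conv_lhs => rw [← hG]
    rw [Subgroup.closure_le]
    intro σ hσ
    have hα := (mem_quadraticElements.1 hσ).1
    refine Qe.mem' (lie.qe (α := (σ : M →ₗ[k] M) - 1) ?_) rfl
    refine (sup_le ?_ (lie_mono le_sup_right _) : _ ≤ lie _ _) (hsup _ hα)
    rw [Submodule.span_le]
    rintro β ⟨h1, h2⟩
    exact ⟨Qe.mono ((hG₀ ▸ le_gen (rootGrp_mem_roots h1)).trans le_sup_left)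
      (Qe_rootGrp (self_mem_lie h1.1)), h2.2⟩
  have hnorm : ∀ H : Subgroup (M →ₗ[k] M)ˣ, (∀ g ∈ G₀, ∀ x ∈ H, g * x * g⁻¹ ∈ H) →
      (∀ g ∈ G', ∀ x ∈ H, g * x * g⁻¹ ∈ H) → ∀ g ∈ G, ∀ x ∈ H, g * x * g⁻¹ ∈ H := by
    intro H h1 h2 g hg
    refine CL.RankOne.sup_induction (p := fun g => ∀ x ∈ H, g * x * g⁻¹ ∈ H) (hGsup hg)
      (by simp) h1 h2 ?_
    intro g h _ _ hg hh x hx
    have := hg _ (hh x hx)
    simpa [mul_assoc] using this
  have := finite_comps hk2 hk3 hN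
  let κ := {S : Set (Subgroup (M →ₗ[k] M)ˣ) // ∃ A ∈ quadraticRootSubgroups G, S = comp G A}
  have hκ : ∀ S : κ, gen S.1 ≤ G₀ := by
    rintro ⟨S, A, hA, rfl⟩
    exact hG₀ ▸ gen_comp_le_gen
  have hcross : ∀ (S : κ) (i : ι), ⁅Gi i, gen S.1⁆ = ⊥ := fun S i => by
    rw [Subgroup.commutator_eq_bot_iff_le_centralizer]
    exact (((a1 i).1.trans hG'C).trans hCc).trans (Subgroup.centralizer_le (hκ S))
  let κ' : Type v := ULift.{v} (Fin (Nat.card κ))
  let e : κ' ≃ κ := Equiv.ulift.trans (Finite.equivFin κ).symm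
  refine ⟨κ' ⊕ ι, inferInstance, Sum.elim (fun S => gen (e S).1) Gi, ?_, ?_, ?_, ?_⟩
  · rintro (S | i)
    · refine ⟨(hκ _).trans (hG₀ ▸ gen_roots_le), hnorm _ ?_ ?_⟩
      · obtain ⟨A, hA, h⟩ := (e S).2
        intro g hg x hx
        simp only [Sum.elim_inl, h] at hx ⊢
        exact gen_comp_normal hk2 hk3 hN (hG₀ ▸ hg) hx
      · intro g hg x hx
        rw [← hCc (hG'C hg) x (hκ _ hx), mul_inv_cancel_right]; exact hx
    · refine ⟨(a1 i).1.trans hG'G, hnorm _ ?_ (a1 i).2⟩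
      intro g hg x hx
      rw [hCc (hG'C ((a1 i).1 hx)) g hg, mul_inv_cancel_right]; exact hx
  · rintro (S | i) (T | j) hij
    · obtain ⟨A, hA, h⟩ := (e S).2
      obtain ⟨B, hB, h'⟩ := (e T).2
      have hne : comp G A ≠ comp G B := fun h0 =>
        hij (congrArg _ (e.injective (Subtype.ext (by rw [h, h', h0]))))
      simp only [Sum.elim_inl, h, h']
      exact gen_commutator_eq_bot (comp_commute hk2 hk3 hN hA hB hne)
    · rw [Subgroup.commutator_comm]; exact hcross _ _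
    · exact hcross _ _
    · exact a2 i j fun h => hij (congrArg _ h)
  · rintro (S | i)
    · show IsQuasisimple (gen (e S).1) ∧ Subgroup.closure (_ ∩ (gen (e S).1 : Set _)) = gen (e S).1
      generalize e S = x
      obtain ⟨S, A, hA, rfl⟩ := x
      refine ⟨gen_comp_quasisimple hk2 hk3 hN hA, le_antisymm
        ((Subgroup.closure_le _).2 Set.inter_subset_right) (gen_le fun B hB g hg => ?_)⟩
      by_cases h1 : g = 1
      · rw [h1]; exact one_mem _
      · obtain ⟨γ, hγ, rfl⟩ := mem_roots.1 (comp_subset hB)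
        exact Subgroup.subset_closure ⟨mem_quadraticElements.2
          ⟨hg.1, fun e => h1 (eq_one_iff_sub.2 e)⟩, le_gen hB hg⟩
    · refine ⟨(a3 i).1, le_antisymm ((Subgroup.closure_le _).2 Set.inter_subset_right) ?_⟩
      conv_lhs => rw [Sum.elim_inr, ← (a3 i).2]
      exact Subgroup.closure_mono (Set.inter_subset_inter_left _ (quadraticElements_mono hG'G))
  · intro γ hγ
    refine SetLike.le_def.1 (sup_le ?_ ?_) (hsup γ hγ)
    · rw [Submodule.span_le]
      rintro δ ⟨h1, h2⟩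
      refine Submodule.mem_iSup_of_mem
        (Sum.inl (e.symm ⟨_, _, rootGrp_mem_roots h1, rfl⟩)) ⟨?_, h2.2⟩
      rw [Sum.elim_inl, Equiv.apply_symm_apply]
      exact Qe.mono (le_gen (self_mem_comp (rootGrp_mem_roots h1))) (Qe_rootGrp (self_mem_lie h1.1))
    · intro δ hδ
      refine SetLike.le_def.1 (iSup_le fun i => ?_) (a4 δ hδ.1)
      exact (lie_le_of_mem hδ).trans (le_iSup (fun j => lie (Sum.elim (fun S => gen (e S).1) Gi j) γ)
        (Sum.inr i))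

omit hk2 hk3 [FiniteDimensional k M] in
theorem Qe_mem_of_irreducible (hirr : IsIrreducibleFor G) {ι : Type*}
    {Gi : ι → Subgroup (M →ₗ[k] M)ˣ} (hc : ∀ i j, i ≠ j → ⁅Gi i, Gi j⁆ = ⊥) (hsup : G ≤ ⨆ i, Gi i)
    {α : M →ₗ[k] M} (h0 : α ≠ 0) (hα : α ∈ ⨆ i, lie (Gi i) α) : ∃ i, α ∈ Qe (Gi i) := by
  have hcomm : ∀ i j, i ≠ j → ∀ g ∈ Gi i, ∀ β ∈ Qe (Gi j), (g : M →ₗ[k] M) * β = β * g := by
    intro i j hij g hg β hβ
    have := Subgroup.commutator_eq_bot_iff_le_centralizer.1 (hc i j hij) hg _ (Qe.un_mem hβ)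
    have := congrArg Units.val this
    rw [Units.val_mul, Units.val_mul, un_val, add_mul, mul_add, one_mul, mul_one] at this
    exact (add_left_cancel this).symm
  obtain ⟨i, hi⟩ : ∃ i, lie (Gi i) α ≠ ⊥ := by
    by_contra h
    push Not at h
    simp [h] at hα
    exact h0 hα
  obtain ⟨β, hβ, hβ0⟩ := Submodule.exists_mem_ne_zero_of_ne_bot hi
  let W : Submodule k M := Submodule.span k {m | ∃ g ∈ Gi i, ∃ n, m = (g : M →ₗ[k] M) (β n)}
  have hW : ∀ g ∈ G, ∀ w ∈ W, (g : M →ₗ[k] M) w ∈ W := by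
    intro g hg
    refine Subgroup.iSup_induction Gi (C := fun g : (M →ₗ[k] M)ˣ => ∀ w ∈ W, (g : M →ₗ[k] M) w ∈ W)
      (hsup hg) ?_ (fun w hw => hw) fun x y hx hy w hw => hx _ (hy w hw)
    intro j x hx
    change W ≤ W.comap (x : M →ₗ[k] M)
    rw [Submodule.span_le]
    rintro _ ⟨g, hg, n, rfl⟩
    apply Submodule.subset_span
    by_cases hij : j = i
    · subst hij
      exact ⟨x * g, mul_mem hx hg, n, rfl⟩
    · refine ⟨g, hg, (x : M →ₗ[k] M) n, ?_⟩
      have e1 := congrArg Units.val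
        (Subgroup.commutator_eq_bot_iff_le_centralizer.1 (hc j i hij) hx g hg)
      have e2 := hcomm j i hij x hx β hβ.1
      show ((x : M →ₗ[k] M) * g * β) n = ((g : M →ₗ[k] M) * (β * x)) n
      rw [← e2, ← mul_assoc, ← Units.val_mul g, e1, Units.val_mul]
  have hWtop : W = ⊤ := by
    refine (hirr.2 W hW).resolve_left fun e => hβ0 ?_
    ext n
    have : β n ∈ W := Submodule.subset_span ⟨1, one_mem _, n, rfl⟩
    rwa [e, Submodule.mem_bot] at this
  refine ⟨i, lie.qe (α := α) (SetLike.le_def.1 (iSup_le fun j => ?_) hα)⟩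
  by_cases hij : i = j
  · rw [hij]
  intro γ hγ
  have : W ≤ ker γ := by
    rw [Submodule.span_le]
    rintro _ ⟨g, hg, n, rfl⟩
    show (γ * g * β) n = 0
    rw [← hcomm i j hij g hg γ hγ.1, mul_assoc,
      mul_eq_zero_iff.2 ((hβ.2.1.trans inf_le_right).trans hγ.2.2), mul_zero]
    rfl
  rw [hWtop, top_le_iff, ker_eq_top] at this
  rw [this]; exact Submodule.zero_mem _

end CL.Quad
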