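/-
Small Ree groups: local subgroups and solvable subgroups.
-/
import Mathlib
import Cfsg.Agent.CHEV.ReeTori
import Cfsg.Agent.SOLV.PSolvable

set_option autoImplicit false
set_option linter.unusedSectionVars false

namespace CL.Ree

open CL.HT CL.GL2 Cfsg
open scoped MatrixGroups

namespace Model

variable {F : Type*} [Field F] [CharP F 3] {σ : F →+* F} {G : Type*} [Group G] (M : Model σ G) [Finite F]

theorem normalizer_le_B {E : Subgroup G} (hE : E ≤ M.U) (h0 : E ≠ ⊥) : Subgroup.normalizer (E : Set G) ≤ M.B := by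
  obtain ⟨⟨x, hx⟩, h1⟩ := Subgroup.ne_bot_iff_exists_ne_one.mp h0
  exact fun k hk => M.mem_B_of_conj_mem_U (hE hx) (fun e => h1 (Subtype.ext e))
    (hE ((Subgroup.mem_normalizer_iff.mp hk x).mp hx))

theorem exists_V_eq_of_mem {E : Subgroup G} (hE : Nat.card E = 4) (hε : M.ε ∈ E) : ∃ g, (M.conj g).V = E := by
  classical
  have := Fintype.ofFinite F
  have := M.finite_G
  have hp : IsPGroup 2 E := IsPGroup.of_card (n := 2) hE
  obtain ⟨e, he, h1⟩ := SetLike.not_le_iff_exists.mp (show ¬ E ≤ Subgroup.zpowers M.ε from fun h => by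
    have := Subgroup.card_le_of_le h
    rw [Nat.card_zpowers, orderOf_ε] at this
    omega)
  obtain ⟨c, hc⟩ := M.exists_over (M.comm_of_isPGroup hp he hε)
  have h2 : M.φ c ∈ E := by
    rcases hc with rfl | rfl
    exacts [he, (Subgroup.mul_mem_cancel_left _ hε).mp he]
  have h3 : M.φ c ≠ 1 := fun h => h1 (by rcases hc with rfl | rfl <;> simp [h])
  have h4 := M.sq_eq_one_of_isPGroup hp h2
  rw [← map_mul, φ_eq_one_iff, mul_self_eq_iff, isScal_SL_iff, ← M.φ_eq_one_iff] at h4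
  obtain ⟨g, rfl⟩ := isConj_iff.mp (isConj_SL_of_trace reg_iS.sep ((h4.resolve_left h3).trans trace_iS.symm))
  refine ⟨M.φ g, Subgroup.eq_of_le_of_card_ge ?_ (by rw [hE, card_V])⟩
  rw [V, Subgroup.closure_le, conj_ε, conj_w, ← ε_mul_φ, mul_inv_cancel_right, ← φ_iS, ← map_inv, ← map_mul,
    ← map_mul]
  rintro _ (rfl | rfl)
  exacts [hε, h2]

include M in
theorem exists_V_eq {E : Subgroup G} (hE : Nat.card E = 4) : ∃ M' : Model σ G, M'.V = E := by
  obtain ⟨⟨x, hx⟩, h1⟩ := Subgroup.ne_bot_iff_exists_ne_one.mp (show E ≠ ⊥ by rintro rfl; simp at hE)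
  obtain ⟨k, rfl⟩ := M.exists_conj_ε_eq (fun e => h1 (Subtype.ext e))
    (M.sq_eq_one_of_isPGroup (IsPGroup.of_card (n := 2) hE) hx)
  exact ((M.conj k).exists_V_eq_of_mem hE hx).elim fun _ h => ⟨_, h⟩

theorem centralizer_V : Subgroup.centralizer (M.V : Set G) = M.ov (pcent iS) := by
  classical
  have := Fintype.ofFinite F
  ext g
  rw [V, Subgroup.centralizer_closure, Subgroup.mem_centralizer_iff]
  simp only [Set.mem_insert_iff, Set.mem_singleton_iff, forall_eq_or_imp, forall_eq]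
  constructor
  · rintro ⟨h1, h2⟩
    obtain ⟨b, hb⟩ := M.exists_over h1.symm
    exact ⟨b, mem_pcent.mpr ((hb.comm_iff M.over_w).mp h2.symm), hb⟩
  · rintro ⟨b, h1, hb⟩
    exact ⟨hb.comm_ε.symm, ((hb.comm_iff M.over_w).mpr (mem_pcent.mp h1)).symm⟩

theorem normalizer_V (hq : 3 < Nat.card F) :
    Subgroup.normalizer (M.V : Set G) = Subgroup.normalizer (M.D : Set G) := by
  have := M.finite_G
  have T := M.tor_A₂ hq
  refine le_antisymm (fun k hk => ?_) fun k hk => Subgroup.mem_normalizer_fintype fun v hv =>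
    M.mem_V_of_sq ((Subgroup.mem_normalizer_iff.mp hk v).mp (M.V_le_D hv))
      (by rw [conj_mul, M.sq_eq_one_of_mem_V hv]; simp)
  rw [← T.normalizer_eq le_rfl T.ne]
  refine Subgroup.mem_normalizer_fintype fun a ha => mem_of_mem_normalizer ?_
    (by rw [orderOf_conj']; exact T.hall.coprime_dvd_left (M.A₂.orderOf_dvd_natCard ha))
  rw [T.normalizer_eq le_rfl T.ne]
  refine (M.normalizer_D_inf.ge (M.centralizer_V.le fun v hv => ?_)).1
  have h := M.D_comm (M.V_le_D ((Subgroup.mem_normalizer_iff''.mp hk v).mp hv)) (M.A₂_le_D ha)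
  calc v * (k * a * k⁻¹) = k * (k⁻¹ * v * k * a) * k⁻¹ := by group
    _ = _ := by rw [h]; group

include M in
theorem exists_normalizer_le {m p : ℕ} (hm : 1 ≤ m) (hF : Nat.card F = 3 ^ (2 * m + 1)) (hp : p.Prime) {E : Subgroup G}
    (hE : IsPGroup p E) (h0 : E ≠ ⊥) (h2 : Nat.card E ≠ 2) :
    ∃ A : Subgroup G, Subgroup.normalizer (E : Set G) ≤ Subgroup.normalizer (A : Set G) ∧
      ((∃ P : Sylow 2 G, A = P) ∨ (∃ P : Sylow 3 G, A = P) ∨ (IsCyclic A ∧ (Nat.card A = (3 ^ (2 * m + 1) - 1) / 2 ∨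
        Nat.card A = (3 ^ (2 * m + 1) + 1) / 4 ∨ Nat.card A = 3 ^ (2 * m + 1) - 3 ^ (m + 1) + 1 ∨
        Nat.card A = 3 ^ (2 * m + 1) + 3 ^ (m + 1) + 1))) := by
  have := M.finite_G
  have := Fact.mk hp
  have hq := three_lt_card hm hF
  obtain ⟨P, hP⟩ := hE.exists_le_sylow
  rcases (show p = 2 ∨ p = 3 ∨ 3 < p by have := hp.two_le; omega) with rfl | rfl | h3
  · have h4 := Subgroup.card_dvd_of_le hP
    rw [M.card_sylow_two] at h4
    obtain ⟨i, hi, e⟩ := (Nat.dvd_prime_pow Nat.prime_two (m := 3)).mp h4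
    interval_cases i
    · exact absurd (Subgroup.card_eq_one.mp e) h0
    · exact absurd e h2
    · obtain ⟨M', rfl⟩ := M.exists_V_eq e
      have T := M'.tor_A₂ hq
      exact ⟨M'.A₂, by rw [M'.normalizer_V hq, T.normalizer_eq le_rfl T.ne],
        Or.inr (Or.inr ⟨T.cyc, Or.inr (Or.inl (hF ▸ M'.card_A₂))⟩)⟩
    · exact ⟨E, le_rfl, Or.inl ⟨P, Subgroup.eq_of_le_of_card_ge hP (by rw [e, M.card_sylow_two]; rfl)⟩⟩
  · obtain ⟨k, hk⟩ := M.exists_conj_U_eq P
    exact ⟨P, by rw [← hk, normalizer_U]; exact normalizer_le_B _ (hk ▸ hP) h0, Or.inr (Or.inl ⟨P, rfl⟩)⟩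
  · obtain ⟨A, C, T, h1, h⟩ := M.exists_tor_dvd hm hF hp h3 ((hE.card_eq_or_dvd.resolve_left
      (mt Subgroup.card_eq_one.mp h0)).trans E.card_subgroup_dvd_card)
    have := T.isCyclic_sylow h1 P
    obtain ⟨Q, hQ⟩ := T.exists_sylow_le hp h1
    obtain ⟨k, rfl⟩ := MulAction.exists_smul_eq G Q P
    have T' := T.map_conj k
    refine ⟨_, ?_, Or.inr (Or.inr ⟨T'.cyc, by rwa [Subgroup.card_map_of_injective (MulAut.conj k).injective]⟩)⟩
    rw [T'.normalizer_eq (hP.trans (Subgroup.map_mono hQ)) h0, T'.normalizer_eq le_rfl T'.ne]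

include M in
theorem exists_le_normalizer {m : ℕ} (hm : 1 ≤ m) (hF : Nat.card F = 3 ^ (2 * m + 1)) (S : Subgroup G)
    (hS : Group.IsSolvable S) : ∃ A : Subgroup G, S ≤ Subgroup.normalizer (A : Set G) ∧
      ((∃ P : Sylow 2 G, A = P) ∨ (∃ P : Sylow 3 G, A = P) ∨ (IsCyclic A ∧ (Nat.card A = (3 ^ (2 * m + 1) - 1) / 2 ∨
        Nat.card A = (3 ^ (2 * m + 1) + 1) / 4 ∨ Nat.card A = 3 ^ (2 * m + 1) - 3 ^ (m + 1) + 1 ∨
        Nat.card A = 3 ^ (2 * m + 1) + 3 ^ (m + 1) + 1))) := by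
  have := M.finite_G
  by_cases h : IsPGroup 2 S
  · obtain ⟨P, hP⟩ := h.exists_le_sylow
    exact ⟨P, hP.trans Subgroup.le_normalizer, Or.inl ⟨P, rfl⟩⟩
  obtain ⟨p, E, hp, hN, hE, h0, h2⟩ : ∃ (p : ℕ) (E : Subgroup S), p.Prime ∧ E.Normal ∧ IsPGroup p E ∧ E ≠ ⊥ ∧
      Nat.card E ≠ 2 := by
    by_cases h1 : pPrimeCore 2 S = ⊥
    · have h2 := IsPSolvable.centralizer_pCore_le (isPSolvable_of_isSolvable 2 S) h1
      have h3 : ¬ ∀ g, g ∈ Subgroup.centralizer (pCore 2 S : Set S) := fun e =>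
        h (pCore_eq_top_iff.mp (eq_top_iff.mpr fun g _ => h2 (e g)))
      refine ⟨2, _, Nat.prime_two, inferInstance, isPGroup_pCore 2 S, fun e => h3 (by simp [e, Subgroup.mem_centralizer_iff]),
        fun e => h3 fun g v hv => ?_⟩
      by_cases h4 : v = 1
      · simp [h4]
      · exact (mul_inv_eq_iff_eq_mul.mp (congrArg Subtype.val (((Nat.card_eq_two_iff' 1).mp e).unique
          (y₁ := ⟨_, Subgroup.Normal.conj_mem inferInstance v hv g⟩) (y₂ := ⟨v, hv⟩) (by simpa) (by simpa)))).symm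
    · obtain ⟨p, hp, h2⟩ := exists_pCore_inf_ne_bot (pPrimeCore 2 S) inferInstance h1
      have := Fact.mk hp
      refine ⟨p, _, hp, inferInstance, (isPGroup_pCore p S).to_inf_left, h2, fun e => ?_⟩
      have := (coprime_card_pPrimeCore (p := 2) (G := S)).coprime_dvd_left (e ▸ Subgroup.card_dvd_of_le inf_le_right)
      norm_num at this
  obtain ⟨A, h3, h4⟩ := M.exists_normalizer_le hm hF hp (hE.map S.subtype)
    (mt (Subgroup.map_eq_bot_iff_of_injective _ S.subtype_injective).mp h0)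
    (by rwa [Subgroup.card_map_of_injective S.subtype_injective])
  exact ⟨A, fun g hg => h3 (Subgroup.le_normalizer_map (H := E) S.subtype
    ⟨⟨g, hg⟩, by rw [Subgroup.normalizer_eq_top]; trivial, rfl⟩), h4⟩

end Model

end CL.Ree
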