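/-
CHEV library: leading coefficients of the unipotent elements of a subgroup of a Chevalley group.
-/
import Cfsg.Agent.CHEV.SubTop
import Cfsg.Agent.CHEV.Inv2Chk
import Cfsg.Agent.CHEV.MvW

set_option autoImplicit false

namespace CL.Chev

open Cfsg.Lie

section Abs

variable {ι κ : Type*} [Fintype κ] [DecidableEq κ] {R : RootSys ι κ}

theorem RootSys.IsComb.eq_add {r s k : ι} (h : R.IsComb r s k) (hr : R.IsPos r) (hs : R.IsPos s)
    (hk : R.ht k ≤ R.ht r + R.ht s) : R.rt k = R.rt r + R.rt s := by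
  obtain ⟨i, j, hi, hj, e⟩ := h
  have h1 := congrArg RootSys.htL e
  simp only [map_add, map_zsmul, R.htL_rt, smul_eq_mul] at h1
  have h2 : 0 < R.ht r := hr
  have h3 : 0 < R.ht s := hs
  have h4 : (i : ℤ) = 1 := by nlinarith
  have h5 : (j : ℤ) = 1 := by nlinarith
  rw [e, h4, h5, one_smul, one_smul]

namespace StData

variable {F G : Type*} [Field F] [Group G] {S : StData R F G} {H : Subgroup G}

/-- the parameters of the root elements in `H` -/
def rv (S : StData R F G) (H : Subgroup G) (r : ι) : AddSubgroup F where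
  carrier := {t | S.x r t ∈ H}
  zero_mem' := by simp [S.x_zero]
  add_mem' := fun ha hb => by simpa only [Set.mem_ofPred_eq, S.x_add] using H.mul_mem ha hb
  neg_mem' := fun ha => by simpa only [Set.mem_ofPred_eq, S.x_neg] using H.inv_mem ha

theorem mem_rv {r : ι} {t : F} : t ∈ S.rv H r ↔ S.x r t ∈ H := Iff.rfl

/-- `t` is the leading coefficient at `r` of an element of `H` -/
def Lv (S : StData R F G) (H : Subgroup G) (r : ι) (t : F) : Prop := ∃ z ∈ S.XS (R.Tr r), S.x r t * z ∈ H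

theorem Lv.step {r s k : ι} (hr : R.IsPos r) (hs : R.IsPos s) (hk : R.rt k = R.rt r + R.rt s) {t u c : F}
    (hN : ∃ z ∈ S.XS (R.Tr k), (S.x s u)⁻¹ * (S.x r t)⁻¹ * S.x s u * S.x r t = S.x k c * z) {y : G}
    (hy : y ∈ S.XS {b | R.ht s ≤ R.ht b ∧ ∀ a, R.rt k ≠ R.rt a + R.rt b}) (hH : S.x s u * y ∈ H) (h : S.Lv H r t) :
    S.Lv H k c := by
  obtain ⟨z, hz, hg⟩ := h
  obtain ⟨z0, hz0, e⟩ := hN
  have h1 : R.ht k = R.ht r + R.ht s := by simpa only [map_add, R.htL_rt] using congrArg RootSys.htL hk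
  have hr' : 0 < R.ht r := hr
  have hs' : 0 < R.ht s := hs
  have hkp : R.IsPos k := show 0 < R.ht k by omega
  have hn := S.le_normalizer_of_ideal (R.nilp_pos fun _ h => h) (RootSys.ideal_Tr hkp)
  have key : ∀ {A B : Set ι}, (∀ a ∈ A, R.ht r ≤ R.ht a) → (∀ b ∈ B, R.ht s ≤ R.ht b) →
      (∀ a ∈ A, ∀ b ∈ B, R.rt k ≠ R.rt a + R.rt b) → ∀ a ∈ S.XS A, ∀ b ∈ S.XS B, b⁻¹ * a⁻¹ * b * a ∈ S.XS (R.Tr k) :=
    fun {A B} hA hB hAB a ha b hb => by
      have hA' : ∀ a ∈ A, R.IsPos a := fun a ha => lt_of_lt_of_le hr (hA a ha)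
      have hB' : ∀ a ∈ B, R.IsPos a := fun a ha => lt_of_lt_of_le hs (hB a ha)
      refine S.comm_mem_of_le_normalizer (fun a ha b hb => (R.nilp_pos fun _ h => h).ne_neg (hA' a ha) (hB' b hb))
        ((S.XS_le_U hA').trans hn) ((S.XS_le_U hB').trans hn) (fun a ha b hb c hc v => S.x_mem_XS ?_ v) ha hb
      have h2 := hc.ht_le (hA' a ha) (hB' b hb)
      have h3 := hA a ha
      have h4 := hB b hb
      exact And.intro (by omega) fun e => hAB a ha b hb (e ▸ hc.eq_add (hA' a ha) (hB' b hb) (by rw [e]; omega))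
  have i1 := key (A := {a | R.ht r ≤ R.ht a}) (fun _ h => h) (fun _ h => h.1) (fun a _ b hb => hb.2 a) _
    (mul_mem (S.x_mem_XS (by exact le_refl (R.ht r)) t) (S.XS_mono (fun _ h => h.1) hz)) y hy
  have i2 := key (A := R.Tr r) (B := {s}) (fun _ h => h.1) (by rintro _ rfl; rfl) (by
    rintro a ha _ rfl e
    exact ha.2 (R.rt_inj (add_right_cancel (e.symm.trans hk)))) z hz _ (S.x_mem_X s u)
  have hc : ∀ a, R.IsPos a → ∀ c, R.IsComb a k c → c ∈ R.Tr k := fun a ha c hc => RootSys.comb_mem_Tr hkp ha le_rfl hc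
  obtain ⟨z1, hz1, e1⟩ := S.conj_U_lead hkp (RootSys.ideal_Tr hkp) hc c
    (inv_mem (S.XS_le_U (RootSys.Tr_pos hr) hz)) hz0
  obtain ⟨z3, hz3, e3⟩ := S.conj_U_lead hkp (RootSys.ideal_Tr hkp) hc c
    (inv_mem (S.XS_le_U (fun b hb => lt_of_lt_of_le hs hb.1) hy))
    (mul_mem ((hn (inv_mem (S.x_mem_U hkp c)) _).1 i2) hz1)
  refine ⟨_, mul_mem hz3 i1, ?_⟩
  have := H.mul_mem (H.mul_mem (H.mul_mem (H.inv_mem hH) (H.inv_mem hg)) hH) hg
  convert this using 1
  rw [← mul_assoc, ← e3]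
  calc _ = y⁻¹ * ((S.x s u)⁻¹ * z⁻¹ * S.x s u * z * (S.x k c * z1)) * y *
        (y⁻¹ * (S.x r t * z)⁻¹ * y * (S.x r t * z)) := by group
    _ = _ := by rw [← e1, ← e]; group

theorem Lv.of_mem {r : ι} {t : F} (h : S.x r t ∈ H) : S.Lv H r t := ⟨1, one_mem _, by rwa [mul_one]⟩

theorem Lv.mem_of_top {θ : ι} (hθ : ∀ s, s ≠ θ → R.ht s < R.ht θ) {t : F} (h : S.Lv H θ t) : S.x θ t ∈ H := by
  obtain ⟨z, hz, h⟩ := h
  rw [Set.eq_empty_of_forall_notMem (s := R.Tr θ) fun s hs => (hθ s hs.2).not_ge hs.1, XS_empty,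
    Subgroup.mem_bot] at hz
  rwa [hz, mul_one] at h

theorem Lv.of_simple {i : κ} {t : F} {u : G} (hu : u ∈ S.UJ {i}) (h : S.x (R.simple i) t * u ∈ H) :
    S.Lv H (R.simple i) t :=
  ⟨u, S.XS_mono (fun _ hs => And.intro (by rw [R.ht_simple]; exact hs.1) hs.2) (S.UJ_singleton i ▸ hu), h⟩

variable (h1 : ∀ r, S.x r 1 ∈ H)
include h1

theorem n_one_mem (r : ι) : S.n r 1 ∈ H := by
  rw [n, inv_one, S.x_neg]
  exact mul_mem (mul_mem (h1 r) (inv_mem (h1 _))) (h1 r)

theorem rv_σ (i : κ) (r : ι) : S.rv H (R.σ i r) = S.rv H r := by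
  have key : ∀ r, S.rv H r ≤ S.rv H (R.σ i r) := fun r t ht => by
    have := mul_mem (mul_mem (n_one_mem h1 (R.simple i)) ht) (inv_mem (n_one_mem h1 (R.simple i)))
    rw [S.n_conj_simple i r one_ne_zero, one_zpow, mul_one, ← mem_rv] at this
    rcases R.η_pm i r with e | e <;> simpa [e] using this
  exact le_antisymm (by simpa only [R.σ_σ] using key (R.σ i r)) (key r)

theorem rv_W {w : Equiv.Perm ι} (hw : w ∈ R.W) (r : ι) : S.rv H (w r) = S.rv H r := by
  induction hw using R.W_induction_left with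
  | h1 => rfl
  | hs j w _ ih => rw [Equiv.Perm.mul_apply, R.sp_apply, rv_σ h1, ih]

theorem rv_eq_of_len [Finite ι]
    (hd : ∀ r s, (∀ i, 0 ≤ R.wt r i) → (∀ i, 0 ≤ R.wt s i) → R.len r = R.len s → r = s) {r s : ι}
    (h : R.len r = R.len s) : S.rv H r = S.rv H s := by
  obtain ⟨w, hw, h2⟩ := R.exists_WJ_dominant Set.univ r
  obtain ⟨w', hw', h3⟩ := R.exists_WJ_dominant Set.univ s
  rw [R.WJ_univ] at hw hw'
  rw [← rv_W h1 hw, ← rv_W h1 hw' s, hd _ _ (fun i => h2 i trivial) (fun i => h3 i trivial)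
    (by rw [RootSys.W_len hw, RootSys.W_len hw', h])]

end StData

end Abs

section Fld

variable {K : Type*} [Field K] (p : ℕ) [Fact p.Prime] [CharP K p]
include p

theorem mem_of_int_mul_mem (A : AddSubgroup K) {c : ℤ} (hc : (c : K) ≠ 0) {t : K} (h : c * t ∈ A) : t ∈ A := by
  rw [Ne, CharP.intCast_eq_zero_iff K p] at hc
  obtain ⟨a, b, e⟩ := ((Nat.prime_iff_prime_int.1 Fact.out).irreducible.coprime_iff_not_dvd.2 hc)
  have e' := congrArg (Int.cast : ℤ → K) e
  push_cast at e'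
  rw [CharP.cast_eq_zero, mul_zero, zero_add] at e'
  have := A.zsmul_mem h b
  rwa [zsmul_eq_mul, ← mul_assoc, e', one_mul] at this

variable [Finite K]

theorem exists_pow_iff (A : Subring K) : ∃ n, 0 < n ∧ Nat.card A = p ^ n ∧ ∀ t, t ∈ A ↔ t ^ p ^ n = t := by
  classical
  have := Fintype.ofFinite A
  let _ := Fintype.fieldOfDomain A
  obtain ⟨n, -, hn⟩ := FiniteField.card A p
  have h1 : ∀ t ∈ A, t ^ p ^ (n : ℕ) = t := fun t ht => by
    have := FiniteField.pow_card (⟨t, ht⟩ : A)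
    rw [hn] at this
    exact congrArg Subtype.val this
  have hp : 1 < p ^ (n : ℕ) := Nat.one_lt_pow n.ne_zero (Fact.out : p.Prime).one_lt
  refine ⟨n, n.pos, by rw [Nat.card_eq_fintype_card, hn], fun t => ⟨h1 t, fun ht => ?_⟩⟩
  have h0 := FiniteField.X_pow_card_sub_X_ne_zero K hp
  have h2 : (A : Set K).toFinset ⊆ (Polynomial.X ^ p ^ (n : ℕ) - Polynomial.X : Polynomial K).roots.toFinset :=
    fun x hx => by
      rw [Multiset.mem_toFinset, Polynomial.mem_roots h0]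
      simp [h1 x (Set.mem_toFinset.1 hx)]
  have h3 := Finset.eq_of_subset_of_card_le h2 ((Multiset.toFinset_card_le _).trans ((Polynomial.card_roots' _).trans (by
    rw [FiniteField.X_pow_card_sub_X_natDegree_eq K hp, Set.toFinset_card, ← hn]
    exact (Fintype.card_congr (Equiv.refl _)).le)))
  have h4 : t ∈ (A : Set K).toFinset := by
    rw [h3, Multiset.mem_toFinset, Polynomial.mem_roots h0]
    simp [ht]
  exact Set.mem_toFinset.1 h4

theorem inv_mem_subring (A : Subring K) {t : K} (ht : t ∈ A) : t⁻¹ ∈ A := by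
  obtain ⟨n, -, -, h⟩ := exists_pow_iff p A
  rw [h, inv_pow, (h t).1 ht]

theorem mem_of_pow_mem (A : Subring K) {t : K} (ht : t ^ p ∈ A) : t ∈ A := by
  obtain ⟨n, -, -, h⟩ := exists_pow_iff p A
  rw [h] at ht ⊢
  rw [← pow_mul, mul_comm, pow_mul] at ht
  exact frobenius_inj K p ht

omit p [Fact p.Prime] [CharP K p] [Finite K] in
/-- a subring from an additive subgroup -/
def toSubring (A : AddSubgroup K) (h1 : 1 ∈ A) (hm : ∀ a ∈ A, ∀ b ∈ A, a * b ∈ A) : Subring K where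
  __ := A
  one_mem' := h1
  mul_mem' := fun ha hb => hm _ ha _ hb

/-- a subgroup of `A × A` containing the `(c t, c t²)` and `(1, 0)` contains `A × 0` -/
theorem fst_mem_of_sq (A : Subring K) (E : AddSubgroup (K × K)) (h1 : (1, 0) ∈ E)
    (h : ∀ c ∈ A, ∀ t ∈ A, (c * t, c * t ^ 2) ∈ E) {x : K} (hx : x ∈ A) : (x, 0) ∈ E := by
  rcases eq_or_ne x 0 with rfl | h0
  · exact E.zero_mem
  rcases eq_or_ne x 1 with rfl | h2
  · exact h1
  have key : ∀ x ∈ A, x ≠ 0 → (x, 1) ∈ E := fun x hx h0 => by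
    convert h _ (A.mul_mem hx hx) _ (inv_mem_subring p A hx) using 2 <;> field_simp
  have := E.add_mem (E.sub_mem (key _ (A.sub_mem hx A.one_mem) (sub_ne_zero.2 h2)) (key 1 A.one_mem one_ne_zero))
    (E.add_mem h1 h1)
  convert this using 1
  ext <;> simp

end Fld

namespace Cert

variable (C : Cert) (n l : ℕ)

def hgt (r : ℕ) : ℤ := sumLt l (C.co r)

def chkTop : Bool := allLt (n - 1) fun r => ineg (C.hgt l r - C.hgt l (n - 1))

def chkDom : Bool := allLt n fun r => !(C.dom1 l r) || allLt n fun s =>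
  !(C.dom1 l s) || !(Nat.beq (C.len r) (C.len s)) || Nat.beq r s

def okHead (ok : List ℤ) (f : List (ℕ × ℤ × ℕ × ℕ)) : Bool := List.rec false (fun c _ _ => ok.any (ieq c.2.1)) f

def chkChn (ok : List ℤ) (Z : List ℕ) : Bool :=
  (posL n).all fun r => lmem r Z || (posL n).any fun s => okHead ok (C.fct n r s)

def chkTr (r : ℕ) (L : List ℕ) : Bool := allLt n fun s => ineg (C.hgt l s - C.hgt l r) || Nat.beq s r || lmem s L

end Cert

variable {D : ChevalleyDatum} [Good D] {K G : Type*} [Field K] [Group G] {S : StData (rootSys D) K G} {H : Subgroup G}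

theorem rootSys_ht' (r : Rt D) : (rootSys D).ht r = (Good.C D).hgt D.rank r := (sumLt_eq _ _).symm

/-- the highest root -/
def topR (D : ChevalleyDatum) [Good D] : Rt D := ⟨D.nroots - 1, by have := (instNonemptyRt (D := D)).some.2; omega⟩

theorem ht_lt_top (h : (Good.C D).chkTop D.nroots D.rank = true) (s : Rt D) (hs : s ≠ topR D) :
    (rootSys D).ht s < (rootSys D).ht (topR D) := by
  have h1 : s.val < D.nroots - 1 := lt_of_le_of_ne (by have := s.2; omega) fun e => hs (Fin.ext e)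
  have := (ineg_iff _).1 ((allLt_iff _ _).1 h s h1)
  rw [rootSys_ht', rootSys_ht']
  change _ < (Good.C D).hgt D.rank (D.nroots - 1)
  omega

theorem eq_of_chkDom (h : (Good.C D).chkDom D.nroots D.rank = true) (r s : Rt D) (hr : ∀ i, 0 ≤ (rootSys D).wt r i)
    (hs : ∀ i, 0 ≤ (rootSys D).wt s i) (e : (rootSys D).len r = (rootSys D).len s) : r = s := by
  have key : ∀ r : Rt D, (∀ i, 0 ≤ (rootSys D).wt r i) → (Good.C D).dom1 D.rank r = true := fun r hr =>
    (allLt_iff _ _).2 fun i hi => by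
      have := hr ⟨i, hi⟩
      rw [rootSys_wt'] at this
      rw [Bool.not_eq_true', ← Bool.not_eq_true, ineg_iff]
      exact not_lt.2 this
  have h1 := (allLt_iff _ _).1 h r r.2
  rw [key r hr, Bool.not_true, Bool.false_or] at h1
  have h2 := (allLt_iff _ _).1 h1 s s.2
  have h3 : (Good.C D).len r = (Good.C D).len s := Nat.cast_injective (R := ℤ) e
  rw [key s hs, h3, Nat.beq_refl] at h2
  exact Fin.ext (Nat.eq_of_beq_eq_true h2)

theorem Tr_subset {r : Rt D} {L : List ℕ} (h : (Good.C D).chkTr D.nroots D.rank r L = true) :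
    (rootSys D).Tr r ⊆ setL D L := fun s hs => by
  have := (allLt_iff _ _).1 h s s.2
  simp only [Bool.or_eq_true, ineg_iff, lmem_iff, ← rootSys_ht'] at this
  rcases this with (e | e) | e
  · have := hs.1; omega
  · exact absurd (Fin.ext (Nat.eq_of_beq_eq_true e)) hs.2
  · exact e

theorem ExactComm.lead (hS : ExactComm S.x) {r s : Rt D} (hr : (rootSys D).IsPos r) (hs : (rootSys D).IsPos s)
    {ok : List ℤ} (h : Cert.okHead ok ((Good.C D).fct D.nroots r s) = true) :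
    ∃ k, (rootSys D).rt k = (rootSys D).rt r + (rootSys D).rt s ∧ k.val = (Good.C D).add r s ∧ ∃ c ∈ ok, ∀ t u,
      ∃ z ∈ S.XS ((rootSys D).Tr k), (S.x s u)⁻¹ * (S.x r t)⁻¹ * S.x s u * S.x r t = S.x k (c * -t * u) * z := by
  obtain ⟨k, hk⟩ : ∃ k : Rt D, co k = co r + co s := by
    by_contra e
    rw [← cterms_map_fct, cterms_eq_nil r s fun k hk => e ⟨k, hk⟩] at h
    exact absurd h (by simp [Cert.okHead])
  obtain ⟨l, e, hl⟩ := cterms_head r s k hk
  rw [← cterms_map_fct, e] at h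
  obtain ⟨c, hc, h2⟩ := List.any_eq_true.1 h
  have h3 : s ≠ r := by rintro rfl; rw [cterms_self] at e; exact absurd e (by simp)
  refine ⟨k, hk, (add_eq_of_coN r.2 s.2 k.2 hk).symm, c, hc, fun t u => ⟨(l.map fun c =>
    S.x c.1 ((c.2.1 : K) * (-t) ^ c.2.2.1 * u ^ c.2.2.2)).prod, list_prod_mem fun g hg => ?_, ?_⟩⟩
  · obtain ⟨a, ha, rfl⟩ := List.mem_map.1 hg
    have h4 := cterms_spec r s a (e ▸ List.mem_cons_of_mem _ ha)
    have h5 := congrArg RootSys.htL h4.2.2
    have h6 := congrArg RootSys.htL hk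
    have h7 := hl a ha
    simp only [map_add, map_zsmul, ← rootSys_rt, RootSys.htL_rt, smul_eq_mul] at h5 h6
    have h8 : 0 < (rootSys D).ht r := hr
    have h9 : 0 < (rootSys D).ht s := hs
    have h10 : (rootSys D).ht k < (rootSys D).ht a.1 := by
      have i1 : (1 : ℤ) ≤ a.2.2.1 := by exact_mod_cast h4.1
      have i2 : (1 : ℤ) ≤ a.2.2.2 := by exact_mod_cast h4.2.1
      have i3 : (3 : ℤ) ≤ a.2.2.1 + a.2.2.2 := by exact_mod_cast h7
      rcases i1.lt_or_eq with i4 | i4 <;> nlinarith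
    exact S.x_mem_XS (And.intro h10.le fun e => by rw [e] at h10; omega) _
  · rw [hS.comm_eq h3 (((rootSys D).nilp_pos fun _ h => h).ne_neg hr hs), cprod, e, ← (ieq_iff _ _).1 h2]
    simp

theorem ExactComm.chain (hS : ExactComm S.x) {p : ℕ} [Fact p.Prime] [CharP K p] (h1 : ∀ r, S.x r 1 ∈ H) {ok : List ℤ}
    {Z : List ℕ} (h : (Good.C D).chkChn D.nroots ok Z = true) (hok : ∀ c ∈ ok, (c : K) ≠ 0) (A : AddSubgroup K)
    (hZ : ∀ r : Rt D, r.val ∈ Z → ∀ t, S.Lv H r t → t ∈ A) {r : Rt D} (hr : (rootSys D).IsPos r) {t : K}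
    (ht : S.Lv H r t) : t ∈ A := by
  by_contra e
  obtain ⟨r, ⟨hr, t, ht, e⟩, hmax⟩ := Set.exists_max_image {r | (rootSys D).IsPos r ∧ ∃ t, S.Lv H r t ∧ t ∉ A}
    (rootSys D).ht (Set.toFinite _) ⟨r, hr, t, ht, e⟩
  rcases Bool.or_eq_true_iff.1 (List.all_eq_true.1 h _ (isPos_iff_mem_posL.1 hr)) with h2 | h2
  · exact e (hZ r (lmem_iff.1 h2) t ht)
  obtain ⟨s, hs, h3⟩ := List.any_eq_true.1 h2
  have hs' : s < D.nroots := by
    have := two_mul_half (D := D)
    rw [posL, List.mem_range'_1] at hs; omega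
  have hs'' := (isPos_iff_mem_posL (r := ⟨s, hs'⟩)).2 hs
  obtain ⟨k, hk, -, c, hc, h4⟩ := hS.lead (s := ⟨s, hs'⟩) hr hs'' h3
  have h5 := ht.step hr hs'' hk (h4 t 1) (one_mem _) (by rw [mul_one]; exact h1 _)
  have h6 := congrArg RootSys.htL hk
  simp only [map_add, RootSys.htL_rt] at h6
  have h7 : 0 < (rootSys D).ht r := hr
  have h8 : 0 < (rootSys D).ht ⟨s, hs'⟩ := hs''
  refine absurd (hmax k ⟨show 0 < _ by omega, _, h5, fun h9 => e ?_⟩) (by omega)
  rw [mul_one] at h9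
  exact A.neg_mem_iff.1 (mem_of_int_mul_mem p A (hok c hc) h9)

theorem ExactComm.fct_mem (hS : ExactComm S.x) {r s : Rt D} (h1 : s ≠ r) (h2 : s ≠ ng r) {L : List (ℕ × ℤ × ℕ × ℕ)}
    (hL : leq eqT ((Good.C D).fct D.nroots r s) L = true) {t u : K} (ht : S.x r t ∈ H) (hu : S.x s u ∈ H) :
    (L.map (evT S.x t u)).prod ∈ H := by
  rw [← leq_eq eqT eqT_eq _ _ hL, ← cprod_eq_fct, ← hS.comm_eq h1 h2]
  exact mul_mem (mul_mem (mul_mem (inv_mem hu) (inv_mem ht)) hu) ht

section Words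

/-- evaluation of a word -/
def evS (D : ChevalleyDatum) [Good D] (xs : List K) (w : List (ℕ × PE)) : D.group K :=
  (w.map fun a => xN (stG D K).x a.1 (a.2.ev xs)).prod

theorem evS_nil (xs : List K) : evS D xs [] = 1 := rfl

theorem evS_cons (xs : List K) (a : ℕ) (e : PE) (w : List (ℕ × PE)) :
    evS D xs ((a, e) :: w) = xN (stG D K).x a (e.ev xs) * evS D xs w := rfl

theorem evS_append (xs : List K) (w w' : List (ℕ × PE)) : evS D xs (w ++ w') = evS D xs w * evS D xs w' := by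
  simp [evS]

theorem xN_neg' (r : ℕ) (t : K) : xN S.x r (-t) = (xN S.x r t)⁻¹ := by
  unfold xN; split_ifs
  exacts [S.x_neg _ _, inv_one.symm]

def winv (w : List (ℕ × PE)) : List (ℕ × PE) := List.rec [] (fun a _ ih => ih ++ [(a.1, -a.2)]) w

theorem evS_winv (xs : List K) (w : List (ℕ × PE)) : evS D xs (winv w) = (evS D xs w)⁻¹ := by
  induction w with
  | nil => exact inv_one.symm
  | cons a w ih =>
    rw [show winv (a :: w) = winv w ++ [(a.1, -a.2)] from rfl, evS_append, ih, evS_cons, evS_cons, PE.ev_neg, xN_neg',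
      evS_nil, mul_one, mul_inv_rev]

/-- the product of the blocks `bs` selected by `ix` (odd indices: inverses) -/
def blocks (bs : List (List (ℕ × PE))) (ix : List ℕ) : List (ℕ × PE) :=
  ix.flatMap fun i => bif Nat.beq (i % 2) 0 then bs.getD (i / 2) [] else winv (bs.getD (i / 2) [])

theorem mem_of_blocks {p : ℕ} (hp : (p : K) = 0) (xs : List K) (hx : xs.length ≤ 12) {H : Subgroup (D.group K)}
    (w : List (ℕ × PE)) (bs : List (List (ℕ × PE))) (ix : List ℕ)
    (h : Mv.weq (Good.C D) D.nroots D.rank p w (blocks bs ix) = true) (hb : bs.Forall fun v => evS D xs v ∈ H) :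
    evS D xs w ∈ H := by
  have e := evG_eq_of_weqM hp xs hx h
  simp only [evG, List.map_map] at e
  change evS D xs w = evS D xs (blocks bs ix) at e
  rw [e]
  have h1 : ∀ i, evS D xs (bs.getD i []) ∈ H := fun i => by
    rcases lt_or_ge i bs.length with hi | hi
    · rw [List.getD_eq_getElem _ _ hi]; exact List.forall_iff_forall_mem.1 hb _ (List.getElem_mem hi)
    · rw [List.getD_eq_default _ _ hi]; exact one_mem _
  clear e h
  induction ix with
  | nil => exact one_mem _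
  | cons i ix ih =>
    rw [blocks, List.flatMap_cons, evS_append]
    refine mul_mem ?_ ih
    cases Nat.beq (i % 2) 0
    · rw [cond_false, evS_winv]; exact inv_mem (h1 _)
    · exact h1 _

end Words

end CL.Chev
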