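/-
CHEV library: homocyclic Sylow subgroups for primes not dividing the order of the Weyl group.
-/
import Cfsg.Agent.CHEV.SpecG2

set_option autoImplicit false
set_option backward.isDefEq.respectTransparency false

namespace CL.Chev

open Cfsg.Lie Matrix Polynomial

theorem padicValNat_pow_sub_one {r q n : ℕ} [hr : Fact r.Prime] (hq : 1 < q) (hn : ¬ r ∣ n) :
    padicValNat r (q ^ n - 1) =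
      if orderOf (q : ZMod r) ∣ n then padicValNat r ((cyclotomic (orderOf (q : ZMod r)) ℤ).eval (q : ℤ)).natAbs else 0 := by
  have h0 : 0 < n := Nat.pos_of_ne_zero (by rintro rfl; simp at hn)
  have h1 : q ^ n - 1 = ∏ e ∈ n.divisors, ((cyclotomic e ℤ).eval (q : ℤ)).natAbs := by
    rw [← Int.natAbs_natCast (_ - _), Nat.cast_sub (Nat.one_le_pow _ _ hq.le)]
    refine Eq.trans ?_ (map_prod Int.natAbsHom _ _)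
    rw [← eval_prod, prod_cyclotomic_eq_X_pow_sub_one h0]
    simp
  have h2 : q ^ n - 1 ≠ 0 := Nat.sub_ne_zero_of_lt (Nat.one_lt_pow h0.ne' hq)
  rw [← Nat.factorization_def _ hr.out, h1, Nat.factorization_prod (Finset.prod_ne_zero_iff.1 (h1 ▸ h2)),
    Finset.sum_apply', ← Nat.factorization_def _ hr.out]
  have h3 : ∀ e ∈ n.divisors, e ≠ orderOf (q : ZMod r) → ((cyclotomic e ℤ).eval (q : ℤ)).natAbs.factorization r = 0 :=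
    fun e he h => Nat.factorization_eq_zero_of_not_dvd fun h' => h (by
      have : NeZero (e : ZMod r) := ⟨fun h4 => hn (((ZMod.natCast_eq_zero_iff e r).1 h4).trans (Nat.dvd_of_mem_divisors he))⟩
      refine (isRoot_cyclotomic_iff.1 ?_).eq_orderOf
      rw [← map_cyclotomic_int, IsRoot, ← Int.cast_natCast, eval_intCast_map]
      exact (ZMod.intCast_zmod_eq_zero_iff_dvd _ r).2 (Int.natCast_dvd.2 h'))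
  split_ifs with h
  · exact Finset.sum_eq_single_of_mem _ (Nat.mem_divisors.2 ⟨h, h0.ne'⟩) h3
  · exact Finset.sum_eq_zero fun e he => h3 e he fun e' => h (e' ▸ Nat.dvd_of_mem_divisors he)

theorem padicValNat_prod_pow_sub_one {r q : ℕ} [hr : Fact r.Prime] (hq : 1 < q) {L : List ℕ} (hL : ¬ r ∣ L.prod) :
    (L.map fun n => q ^ n - 1).prod ≠ 0 ∧ padicValNat r (L.map fun n => q ^ n - 1).prod =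
      padicValNat r ((cyclotomic (orderOf (q : ZMod r)) ℤ).eval (q : ℤ)).natAbs *
        (L.filter (orderOf (q : ZMod r) ∣ ·)).length := by
  induction L with
  | nil => simp
  | cons n L ih =>
    have h1 : ¬ r ∣ n := fun h => hL (h.mul_right _)
    have h2 := ih fun h => hL (h.mul_left _)
    have h3 : q ^ n - 1 ≠ 0 := Nat.sub_ne_zero_of_lt (Nat.one_lt_pow (by rintro rfl; simp at h1) hq)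
    rw [List.map_cons, List.prod_cons, padicValNat.mul h3 h2.1, h2.2, padicValNat_pow_sub_one hq h1, List.filter_cons]
    refine ⟨mul_ne_zero h3 h2.1, ?_⟩
    by_cases h : orderOf (q : ZMod r) ∣ n <;> simp [h, mul_add, add_comm]

/-- the coefficients of the cyclotomic polynomials -/
def cyc : ℕ → List ℤ
  | 1 => [-1]
  | 2 => [1]
  | 3 => [1, 1]
  | 4 => [1, 0]
  | 5 => [1, 1, 1, 1]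
  | 6 => [1, -1]
  | 7 => [1, 1, 1, 1, 1, 1]
  | 8 => [1, 0, 0, 0]
  | 9 => [1, 0, 0, 1, 0, 0]
  | 10 => [1, -1, 1, -1]
  | 12 => [1, 0, -1, 0]
  | 14 => [1, -1, 1, -1, 1, -1]
  | 15 => [1, -1, 0, 1, -1, 1, 0, -1]
  | 18 => [1, 0, 0, -1, 0, 0]
  | 20 => [1, 0, -1, 0, 1, 0, -1, 0]
  | 24 => [1, 0, 0, 0, -1, 0, 0, 0]
  | 30 => [1, 1, 0, -1, -1, -1, 0, 1]
  | _ => []

theorem cyc_dvd : ∀ d ∈ [1, 2, 3, 4, 5, 6, 7, 8, 9, 10, 12, 14, 15, 18, 20, 24, 30], ∃ E : List ℕ, (∀ e ∈ E, 0 < e ∧ e < d) ∧ ∀ q : ℤ,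
    q ^ d - 1 ∣ (q ^ ((cyc d).length - 1 + 1) + evq q fun i : Fin ((cyc d).length - 1 + 1) => (cyc d).getD i 0) *
      (E.map fun e => q ^ e - 1).prod := by
  have h : ∀ (L : List ℤ) n q, evq q (fun i : Fin n => L.getD i 0) = ∑ i ∈ Finset.range n, L.getD i 0 * q ^ i :=
    fun L n q => Fin.sum_univ_eq_sum_range (fun i => L.getD i 0 * q ^ i) n
  simp only [List.forall_mem_cons, List.not_mem_nil, IsEmpty.forall_iff, implies_true, and_true, h]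
  exact ⟨⟨[], by simp, fun q => ⟨1, by simp [cyc, Finset.sum_range_succ]; try ring⟩⟩,
    ⟨[1], by simp, fun q => ⟨1, by simp [cyc, Finset.sum_range_succ]; try ring⟩⟩,
    ⟨[1], by simp, fun q => ⟨1, by simp [cyc, Finset.sum_range_succ]; try ring⟩⟩,
    ⟨[2], by simp, fun q => ⟨1, by simp [cyc, Finset.sum_range_succ]; try ring⟩⟩,
    ⟨[1], by simp, fun q => ⟨1, by simp [cyc, Finset.sum_range_succ]; try ring⟩⟩,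
    ⟨[2, 3], by simp, fun q => ⟨1 * (q ^ 1 - 1), by simp [cyc, Finset.sum_range_succ]; try ring⟩⟩,
    ⟨[1], by simp, fun q => ⟨1, by simp [cyc, Finset.sum_range_succ]; try ring⟩⟩,
    ⟨[4], by simp, fun q => ⟨1, by simp [cyc, Finset.sum_range_succ]; try ring⟩⟩,
    ⟨[3], by simp, fun q => ⟨1, by simp [cyc, Finset.sum_range_succ]; try ring⟩⟩,
    ⟨[2, 5], by simp, fun q => ⟨1 * (q ^ 1 - 1), by simp [cyc, Finset.sum_range_succ]; try ring⟩⟩,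
    ⟨[4, 6], by simp, fun q => ⟨1 * (q ^ 2 - 1), by simp [cyc, Finset.sum_range_succ]; try ring⟩⟩,
    ⟨[2, 7], by simp, fun q => ⟨1 * (q ^ 1 - 1), by simp [cyc, Finset.sum_range_succ]; try ring⟩⟩,
    ⟨[3, 5], by simp, fun q => ⟨1 * (q ^ 1 - 1), by simp [cyc, Finset.sum_range_succ]; try ring⟩⟩,
    ⟨[6, 9], by simp, fun q => ⟨1 * (q ^ 3 - 1), by simp [cyc, Finset.sum_range_succ]; try ring⟩⟩,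
    ⟨[4, 10], by simp, fun q => ⟨1 * (q ^ 2 - 1), by simp [cyc, Finset.sum_range_succ]; try ring⟩⟩,
    ⟨[8, 12], by simp, fun q => ⟨1 * (q ^ 4 - 1), by simp [cyc, Finset.sum_range_succ]; try ring⟩⟩,
    ⟨[1, 6, 10, 15], by simp, fun q => ⟨1 * (q ^ 2 - 1) * (q ^ 3 - 1) * (q ^ 5 - 1), by simp [cyc, Finset.sum_range_succ]; try ring⟩⟩⟩

/-- data for a homocyclic subgroup of a maximal torus -/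
structure HD (n : ℕ) where
  d : ℕ
  a : ℕ
  c : ℕ
  l : List (Fin n)
  M : List (List ℤ)
  P : List (List (List ℤ))
  x : List (List ℤ)

def matL (m n : ℕ) (L : List (List ℤ)) : Matrix (Fin m) (Fin n) ℤ := of fun i j => (L.getD i []).getD j 0

variable (D : ChevalleyDatum) [Good D]

def HD.Ok (T : HD D.rank) : Prop := corM (piL T.l) = matL _ _ T.M ∧ ∀ j : Fin T.a,
  matL _ D.rank (T.P.getD j []) * matL D.rank D.rank T.M =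
    compM (fun i : Fin ((cyc T.d).length - 1 + 1) => (cyc T.d).getD i 0) * matL _ _ (T.P.getD j []) ∧
  ∀ k : Fin T.a, matL ((cyc T.d).length - 1 + 1) D.rank (T.P.getD j []) *ᵥ (cartanMat D *ᵥ fun i => (T.x.getD k []).getD i 0) =
    Pi.single 0 (if j = k then (T.c : ℤ) else 0)

def HD.All (degs : List ℕ) (L : List (HD D.rank)) : Prop := ∀ e ∈ degs, 0 < e ∧ ∀ d ∈ List.range (e + 1), d ∣ e →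
  ∃ T ∈ L, T.d = d ∧ d ∈ [1, 2, 3, 4, 5, 6, 7, 8, 9, 10, 12, 14, 15, 18, 20, 24, 30] ∧
    T.a = (degs.filter (d ∣ ·)).length ∧ T.c ∣ degs.prod ∧ T.Ok D

instance (degs : List ℕ) (L : List (HD D.rank)) : Decidable (HD.All D degs L) := by unfold HD.All HD.Ok; infer_instance

def hdG2 : List (HD 2) := [
  ⟨1, 2, 1, [], [[1, 0], [0, 1]],
    [[[1, 0]], [[0, 1]]],
    [[2, 1], [3, 2]]⟩,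
  ⟨2, 2, 1, [1, 0, 1, 0, 1, 0], [[-1, 0], [0, -1]],
    [[[1, 0]], [[0, 1]]],
    [[2, 1], [3, 2]]⟩,
  ⟨3, 1, 1, [0, 1, 0, 1], [[1, 3], [-1, -2]],
    [[[1, 1], [0, -1]]],
    [[2, 1]]⟩,
  ⟨6, 1, 1, [1, 0], [[-1, -3], [1, 2]],
    [[[-1, -1], [0, -1]]],
    [[-2, -1]]⟩]

def hdB2 : List (HD 2) := [
  ⟨1, 2, 2, [], [[1, 0], [0, 1]],
    [[[1, 0]], [[0, 1]]],
    [[2, 1], [2, 2]]⟩,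
  ⟨2, 2, 2, [1, 0, 1, 0], [[-1, 0], [0, -1]],
    [[[1, 0]], [[0, 1]]],
    [[2, 1], [2, 2]]⟩,
  ⟨4, 1, 2, [1, 0], [[-1, -2], [1, 1]],
    [[[0, 1], [-1, -1]]],
    [[0, 1]]⟩]

def hdD4 : List (HD 4) := [
  ⟨1, 4, 2, [], [[1, 0, 0, 0], [0, 1, 0, 0], [0, 0, 1, 0], [0, 0, 0, 1]],
    [[[1, 0, 0, 0]], [[0, 1, 0, 0]], [[0, 0, 1, 0]], [[0, 0, 0, 1]]],
    [[2, 2, 1, 1], [2, 4, 2, 2], [1, 2, 2, 1], [1, 2, 1, 2]]⟩,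
  ⟨2, 4, 2, [3, 1, 2, 0, 1, 3, 0, 1, 2, 0, 1, 0], [[-1, 0, 0, 0], [0, -1, 0, 0], [0, 0, -1, 0], [0, 0, 0, -1]],
    [[[1, 0, 0, 0]], [[0, 1, 0, 0]], [[0, 0, 1, 0]], [[0, 0, 0, 1]]],
    [[2, 2, 1, 1], [2, 4, 2, 2], [1, 2, 2, 1], [1, 2, 1, 2]]⟩,
  ⟨3, 1, 1, [2, 1], [[1, 1, 1, 0], [0, -1, -1, 0], [0, 1, 0, 0], [0, 1, 1, 1]],
    [[[0, 1, 1, 0], [0, 0, 1, 0]]],
    [[-1, 0, 0, 0]]⟩,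
  ⟨4, 2, 2, [2, 1, 3, 0, 1, 0], [[0, 0, 0, -1], [-1, -1, -1, 0], [1, 2, 1, 1], [1, 0, 0, 0]],
    [[[0, 0, 0, -1], [1, 0, 0, 0]], [[0, -1, 0, -1], [0, -1, -1, 0]]],
    [[0, 0, -1, -1], [-1, -2, 0, -1]]⟩,
  ⟨6, 1, 1, [1, 3, 2, 0], [[-1, -1, 0, 0], [1, 2, 1, 1], [0, -1, -1, 0], [0, -1, 0, -1]],
    [[[1, 1, 1, 1], [0, 1, 0, 0]]],
    [[2, 1, 0, 0]]⟩]

def hdF4 : List (HD 4) := [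
  ⟨1, 4, 1, [], [[1, 0, 0, 0], [0, 1, 0, 0], [0, 0, 1, 0], [0, 0, 0, 1]],
    [[[1, 0, 0, 0]], [[0, 1, 0, 0]], [[0, 0, 1, 0]], [[0, 0, 0, 1]]],
    [[2, 3, 2, 1], [3, 6, 4, 2], [4, 8, 6, 3], [2, 4, 3, 2]]⟩,
  ⟨2, 4, 1, [3, 2, 1, 2, 0, 1, 2, 3, 2, 1, 2, 0, 1, 2, 3, 2, 1, 2, 0, 1, 2, 0, 1, 0], [[-1, 0, 0, 0], [0, -1, 0, 0], [0, 0, -1, 0], [0, 0, 0, -1]],
    [[[1, 0, 0, 0]], [[0, 1, 0, 0]], [[0, 0, 1, 0]], [[0, 0, 0, 1]]],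
    [[2, 3, 2, 1], [3, 6, 4, 2], [4, 8, 6, 3], [2, 4, 3, 2]]⟩,
  ⟨3, 2, 1, [0, 1, 2, 3, 2, 1, 2, 0, 1, 2, 3, 1, 2, 0, 1, 2], [[0, 1, 2, 2], [1, 1, 2, 0], [-1, -2, -3, -1], [0, 1, 1, 0]],
    [[[-1, -1, -2, -2], [-1, 0, 0, 0]], [[0, 0, 0, -1], [0, 1, 1, 0]]],
    [[-1, -2, -2, -1], [0, 0, 1, 0]]⟩,
  ⟨4, 2, 1, [3, 2, 0, 1, 2, 3, 2, 0, 1, 2, 0, 1], [[1, 2, 2, 2], [-2, -3, -4, -2], [1, 1, 1, 0], [0, 1, 2, 1]],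
    [[[1, 2, 3, 1], [0, 0, 1, 1]], [[-1, -1, -1, 0], [0, 0, -1, 0]]],
    [[1, 3, 2, 1], [-1, 0, 0, 0]]⟩,
  ⟨6, 2, 1, [2, 3, 2, 1, 2, 0, 1, 0], [[0, -1, -2, 0], [-1, -1, -2, -2], [1, 1, 2, 1], [0, 1, 1, 1]],
    [[[-1, -2, -3, 0], [1, 0, 0, -1]], [[0, -1, -1, 0], [0, 0, 0, -1]]],
    [[-1, -2, -2, -1], [-1, -2, 0, 0]]⟩,
  ⟨8, 1, 1, [1, 2, 3, 0, 1, 2], [[0, 1, 2, 0], [1, 2, 2, 2], [-1, -2, -2, -1], [1, 1, 1, 0]],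
    [[[0, 1, 1, 0], [0, -1, -2, -1], [-1, -1, -1, 0], [0, 0, 0, -1]]],
    [[0, 1, 0, 0]]⟩,
  ⟨12, 1, 1, [2, 3, 0, 1], [[0, 1, 2, 0], [-1, -1, -2, 0], [1, 1, 2, 1], [0, 0, -1, -1]],
    [[[0, 0, 0, 1], [0, 1, 1, 0], [1, 1, 1, 0], [0, 0, 1, 1]]],
    [[1, 2, 1, 1]]⟩]

def hdE6 : List (HD 6) := [
  ⟨1, 6, 3, [], [[1, 0, 0, 0, 0, 0], [0, 1, 0, 0, 0, 0], [0, 0, 1, 0, 0, 0], [0, 0, 0, 1, 0, 0], [0, 0, 0, 0, 1, 0], [0, 0, 0, 0, 0, 1]],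
    [[[1, 0, 0, 0, 0, 0]], [[0, 1, 0, 0, 0, 0]], [[0, 0, 1, 0, 0, 0]], [[0, 0, 0, 1, 0, 0]], [[0, 0, 0, 0, 1, 0]], [[0, 0, 0, 0, 0, 1]]],
    [[4, 3, 5, 6, 4, 2], [3, 6, 6, 9, 6, 3], [5, 6, 10, 12, 8, 4], [6, 9, 12, 18, 12, 6], [4, 6, 8, 12, 10, 5], [2, 3, 4, 6, 5, 4]]⟩,
  ⟨2, 4, 1, [4, 3, 2, 1, 3, 4, 3, 2, 1, 3, 2, 1], [[1, 1, 2, 2, 1, 0], [0, -1, 0, 0, 0, 0], [0, 0, -1, 0, 0, 0], [0, 0, 0, -1, 0, 0], [0, 0, 0, 0, -1, 0], [0, 1, 1, 2, 2, 1]],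
    [[[0, 0, 1, 0, 0, 0]], [[0, 0, 0, 1, 0, 0]], [[0, 0, 0, 0, 1, 0]], [[0, 1, 0, 0, 0, 0]]],
    [[-1, 0, 0, 0, 0, 0], [-6, -1, -4, -2, 0, 2], [-8, -2, -6, -4, 0, 3], [-3, 0, -2, -1, 0, 1]]⟩,
  ⟨3, 3, 3, [3, 4, 5, 1, 3, 4, 2, 3, 0, 2, 1, 3, 4, 5, 3, 2, 1, 3, 4, 2, 3, 0, 2, 1], [[0, 1, 1, 1, 0, 0], [-1, -1, -1, -1, -1, 0], [-1, -1, -2, -2, -1, -1], [1, 1, 2, 2, 2, 1], [0, 0, -1, -1, -1, 0], [0, -1, 0, -1, -1, -1]],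
    [[[-1, -1, -2, -3, -2, -1], [0, 0, 0, -1, 0, 0]], [[1, 0, 1, 1, 1, 0], [0, -1, 0, 0, 0, 0]], [[0, -1, 0, -1, -1, 0], [0, 0, 0, 0, 0, 1]]],
    [[-1, -3, -5, -6, -4, -2], [3, 0, 0, 0, 0, 0], [1, 0, 2, 0, -2, -1]]⟩,
  ⟨4, 2, 1, [3, 4, 1, 3, 2, 1], [[1, 1, 1, 2, 1, 0], [0, 0, 0, 0, -1, 0], [0, -1, -1, -2, -1, 0], [0, 0, 1, 1, 1, 0], [0, 1, 0, 0, 0, 0], [0, 0, 0, 1, 1, 1]],
    [[[0, 0, 0, 0, -1, 0], [0, 1, 0, 0, 0, 0]], [[0, 0, -1, -1, -1, 0], [0, 0, 0, -1, 0, 0]]],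
    [[-1, 0, 0, 0, 0, 1], [1, 0, 0, 0, 0, 0]]⟩,
  ⟨5, 1, 1, [3, 0, 2, 1], [[0, 0, 1, 1, 0, 0], [0, -1, 0, -1, 0, 0], [-1, 0, -1, -1, 0, 0], [1, 1, 1, 1, 0, 0], [0, 0, 0, 1, 1, 0], [0, 0, 0, 0, 0, 1]],
    [[[1, -1, 0, -1, 0, 0], [0, 0, -1, -1, 0, 0], [0, -1, 0, -1, 0, 0], [1, 0, 0, -1, 0, 0]]],
    [[0, -1, -1, -1, -1, 0]]⟩,
  ⟨6, 2, 1, [2, 3, 4, 5, 3, 4, 0, 2, 1, 3, 1, 0], [[0, 0, 0, -1, -1, 0], [-1, 0, -1, -1, -1, -1], [0, 1, 1, 2, 2, 1], [0, -1, -1, -1, -1, 0], [1, 1, 2, 2, 1, 0], [0, 0, -1, -1, 0, 0]],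
    [[[1, 1, 1, 1, 1, 1], [0, -1, 0, 0, 0, 0]], [[-1, -1, -1, -2, -1, -1], [0, 0, -1, -1, -1, 0]]],
    [[1, 0, 1, 0, 0, 0], [-1, -1, -2, -2, 0, 0]]⟩,
  ⟨8, 1, 1, [2, 3, 4, 5, 1, 3, 0], [[-1, 0, -1, 0, 0, 0], [0, 0, 0, 0, 1, 0], [1, 1, 2, 2, 1, 0], [0, -1, -1, -1, -1, 0], [0, 1, 1, 1, 1, 1], [0, 0, -1, -1, -1, -1]],
    [[[0, 0, 0, 1, 1, 0], [1, 1, 1, 1, 0, 0], [0, 0, 1, 1, 1, 1], [0, 0, 0, 0, 0, -1]]],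
    [[1, -1, 0, 0, 0, 0]]⟩,
  ⟨9, 1, 3, [3, 4, 5, 2, 3, 4, 1, 0], [[-1, 0, -1, -1, 0, 0], [0, -1, -1, -2, -1, 0], [1, 0, 1, 1, 1, 0], [0, 1, 1, 2, 1, 1], [0, 0, -1, -1, -1, -1], [0, 0, 1, 0, 0, 0]],
    [[[0, -1, -1, -1, -1, 0], [-1, 0, -1, -1, -1, -1], [0, -1, -1, -1, 0, 0], [0, -1, -1, -2, -2, -1], [-1, 0, -1, -1, 0, 0], [1, 0, 0, 0, 0, 0]]],
    [[-1, 0, -2, 0, -1, 1]]⟩,
  ⟨12, 1, 1, [3, 4, 5, 2, 1, 0], [[-1, 0, -1, -1, 0, 0], [0, -1, 0, -1, 0, 0], [1, 0, 0, 0, 0, 0], [0, 1, 1, 2, 1, 0], [0, 0, 0, 0, 0, 1], [0, 0, 0, -1, -1, -1]],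
    [[[0, 1, 0, 0, 0, 0], [1, 0, 1, 1, 1, 1], [0, 0, 1, 1, 1, 0], [0, 1, 0, 1, 0, 0]]],
    [[1, 1, 2, 1, 0, 0]]⟩]

def hdE7 : List (HD 7) := [
  ⟨1, 7, 2, [], [[1, 0, 0, 0, 0, 0, 0], [0, 1, 0, 0, 0, 0, 0], [0, 0, 1, 0, 0, 0, 0], [0, 0, 0, 1, 0, 0, 0], [0, 0, 0, 0, 1, 0, 0], [0, 0, 0, 0, 0, 1, 0], [0, 0, 0, 0, 0, 0, 1]],
    [[[1, 0, 0, 0, 0, 0, 0]], [[0, 1, 0, 0, 0, 0, 0]], [[0, 0, 1, 0, 0, 0, 0]], [[0, 0, 0, 1, 0, 0, 0]], [[0, 0, 0, 0, 1, 0, 0]], [[0, 0, 0, 0, 0, 1, 0]], [[0, 0, 0, 0, 0, 0, 1]]],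
    [[4, 4, 6, 8, 6, 4, 2], [4, 7, 8, 12, 9, 6, 3], [6, 8, 12, 16, 12, 8, 4], [8, 12, 16, 24, 18, 12, 6], [6, 9, 12, 18, 15, 10, 5], [4, 6, 8, 12, 10, 8, 4], [2, 3, 4, 6, 5, 4, 3]]⟩,
  ⟨2, 7, 2, [6, 5, 4, 3, 2, 1, 3, 4, 5, 6, 0, 2, 3, 4, 5, 1, 3, 4, 2, 3, 0, 2, 1, 3, 4, 5, 6, 0, 2, 3, 4, 5, 1, 3, 4, 2, 3, 0, 2, 1, 3, 4, 5, 1, 3, 4, 2, 3, 0, 2, 1, 3, 4, 2, 3, 0, 2, 1, 3, 0, 2, 1, 0], [[-1, 0, 0, 0, 0, 0, 0], [0, -1, 0, 0, 0, 0, 0], [0, 0, -1, 0, 0, 0, 0], [0, 0, 0, -1, 0, 0, 0], [0, 0, 0, 0, -1, 0, 0], [0, 0, 0, 0, 0, -1, 0], [0, 0, 0, 0, 0, 0, -1]],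
    [[[1, 0, 0, 0, 0, 0, 0]], [[0, 1, 0, 0, 0, 0, 0]], [[0, 0, 1, 0, 0, 0, 0]], [[0, 0, 0, 1, 0, 0, 0]], [[0, 0, 0, 0, 1, 0, 0]], [[0, 0, 0, 0, 0, 1, 0]], [[0, 0, 0, 0, 0, 0, 1]]],
    [[4, 4, 6, 8, 6, 4, 2], [4, 7, 8, 12, 9, 6, 3], [6, 8, 12, 16, 12, 8, 4], [8, 12, 16, 24, 18, 12, 6], [6, 9, 12, 18, 15, 10, 5], [4, 6, 8, 12, 10, 8, 4], [2, 3, 4, 6, 5, 4, 3]]⟩,
  ⟨3, 3, 1, [2, 1, 3, 4, 5, 6, 0, 2, 3, 4, 5, 1, 3, 4, 2, 3, 0, 2, 1, 3, 4, 5, 6, 4, 5, 1, 3, 4, 2, 3, 0, 2, 1, 3, 4, 5, 2, 3, 4, 0], [[-1, 0, -1, -1, -1, 0, 0], [0, 0, 1, 1, 1, 1, 1], [1, 0, 1, 1, 1, 1, 0], [0, 1, 0, 1, 1, 0, 0], [0, -1, -1, -2, -2, -1, 0], [-1, -1, -1, -2, -1, -1, -1], [0, 0, 0, 1, 0, 0, 0]],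
    [[[0, -1, 0, -1, -1, 0, 1], [0, 0, 0, -1, 0, 0, 1]], [[0, 0, 1, 1, 1, 0, 0], [-1, 0, 0, 0, 0, 0, 0]], [[0, 1, 1, 1, 1, 1, 1], [0, 1, 0, 0, 0, 0, 0]]],
    [[0, 0, 0, 0, -1, -1, 0], [1, 1, 2, 2, 1, 0, 0], [2, 1, 4, 2, 3, 4, 0]]⟩,
  ⟨4, 2, 1, [2, 1, 3, 4, 1, 3, 2, 0], [[-1, -1, -2, -2, -1, 0, 0], [0, 0, 0, 0, 1, 0, 0], [1, 0, 1, 0, 0, 0, 0], [0, 1, 0, 1, 0, 0, 0], [0, -1, 0, 0, 0, 0, 0], [0, 1, 1, 1, 1, 1, 0], [0, 0, 0, 0, 0, 0, 1]],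
    [[[-1, -1, -1, -1, 0, 0, 0], [0, 0, -1, -1, 0, 0, 0]], [[0, 0, 0, 0, -1, 0, 0], [0, -1, 0, 0, 0, 0, 0]]],
    [[-1, 0, -1, 0, 0, 0, 0], [0, 0, 0, 0, 0, 1, 0]]⟩,
  ⟨5, 1, 1, [3, 4, 5, 2], [[1, 0, 1, 1, 0, 0, 0], [0, 1, 0, 1, 0, 0, 0], [0, 0, -1, -1, 0, 0, 0], [0, 0, 1, 1, 1, 0, 0], [0, 0, 0, 0, 0, 1, 0], [0, 0, 0, -1, -1, -1, 0], [0, 0, 0, 1, 1, 1, 1]],
    [[[0, 0, 1, 1, 0, 0, 0], [0, 0, 0, 1, 0, 0, 0], [0, 0, 0, 0, -1, -1, 0], [0, 0, 0, 0, -1, 0, 0]]],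
    [[-1, 0, 0, 0, 0, 0, 0]]⟩,
  ⟨6, 3, 1, [4, 2, 3, 0, 2, 1, 3, 4, 5, 6, 2, 1, 3, 4, 5, 3, 4, 0, 2, 1, 3], [[1, 0, 1, 1, 1, 1, 0], [1, 1, 1, 2, 2, 1, 1], [0, 1, 1, 1, 1, 1, 1], [-1, -2, -2, -3, -3, -2, -1], [1, 2, 2, 3, 2, 1, 0], [-1, -1, -1, -1, 0, 0, 0], [0, 0, -1, -1, -1, 0, 0]],
    [[[1, 0, -1, 0, 0, 0, 0], [-1, 1, 0, 0, 0, 0, 1]], [[0, 1, 0, 1, 1, 1, 1], [0, 0, 1, 0, 0, 0, 0]], [[-1, -2, -2, -4, -3, -2, -1], [0, 0, 0, 1, 0, 0, 0]]],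
    [[1, 1, 1, 1, 0, 0, 0], [0, 1, 0, 0, -1, 2, 0], [-1, -2, -2, -3, -2, -1, 0]]⟩,
  ⟨7, 1, 1, [5, 6, 0, 2, 3, 4], [[0, 0, 1, 0, 0, 0, 0], [1, 1, 1, 1, 0, 0, 0], [0, 0, 0, 1, 0, 0, 0], [0, 0, 0, 0, 1, 1, 0], [-1, 0, -1, -1, -1, -1, 0], [1, 0, 1, 1, 1, 1, 1], [0, 0, 0, 0, 0, -1, -1]],
    [[[1, 0, 1, 1, 0, -1, 0], [1, 0, 1, 0, 0, 0, 1], [1, 0, 0, 0, 0, 0, 0], [0, 0, 0, 0, -1, -1, 0], [1, 0, 1, 0, 0, -1, 0], [1, 0, 0, 0, 0, 0, 1]]],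
    [[0, -1, 0, 0, 0, 0, 0]]⟩,
  ⟨8, 1, 1, [4, 5, 2, 1, 3], [[1, 0, 1, 0, 0, 0, 0], [0, 0, 1, 1, 1, 0, 0], [0, 1, 0, 1, 1, 0, 0], [0, -1, -1, -1, -1, 0, 0], [0, 1, 1, 1, 1, 1, 0], [0, 0, 0, 0, -1, -1, 0], [0, 0, 0, 0, 1, 1, 1]],
    [[[0, 1, 1, 1, 0, 0, 0], [0, 0, 0, 0, 1, 1, 0], [0, 0, 0, 0, 0, -1, 0], [0, 0, 0, -1, -1, 0, 0]]],
    [[-1, 0, 0, 0, 0, 0, 0]]⟩,
  ⟨9, 1, 1, [5, 6, 2, 3, 4, 5, 0, 2, 1, 3, 4, 3, 1, 0], [[0, 0, 0, -1, 0, 0, 0], [-1, 0, -1, -1, -1, -1, -1], [0, 1, 1, 2, 1, 1, 1], [1, 0, 1, 1, 1, 1, 0], [-1, -1, -2, -2, -1, -1, 0], [1, 1, 1, 1, 0, 0, 0], [0, 0, 1, 1, 1, 0, 0]],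
    [[[0, 0, 0, -1, -1, -1, 0], [0, -1, -1, -2, -1, 0, 0], [0, -1, -1, -1, -1, -1, -1], [-1, 0, -1, -1, -1, -1, 0], [0, 0, 0, -1, 0, 0, 0], [1, 0, 0, 0, 0, 0, 0]]],
    [[0, -1, 0, -1, -1, -1, 0]]⟩,
  ⟨10, 1, 1, [3, 4, 5, 6, 1, 3, 2, 0], [[-1, -1, -1, -2, -1, 0, 0], [0, 0, 0, 0, 1, 0, 0], [1, 0, 0, 0, 0, 0, 0], [0, 0, 1, 1, 0, 0, 0], [0, 1, 0, 1, 1, 1, 0], [0, 0, 0, 0, 0, 0, 1], [0, 0, 0, -1, -1, -1, -1]],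
    [[[0, 0, 0, 0, 0, -1, -1], [-1, 0, -1, -1, -1, 0, 1], [0, -1, -1, -1, 0, 0, -1], [0, 0, 0, -1, -1, -1, 0]]],
    [[0, 1, 0, 1, 1, 0, 0]]⟩,
  ⟨12, 1, 1, [5, 4, 1, 3, 2, 0], [[-1, -1, -1, -1, -1, -1, 0], [0, 0, 0, 1, 1, 1, 0], [1, 0, 0, 0, 0, 0, 0], [0, 0, 1, 0, 0, 0, 0], [0, 1, 0, 1, 0, 0, 0], [0, 0, 0, 0, 1, 0, 0], [0, 0, 0, 0, 0, 1, 1]],
    [[[-1, -1, -1, -1, 0, 0, 0], [0, 0, -1, -1, -1, 0, 0], [0, 0, 0, -1, -1, -1, 0], [0, -1, 0, 0, 0, 0, 0]]],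
    [[0, -1, -1, -2, 0, 0, 0]]⟩,
  ⟨14, 1, 1, [1, 3, 4, 5, 6, 2, 3, 0, 2, 1, 3, 4, 2], [[0, 0, 0, 1, 1, 0, 0], [1, 0, 0, 0, 0, 0, 0], [0, 0, 0, -1, 0, 0, 0], [0, 1, 1, 2, 1, 1, 0], [-1, -2, -2, -3, -2, -1, 0], [1, 2, 2, 3, 2, 1, 1], [0, -1, 0, -1, -1, -1, -1]],
    [[[0, 0, 0, 1, 1, 1, 1], [1, 1, 1, 1, 1, 0, -1], [0, 0, 0, 0, -1, 0, 1], [-1, 0, -1, -1, 0, 0, -1], [0, -1, 0, 0, -1, -1, 0], [0, 0, -1, -1, 0, 0, 0]]],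
    [[1, -1, 0, 0, 0, 2, 0]]⟩,
  ⟨18, 1, 1, [6, 5, 2, 3, 4, 1, 0], [[-1, 0, -1, 0, 0, 0, 0], [0, -1, -1, -1, 0, 0, 0], [1, 0, 1, 1, 0, 0, 0], [0, 1, 1, 1, 1, 1, 1], [0, 0, -1, -1, -1, -1, -1], [0, 0, 1, 1, 1, 0, 0], [0, 0, 0, 0, 0, 1, 0]],
    [[[1, 0, 1, 0, 0, 0, 0], [-1, 0, 0, 0, 0, 0, 0], [0, -1, -1, -1, -1, 0, 0], [-1, 0, -1, -1, -1, -1, 0], [0, -1, -1, -1, -1, -1, -1], [0, 0, 0, -1, 0, 0, 0]]],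
    [[0, -1, 0, -1, -1, -1, 0]]⟩]

def hdE8 : List (HD 8) := [
  ⟨1, 8, 1, [], [[1, 0, 0, 0, 0, 0, 0, 0], [0, 1, 0, 0, 0, 0, 0, 0], [0, 0, 1, 0, 0, 0, 0, 0], [0, 0, 0, 1, 0, 0, 0, 0], [0, 0, 0, 0, 1, 0, 0, 0], [0, 0, 0, 0, 0, 1, 0, 0], [0, 0, 0, 0, 0, 0, 1, 0], [0, 0, 0, 0, 0, 0, 0, 1]],
    [[[1, 0, 0, 0, 0, 0, 0, 0]], [[0, 1, 0, 0, 0, 0, 0, 0]], [[0, 0, 1, 0, 0, 0, 0, 0]], [[0, 0, 0, 1, 0, 0, 0, 0]], [[0, 0, 0, 0, 1, 0, 0, 0]], [[0, 0, 0, 0, 0, 1, 0, 0]], [[0, 0, 0, 0, 0, 0, 1, 0]], [[0, 0, 0, 0, 0, 0, 0, 1]]],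
    [[4, 5, 7, 10, 8, 6, 4, 2], [5, 8, 10, 15, 12, 9, 6, 3], [7, 10, 14, 20, 16, 12, 8, 4], [10, 15, 20, 30, 24, 18, 12, 6], [8, 12, 16, 24, 20, 15, 10, 5], [6, 9, 12, 18, 15, 12, 8, 4], [4, 6, 8, 12, 10, 8, 6, 3], [2, 3, 4, 6, 5, 4, 3, 2]]⟩,
  ⟨2, 8, 1, [7, 6, 5, 4, 3, 2, 1, 3, 4, 5, 6, 0, 2, 3, 4, 5, 1, 3, 4, 2, 3, 0, 2, 1, 3, 4, 5, 6, 7, 6, 5, 4, 3, 2, 1, 3, 4, 5, 6, 0, 2, 3, 4, 5, 1, 3, 4, 2, 3, 0, 2, 1, 3, 4, 5, 6, 7, 6, 5, 4, 3, 2, 1, 3, 4, 5, 6, 0, 2, 3, 4, 5, 1, 3, 4, 2, 3, 0, 2, 1, 3, 4, 5, 6, 0, 2, 3, 4, 5, 1, 3, 4, 2, 3, 0, 2, 1, 3, 4, 5, 1, 3, 4, 2, 3, 0, 2, 1, 3, 4, 2, 3, 0, 2, 1, 3, 0, 2, 1, 0], [[-1, 0, 0, 0, 0, 0, 0, 0], [0, -1, 0, 0, 0, 0, 0, 0], [0, 0, -1, 0, 0, 0, 0, 0], [0, 0, 0, -1, 0, 0, 0, 0], [0, 0, 0, 0, -1, 0, 0, 0], [0,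 0, 0, 0, 0, -1, 0, 0], [0, 0, 0, 0, 0, 0, -1, 0], [0, 0, 0, 0, 0, 0, 0, -1]],
    [[[1, 0, 0, 0, 0, 0, 0, 0]], [[0, 1, 0, 0, 0, 0, 0, 0]], [[0, 0, 1, 0, 0, 0, 0, 0]], [[0, 0, 0, 1, 0, 0, 0, 0]], [[0, 0, 0, 0, 1, 0, 0, 0]], [[0, 0, 0, 0, 0, 1, 0, 0]], [[0, 0, 0, 0, 0, 0, 1, 0]], [[0, 0, 0, 0, 0, 0, 0, 1]]],
    [[4, 5, 7, 10, 8, 6, 4, 2], [5, 8, 10, 15, 12, 9, 6, 3], [7, 10, 14, 20, 16, 12, 8, 4], [10, 15, 20, 30, 24, 18, 12, 6], [8, 12, 16, 24, 20, 15, 10, 5], [6, 9, 12, 18, 15, 12, 8, 4], [4, 6, 8, 12, 10, 8, 6, 3], [2, 3, 4, 6, 5, 4, 3, 2]]⟩,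
  ⟨3, 4, 1, [4, 3, 0, 2, 1, 3, 4, 5, 6, 7, 6, 5, 4, 3, 2, 1, 3, 4, 5, 6, 0, 2, 3, 4, 5, 1, 3, 4, 2, 3, 0, 2, 1, 3, 4, 5, 6, 7, 4, 5, 6, 0, 2, 3, 4, 5, 1, 3, 4, 2, 3, 0, 2, 1, 3, 4, 5, 6, 5, 1, 3, 4, 2, 3, 0, 2, 1, 3, 4, 5, 2, 3, 4, 3, 0, 2, 1, 3, 0, 2], [[0, 1, 1, 2, 1, 1, 1, 1], [1, 1, 2, 3, 2, 1, 1, 0], [-1, -2, -3, -4, -3, -2, -1, -1], [-1, -1, -1, -2, -1, -1, -1, 0], [2, 2, 3, 4, 3, 3, 2, 1], [-1, -1, -2, -3, -3, -3, -2, -1], [0, 0, 0, 1, 1, 1, 0, 0], [0, 1, 1, 1, 1, 1, 1, 0]],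
    [[[1, 2, 2, 4, 3, 2, 1, 1], [0, 0, -1, 0, 0, 0, 0, 0]], [[0, 0, 0, 1, 1, 1, 1, 0], [0, 0, 0, 0, 0, 0, 1, 0]], [[0, 0, 0, 1, 1, 1, 0, 1], [0, -1, -1, 0, 0, 0, 0, 0]], [[-2, -3, -4, -6, -5, -3, -3, -1], [0, -1, 0, 0, 0, 1, 0, 0]]],
    [[0, 1, 1, 2, 0, 0, 0, 0], [-2, -1, -2, -2, -1, -1, -1, -1], [0, 0, 0, 0, 1, 1, 1, 1], [-2, -2, -3, -4, -4, -3, -2, -1]]⟩,
  ⟨4, 4, 1, [7, 2, 3, 4, 5, 6, 0, 2, 3, 4, 5, 1, 3, 4, 2, 3, 0, 2, 1, 3, 4, 5, 6, 7, 2, 1, 3, 4, 5, 6, 0, 2, 3, 4, 5, 1, 3, 4, 2, 3, 0, 2, 1, 3, 4, 5, 6, 3, 2, 1, 3, 4, 5, 0, 2, 1, 3, 4, 3, 1], [[0, 0, 0, 1, 1, 0, 0, 0], [-1, -2, -3, -4, -3, -2, -2, -1], [1, 1, 1, 1, 1, 1, 1, 1], [1, 2, 3, 4, 3, 2, 1, 0], [-2, -2, -3, -4, -3, -2, -1, 0], [1, 0, 1, 1, 1, 1, 1, 0], [-1, -1, -2, -3, -3, -3, -2,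 -1], [1, 2, 2, 4, 3, 3, 2, 1]],
    [[[0, 0, 0, -1, -1, 0, 0, 0], [-1, 0, 0, 0, 0, 0, 0, 0]], [[1, 2, 3, 4, 3, 2, 2, 1], [0, -1, 0, 0, 0, 0, 0, 0]], [[-1, 0, -1, -1, -1, -1, -1, 0], [0, 0, 0, 0, 0, -1, 0, 0]], [[1, 1, 1, 1, 1, 1, 1, 1], [0, 0, 1, 0, 0, 0, 0, 0]]],
    [[-2, -3, -4, -6, -6, -4, -2, -1], [2, 3, 4, 6, 4, 3, 2, 1], [0, 0, 0, 0, -1, -1, -1, 0], [0, 0, 0, 0, 1, 1, 1, 1]]⟩,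
  ⟨5, 2, 1, [6, 7, 5, 6, 2, 3, 4, 5, 1, 3, 4, 2, 3, 0, 2, 1, 3, 4, 5, 6, 7, 3, 2, 1, 3, 4, 5, 6, 5, 4, 2, 3, 0, 2, 1, 3, 4, 5, 4, 3, 0, 2, 1, 3, 4, 3, 1, 0], [[-1, -1, -2, -2, -2, -1, -1, 0], [-1, -2, -2, -3, -2, -2, -1, 0], [2, 2, 3, 4, 3, 2, 2, 1], [0, 1, 1, 2, 2, 2, 1, 0], [-1, -2, -3, -5, -4, -3, -2, -1], [0, 1, 1, 2, 1, 0, 0, 0], [1, 1, 2, 2, 2, 2, 1, 1], [0, -1, -1, -1, -1, -1, -1, -1]],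
    [[[-1, 0, 0, 0, 0, -1, -1, -1], [-2, 0, -1, 0, 0, 0, -1, -1], [-1, 0, -1, 1, 0, 0, -1, -1], [0, 0, 0, 1, 0, 0, -1, 0]], [[0, -1, -1, -1, -1, -1, 0, 0], [0, -1, -1, -2, -2, -2, -1, 0], [0, -1, -1, -2, -1, -1, 0, 0], [0, 0, 0, 0, 0, -1, 0, 0]]],
    [[0, -1, 0, -1, -1, -1, -1, -1], [-1, -2, -1, -2, -2, -1, 0, 0]]⟩,
  ⟨6, 4, 1, [5, 6, 4, 5, 1, 3, 4, 2, 3, 0, 2, 1, 3, 4, 5, 6, 7, 3, 2, 1, 3, 4, 5, 6, 2, 3, 4, 5, 4, 3, 0, 2, 1, 3, 4, 3, 0, 2, 1, 3], [[1, 1, 1, 2, 2, 1, 0, 0], [1, 2, 2, 3, 2, 2, 1, 1], [1, 1, 2, 2, 1, 1, 1, 0], [-2, -3, -4, -5, -4, -3, -2, -1], [0, 1, 1, 1, 1, 0, 0, 0], [1, 1, 2, 3, 3, 3, 2, 1], [0, 0, -1, -1, -1, -1, 0, 0], [0, -1, 0, -1, -1, -1, -1, 0]],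
    [[[0, -1, 0, -1, -1, -1, -1, -1], [0, 0, 0, 0, 0, 0, 0, 1]], [[-1, -1, -2, -3, -2, -2, -1, -1], [0, -1, 0, 0, 0, 0, 0, 0]], [[0, 1, 1, 1, 0, 0, 0, 0], [0, 0, 0, 0, 1, 0, 0, 0]], [[0, 0, -1, -1, -1, -1, -1, 0], [0, 0, 0, 0, 0, 0, 1, 0]]],
    [[1, 0, 1, 0, 0, 0, 0, 0], [-4, -5, -7, -10, -8, -6, -4, -2], [0, 1, 1, 2, 1, 0, 0, 0], [1, 1, 1, 2, 1, 0, 0, 0]]⟩,
  ⟨7, 1, 1, [7, 6, 4, 5, 1, 3], [[1, 0, 0, 0, 0, 0, 0, 0], [0, 0, 0, 1, 1, 0, 0, 0], [0, 1, 1, 1, 1, 0, 0, 0], [0, -1, 0, -1, -1, 0, 0, 0], [0, 1, 0, 1, 1, 1, 1, 1], [0, 0, 0, 0, -1, -1, -1, -1], [0, 0, 0, 0, 1, 1, 0, 0], [0, 0, 0, 0, 0, 0, 1, 0]],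
    [[[0, 0, 0, 0, 0, 0, -1, 0], [0, 0, 0, 0, 0, 0, -1, -1], [0, 0, 0, 0, 0, 1, 0, 0], [0, 0, 0, 1, 1, 1, 0, 0], [0, 1, 0, 1, 1, 1, 0, 0], [0, 0, 0, 0, 1, 1, 0, 0]]],
    [[0, 2, 3, 4, 3, 2, 1, 1]]⟩,
  ⟨8, 2, 1, [5, 1, 3, 4, 2, 3, 0, 2, 1, 3, 4, 5, 6, 7, 2, 1, 3, 4, 5, 6, 3, 4, 5, 0, 2, 1, 3, 4, 0, 2], [[0, 1, 1, 2, 1, 1, 1, 0], [1, 1, 1, 2, 2, 2, 1, 0], [-1, -2, -2, -3, -2, -1, -1, 0], [1, 2, 2, 3, 2, 1, 1, 1], [-1, -2, -2, -4, -3, -2, -1, -1], [1, 1, 2, 3, 2, 1, 0, 0], [-1, 0, -1, -1, 0, 0, 0, 0], [0, -1, -1, -1, -1, -1, 0, 0]],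
    [[[1, 1, 1, 2, 2, 1, 1, 1], [0, 1, 1, 2, 1, 1, 1, 1], [1, 0, 1, 1, 0, 0, 0, 0], [0, 0, 0, 0, 0, 0, -1, 0]], [[0, 0, 1, 1, 0, 0, 0, 0], [1, 0, 1, 1, 1, 1, 0, 0], [0, 1, 1, 1, 1, 1, 0, 0], [0, 0, 0, 0, 0, 0, 0, -1]]],
    [[2, 3, 4, 6, 5, 3, 2, 1], [0, 0, 1, 1, 1, 0, 0, 0]]⟩,
  ⟨9, 1, 1, [0, 2, 1, 3, 4, 5, 6, 7, 3, 4, 5, 6, 3, 4, 0, 2, 1, 3], [[0, 1, 0, 1, 1, 1, 0, 0], [0, 1, 1, 1, 1, 1, 1, 0], [1, 0, 1, 1, 1, 1, 1, 0], [-1, -1, -2, -2, -2, -2, -1, 0], [1, 1, 2, 2, 2, 1, 0, 0], [0, 0, 0, 0, 0, 1, 1, 1], [0, 0, 0, 0, -1, -1, -1, -1], [-1, -1, -1, -1, 0, 0, 0, 0]],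
    [[[1, 0, 0, 1, 0, 0, -1, -1], [1, -1, 1, 0, 0, 0, 1, 0], [-1, 0, 1, 0, 0, 0, 0, 0], [0, 1, -1, 1, 1, 1, 0, 0], [2, 0, 1, 1, 0, 0, 0, 0], [0, -1, 1, 0, 0, 0, 0, -1]]],
    [[0, 0, 1, 3, 2, 0, 0, 1]]⟩,
  ⟨10, 2, 1, [2, 3, 4, 5, 6, 7, 3, 4, 5, 6, 0, 2, 1, 3, 4, 5, 3, 4, 0, 2, 1, 3, 1, 0], [[0, -1, -1, -1, -1, -1, -1, 0], [0, -1, -1, -2, -2, -1, -1, -1], [1, 1, 2, 2, 2, 2, 2, 1], [-1, 0, -1, -1, -1, -1, -1, 0], [1, 1, 2, 3, 3, 2, 1, 0], [-1, -1, -2, -2, -2, -1, 0, 0], [1, 1, 2, 2, 1, 0, 0, 0], [0, 0, -1, -1, 0, 0, 0, 0]],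
    [[[1, 1, 1, 2, 2, 2, 1, 0], [0, 1, 1, 1, 1, 0, 0, 1], [1, 0, 1, 2, 1, 1, 1, 0], [0, 0, 0, -1, 0, 0, 0, 0]], [[-1, 0, -1, -1, 0, 0, 0, 0], [0, -1, 0, 0, -1, -1, -1, 0], [0, 0, -1, -1, 0, 0, 0, -1], [0, 0, 0, 0, 0, 0, 0, 1]]],
    [[2, 3, 4, 6, 5, 4, 2, 1], [-1, -1, -1, -1, 0, 0, 0, 0]]⟩,
  ⟨12, 2, 1, [5, 6, 7, 4, 5, 6, 1, 3, 4, 2, 3, 0, 2, 1, 3, 4, 2, 3, 0, 2], [[0, 0, 1, 0, 0, 0, 0, 0], [1, 0, 1, 1, 1, 1, 0, 0], [0, 0, -1, -1, -1, -1, -1, 0], [0, 0, 0, 0, 0, 0, 1, 0], [-1, -1, -1, -1, -1, -1, -1, 0], [1, 2, 2, 3, 3, 3, 2, 1], [0, 0, 0, 0, -1, -1, -1, -1], [0, 0, 0, 0, 1, 0, 0, 0]],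
    [[[0, 1, 0, 1, 1, 0, 0, 0], [0, 0, 1, 1, 1, 1, 1, 1], [1, 0, 1, 1, 1, 1, 0, 0], [0, 1, 0, 0, 0, 0, 0, 0]], [[0, 0, 0, 1, 0, 0, 0, 0], [0, 1, 1, 2, 2, 1, 1, 0], [0, 0, 0, 0, 1, 1, 1, 1], [0, 0, 0, 0, 0, 0, -1, 0]]],
    [[2, 2, 3, 4, 3, 1, 1, 1], [1, 2, 2, 4, 3, 3, 2, 1]]⟩,
  ⟨14, 1, 1, [7, 0, 2, 1, 3, 4, 5, 6, 5, 1, 3], [[0, 0, 1, 0, 0, 0, 0, 0], [0, 0, 0, 0, 1, 0, 0, 0], [1, 1, 1, 2, 1, 0, 0, 0], [-1, 0, -1, -1, -1, 0, 0, 0], [1, 0, 1, 1, 1, 1, 1, 1], [0, 0, 0, 0, 0, 0, -1, -1], [-1, -1, -1, -1, -1, -1, 0, 0], [1, 1, 1, 1, 1, 1, 1, 0]],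
    [[[0, -1, 0, 0, 0, 0, 0, 0], [0, 1, 0, 0, 1, 1, 1, 0], [0, 0, 0, 1, 0, 0, 0, 1], [0, 1, 1, 1, 1, 0, 0, -1], [1, 0, 1, 1, 0, 1, 1, 1], [0, 0, 0, 0, 1, 0, 0, 0]]],
    [[-2, -2, -2, -3, -2, -1, 0, 0]]⟩,
  ⟨15, 1, 1, [5, 6, 7, 2, 1, 3, 4, 5, 6, 5, 0, 2, 1, 3, 4, 0], [[0, -1, 0, -1, 0, 0, 0, 0], [1, 1, 1, 1, 1, 1, 0, 0], [0, 1, 1, 2, 1, 1, 0, 0], [0, 0, 0, 0, 0, 0, 1, 1], [-1, -1, -2, -2, -1, -1, -1, -1], [1, 1, 2, 2, 1, 1, 1, 0], [0, -1, -1, -1, -1, -1, -1, 0], [0, 1, 1, 1, 1, 0, 0, 0]],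
    [[[0, 0, 0, 0, 0, 0, -1, -1], [0, 0, 0, -1, 0, 0, 1, 1], [0, 0, -1, 0, -1, -1, -1, 0], [-1, 0, 0, 0, 0, 0, 0, -1], [0, -1, 0, -1, 0, 0, 0, 1], [1, 0, 0, 0, -1, -1, -1, -1], [-1, 0, -1, -1, 0, 1, 1, 0], [0, 0, 0, 0, 0, -1, -1, 0]]],
    [[0, 1, 1, 0, -1, 0, -1, 0]]⟩,
  ⟨18, 1, 1, [7, 5, 6, 5, 4, 3, 0, 2, 1], [[0, 0, 1, 1, 1, 1, 1, 1], [0, -1, 0, -1, -1, -1, -1, -1], [-1, 0, -1, -1, -1, -1, -1, -1], [1, 1, 1, 1, 1, 1, 1, 1], [0, 0, 0, 1, 0, 0, 0, 0], [0, 0, 0, 0, 1, 1, 0, 0], [0, 0, 0, 0, 0, -1, 0, 0], [0, 0, 0, 0, 0, 1, 1, 0]],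
    [[[1, 0, 1, 0, 0, 0, 0, 0], [0, 1, 0, 1, 0, 0, 0, 0], [0, 0, 1, 1, 1, 0, 0, 0], [0, 1, 0, 1, 1, 1, 1, 0], [0, 0, 1, 1, 1, 1, 1, 1], [1, 0, 0, 0, 0, 0, 0, 0]]],
    [[0, 0, 0, -1, -1, -1, 0, 0]]⟩,
  ⟨20, 1, 1, [6, 7, 5, 6, 3, 2, 1, 3, 4, 5, 0, 2, 3, 4], [[0, 1, 0, 0, 0, 0, 0, 0], [1, 1, 2, 2, 1, 1, 1, 0], [0, 0, 0, 1, 1, 1, 1, 0], [0, 0, 0, 0, 0, 0, 0, 1], [-1, -1, -1, -2, -1, -1, -1, -1], [1, 0, 0, 0, 0, 0, 0, 0], [0, 1, 1, 2, 1, 0, 0, 0], [0, 0, 0, 0, 0, 1, 0, 0]],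
    [[[0, -1, 0, -1, -1, 0, 0, 0], [-1, 0, -1, -1, -1, -1, -1, 0], [0, 0, -1, 0, 0, -1, 0, 0], [0, -1, 0, -1, -1, 0, 0, -1], [-1, -1, -1, -3, -2, -1, -1, 0], [0, 0, -1, 0, 0, -1, -1, 0], [0, 0, 0, 1, 1, 1, 1, 0], [0, 0, 1, 0, 0, 0, 0, 0]]],
    [[-1, -2, -2, -3, -3, -2, -1, 0]]⟩,
  ⟨24, 1, 1, [6, 7, 5, 2, 1, 3, 4, 2, 3, 0], [[-1, -1, -1, -1, 0, 0, 0, 0], [0, 1, 1, 2, 1, 1, 1, 0], [1, 1, 1, 1, 1, 1, 1, 0], [0, -1, 0, -1, -1, -1, -1, 0], [0, 0, -1, 0, 0, 0, 0, 0], [0, 1, 1, 1, 1, 0, 0, 0], [0, 0, 0, 0, 0, 1, 1, 1], [0, 0, 0, 0, 0, 0, -1, -1]],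
    [[[0, 0, -1, -1, 0, 0, 0, 0], [0, -1, 0, -1, 0, 0, 0, 0], [1, 0, 1, 1, 0, 0, 0, 0], [0, 1, 1, 2, 1, 0, 0, 0], [0, 1, 1, 2, 1, 1, 0, 0], [0, 1, 0, 1, 1, 1, 1, 1], [0, 0, 0, 0, 1, 1, 1, 0], [1, 0, 1, 0, 0, 0, 0, 0]]],
    [[1, 1, 1, 2, 2, 1, 0, 0]]⟩,
  ⟨30, 1, 1, [7, 5, 6, 4, 3, 0, 2, 1], [[0, 0, 1, 1, 1, 1, 0, 0], [0, -1, 0, -1, -1, -1, 0, 0], [-1, 0, -1, -1, -1, -1, 0, 0], [1, 1, 1, 1, 1, 1, 0, 0], [0, 0, 0, 1, 0, 0, 0, 0], [0, 0, 0, 0, 1, 1, 1, 1], [0, 0, 0, 0, 0, -1, -1, -1], [0, 0, 0, 0, 0, 1, 1, 0]],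
    [[[0, 0, 0, 0, 1, 0, 0, 0], [0, 0, 0, 0, 1, 1, 1, 0], [0, 0, 0, 0, 0, 1, 1, 1], [0, 0, 0, 0, -1, 0, -1, 0], [0, -1, -1, -1, -2, -2, -2, -1], [-1, -1, -2, -2, -2, -2, -1, -1], [-1, -1, -1, -2, -1, -1, 0, 0], [0, 0, 0, -1, 0, 0, 0, 0]]],
    [[-1, -1, -2, -2, -1, -1, -1, 0]]⟩]

theorem hdG2_ok : HD.All chevG2 [2, 6] hdG2 := by decide +kernel
theorem hdB2_ok : HD.All chevB2 [2, 4] hdB2 := by decide +kernel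
theorem hdD4_ok : HD.All chevD4 [2, 4, 4, 6] hdD4 := by decide +kernel
theorem hdF4_ok : HD.All chevF4 [2, 6, 8, 12] hdF4 := by decide +kernel
theorem hdE6_ok : HD.All chevE6 [2, 5, 6, 8, 9, 12] hdE6 := by decide +kernel
theorem hdE7_ok : HD.All chevE7 [2, 6, 8, 10, 12, 14, 18] hdE7 := by decide +kernel
theorem hdE8_ok : HD.All chevE8 [2, 8, 12, 14, 18, 20, 24, 30] hdE8 := by decide +kernel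

variable {D} {F : Type*} [Field F] [Fintype F]

theorem exists_hom_of_torus (hD : D ∈ [chevG2, chevB2, chevD4, chevF4, chevE6, chevE7, chevE8]) {w : Equiv.Perm (Rt D)}
    (hw : w ∈ (rootSys D).W) {C : Type*} [Group C] (f : C →* (Fin D.rank → (AlgebraicClosure F)ˣ))
    (h : ∀ c, (rootSys D).act w (f c) = f c ^ Fintype.card F) :
    ∃ g : C →* D.group F, ∀ c, g c = 1 → matHom _ (cartanMat D) (f c) = 1 := by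
  obtain ⟨φ, A, h1, h2⟩ := exists_alg_st (F := F) hD
  obtain ⟨y, hy⟩ := A.exists_conj_fixed_iff hw
  refine ⟨((thetaS D F).comp (MonoidHom.ofInjective h1).symm.toMonoidHom).comp ((((MulAut.conj y⁻¹).toMonoidHom.comp
    A.r3.torHom).comp f).codRestrict _ fun c => (h2 _).2 (by simpa using (hy _).2 (h c))), fun c e => ?_⟩
  have h3 := stField_mem_center (algebraMap F (AlgebraicClosure F)) e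
  erw [MonoidHom.apply_ofInjective_symm] at h3
  rw [← of_A_eq_cartanMat, ← A.r3.torHom_comm_iff A.good]
  intro r u
  have := (inferInstance : (Subgroup.center _).Normal).conj_mem _ h3 y
  exact (Subgroup.mem_center_iff.1 (by simpa [mul_assoc] using this) _).symm

theorem HD.All.sylow (hD : D ∈ [chevG2, chevB2, chevD4, chevF4, chevE6, chevE7, chevE8]) {degs : List ℕ}
    {L : List (HD D.rank)} (h : HD.All D degs L) {q N : ℕ} (hq : Fintype.card F = q)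
    (hc : Nat.card (D.group F) ∣ q ^ N * (degs.map fun n => q ^ n - 1).prod) {r : ℕ} [hr : Fact r.Prime] (hrq : ¬ r ∣ q)
    (hrW : ¬ r ∣ degs.prod) (hrG : r ∣ Nat.card (D.group F)) (P : Sylow r (D.group F)) :
    Nonempty ((P : Subgroup (D.group F)) ≃* (Fin (degs.filter (orderOf (q : ZMod r) ∣ ·)).length →
      Multiplicative (ZMod (r ^ padicValNat r ((cyclotomic (orderOf (q : ZMod r)) ℤ).eval (q : ℤ)).natAbs)))) := by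
  have h0 : 1 < q := hq ▸ Fintype.one_lt_card
  obtain ⟨h1, h2⟩ := padicValNat_prod_pow_sub_one h0 hrW
  obtain ⟨e, he, h3⟩ : ∃ e ∈ degs, orderOf (q : ZMod r) ∣ e := by
    obtain ⟨_, h3, h4⟩ := (Prime.dvd_prod_iff hr.out.prime).1 ((hr.out.dvd_mul.1 (hrG.trans hc)).resolve_left
      fun h => hrq (hr.out.dvd_of_dvd_pow h))
    obtain ⟨e, he, rfl⟩ := List.mem_map.1 h3
    refine ⟨e, he, orderOf_dvd_of_pow_eq_one ?_⟩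
    have := (ZMod.natCast_eq_zero_iff _ r).2 h4
    rwa [Nat.cast_sub (Nat.one_le_pow _ _ h0.le), Nat.cast_pow, Nat.cast_one, sub_eq_zero] at this
  obtain ⟨T, -, hd, h4, ha, h5, h6, h7⟩ := (h e he).2 _ (List.mem_range.2 (Nat.lt_succ_of_le (Nat.le_of_dvd (h e he).1 h3))) h3
  obtain ⟨E, h8, h9⟩ := cyc_dvd _ h4
  rw [← ha] at h2 ⊢
  generalize hv : padicValNat r ((cyclotomic (orderOf (q : ZMod r)) ℤ).eval (q : ℤ)).natAbs = v at h2 ⊢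
  have h10 : ((r ^ v : ℕ) : ℤ) ∣ q ^ ((cyc T.d).length - 1 + 1) + evq q fun i : Fin ((cyc T.d).length - 1 + 1) =>
      (cyc T.d).getD i 0 := by
    rw [hd, Nat.cast_pow]
    refine (Nat.prime_iff_prime_int.1 hr.out).pow_dvd_of_dvd_mul_right _ (fun h => ?_) (dvd_trans ?_ (h9 q))
    · obtain ⟨_, h3, h4⟩ := (Prime.dvd_prod_iff (Nat.prime_iff_prime_int.1 hr.out)).1 h
      obtain ⟨e, he, rfl⟩ := List.mem_map.1 h3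
      refine Nat.not_dvd_of_pos_of_lt (h8 e he).1 (h8 e he).2 (orderOf_dvd_of_pow_eq_one ?_)
      simpa [sub_eq_zero] using (ZMod.intCast_zmod_eq_zero_iff_dvd _ r).2 h4
    · have := eval_dvd (x := (q : ℤ)) (cyclotomic.dvd_X_pow_sub_one (orderOf (q : ZMod r)) ℤ)
      rw [← Nat.cast_pow, ← hv]
      exact (Int.natCast_dvd.2 pow_padicValNat_dvd).trans (by simpa using this)
  obtain ⟨p, hp⟩ := CharP.exists F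
  have := Fact.mk (CharP.char_is_prime F p)
  have : NeZero ((r ^ v : ℕ) : AlgebraicClosure F) := ⟨fun e => hrq (((Nat.prime_dvd_prime_iff_eq this.out hr.out).1
    (this.out.dvd_of_dvd_pow ((CharP.cast_eq_zero_iff _ p _).1 e))) ▸ hq ▸ dvd_card p)⟩
  obtain ⟨ζ, hζ⟩ := HasEnoughRootsOfUnity.exists_primitiveRoot (AlgebraicClosure F) (r ^ v)
  lift ζ to (AlgebraicClosure F)ˣ using hζ.isUnit (NeZero.ne _)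
  let j : Multiplicative (ZMod (r ^ v)) →* (AlgebraicClosure F)ˣ := (Subgroup.zpowers ζ).subtype.comp
    (AddEquiv.toMultiplicativeLeft (IsPrimitiveRoot.coe_units_iff.1 hζ).zmodEquivZPowers).toMonoidHom
  have hj : Function.Injective j := Subtype.val_injective.comp (MulEquiv.injective _)
  let f : (Fin T.a → Multiplicative (ZMod (r ^ v))) →* (Fin D.rank → (AlgebraicClosure F)ˣ) := MonoidHom.mk'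
    (fun k => ∏ b, fun i => j (k b) ^ evq q ((matL ((cyc T.d).length - 1 + 1) D.rank (T.P.getD b [])).col i))
    fun k k' => by ext i; simp [mul_zpow, Finset.prod_mul_distrib]
  have hm : ∀ x : Multiplicative (ZMod (r ^ v)), x ^ r ^ v = 1 := fun x => by simpa using pow_card_eq_one' (x := x)
  obtain ⟨g, hg⟩ := exists_hom_of_torus hD (word_mem_W T.l) f fun k => by
    rw [RootSys.act, coM_word, h6, hq, MonoidHom.mk'_apply, map_prod, ← Finset.prod_pow]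
    refine Finset.prod_congr rfl fun b _ => matHom_lam (h7 b).1 ?_
    obtain ⟨c, hc⟩ := h10
    rw [hc, _root_.zpow_mul, zpow_natCast, ← map_pow, hm, map_one, _root_.one_zpow]
  have hi : Function.Injective g := (injective_iff_map_eq_one g).2 fun k e => funext fun b => by
    have h11 := congrArg (uchr · fun i : Fin D.rank => (T.x.getD b []).getD i 0) (hg k e)
    simp only [uchr_matHom] at h11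
    have h12 : ∀ x, uchr (f k) x = ∏ b, uchr (fun i => j (k b) ^ evq q
        ((matL ((cyc T.d).length - 1 + 1) D.rank (T.P.getD b [])).col i)) x := fun x => by
      rw [MonoidHom.mk'_apply]
      exact map_prod (MonoidHom.mk' (uchr · x) fun a b => uchr_mul a b x) _ _
    simp only [h12, uchr_lam, (h7 _).2 b] at h11
    rw [Finset.prod_eq_single b (fun b' _ h => by simp [h, evq]) (by simp)] at h11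
    have h13 : k b ^ T.c = 1 := hj (by simpa [evq, uchr, Pi.single_apply] using h11)
    exact orderOf_eq_one_iff.1 (Nat.eq_one_of_dvd_coprimes (((hr.out.coprime_iff_not_dvd).2 fun h => hrW (h.trans h5)).pow_left v)
      (orderOf_dvd_of_pow_eq_one (hm _)) (orderOf_dvd_of_pow_eq_one h13))
  have h11 : Nat.card g.range = r ^ (v * T.a) := by
    rw [← Nat.card_congr (MonoidHom.ofInjective hi).toEquiv]; simp [pow_mul]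
  obtain ⟨Q, hQ⟩ := (IsPGroup.of_card h11).exists_le_sylow
  refine ⟨((P.equiv Q).trans (MulEquiv.subgroupCongr (Subgroup.eq_of_le_of_card_ge hQ ?_).symm)).trans
    (MonoidHom.ofInjective hi).symm⟩
  have h12 : q ^ N ≠ 0 := by positivity
  rw [h11, Q.card_eq_multiplicity, ← h2]
  refine Nat.pow_le_pow_right hr.out.pos (((Nat.factorization_le_iff_dvd Nat.card_pos.ne' (mul_ne_zero h12 h1)).2 hc r).trans ?_)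
  rw [Nat.factorization_def _ hr.out, padicValNat.mul h12 h1, padicValNat.eq_zero_of_not_dvd fun h =>
    hrq (hr.out.dvd_of_dvd_pow h), zero_add]

end CL.Chev
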