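/-
Suzuki groups, character theory I: general lemmas on characters induced from TI-tori.
-/
import Mathlib
import Cfsg.Agent.CHEV.SzTor
import Cfsg.Agent.CHAR.Linear
import Cfsg.Agent.CHAR.IndRep
import Cfsg.Agent.CHAR.PermChar
import Cfsg.Agent.CHAR.ClassMult
import Cfsg.Agent.CHAR.Values

set_option autoImplicit false
set_option linter.unusedSectionVars false

namespace CL.Sz

open Cfsg CL.Char
open scoped ComplexConjugate

section General

variable {G : Type*} [Group G] [Fintype G]

theorem sum_eq_sum_subgroup (N : Subgroup G) [Fintype N] (f : G → ℂ) (hf : ∀ x, x ∉ N → f x = 0) :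
    ∑ x, f x = ∑ n : N, f n := by
  classical
  rw [← Finset.sum_subtype (Finset.univ.filter (· ∈ N)) (by simp) f]
  exact (Finset.sum_subset (Finset.subset_univ _) fun x _ hx => hf x (by simpa using hx)).symm

theorem indFun_of_ti (C N : Subgroup G) [Fintype N]
    (hN : ∀ c ∈ C, c ≠ 1 → ∀ k, k⁻¹ * c * k ∈ C ↔ k ∈ N) (θ : C → ℂ) {c : G} (hc : c ∈ C)
    (h1 : c ≠ 1) :
    indFun C θ c = (Nat.card C : ℂ)⁻¹ * ∑ n : N, extendByZero C θ ((n : G)⁻¹ * c * n) := by
  rw [indFun_apply, sum_eq_sum_subgroup N]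
  exact fun x hx => extendByZero_of_not_mem _ _ fun h => hx ((hN c hc h1 x).mp h)

theorem indFun_of_not_mem_conjSet (C : Subgroup G) (θ : C → ℂ) {g : G} (h1 : g ≠ 1)
    (hg : g ∉ conjSet C) : indFun C θ g = 0 :=
  indFun_eq_zero_of_not_conj C θ g fun x hx => hg ⟨h1, x, hx⟩

theorem indFun_one_eq_ncard (N : Subgroup G) (g : G) :
    indFun N (fun _ => 1) g = (Nat.card N : ℂ)⁻¹ * ({k | k⁻¹ * g * k ∈ N}.ncard : ℂ) :=
  indFun_one_eq_card N g

/-- A weighted list of irreducible characters adding up to the regular character is complete. -/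
theorem sum_irr_eq_of_regular {ι : Type*} [Fintype ι] [DecidableEq G] (χ : ι → G → ℂ)
    (hirr : ∀ i, IsIrrCharacter G (χ i)) (w : ι → ℂ)
    (h : ∀ g, ∑ i, w i * (χ i 1 * χ i g) = if g = 1 then (Nat.card G : ℂ) else 0)
    (f : (G → ℂ) → ℂ) : ∑ ψ : IrrCharacter G, f ψ = ∑ i, w i * f (χ i) := by
  classical
  have key : ∀ ψ : IrrCharacter G, ∑ i, (if χ i = ψ then w i else 0) = 1 := by
    intro ψ
    have h1 : (∑ i, (w i * χ i 1) • χ i) =
        ∑ φ : IrrCharacter G, (φ : G → ℂ) 1 • (φ : G → ℂ) := by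
      ext g
      simp only [Finset.sum_apply, Pi.smul_apply, smul_eq_mul, mul_assoc]
      rw [h, sum_degree_mul]
    have h2 := congrArg (fun a => classInner a ψ) h1
    simp only [classInner_sum_irr] at h2
    rw [classInner_sum_left] at h2
    apply mul_right_cancel₀ ψ.2.one_ne_zero
    rw [one_mul, Finset.sum_mul]
    refine Eq.trans ?_ h2
    refine Finset.sum_congr rfl fun i _ => ?_
    rw [classInner_smul_left, (hirr i).inner ψ.2]
    split_ifs with h3
    · rw [h3, mul_one]
    · simp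
  calc ∑ ψ : IrrCharacter G, f ψ
      = ∑ ψ : IrrCharacter G, ∑ i, (if χ i = ψ then w i * f (χ i) else 0) := by
        refine Finset.sum_congr rfl fun ψ _ => ?_
        rw [← one_mul (f ψ), ← key ψ, Finset.sum_mul]
        refine Finset.sum_congr rfl fun i _ => ?_
        split_ifs with h3
        · rw [h3]
        · simp
    _ = _ := by
        rw [Finset.sum_comm]
        refine Finset.sum_congr rfl fun i _ => ?_
        rw [Finset.sum_eq_single ⟨χ i, hirr i⟩, if_pos rfl]
        · intro ψ _ hne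
          exact if_neg fun h3 => hne (Subtype.ext h3.symm)
        · simp

/-- A fully ramified linear character. -/
theorem isIrr_of_ramified (m : G → ℂ) (A : Set G) (hm : IsClassFunction G m) (h1 : m 1 = 1)
    (hmul : ∀ a ∈ A, ∀ g, m (g * a) = m g * m a) (hnorm : ∀ a ∈ A, m a * conj (m a) = 1)
    (h0 : ∀ g, g ∉ A → m g = 0) (hA : ∀ x, x ∉ A → ∃ k, ∃ a ∈ A, k * x * k⁻¹ = a * x ∧ m a ≠ 1)
    {s : ℕ} (hs : s ^ 2 * A.ncard = Nat.card G) : IsIrrCharacter G ((s : ℂ) • m) := by
  classical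
  obtain ⟨χ, hχ, hne⟩ := hm.exists_irr_inner_ne_zero (fun h => by simp [h] at h1)
  have hc : ∑ g, conj (m g) * χ g ≠ 0 := by
    intro h
    apply hne
    rw [← classInner_eq_zero_comm, classInner_def]
    simp only [mul_comm (χ _), h, mul_zero]
  have key : ∀ a ∈ A, ∀ x, χ (a * x) = m a * χ x := by
    intro a ha x
    apply mul_left_cancel₀ hc
    rw [← hχ.sum_mul_apply_mul hm.conj, mul_left_comm, ← hχ.sum_mul_apply_mul hm.conj,
      mul_left_comm]
    congr 1
    symm
    rw [Finset.mul_sum, ← Equiv.sum_comp (Equiv.mulRight a)]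
    refine Finset.sum_congr rfl fun g _ => ?_
    rw [Equiv.coe_mulRight, hmul a ha, map_mul, mul_assoc g]
    linear_combination conj (m g) * χ (g * (a * x)) * hnorm a ha
  have hv : χ = χ 1 • m := by
    ext x
    by_cases hx : x ∈ A
    · have := key x hx 1
      rw [mul_one] at this
      rw [this, Pi.smul_apply, smul_eq_mul, mul_comm]
    · obtain ⟨k, a, ha, h2, h3⟩ := hA x hx
      have h4 := hχ.isClassFunction x k
      rw [h2, key a ha] at h4
      have : χ x = 0 := by
        by_contra hx0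
        exact h3 (mul_right_cancel₀ hx0 (by rw [h4, one_mul]))
      simp [this, h0 x hx]
  obtain ⟨n, hn0, hn⟩ := hχ.exists_pos_degree
  have h2 := hχ.inner_self
  rw [hv, hn, classInner_smul_left, classInner_smul_right, classInner_def] at h2
  have h3 : ∑ g, m g * conj (m g) = (A.ncard : ℂ) := by
    rw [Set.ncard_eq_toFinset_card', Finset.card_eq_sum_ones, Nat.cast_sum,
      ← Finset.sum_subset (Finset.subset_univ A.toFinset)]
    · exact Finset.sum_congr rfl fun a ha => by rw [hnorm a (Set.mem_toFinset.mp ha), Nat.cast_one]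
    · intro x _ hx
      rw [h0 x (by simpa using hx), zero_mul]
  have h4 : n ^ 2 * A.ncard = Nat.card G := by
    have hG := card_ne_zero G
    rw [h3, Complex.conj_natCast] at h2
    field_simp at h2
    exact_mod_cast h2
  have hA0 : 0 < A.ncard := by
    rcases Nat.eq_zero_or_pos A.ncard with h | h
    · rw [h, mul_zero] at h4; exact absurd h4.symm Nat.card_pos.ne'
    · exact h
  have h5 : s = n := Nat.pow_left_injective two_ne_zero
    (Nat.eq_of_mul_eq_mul_right hA0 (hs.trans h4.symm))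
  rw [h5, ← hn, ← hv]
  exact hχ

end General

namespace Tor

variable {G : Type*} [Group G] [Fintype G] {P N : Subgroup G} {s : ℕ}

/-- The character induced from a linear character of a torus. -/
noncomputable def e (P : Subgroup G) (lam : P →* ℂˣ) : G → ℂ := indFun P fun c => (lam c : ℂ)

theorem e_isCharacter (lam : P →* ℂˣ) : IsCharacter G (e P lam) :=
  (isIrrCharacter_hom lam).isCharacter.ind

theorem e_one (lam : P →* ℂˣ) : e P lam 1 = P.index := by simp [e, indFun_one]

theorem e_of_not_mem (lam : P →* ℂˣ) {g : G} (h1 : g ≠ 1) (hg : g ∉ conjSet P) : e P lam g = 0 :=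
  indFun_of_not_mem_conjSet _ _ h1 hg

variable (T : Tor P N s)
include T

theorem comm' (a b : P) : a * b = b * a := Subtype.ext (T.comm a.2 b.2)

/-- Conjugation by an element of the normalizer. -/
def cj (n : N) : P →* P where
  toFun c := ⟨(n : G)⁻¹ * c * n, T.conj_mem n.2 c.2⟩
  map_one' := Subtype.ext (by simp)
  map_mul' a b := Subtype.ext (by simp [mul_assoc])

theorem e_of_mem [Fintype N] (lam : P →* ℂˣ) (c : P) (h1 : c ≠ 1) :
    e P lam c = (Nat.card P : ℂ)⁻¹ * ∑ n : N, (lam (T.cj n c) : ℂ) := by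
  rw [e, indFun_of_ti P N T.ti _ c.2 (fun h => h1 (Subtype.ext h))]
  congr 1
  exact Finset.sum_congr rfl fun n _ => extendByZero_of_mem _ _ (T.conj_mem n.2 c.2)

theorem card_N_eq : (Nat.card N : ℂ) = s * Nat.card P := by rw [T.card, Nat.cast_mul]

theorem e_triv {g : G} (hg : g ∈ conjSet P) : e P 1 g = s := by
  obtain ⟨h1, k, hk⟩ := hg
  have := Fintype.ofFinite N
  rw [← (e_isCharacter 1).isClassFunction.conj_inv g k]
  have := T.e_of_mem 1 ⟨_, hk⟩ (fun h => inv_conj_ne_one k h1 (congrArg Subtype.val h))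
  simp only [MonoidHom.one_apply, Units.val_one, Finset.sum_const, Finset.card_univ, nsmul_eq_mul,
    mul_one, Fintype.card_eq_nat_card, T.card_N_eq] at this
  rw [this]
  have := card_subgroup_ne_zero P
  field_simp

theorem norm_e_le (lam : P →* ℂˣ) {g : G} (h1 : g ≠ 1) : ‖e P lam g‖ ≤ s := by
  by_cases hg : g ∈ conjSet P
  swap
  · rw [e_of_not_mem lam h1 hg]; simp
  obtain ⟨-, k, hk⟩ := hg
  have := Fintype.ofFinite N
  rw [← (e_isCharacter lam).isClassFunction.conj_inv g k]
  have := T.e_of_mem lam ⟨_, hk⟩ (fun h => inv_conj_ne_one k h1 (congrArg Subtype.val h))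
  rw [this, norm_mul, norm_inv, Complex.norm_natCast]
  have h2 : (0 : ℝ) < Nat.card P := by exact_mod_cast Nat.card_pos
  rw [inv_mul_le_iff₀ h2]
  refine (norm_sum_le _ _).trans ?_
  simp only [norm_hom, Finset.sum_const, Finset.card_univ, nsmul_eq_mul, mul_one,
    Fintype.card_eq_nat_card, T.card, Nat.cast_mul]
  rw [mul_comm]

theorem exists_invol : ∃ t ∈ N, orderOf t = 2 := by
  obtain ⟨⟨t, ht⟩, h2⟩ := exists_prime_orderOf_dvd_card' (G := N) 2 (by
    rw [T.card]; rcases T.s_eq with rfl | rfl <;> omega)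
  exact ⟨t, ht, by rwa [Subgroup.orderOf_mk] at h2⟩

theorem isConj_inv {g : G} (hg : g ∈ conjSet P) : IsConj g g⁻¹ := by
  obtain ⟨-, k, hk⟩ := hg
  obtain ⟨t, ht, h2⟩ := T.exists_invol
  have h3 := T.conj_eq_inv ht h2 hk
  have htt : t * t = 1 := by rw [← pow_two, ← h2, pow_orderOf_eq_one]
  refine isConj_iff.mpr ⟨k * t * k⁻¹, ?_⟩
  rw [mul_inv_rev, mul_inv_rev, inv_eq_of_mul_eq_one_right htt]
  calc _ = k * (t * (k⁻¹ * g * k) * t) * k⁻¹ := by group
    _ = _ := by rw [h3]; group

theorem conj_e (lam : P →* ℂˣ) (g : G) : conj (e P lam g) = e P lam g := by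
  by_cases h1 : g = 1
  · rw [h1, e_one, Complex.conj_natCast]
  by_cases hg : g ∈ conjSet P
  · rw [← (e_isCharacter lam).apply_inv,
      ← (e_isCharacter lam).isClassFunction.eq_of_isConj (T.isConj_inv hg)]
  · rw [e_of_not_mem lam h1 hg, map_zero]

theorem sum_e [Fintype (P →* ℂˣ)] {g : G} (h1 : g ≠ 1) : ∑ lam, e P lam g = 0 := by
  classical
  have : ∑ lam : P →* ℂˣ, e P lam = indFun P fun c => if c = 1 then (Nat.card P : ℂ) else 0 := by
    simp only [e]
    rw [← indFun_sum]
    congr 1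
    ext c
    rw [Finset.sum_apply, sum_hom_apply, commutator_eq_bot_of_comm T.comm']
    simp
  rw [← Finset.sum_apply, this]
  exact indFun_eq_zero _ _ _ fun x hx => if_neg fun h => inv_conj_ne_one x h1 (congrArg Subtype.val h)

theorem sum_e_erase [Fintype (P →* ℂˣ)] [DecidableEq (P →* ℂˣ)] {g : G} (hg : g ∈ conjSet P) :
    ∑ lam ∈ Finset.univ.erase 1, e P lam g = -s := by
  have := T.sum_e hg.1
  rw [← Finset.add_sum_erase _ _ (Finset.mem_univ 1), T.e_triv hg] at this
  linear_combination this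

theorem card_hom_erase [Fintype (P →* ℂˣ)] [DecidableEq (P →* ℂˣ)] :
    ((Finset.univ.erase (1 : P →* ℂˣ)).card : ℂ) = Nat.card P - 1 := by
  rw [Finset.card_erase_of_mem (Finset.mem_univ _), Finset.card_univ, Fintype.card_eq_nat_card,
    card_hom_of_comm T.comm', Nat.cast_sub Nat.card_pos, Nat.cast_one]

theorem cj_surj (n : N) (hn : (n : G) ∉ P) :
    Function.Surjective fun c : P => c * (T.cj n c)⁻¹ := by
  apply Finite.surjective_of_injective
  intro a b h
  by_contra hne
  apply hn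
  have h1 : (b⁻¹ * a : P) ≠ 1 := fun h => hne (inv_mul_eq_one.mp h).symm
  have h2 : T.cj n (b⁻¹ * a) = b⁻¹ * a := by
    rw [map_mul, map_inv]
    have h3 : a * (T.cj n a)⁻¹ = b * (T.cj n b)⁻¹ := h
    calc (T.cj n b)⁻¹ * T.cj n a = b⁻¹ * (b * (T.cj n b)⁻¹) * T.cj n a := by group
      _ = _ := by rw [← h3]; group
  refine T.mem_of_comm (b⁻¹ * a).2 (fun h => h1 (Subtype.ext h)) ?_
  have h4 : (n : G)⁻¹ * (b⁻¹ * a : P) * n = (b⁻¹ * a : P) := congrArg Subtype.val h2
  calc (n : G) * (b⁻¹ * a : P) = n * ((n : G)⁻¹ * (b⁻¹ * a : P) * n) := by rw [h4]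
    _ = _ := by group

theorem sum_mul_conj_cj [Fintype P] {lam : P →* ℂˣ} (hl : lam ≠ 1) (n : N) [Decidable ((n : G) ∈ P)] :
    ∑ c : P, (lam c : ℂ) * conj (lam (T.cj n c) : ℂ) =
      if (n : G) ∈ P then (Nat.card P : ℂ) else 0 := by
  split_ifs with hn
  · have : ∀ c : P, T.cj n c = c := fun c => Subtype.ext (by
      change (n : G)⁻¹ * c * n = c
      rw [mul_assoc, ← T.comm hn c.2, inv_mul_cancel_left])
    simp [this, hom_mul_conj]
  · have h := sum_hom_eq_zero (lam := lam * (lam.comp (T.cj n))⁻¹) (fun h => hl (by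
      ext1 c
      obtain ⟨d, rfl⟩ := T.cj_surj n hn c
      have := DFunLike.congr_fun h d
      simpa using this))
    rw [← h]
    exact Finset.sum_congr rfl fun c _ => by simp [conj_hom]

theorem sum_e_mul_e {lam : P →* ℂˣ} (hl : lam ≠ 1) :
    ∑ g, e P lam g * e P lam g = P.index * (P.index + Nat.card P - s) := by
  classical
  have h1 := sum_indFun_mul P (fun c => (lam c : ℂ)) (e_isCharacter lam).isClassFunction
  refine h1.trans ?_
  congr 1
  have hP := card_subgroup_ne_zero P
  have h2 : ∀ c : P, (lam c : ℂ) * e P lam c = (if c = 1 then (P.index : ℂ) - s else 0) +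
      (Nat.card P : ℂ)⁻¹ * ∑ n : N, (lam c : ℂ) * conj (lam (T.cj n c) : ℂ) := by
    intro c
    split_ifs with hc
    · subst hc
      simp only [map_one, Units.val_one, OneMemClass.coe_one, e_one, one_mul, Finset.sum_const,
        Finset.card_univ, nsmul_eq_mul, mul_one, Fintype.card_eq_nat_card, T.card_N_eq]
      field_simp
      ring
    · rw [← T.conj_e, T.e_of_mem lam c hc, zero_add, map_mul, map_sum, map_inv₀,
        Complex.conj_natCast, mul_left_comm, Finset.mul_sum]
  simp only [h2, Finset.sum_add_distrib, Finset.sum_ite_eq', Finset.mem_univ, if_true]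
  rw [← Finset.mul_sum, Finset.sum_comm]
  simp only [T.sum_mul_conj_cj hl]
  have h3 : ∑ n : N, (if (n : G) ∈ P then (Nat.card P : ℂ) else 0) = Nat.card P * Nat.card P := by
    rw [← sum_eq_sum_subgroup N (fun g => if g ∈ P then (Nat.card P : ℂ) else 0)
      (fun x hx => if_neg fun h => hx (T.le h)), sum_eq_sum_subgroup P _ (fun x hx => if_neg hx)]
    simp
  rw [h3]
  field_simp
  ring

theorem sum_e_eq_zero {lam : P →* ℂˣ} (hl : lam ≠ 1) : ∑ g, e P lam g = 0 := by
  classical
  rw [e, sum_indFun, sum_hom_eq_zero hl, mul_zero]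

theorem indFun_N_of_mem {g : G} (hg : g ∈ conjSet P) : indFun N (fun _ => 1) g = 1 := by
  obtain ⟨h1, k, hk⟩ := hg
  rw [← (indFun_isClassFunction N _).conj_inv g k, indFun_one_eq_ncard]
  have h2 := inv_conj_ne_one k h1
  generalize k⁻¹ * g * k = c at hk h2
  have : {k | k⁻¹ * c * k ∈ N} = (N : Set G) := by
    ext k
    refine ⟨fun h => (T.ti c hk h2 k).mp (T.mem_of_odd h ?_), fun h => T.le ((T.ti c hk h2 k).mpr h)⟩
    have := odd_orderOf_of_mem T.odd hk
    rwa [← (MulAut.conj k⁻¹).orderOf_eq c, MulAut.conj_apply, inv_inv] at this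
  rw [this]
  exact inv_mul_cancel₀ (card_subgroup_ne_zero N)

theorem indFun_N_of_not_mem {g : G} (h4 : g ^ 4 ≠ 1) (hg : g ∉ conjSet P) :
    indFun N (fun _ => 1) g = 0 := by
  refine indFun_eq_zero_of_not_conj _ _ _ fun x hx => ?_
  by_cases h : x⁻¹ * g * x ∈ P
  · exact hg ⟨by rintro rfl; simp at h4, x, h⟩
  · exact h4 (inv_conj_pow_eq_one_iff.mp (T.pow_four_eq_one hx h))

end Tor

end CL.Sz
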