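/-
Suzuki groups, character theory II: characters induced from the Sylow 2-subgroup.
-/
import Mathlib
import Cfsg.Agent.CHEV.SzChar1

set_option autoImplicit false
set_option linter.unusedSectionVars false

namespace CL.Sz

open Cfsg CL.Char
open scoped ComplexConjugate

variable {F : Type*} [Field F] [CharP F 2] [Finite F] {θ : F →+* F}

/-- The image of `c ↦ θ c + c`. -/
def rng (θ : F →+* F) : AddSubgroup F := ((θ : F →+ F) + AddMonoidHom.id F).range

theorem mem_rng {y : F} : y ∈ rng θ ↔ ∃ c, θ c + c = y := Iff.rfl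

open Classical in
/-- The additive character with kernel `rng θ`. -/
noncomputable def sg (θ : F →+* F) (y : F) : ℂ := if y ∈ rng θ then 1 else -1

theorem sg_of_mem {y : F} (h : y ∈ rng θ) : sg θ y = 1 := if_pos h

theorem sg_of_not_mem {y : F} (h : y ∉ rng θ) : sg θ y = -1 := if_neg h

theorem sg_zero : sg θ 0 = 1 := sg_of_mem (rng θ).zero_mem

theorem sg_eq (y : F) : sg θ y = 1 ∨ sg θ y = -1 := by
  by_cases h : y ∈ rng θ
  · exact Or.inl (sg_of_mem h)
  · exact Or.inr (sg_of_not_mem h)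

theorem sg_mul_self (y : F) : sg θ y * sg θ y = 1 := by
  rcases sg_eq (θ := θ) y with h | h <;> simp [h]

theorem conj_sg (y : F) : conj (sg θ y) = sg θ y := by
  rcases sg_eq (θ := θ) y with h | h <;> simp [h]

namespace Model

variable {G : Type*} [Group G] (M : Model θ G)

section sg
include M

theorem one_not_mem_rng : (1 : F) ∉ rng θ := by
  rintro ⟨c, hc⟩
  refine M.θ_add_self_ne_one (fun c h => ?_) c hc
  by_cases h0 : c = 0
  · exact Or.inl h0
  · exact Or.inr (mul_right_cancel₀ h0 (by rw [← pow_two, h, one_mul]))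

theorem index_rng : (rng θ).index = 2 := by
  rw [AddSubgroup.index_eq_two_iff']
  refine ⟨1, fun b => ?_⟩
  by_cases hb : b ∈ rng θ
  · exact Or.inr ⟨hb, fun h => M.one_not_mem_rng ((rng θ).add_mem_cancel_right hb |>.mp h)⟩
  · refine Or.inl ⟨?_, hb⟩
    obtain ⟨c, hc | hc⟩ := M.exists_θ_add_self b
    · exact absurd ⟨c, hc.symm⟩ hb
    · exact ⟨c, by change θ c + c = _; grind⟩

theorem sg_one : sg θ 1 = -1 := sg_of_not_mem M.one_not_mem_rng

theorem sg_add (a b : F) : sg θ (a + b) = sg θ a * sg θ b := by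
  have h := AddSubgroup.add_mem_iff_of_index_two M.index_rng (a := a) (b := b)
  by_cases ha : a ∈ rng θ <;> by_cases hb : b ∈ rng θ
  · rw [sg_of_mem ha, sg_of_mem hb, sg_of_mem (h.mpr (iff_of_true ha hb)), one_mul]
  · rw [sg_of_mem ha, sg_of_not_mem hb, sg_of_not_mem (fun h' => hb ((h.mp h').mp ha)), one_mul]
  · rw [sg_of_not_mem ha, sg_of_mem hb, sg_of_not_mem (fun h' => ha ((h.mp h').mpr hb)), mul_one]
  · rw [sg_of_not_mem ha, sg_of_not_mem hb, sg_of_mem (h.mpr (iff_of_false ha hb))]; simp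

theorem sg_θ (a : F) : sg θ (θ a) = sg θ a := by
  have h : θ a = (θ a + a) + a := by grind
  rw [h, M.sg_add, sg_of_mem (y := θ a + a) ⟨a, rfl⟩, one_mul]

theorem sum_sg [Fintype F] : ∑ y, sg θ y = 0 := by
  have h := Equiv.sum_comp (Equiv.addRight (1 : F)) (sg θ)
  simp only [Equiv.coe_addRight, M.sg_add, M.sg_one, mul_neg, mul_one, Finset.sum_neg_distrib] at h
  linear_combination (-1 / 2 : ℂ) * h

theorem sum_sg_units [Fintype Fˣ] (f : Fˣ → F) (hf : Function.Injective f) (h0 : ∀ l, f l ≠ 0) :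
    ∑ l, sg θ (f l) = -1 := by
  classical
  have := Fintype.ofFinite F
  have h1 : ∑ l, sg θ (f l) = ∑ y ∈ Finset.univ.erase 0, sg θ y := by
    refine Finset.sum_bij (fun l _ => f l) (fun l _ => by simp [h0]) (fun a _ b _ h => hf h) ?_
      fun _ _ => rfl
    intro y hy
    have hs : Function.Surjective fun l => Units.mk0 (f l) (h0 l) :=
      Finite.surjective_of_injective fun a b h => hf (congrArg Units.val h)
    obtain ⟨l, hl⟩ := hs (Units.mk0 y (Finset.ne_of_mem_erase hy))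
    exact ⟨l, Finset.mem_univ _, congrArg Units.val hl⟩
  have h2 := M.sum_sg
  rw [← Finset.add_sum_erase _ _ (Finset.mem_univ 0), sg_zero] at h2
  linear_combination h1 + h2

end sg

/-- A function on `U` given in coordinates. -/
def fU (t : F → F → ℂ) : M.U → ℂ := fun g => t (M.ρ g 2 3) (M.ρ g 1 3)

/-- The unipotent elements as elements of `U`. -/
noncomputable def uU (x y : F) : M.U := ⟨M.u x y, M.u_mem_U x y⟩

theorem coe_uU (x y : F) : (M.uU x y : G) = M.u x y := rfl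

theorem uU_surj (g : M.U) : ∃ x y, g = M.uU x y := by
  obtain ⟨_, x, y, rfl⟩ := g
  exact ⟨x, y, rfl⟩

theorem uU_mul (x y x' y' : F) : M.uU x y * M.uU x' y' = M.uU (x + x') (y + y' + θ x * x') :=
  Subtype.ext (M.u_mul _ _ _ _)

theorem uU_inj {x y x' y' : F} (h : M.uU x y = M.uU x' y') : x = x' ∧ y = y' :=
  M.u_inj (Subtype.ext_iff.mp h)

theorem fU_u (t : F → F → ℂ) (x y : F) : M.fU t (M.uU x y) = t x y := by
  simp [fU, coe_uU, ρ_u, uMat]

theorem fU_one (t : F → F → ℂ) : M.fU t 1 = t 0 0 := by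
  rw [← M.fU_u t 0 0]
  exact congrArg _ (Subtype.ext M.u_zero.symm)

theorem u_conj_u (a b x y : F) :
    M.u a b * M.u x y * (M.u a b)⁻¹ = M.u x (y + (θ a * x + θ x * a)) := by
  rw [mul_inv_eq_iff_eq_mul, u_mul, u_mul, u_eq_iff]
  constructor <;> grind

theorem uU_conj (a b x y : F) :
    M.uU a b * M.uU x y * (M.uU a b)⁻¹ = M.uU x (y + (θ a * x + θ x * a)) :=
  Subtype.ext (M.u_conj_u _ _ _ _)

theorem indFun_U [Fintype G] [Fintype Fˣ] {φ : M.U → ℂ} (hφ : IsClassFunction M.U φ) {x y : F}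
    (h1 : M.u x y ≠ 1) :
    indFun M.U φ (M.u x y) = ∑ l : Fˣ, φ (M.uU (θ l * x) (l ^ 2 * θ l * y)) := by
  classical
  rw [indFun_of_ti M.U M.B (fun c hc h1 => M.conj_mem_U_iff hc h1) φ (M.u_mem_U x y) h1]
  let f : M.U × Fˣ → M.B := fun p =>
    ⟨(M.h p.2)⁻¹ * p.1, M.B.mul_mem (M.B.inv_mem (M.h_mem_B _)) (M.U_le_B p.1.2)⟩
  have hf : Function.Bijective f := by
    rw [Nat.bijective_iff_injective_and_card]
    constructor
    · rintro ⟨v, l⟩ ⟨v', l'⟩ h
      have h2 : (M.h l)⁻¹ * v = (M.h l')⁻¹ * v' := congrArg Subtype.val h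
      have h3 : M.h (l' * l⁻¹) ∈ M.U := by
        have : M.h (l' * l⁻¹) = v' * (v : G)⁻¹ := by
          rw [map_mul, map_inv, eq_mul_inv_iff_mul_eq, mul_assoc, h2, mul_inv_cancel_left]
        rw [this]; exact M.U.mul_mem v'.2 (M.U.inv_mem v.2)
      obtain rfl : l' = l := mul_inv_eq_one.mp (M.h_mem_U.mp h3)
      rw [Subtype.ext (mul_left_cancel h2)]
    · rw [Nat.card_prod, card_U, card_B, Nat.card_units]
  rw [← hf.sum_comp, Fintype.sum_prod_type]
  have h2 : ∀ (v : M.U) (l : Fˣ), extendByZero M.U φ ((f (v, l) : G)⁻¹ * M.u x y * f (v, l)) =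
      φ (M.uU (θ l * x) (l ^ 2 * θ l * y)) := by
    intro v l
    have : (f (v, l) : G)⁻¹ * M.u x y * f (v, l) =
        (v : G)⁻¹ * (M.h l * M.u x y * (M.h l)⁻¹) * v := by simp only [f]; group
    rw [this, extendByZero_conj_mem' _ hφ v.2, h_conj_u, extendByZero_of_mem _ _ (M.u_mem_U _ _)]
    rfl
  simp only [h2, Finset.sum_const, Finset.card_univ, nsmul_eq_mul, Fintype.card_eq_nat_card]
  rw [← mul_assoc, inv_mul_cancel₀ (card_subgroup_ne_zero _), one_mul]

theorem exists_of_orderOf_two {g : G} (hg : orderOf g = 2) :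
    ∃ k y, y ≠ 0 ∧ k⁻¹ * g * k = M.u 0 y := by
  obtain ⟨h1, k, y, hy⟩ := M.mem_conjSet_Z_iff.mpr hg
  exact ⟨k, y, by rintro rfl; exact inv_conj_ne_one k h1 (hy.trans M.u_zero), hy⟩

theorem exists_of_orderOf_four {g : G} (hg : orderOf g = 4) :
    ∃ k y, k⁻¹ * g * k = M.u 1 y := by
  obtain ⟨k, rfl | rfl⟩ := M.conj_u_one_zero hg
  · exact ⟨k⁻¹, 0, by group⟩
  · exact ⟨k⁻¹, 0 + θ 1 * 1, by rw [← u_inv]; group⟩

theorem mem_conjSet_U_iff' {g : G} : g ∈ conjSet M.U ↔ orderOf g = 2 ∨ orderOf g = 4 := by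
  rw [mem_conjSet_U_iff]
  constructor
  · rintro ⟨h1, h⟩
    have h4 : orderOf g ∣ 2 ^ 2 := orderOf_dvd_of_pow_eq_one h
    obtain ⟨i, hi, h⟩ := (Nat.dvd_prime_pow Nat.prime_two).mp h4
    interval_cases i
    · exact absurd (orderOf_eq_one_iff.mp h) h1
    · exact Or.inl h
    · exact Or.inr h
  · rintro (h | h)
    · exact ⟨by rintro rfl; simp at h, orderOf_dvd_iff_pow_eq_one.mp (by rw [h]; norm_num)⟩
    · exact ⟨by rintro rfl; simp at h, orderOf_dvd_iff_pow_eq_one.mp (by rw [h])⟩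

section Phi

theorem isIrr_lin : IsIrrCharacter M.U (M.fU fun x _ => sg θ x) := by
  refine isIrrCharacter_of_map_mul (by rw [fU_one, sg_zero]) ?_
  intro g h
  obtain ⟨x, y, rfl⟩ := M.uU_surj g
  obtain ⟨x', y', rfl⟩ := M.uU_surj h
  rw [uU_mul, fU_u, fU_u, fU_u, M.sg_add]

variable [Fintype G]

/-- The character induced from a non-principal linear character of `U`. -/
noncomputable def Φ : G → ℂ := indFun M.U (M.fU fun x _ => sg θ x)

theorem Φ_isCharacter : IsCharacter G M.Φ := M.isIrr_lin.isCharacter.ind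

theorem Φ_one : M.Φ 1 = ((Nat.card F : ℂ) ^ 2 + 1) * (Nat.card F - 1) := by
  rw [Φ, indFun_one, fU_one, sg_zero, index_U, mul_one]
  push_cast [Nat.cast_sub (one_lt_card (F := F)).le]
  rfl

theorem Φ_two {g : G} (hg : orderOf g = 2) : M.Φ g = Nat.card F - 1 := by
  have := Fintype.ofFinite Fˣ
  obtain ⟨k, y, hy, h⟩ := M.exists_of_orderOf_two hg
  rw [← M.Φ_isCharacter.isClassFunction.conj_inv g k, h, Φ,
    M.indFun_U M.isIrr_lin.isClassFunction (fun h => hy (M.u_eq_one_iff.mp h).2)]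
  simp only [fU_u, mul_zero, sg_zero, Finset.sum_const, Finset.card_univ, nsmul_eq_mul, mul_one,
    Fintype.card_eq_nat_card, Nat.card_units]
  rw [Nat.cast_sub (one_lt_card (F := F)).le, Nat.cast_one]

theorem Φ_four {g : G} (hg : orderOf g = 4) : M.Φ g = -1 := by
  have := Fintype.ofFinite Fˣ
  obtain ⟨k, y, h⟩ := M.exists_of_orderOf_four hg
  rw [← M.Φ_isCharacter.isClassFunction.conj_inv g k, h, Φ,
    M.indFun_U M.isIrr_lin.isClassFunction (fun h => one_ne_zero (M.u_eq_one_iff.mp h).1)]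
  simp only [fU_u, mul_one]
  exact M.sum_sg_units _ (fun a b h => Units.ext (θ.injective h)) fun l => θ_ne_zero l.ne_zero

theorem Φ_of_not_mem {g : G} (h1 : g ≠ 1) (hg : g ∉ conjSet M.U) : M.Φ g = 0 :=
  indFun_of_not_mem_conjSet _ _ h1 hg

end Phi

section Psi

open Classical in
/-- The linear character of order four of `⟨u 1 0, Z⟩`, extended by zero. -/
noncomputable def mt (θ : F →+* F) (x y : F) : ℂ :=
  if x = 0 then sg θ y else if x = 1 then Complex.I * sg θ y else 0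

theorem mt_zero (y : F) : mt θ 0 y = sg θ y := if_pos rfl

theorem mt_one (y : F) : mt θ 1 y = Complex.I * sg θ y := by simp [mt]

theorem mt_of_ne {x : F} (h0 : x ≠ 0) (h1 : x ≠ 1) (y : F) : mt θ x y = 0 := by simp [mt, h0, h1]

theorem isIrr_mt [Fintype G] {s : ℕ} (hs : Nat.card F = 2 * s ^ 2) :
    IsIrrCharacter M.U ((s : ℂ) • M.fU (mt θ)) := by
  classical
  have h11 : (1 : F) + 1 = 0 := CharTwo.add_self_eq_zero 1
  refine isIrr_of_ramified (M.fU (mt θ)) {g | ∃ y, g = M.uU 0 y ∨ g = M.uU 1 y} ?_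
    (by rw [fU_one, mt_zero, sg_zero]) ?_ ?_ ?_ ?_ ?_
  · intro g k
    obtain ⟨x, y, rfl⟩ := M.uU_surj g
    obtain ⟨a, b, rfl⟩ := M.uU_surj k
    rw [uU_conj, fU_u, fU_u]
    by_cases h0 : x = 0
    · simp [h0]
    by_cases h1 : x = 1
    · rw [h1, mt_one, mt_one, M.sg_add, map_one, mul_one, one_mul, sg_of_mem (y := θ a + a) ⟨a, rfl⟩,
        mul_one]
    · rw [mt_of_ne h0 h1, mt_of_ne h0 h1]
  · rintro _ ⟨b, rfl | rfl⟩ g <;> obtain ⟨x, y, rfl⟩ := M.uU_surj g <;>
      rw [uU_mul, fU_u, fU_u, fU_u]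
    · rw [add_zero, mul_zero, add_zero, mt_zero]
      by_cases h0 : x = 0
      · rw [h0, mt_zero, mt_zero, M.sg_add]
      by_cases h1 : x = 1
      · rw [h1, mt_one, mt_one, M.sg_add, mul_assoc]
      · rw [mt_of_ne h0 h1, mt_of_ne h0 h1, zero_mul]
    · rw [mt_one]
      by_cases h0 : x = 0
      · rw [h0, zero_add, mt_one, mt_zero, map_zero, zero_mul, add_zero, M.sg_add]; ring
      by_cases h1 : x = 1
      · rw [h1, h11, mt_one, mt_zero, map_one, mul_one, M.sg_add, M.sg_add, M.sg_one]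
        linear_combination (-sg θ y * sg θ b) * Complex.I_mul_I
      · rw [mt_of_ne h0 h1, mt_of_ne (by grind) (by grind), zero_mul]
  · rintro _ ⟨b, rfl | rfl⟩ <;> rw [fU_u]
    · rw [mt_zero, conj_sg, sg_mul_self]
    · rw [mt_one, map_mul, conj_sg, Complex.conj_I]
      linear_combination (-sg θ b * sg θ b) * Complex.I_mul_I + sg_mul_self (θ := θ) b
  · intro g h
    obtain ⟨x, y, rfl⟩ := M.uU_surj g
    rw [fU_u, mt_of_ne]
    · rintro rfl; exact h ⟨y, Or.inl rfl⟩
    · rintro rfl; exact h ⟨y, Or.inr rfl⟩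
  · intro g h
    obtain ⟨x, y, rfl⟩ := M.uU_surj g
    have h0 : x ≠ 0 := by rintro rfl; exact h ⟨y, Or.inl rfl⟩
    have h1 : x ≠ 1 := by rintro rfl; exact h ⟨y, Or.inr rfl⟩
    have h2 : x ^ 2 + x ≠ 0 := by
      intro h
      have : x * (x + 1) = 0 := by rw [← h]; ring
      rcases mul_eq_zero.mp this with h | h
      · exact h0 h
      · exact h1 (by grind)
    obtain ⟨a, ha⟩ := θ_surjective (θ := θ) (x ^ 2 + x)⁻¹
    refine ⟨M.uU a 0, M.uU 0 (θ a * x + θ x * a), ⟨_, Or.inl rfl⟩, ?_, ?_⟩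
    · rw [uU_conj, uU_mul]
      congr 1 <;> simp [add_comm]
    · rw [fU_u, mt_zero, M.sg_add, ← M.sg_θ (θ x * a), map_mul, M.tits, ← M.sg_add,
        show θ a * x + x ^ 2 * θ a = θ a * (x ^ 2 + x) by ring, ha, inv_mul_cancel₀ h2, M.sg_one]
      norm_num
  · have : {g : M.U | ∃ y, g = M.uU 0 y ∨ g = M.uU 1 y} =
        (Set.range fun y => M.uU 0 y) ∪ Set.range fun y => M.uU 1 y := by
      ext g
      simp only [Set.mem_ofPred_eq, Set.mem_union, Set.mem_range, exists_or, eq_comm]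
    rw [this, Set.ncard_union_eq, Set.ncard_range_of_injective, Set.ncard_range_of_injective, card_U,
      hs]
    · ring
    · exact fun a b h => (M.uU_inj h).2
    · exact fun a b h => (M.uU_inj h).2
    · rw [Set.disjoint_left]
      rintro _ ⟨a, rfl⟩ ⟨b, h⟩
      exact one_ne_zero (M.uU_inj h).1

variable [Fintype G]

/-- The character induced from a non-linear irreducible character of `U`. -/
noncomputable def Ψ (s : ℕ) : G → ℂ := indFun M.U ((s : ℂ) • M.fU (mt θ))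

variable {s : ℕ} (hs : Nat.card F = 2 * s ^ 2)
include hs

theorem Ψ_isCharacter : IsCharacter G (M.Ψ s) := (M.isIrr_mt hs).isCharacter.ind

omit hs in
theorem Ψ_one : M.Ψ s 1 = ((Nat.card F : ℂ) ^ 2 + 1) * (Nat.card F - 1) * s := by
  rw [Ψ, indFun_one, Pi.smul_apply, fU_one, mt_zero, sg_zero, index_U, smul_eq_mul, mul_one]
  push_cast [Nat.cast_sub (one_lt_card (F := F)).le]
  rfl

theorem Ψ_two {g : G} (hg : orderOf g = 2) : M.Ψ s g = -s := by
  have := Fintype.ofFinite Fˣ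
  obtain ⟨k, y, hy, h⟩ := M.exists_of_orderOf_two hg
  rw [← (M.Ψ_isCharacter hs).isClassFunction.conj_inv g k, h, Ψ,
    M.indFun_U (M.isIrr_mt hs).isClassFunction (fun h => hy (M.u_eq_one_iff.mp h).2)]
  simp only [Pi.smul_apply, fU_u, mul_zero, mt_zero, smul_eq_mul]
  rw [← Finset.mul_sum, M.sum_sg_units _
    (fun a b h => Units.ext (M.sq_mul_θ_injective (mul_right_cancel₀ hy h)))
    fun l => mul_ne_zero (mul_ne_zero (pow_ne_zero _ l.ne_zero) (θ_ne_zero l.ne_zero)) hy]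
  ring

theorem Ψ_four {g : G} (hg : orderOf g = 4) :
    M.Ψ s g = s * Complex.I ∨ M.Ψ s g = -(s * Complex.I) := by
  have := Fintype.ofFinite Fˣ
  obtain ⟨k, y, h⟩ := M.exists_of_orderOf_four hg
  rw [← (M.Ψ_isCharacter hs).isClassFunction.conj_inv g k, h, Ψ,
    M.indFun_U (M.isIrr_mt hs).isClassFunction (fun h => one_ne_zero (M.u_eq_one_iff.mp h).1),
    Finset.sum_eq_single 1]
  · simp only [Pi.smul_apply, fU_u, Units.val_one, map_one, mul_one, mt_one, smul_eq_mul]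
    rcases sg_eq (θ := θ) (1 ^ 2 * y) with h | h <;> rw [h] <;> simp
  · intro l _ hl
    rw [Pi.smul_apply, fU_u, mul_one, mt_of_ne (θ_ne_zero l.ne_zero)
      (fun h => hl (Units.ext (θ_eq_one h))), smul_zero]
  · simp

omit hs in
theorem Ψ_of_not_mem {g : G} (h1 : g ≠ 1) (hg : g ∉ conjSet M.U) : M.Ψ s g = 0 :=
  indFun_of_not_mem_conjSet _ _ h1 hg

end Psi

section Perm

variable [Fintype G]

/-- The permutation character. -/
noncomputable def pc : G → ℂ := indFun M.B fun _ => 1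

theorem pc_isCharacter : IsCharacter G M.pc := isCharacter_one.ind

theorem pc_eq (g : G) : M.pc g = (Nat.card (MulAction.fixedBy M.Ω g) : ℂ) :=
  indFun_one_eq_card_fixedBy _ _

theorem pc_one : M.pc 1 = (Nat.card F : ℂ) ^ 2 + 1 := by
  rw [pc, indFun_one, index_B]; simp

theorem pc_of_U {g : G} (hg : g ∈ conjSet M.U) : M.pc g = 1 := by
  obtain ⟨h1, k, hk⟩ := hg
  rw [← M.pc_isCharacter.isClassFunction.conj_inv g k, pc_eq]
  have : MulAction.fixedBy M.Ω (k⁻¹ * g * k) = {M.inf} := by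
    ext a
    exact ⟨fun h => M.eq_inf_of_mem_U hk (inv_conj_ne_one k h1) h,
      by rintro rfl; exact M.smul_inf_eq_inf.mpr (M.U_le_B hk)⟩
  rw [this]; simp

theorem pc_of_H {g : G} (hg : g ∈ conjSet M.H) : M.pc g = 2 := by
  obtain ⟨h1, k, hk⟩ := hg
  rw [← M.pc_isCharacter.isClassFunction.conj_inv g k, pc_eq]
  have : MulAction.fixedBy M.Ω (k⁻¹ * g * k) = {M.inf, M.pt 0 0} := by
    ext a
    refine ⟨fun h => M.fix_of_mem_H hk (inv_conj_ne_one k h1) h, ?_⟩
    rintro (rfl | rfl)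
    · exact (M.mem_H_iff_fix.mp hk).1
    · exact (M.mem_H_iff_fix.mp hk).2
  rw [this, Nat.card_coe_set_eq, Set.ncard_pair (M.pt_ne_inf 0 0).symm]; simp

theorem pc_of_FPF {g : G} (hg : M.FPF g) : M.pc g = 0 := by
  rw [pc_eq]
  have : MulAction.fixedBy M.Ω g = ∅ := Set.eq_empty_of_forall_notMem hg
  rw [this]; simp

include M in
theorem indFun_N_two {P N : Subgroup G} {s : ℕ} (T : Tor P N s) {x : G} (h2 : orderOf x = 2) :
    indFun N (fun _ => 1) x = (Nat.card F : ℂ) ^ 2 / s := by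
  have h3 := ncard_conj_mem_mul N (X := {g | orderOf g = 2}) (x := x)
    (fun y hy => (M.conj_of_orderOf_two h2 hy).imp fun k hk => Or.inl hk)
    (fun y hy k => ((MulAut.conj k).orderOf_eq y).trans hy)
  simp only [Set.mem_ofPred_eq] at h3
  rw [M.ncard_two, T.ncard_two, M.card_G] at h3
  have hq := one_lt_card (F := F)
  have h4 : {g | g⁻¹ * x * g ∈ N}.ncard = Nat.card F ^ 2 * Nat.card P :=
    Nat.eq_of_mul_eq_mul_left (Nat.mul_pos (Nat.add_one_pos _) (by omega)) (h3.trans (by ring))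
  have := card_subgroup_ne_zero P
  rw [indFun_one_eq_ncard, h4, T.card_N_eq]
  push_cast
  field_simp

include M in
theorem indFun_N_four {P N : Subgroup G} (T : Tor P N 4) {x : G} (h2 : orderOf x = 4) :
    indFun N (fun _ => 1) x = (Nat.card F : ℂ) / 2 := by
  have h3 := ncard_conj_mem_mul N (X := {g | orderOf g = 4}) (x := x)
    (fun y hy => M.conj_of_orderOf_four h2 hy)
    (fun y hy k => ((MulAut.conj k).orderOf_eq y).trans hy)
  simp only [Set.mem_ofPred_eq] at h3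
  rw [M.ncard_four, T.ncard_four, M.card_G] at h3
  have hq := one_lt_card (F := F)
  have h4 : {g | g⁻¹ * x * g ∈ N}.ncard = Nat.card F * 2 * Nat.card P :=
    Nat.eq_of_mul_eq_mul_left (Nat.mul_pos (Nat.add_one_pos _) (Nat.mul_pos (by omega) (by omega)))
      (h3.trans (by ring))
  have := card_subgroup_ne_zero P
  rw [indFun_one_eq_ncard, h4, T.card_N_eq]
  push_cast
  field_simp
  ring

end Perm

end Model

end CL.Sz
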