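/-
Suzuki groups, character theory III: the character table.
-/
import Mathlib
import Cfsg.Agent.CHEV.SzChar2
import Cfsg.Prelude.Def_DegreeGraph

set_option autoImplicit false
set_option linter.unusedSectionVars false

namespace CL.Sz

open Cfsg CL.Char
open scoped ComplexConjugate

variable {F : Type*} [Field F] [CharP F 2] [Finite F] {θ : F →+* F} {G : Type*} [Group G]

/-- The data needed for the character table. -/
structure Setup (M : Model θ G) (s : ℕ) (P₁ N₁ P₂ N₂ : Subgroup G) : Prop where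
  hq : Nat.card F = 2 * s ^ 2
  hs : 2 ≤ s
  T₀ : Tor M.H M.N 2
  T₁ : Tor P₁ N₁ 4
  T₂ : Tor P₂ N₂ 4
  c₁ : Nat.card P₁ = 2 * s ^ 2 + 2 * s + 1
  c₂ : Nat.card P₂ + 2 * s = 2 * s ^ 2 + 1
  fpf : ∀ g, M.FPF g ↔ g ∈ conjSet P₁ ∨ g ∈ conjSet P₂
  disj : ∀ g ∈ conjSet P₁, g ∉ conjSet P₂

theorem Model.exists_setup {F : Type*} [Field F] [CharP F 2] [Fintype F] {m : ℕ} {G : Type*}
    [Group G] (M : Model (theta F m) G) (hm : 1 ≤ m) (hF : Fintype.card F = 2 ^ (2 * m + 1)) :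
    ∃ P₁ N₁ P₂ N₂ : Subgroup G, Setup M (2 ^ m) P₁ N₁ P₂ N₂ := by
  obtain ⟨⟨z₁, h11, h12⟩, h13⟩ := M.torus hm hF (Or.inl rfl)
  obtain ⟨⟨z₂, h21, h22⟩, h23⟩ := M.torus hm hF (Or.inr rfl)
  obtain ⟨a1, a2, a3, -⟩ := h13 z₁ h11 h12
  obtain ⟨b1, b2, b3, -⟩ := h23 z₂ h21 h22
  obtain ⟨t, ht0, ht1⟩ := exists_ne_zero_one hm hF
  refine ⟨_, _, _, _, ?_, ?_, M.tor_H ht0 ht1, a1.tor hm hF, b1.tor hm hF, ?_, ?_, fun g => ?_, ?_⟩
  · rw [natCard_eq hF]; ring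
  · exact Nat.le_self_pow (by omega) 2
  · rw [a3]; ring
  · have := r_le_q m
    rw [b3, show 2 * (2 ^ m) ^ 2 = 2 ^ (2 * m + 1) by ring, show 2 * 2 ^ m = 2 ^ (m + 1) by ring]
    simp only [kMinus]
    omega
  · refine ⟨fun h => ?_, fun h => h.elim a1.of_mem_conjSet b1.of_mem_conjSet⟩
    rw [a2, b2]
    exact (h.pow_eq_one_or hF).imp (fun h' => ⟨h.ne_one, h'⟩) fun h' => ⟨h.ne_one, h'⟩
  · rw [a2, b2]
    rintro g ⟨h1, h2⟩ ⟨-, h3⟩
    exact h1 (Model.eq_one_of_pow_coprime (coprime_kPlus_kMinus m) h2 h3)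

namespace Setup

open Tor

variable [Fintype G] {M : Model θ G} {s : ℕ} {P₁ N₁ P₂ N₂ : Subgroup G}
  (S : Setup M s P₁ N₁ P₂ N₂)
include S

theorem cases (g : G) : g = 1 ∨ orderOf g = 2 ∨ orderOf g = 4 ∨ g ∈ conjSet M.H ∨
    g ∈ conjSet P₁ ∨ g ∈ conjSet P₂ := by
  by_cases h1 : g = 1
  · exact Or.inl h1
  rcases M.trichotomy h1 with h | h | h
  · rcases M.mem_conjSet_U_iff'.mp h with h | h <;> simp [h]
  · simp [h]
  · rcases (S.fpf g).mp h with h | h <;> simp [h]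

theorem qC : (Nat.card F : ℂ) = 2 * s ^ 2 := by rw [S.hq]; push_cast; rfl
theorem c₀C : (Nat.card M.H : ℂ) = 2 * s ^ 2 - 1 := by
  rw [M.card_H, Nat.cast_sub (Model.one_lt_card (F := F)).le, S.qC, Nat.cast_one]
theorem c₁C : (Nat.card P₁ : ℂ) = 2 * s ^ 2 + 2 * s + 1 := by rw [S.c₁]; push_cast; rfl
theorem c₂C : (Nat.card P₂ : ℂ) = 2 * s ^ 2 - 2 * s + 1 := by
  have := congrArg (Nat.cast : ℕ → ℂ) S.c₂
  push_cast at this
  linear_combination this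
theorem GC : (Nat.card G : ℂ) = 4 * s ^ 4 * (4 * s ^ 4 + 1) * (2 * s ^ 2 - 1) := by
  rw [M.card_G]
  push_cast [Nat.cast_sub (Model.one_lt_card (F := F)).le, S.qC]
  ring

omit S in
theorem index_eq {P : Subgroup G} {a : ℂ} (h : (Nat.card P : ℂ) * a = Nat.card G) :
    (P.index : ℂ) = a :=
  mul_left_cancel₀ (card_subgroup_ne_zero P) (by rw [h, ← Nat.cast_mul, P.card_mul_index])

theorem i₀ : (M.H.index : ℂ) = 4 * s ^ 4 * (4 * s ^ 4 + 1) :=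
  index_eq (by rw [S.c₀C, S.GC]; ring)
theorem i₁ : (P₁.index : ℂ) = 4 * s ^ 4 * (2 * s ^ 2 - 1) * (2 * s ^ 2 - 2 * s + 1) :=
  index_eq (by rw [S.c₁C, S.GC]; ring)
theorem i₂ : (P₂.index : ℂ) = 4 * s ^ 4 * (2 * s ^ 2 - 1) * (2 * s ^ 2 + 2 * s + 1) :=
  index_eq (by rw [S.c₂C, S.GC]; ring)
theorem j₁ : (N₁.index : ℂ) = s ^ 4 * (2 * s ^ 2 - 1) * (2 * s ^ 2 - 2 * s + 1) :=
  index_eq (by rw [S.T₁.card_N_eq, S.c₁C, S.GC]; push_cast; ring)
theorem j₂ : (N₂.index : ℂ) = s ^ 4 * (2 * s ^ 2 - 1) * (2 * s ^ 2 + 2 * s + 1) :=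
  index_eq (by rw [S.T₂.card_N_eq, S.c₂C, S.GC]; push_cast; ring)

theorem fpf₁ {g : G} (h : g ∈ conjSet P₁) : M.FPF g := (S.fpf g).mpr (Or.inl h)
theorem fpf₂ {g : G} (h : g ∈ conjSet P₂) : M.FPF g := (S.fpf g).mpr (Or.inr h)
theorem U_not₀ {g : G} (h : g ∈ conjSet M.U) : g ∉ conjSet M.H := M.not_mem_conjSet_H_of_U h
theorem U_not₁ {g : G} (h : g ∈ conjSet M.U) : g ∉ conjSet P₁ :=
  fun h' => (S.fpf₁ h').not_mem_conjSet_U h
theorem U_not₂ {g : G} (h : g ∈ conjSet M.U) : g ∉ conjSet P₂ :=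
  fun h' => (S.fpf₂ h').not_mem_conjSet_U h
theorem H_notU {g : G} (h : g ∈ conjSet M.H) : g ∉ conjSet M.U := fun h' => S.U_not₀ h' h
theorem H_not₁ {g : G} (h : g ∈ conjSet M.H) : g ∉ conjSet P₁ :=
  fun h' => (S.fpf₁ h').not_mem_conjSet_H h
theorem H_not₂ {g : G} (h : g ∈ conjSet M.H) : g ∉ conjSet P₂ :=
  fun h' => (S.fpf₂ h').not_mem_conjSet_H h
theorem not₁ {g : G} (h : g ∈ conjSet P₂) : g ∉ conjSet P₁ := fun h' => S.disj g h' h
theorem pow_four_ne {g : G} (h1 : g ≠ 1) (h : g ∉ conjSet M.U) : g ^ 4 ≠ 1 :=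
  fun h' => h (M.mem_conjSet_U_iff.mpr ⟨h1, h'⟩)
theorem U_two {g : G} (h : orderOf g = 2) : g ∈ conjSet M.U := M.mem_conjSet_U_iff'.mpr (Or.inl h)
theorem U_four {g : G} (h : orderOf g = 4) : g ∈ conjSet M.U := M.mem_conjSet_U_iff'.mpr (Or.inr h)

omit S in
/-- The Steinberg character. -/
noncomputable def St (M : Model θ G) : G → ℂ := M.pc - fun _ => 1

omit S in
/-- The principal series. -/
noncomputable def X (M : Model θ G) (μ : M.H →* ℂˣ) : G → ℂ := M.pc + e M.H μ - e M.H 1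

omit S in
/-- The two discrete series (`a = s - 1`, `P = P₁` and `a = s + 1`, `P = P₂`). -/
noncomputable def Y (M : Model θ G) (s a : ℕ) (P : Subgroup G) (lam : P →* ℂˣ) : G → ℂ :=
  M.Φ + (a : ℂ) • (M.Ψ s + fun g => conj (M.Ψ s g)) - e P lam

omit S in
/-- The unipotent cuspidal character. -/
noncomputable def W (M : Model θ G) (s : ℕ) (N₁ N₂ : Subgroup G) : G → ℂ :=
  M.Ψ s + indFun N₁ (fun _ => 1) - indFun N₂ (fun _ => 1)

theorem St_isGen : IsGeneralizedCharacter G (St M) := M.pc_isCharacter.isGen.sub isGen_one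
theorem X_isGen (μ : M.H →* ℂˣ) : IsGeneralizedCharacter G (X M μ) :=
  (M.pc_isCharacter.add (e_isCharacter μ)).isGen.sub (e_isCharacter 1).isGen
theorem Y_isGen (a : ℕ) {P : Subgroup G} (lam : P →* ℂˣ) :
    IsGeneralizedCharacter G (Y M s a P lam) :=
  (M.Φ_isCharacter.add (((M.Ψ_isCharacter S.hq).add
    (M.Ψ_isCharacter S.hq).conj).natCast_smul a)).isGen.sub (e_isCharacter lam).isGen
theorem W_isGen : IsGeneralizedCharacter G (W M s N₁ N₂) :=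
  ((M.Ψ_isCharacter S.hq).add isCharacter_one.ind).isGen.sub isCharacter_one.ind.isGen

theorem St_one : St M 1 = 4 * s ^ 4 := by simp only [St, Pi.sub_apply, M.pc_one, S.qC]; ring
theorem St_U {g : G} (h : g ∈ conjSet M.U) : St M g = 0 := by simp [St, M.pc_of_U h]
theorem St_H {g : G} (h : g ∈ conjSet M.H) : St M g = 1 := by
  simp only [St, Pi.sub_apply, M.pc_of_H h]; ring
theorem St_FPF {g : G} (h : M.FPF g) : St M g = -1 := by simp [St, M.pc_of_FPF h]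

theorem X_one (μ : M.H →* ℂˣ) : X M μ 1 = 4 * s ^ 4 + 1 := by
  simp only [X, Pi.sub_apply, Pi.add_apply, M.pc_one, e_one, S.qC]; ring
theorem X_U (μ : M.H →* ℂˣ) {g : G} (h : g ∈ conjSet M.U) : X M μ g = 1 := by
  simp [X, M.pc_of_U h, e_of_not_mem _ h.1 (S.U_not₀ h)]
theorem X_H (μ : M.H →* ℂˣ) {g : G} (h : g ∈ conjSet M.H) : X M μ g = e M.H μ g := by
  simp [X, M.pc_of_H h, S.T₀.e_triv h]
theorem X_FPF (μ : M.H →* ℂˣ) {g : G} (h : M.FPF g) : X M μ g = 0 := by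
  simp [X, M.pc_of_FPF h, e_of_not_mem _ h.ne_one h.not_mem_conjSet_H]

theorem Y_one (a : ℕ) {P : Subgroup G} (lam : P →* ℂˣ) : Y M s a P lam 1 =
    (4 * s ^ 4 + 1) * (2 * s ^ 2 - 1) * (1 + 2 * a * s) - P.index := by
  simp only [Y, Pi.sub_apply, Pi.add_apply, Pi.smul_apply, M.Φ_one, M.Ψ_one, e_one, S.qC,
    smul_eq_mul, map_mul, map_add, map_sub, map_pow, map_one, Complex.conj_natCast,
    Complex.conj_ofNat]
  ring
theorem Y_two (a : ℕ) {P : Subgroup G} (lam : P →* ℂˣ) {g : G} (h : orderOf g = 2)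
    (hP : g ∉ conjSet P) : Y M s a P lam g = 2 * s ^ 2 - 1 - 2 * a * s := by
  simp only [Y, Pi.sub_apply, Pi.add_apply, Pi.smul_apply, M.Φ_two h, M.Ψ_two S.hq h, S.qC,
    e_of_not_mem _ (S.U_two h).1 hP, smul_eq_mul, map_neg, Complex.conj_natCast]
  ring
theorem Y_four (a : ℕ) {P : Subgroup G} (lam : P →* ℂˣ) {g : G} (h : orderOf g = 4)
    (hP : g ∉ conjSet P) : Y M s a P lam g = -1 := by
  rcases M.Ψ_four S.hq h with h' | h' <;>
    simp [Y, M.Φ_four h, h', e_of_not_mem _ (S.U_four h).1 hP]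
theorem Y_odd (a : ℕ) {P : Subgroup G} (lam : P →* ℂˣ) {g : G} (h1 : g ≠ 1)
    (h : g ∉ conjSet M.U) : Y M s a P lam g = -e P lam g := by
  simp [Y, M.Φ_of_not_mem h1 h, M.Ψ_of_not_mem h1 h]

theorem s_pred : ((s - 1 : ℕ) : ℂ) = s - 1 := by
  rw [Nat.cast_sub (by have := S.hs; omega), Nat.cast_one]

theorem Y₁_one (lam : P₁ →* ℂˣ) :
    Y M s (s - 1) P₁ lam 1 = (2 * s ^ 2 - 1) * (2 * s ^ 2 - 2 * s + 1) := by
  rw [S.Y_one, S.i₁, S.s_pred]; ring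
theorem Y₂_one (lam : P₂ →* ℂˣ) :
    Y M s (s + 1) P₂ lam 1 = (2 * s ^ 2 - 1) * (2 * s ^ 2 + 2 * s + 1) := by
  rw [S.Y_one, S.i₂]; push_cast; ring
theorem Y₁_two (lam : P₁ →* ℂˣ) {g : G} (h : orderOf g = 2) :
    Y M s (s - 1) P₁ lam g = 2 * s - 1 := by
  rw [S.Y_two _ _ h (S.U_not₁ (S.U_two h)), S.s_pred]; ring
theorem Y₂_two (lam : P₂ →* ℂˣ) {g : G} (h : orderOf g = 2) :
    Y M s (s + 1) P₂ lam g = -(2 * s + 1) := by
  rw [S.Y_two _ _ h (S.U_not₂ (S.U_two h))]; push_cast; ring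
theorem Y₁_four (lam : P₁ →* ℂˣ) {g : G} (h : orderOf g = 4) : Y M s (s - 1) P₁ lam g = -1 :=
  S.Y_four _ _ h (S.U_not₁ (S.U_four h))
theorem Y₂_four (lam : P₂ →* ℂˣ) {g : G} (h : orderOf g = 4) : Y M s (s + 1) P₂ lam g = -1 :=
  S.Y_four _ _ h (S.U_not₂ (S.U_four h))
theorem Y₁_H (lam : P₁ →* ℂˣ) {g : G} (h : g ∈ conjSet M.H) : Y M s (s - 1) P₁ lam g = 0 := by
  rw [S.Y_odd _ _ h.1 (S.H_notU h), e_of_not_mem _ h.1 (S.H_not₁ h), neg_zero]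
theorem Y₂_H (lam : P₂ →* ℂˣ) {g : G} (h : g ∈ conjSet M.H) : Y M s (s + 1) P₂ lam g = 0 := by
  rw [S.Y_odd _ _ h.1 (S.H_notU h), e_of_not_mem _ h.1 (S.H_not₂ h), neg_zero]
theorem Y₁_₁ (lam : P₁ →* ℂˣ) {g : G} (h : g ∈ conjSet P₁) :
    Y M s (s - 1) P₁ lam g = -e P₁ lam g := S.Y_odd _ _ h.1 (S.fpf₁ h).not_mem_conjSet_U
theorem Y₁_₂ (lam : P₁ →* ℂˣ) {g : G} (h : g ∈ conjSet P₂) : Y M s (s - 1) P₁ lam g = 0 := by
  rw [S.Y_odd _ _ h.1 (S.fpf₂ h).not_mem_conjSet_U, e_of_not_mem _ h.1 (S.not₁ h), neg_zero]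
theorem Y₂_₂ (lam : P₂ →* ℂˣ) {g : G} (h : g ∈ conjSet P₂) :
    Y M s (s + 1) P₂ lam g = -e P₂ lam g := S.Y_odd _ _ h.1 (S.fpf₂ h).not_mem_conjSet_U
theorem Y₂_₁ (lam : P₂ →* ℂˣ) {g : G} (h : g ∈ conjSet P₁) : Y M s (s + 1) P₂ lam g = 0 := by
  rw [S.Y_odd _ _ h.1 (S.fpf₁ h).not_mem_conjSet_U, e_of_not_mem _ h.1 (S.disj g h), neg_zero]

theorem W_one : W M s N₁ N₂ 1 = s * (2 * s ^ 2 - 1) := by
  simp only [W, Pi.sub_apply, Pi.add_apply, M.Ψ_one, indFun_one, S.j₁, S.j₂, S.qC]; ring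
theorem W_two {g : G} (h : orderOf g = 2) : W M s N₁ N₂ g = -s := by
  simp [W, M.Ψ_two S.hq h, M.indFun_N_two S.T₁ h, M.indFun_N_two S.T₂ h]
theorem W_four {g : G} (h : orderOf g = 4) :
    W M s N₁ N₂ g = s * Complex.I ∨ W M s N₁ N₂ g = -(s * Complex.I) := by
  simpa [W, M.indFun_N_four S.T₁ h, M.indFun_N_four S.T₂ h] using M.Ψ_four S.hq h
theorem W_H {g : G} (h : g ∈ conjSet M.H) : W M s N₁ N₂ g = 0 := by
  have h4 := S.pow_four_ne h.1 (S.H_notU h)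
  simp [W, M.Ψ_of_not_mem h.1 (S.H_notU h), S.T₁.indFun_N_of_not_mem h4 (S.H_not₁ h),
    S.T₂.indFun_N_of_not_mem h4 (S.H_not₂ h)]
theorem W_₁ {g : G} (h : g ∈ conjSet P₁) : W M s N₁ N₂ g = 1 := by
  have hU := (S.fpf₁ h).not_mem_conjSet_U
  simp [W, M.Ψ_of_not_mem h.1 hU, S.T₁.indFun_N_of_mem h,
    S.T₂.indFun_N_of_not_mem (S.pow_four_ne h.1 hU) (S.disj g h)]
theorem W_₂ {g : G} (h : g ∈ conjSet P₂) : W M s N₁ N₂ g = -1 := by
  have hU := (S.fpf₂ h).not_mem_conjSet_U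
  simp [W, M.Ψ_of_not_mem h.1 hU, S.T₂.indFun_N_of_mem h,
    S.T₁.indFun_N_of_not_mem (S.pow_four_ne h.1 hU) (S.not₁ h)]

/-- Summation over the group of a function that is constant on the 2-elements of each order. -/
theorem sum_eq (f f₀ f₁ f₂ : G → ℂ) (a b : ℂ) (h2 : ∀ g, orderOf g = 2 → f g = a)
    (h4 : ∀ g, orderOf g = 4 → f g = b) (h₀ : ∀ g ∈ conjSet M.H, f g = f₀ g)
    (h₁ : ∀ g ∈ conjSet P₁, f g = f₁ g) (h₂ : ∀ g ∈ conjSet P₂, f g = f₂ g)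
    (z₀ : ∀ g, g ≠ 1 → g ∉ conjSet M.H → f₀ g = 0) (z₁ : ∀ g, g ≠ 1 → g ∉ conjSet P₁ → f₁ g = 0)
    (z₂ : ∀ g, g ≠ 1 → g ∉ conjSet P₂ → f₂ g = 0) :
    ∑ g, f g = f 1 + (4 * s ^ 4 + 1) * (2 * s ^ 2 - 1) * (a + 2 * s ^ 2 * b) +
      (∑ g, f₀ g - f₀ 1) + (∑ g, f₁ g - f₁ 1) + (∑ g, f₂ g - f₂ 1) := by
  classical
  have key : ∀ g, f g = (if g = 1 then f 1 - f₀ 1 - f₁ 1 - f₂ 1 else 0) +
      (if orderOf g = 2 then a else 0) + (if orderOf g = 4 then b else 0) + f₀ g + f₁ g + f₂ g := by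
    intro g
    have hodd : g ≠ 1 → g ∉ conjSet M.U → orderOf g ≠ 2 ∧ orderOf g ≠ 4 := fun _ h =>
      ⟨fun h' => h (S.U_two h'), fun h' => h (S.U_four h')⟩
    rcases S.cases g with rfl | h | h | h | h | h
    · simp; ring
    · have hU := S.U_two h
      simp [h, hU.1, h2 g h, z₀ g hU.1 (S.U_not₀ hU), z₁ g hU.1 (S.U_not₁ hU),
        z₂ g hU.1 (S.U_not₂ hU)]
    · have hU := S.U_four h
      simp [h, hU.1, h4 g h, z₀ g hU.1 (S.U_not₀ hU), z₁ g hU.1 (S.U_not₁ hU),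
        z₂ g hU.1 (S.U_not₂ hU)]
    · obtain ⟨a1, a2⟩ := hodd h.1 (S.H_notU h)
      simp [a1, a2, h.1, h₀ g h, z₁ g h.1 (S.H_not₁ h), z₂ g h.1 (S.H_not₂ h)]
    · obtain ⟨a1, a2⟩ := hodd h.1 (S.fpf₁ h).not_mem_conjSet_U
      simp [a1, a2, h.1, h₁ g h, z₀ g h.1 (S.fpf₁ h).not_mem_conjSet_H, z₂ g h.1 (S.disj g h)]
    · obtain ⟨a1, a2⟩ := hodd h.1 (S.fpf₂ h).not_mem_conjSet_U
      simp [a1, a2, h.1, h₂ g h, z₀ g h.1 (S.fpf₂ h).not_mem_conjSet_H, z₁ g h.1 (S.not₁ h)]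
  have hcount : ∀ (n : ℕ) (c : ℂ), ∑ g : G, (if orderOf g = n then c else 0) =
      ({g : G | orderOf g = n}.ncard : ℂ) * c := by
    intro n c
    rw [← Finset.sum_filter, Finset.sum_const, nsmul_eq_mul, Set.ncard_eq_toFinset_card']
    simp
  rw [Finset.sum_congr rfl fun g _ => key g]
  simp only [Finset.sum_add_distrib, Finset.sum_ite_eq', Finset.mem_univ, if_true, hcount,
    M.ncard_two, M.ncard_four]
  push_cast [Nat.cast_sub (Model.one_lt_card (F := F)).le, S.qC]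
  ring

omit S in
theorem sum_e_triv (P : Subgroup G) : ∑ g, e P 1 g = Nat.card G := by
  have := Fintype.ofFinite P
  rw [e, sum_indFun, ← P.card_mul_index]
  simp [mul_comm]

theorem irr_of_sum {χ : G → ℂ} (h : IsGeneralizedCharacter G χ)
    (h1 : ∑ g, χ g * conj (χ g) = Nat.card G) {d : ℝ} (hd : 0 < d) (h2 : χ 1 = d) :
    IsIrrCharacter G χ :=
  h.irr_of_pos (by rw [classInner_def, h1, inv_mul_cancel₀ (card_ne_zero G)]) (by simpa [h2])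

theorem sR : (2 : ℝ) ≤ s := by exact_mod_cast S.hs

theorem St_irr : IsIrrCharacter G (St M) := by
  have := S.sR
  refine S.irr_of_sum S.St_isGen ?_ (d := 4 * s ^ 4) (by positivity) (by simp [S.St_one])
  rw [S.sum_eq _ (fun g => e M.H 1 g / 2) (fun g => e P₁ 1 g / 4) (fun g => e P₂ 1 g / 4) 0 0
    (fun g h => by simp [S.St_U (S.U_two h)]) (fun g h => by simp [S.St_U (S.U_four h)])
    (fun g h => by simp [S.St_H h, S.T₀.e_triv h])
    (fun g h => by simp [S.St_FPF (S.fpf₁ h), S.T₁.e_triv h])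
    (fun g h => by simp [S.St_FPF (S.fpf₂ h), S.T₂.e_triv h])
    (fun g h1 h => by simp [e_of_not_mem _ h1 h]) (fun g h1 h => by simp [e_of_not_mem _ h1 h])
    (fun g h1 h => by simp [e_of_not_mem _ h1 h])]
  simp only [← Finset.sum_div, sum_e_triv, e_one, S.St_one, S.i₀, S.i₁, S.i₂, S.GC, map_mul,
    map_pow, Complex.conj_natCast, Complex.conj_ofNat]
  ring

theorem X_irr {μ : M.H →* ℂˣ} (hμ : μ ≠ 1) : IsIrrCharacter G (X M μ) := by
  have := S.sR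
  refine S.irr_of_sum (S.X_isGen μ) ?_ (d := 4 * s ^ 4 + 1) (by positivity) (by simp [S.X_one])
  rw [S.sum_eq _ (fun g => e M.H μ g * e M.H μ g) 0 0 1 1
    (fun g h => by simp [S.X_U μ (S.U_two h)]) (fun g h => by simp [S.X_U μ (S.U_four h)])
    (fun g h => by simp [S.X_H μ h, S.T₀.conj_e])
    (fun g h => by simp [S.X_FPF μ (S.fpf₁ h)]) (fun g h => by simp [S.X_FPF μ (S.fpf₂ h)])
    (fun g h1 h => by simp [e_of_not_mem _ h1 h]) (fun g h1 h => rfl) (fun g h1 h => rfl)]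
  simp only [S.T₀.sum_e_mul_e hμ, e_one, S.X_one, S.i₀, S.c₀C, S.GC, map_mul, map_add, map_one,
    map_pow, Complex.conj_natCast, Complex.conj_ofNat, Pi.zero_apply, Finset.sum_const_zero]
  push_cast
  ring

theorem Y₁_irr {lam : P₁ →* ℂˣ} (hl : lam ≠ 1) : IsIrrCharacter G (Y M s (s - 1) P₁ lam) := by
  have := S.sR
  refine S.irr_of_sum (S.Y_isGen _ lam) ?_ (d := (2 * s ^ 2 - 1) * (2 * s ^ 2 - 2 * s + 1))
    (mul_pos (by nlinarith) (by nlinarith)) (by simp [S.Y₁_one])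
  rw [S.sum_eq _ 0 (fun g => e P₁ lam g * e P₁ lam g) 0 ((2 * s - 1) ^ 2) 1
    (fun g h => by simp [S.Y₁_two lam h, pow_two, Complex.conj_ofNat])
    (fun g h => by simp [S.Y₁_four lam h])
    (fun g h => by simp [S.Y₁_H lam h])
    (fun g h => by simp [S.Y₁_₁ lam h, S.T₁.conj_e]) (fun g h => by simp [S.Y₁_₂ lam h])
    (fun g h1 h => rfl) (fun g h1 h => by simp [e_of_not_mem _ h1 h]) (fun g h1 h => rfl)]
  simp only [S.T₁.sum_e_mul_e hl, e_one, S.Y₁_one, S.i₁, S.c₁C, S.GC, map_mul, map_add, map_one,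
    map_sub, map_pow, Complex.conj_natCast, Complex.conj_ofNat, Pi.zero_apply, Finset.sum_const_zero]
  push_cast
  ring

theorem Y₂_irr {lam : P₂ →* ℂˣ} (hl : lam ≠ 1) : IsIrrCharacter G (Y M s (s + 1) P₂ lam) := by
  have := S.sR
  refine S.irr_of_sum (S.Y_isGen _ lam) ?_ (d := (2 * s ^ 2 - 1) * (2 * s ^ 2 + 2 * s + 1))
    (mul_pos (by nlinarith) (by nlinarith)) (by simp [S.Y₂_one])
  rw [S.sum_eq _ 0 0 (fun g => e P₂ lam g * e P₂ lam g) ((2 * s + 1) ^ 2) 1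
    (fun g h => by
      simp only [S.Y₂_two lam h, map_neg, map_add, map_mul, map_one, Complex.conj_natCast,
        Complex.conj_ofNat]
      ring)
    (fun g h => by simp [S.Y₂_four lam h])
    (fun g h => by simp [S.Y₂_H lam h])
    (fun g h => by simp [S.Y₂_₁ lam h]) (fun g h => by simp [S.Y₂_₂ lam h, S.T₂.conj_e])
    (fun g h1 h => rfl) (fun g h1 h => rfl) (fun g h1 h => by simp [e_of_not_mem _ h1 h])]
  simp only [S.T₂.sum_e_mul_e hl, e_one, S.Y₂_one, S.i₂, S.c₂C, S.GC, map_mul, map_add, map_one,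
    map_sub, map_pow, Complex.conj_natCast, Complex.conj_ofNat, Pi.zero_apply, Finset.sum_const_zero]
  push_cast
  ring

theorem W_four_mul_conj {g : G} (h : orderOf g = 4) :
    W M s N₁ N₂ g * conj (W M s N₁ N₂ g) = s ^ 2 := by
  rcases S.W_four h with h' | h' <;> rw [h'] <;>
    simp only [map_neg, map_mul, Complex.conj_natCast, Complex.conj_I] <;>
    linear_combination (-(s : ℂ) ^ 2) * Complex.I_mul_I

theorem W_four_add_conj {g : G} (h : orderOf g = 4) :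
    W M s N₁ N₂ g + conj (W M s N₁ N₂ g) = 0 := by
  rcases S.W_four h with h' | h' <;> simp [h']

theorem W_irr : IsIrrCharacter G (W M s N₁ N₂) := by
  have := S.sR
  refine S.irr_of_sum S.W_isGen ?_ (d := s * (2 * s ^ 2 - 1))
    (mul_pos (by linarith) (by nlinarith)) (by simp [S.W_one])
  rw [S.sum_eq _ 0 (fun g => e P₁ 1 g / 4) (fun g => e P₂ 1 g / 4) (s ^ 2) (s ^ 2)
    (fun g h => by simp [S.W_two h, pow_two]) (fun g h => S.W_four_mul_conj h)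
    (fun g h => by simp [S.W_H h])
    (fun g h => by simp [S.W_₁ h, S.T₁.e_triv h]) (fun g h => by simp [S.W_₂ h, S.T₂.e_triv h])
    (fun g h1 h => rfl) (fun g h1 h => by simp [e_of_not_mem _ h1 h])
    (fun g h1 h => by simp [e_of_not_mem _ h1 h])]
  simp only [← Finset.sum_div, sum_e_triv, e_one, S.W_one, S.i₁, S.i₂, S.GC, map_mul, map_sub,
    map_one, map_pow, Complex.conj_natCast, Complex.conj_ofNat, Pi.zero_apply, Finset.sum_const_zero]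
  ring

open Classical in
/-- Completeness of the character table. -/
theorem sum_irr [Fintype (M.H →* ℂˣ)] [Fintype (P₁ →* ℂˣ)] [Fintype (P₂ →* ℂˣ)]
    (f : (G → ℂ) → ℂ) : ∑ ψ : IrrCharacter G, f ψ = f (fun _ => 1) + f (St M) +
      (∑ μ ∈ Finset.univ.erase 1, f (X M μ)) / 2 +
      (∑ l ∈ Finset.univ.erase 1, f (Y M s (s - 1) P₁ l)) / 4 +
      (∑ l ∈ Finset.univ.erase 1, f (Y M s (s + 1) P₂ l)) / 4 +
      f (W M s N₁ N₂) + f fun g => conj (W M s N₁ N₂ g) := by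
  let ι := Fin 4 ⊕ {μ : M.H →* ℂˣ // μ ≠ 1} ⊕ {l : P₁ →* ℂˣ // l ≠ 1} ⊕ {l : P₂ →* ℂˣ // l ≠ 1}
  let χ : ι → G → ℂ := Sum.elim ![fun _ => 1, St M, W M s N₁ N₂, fun g => conj (W M s N₁ N₂ g)]
    (Sum.elim (fun μ => X M μ) (Sum.elim (fun l => Y M s (s - 1) P₁ l) fun l => Y M s (s + 1) P₂ l))
  let w : ι → ℂ := Sum.elim (fun _ => 1)
    (Sum.elim (fun _ => 1 / 2) (Sum.elim (fun _ => 1 / 4) fun _ => 1 / 4))
  have hsum : ∀ f : (G → ℂ) → ℂ, ∑ i, w i * f (χ i) = f (fun _ => 1) + f (St M) +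
      (∑ μ ∈ Finset.univ.erase 1, f (X M μ)) / 2 +
      (∑ l ∈ Finset.univ.erase 1, f (Y M s (s - 1) P₁ l)) / 4 +
      (∑ l ∈ Finset.univ.erase 1, f (Y M s (s + 1) P₂ l)) / 4 +
      f (W M s N₁ N₂) + f fun g => conj (W M s N₁ N₂ g) := by
    intro f
    rw [Finset.sum_subtype (Finset.univ.erase 1) (p := fun μ => μ ≠ 1) (by simp),
      Finset.sum_subtype (Finset.univ.erase 1) (p := fun μ => μ ≠ 1) (by simp),
      Finset.sum_subtype (Finset.univ.erase 1) (p := fun μ => μ ≠ 1) (by simp)]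
    simp only [ι, χ, w, Fintype.sum_sum_type, Sum.elim_inl, Sum.elim_inr, Fin.sum_univ_four,
      Matrix.cons_val_zero, Matrix.cons_val_one, Matrix.cons_val, ← Finset.mul_sum]
    ring
  rw [← hsum]
  refine sum_irr_eq_of_regular χ ?_ w (fun g => ?_) f
  · rintro (i | ⟨μ, h⟩ | ⟨l, h⟩ | ⟨l, h⟩)
    · fin_cases i
      · exact isIrrCharacter_one
      · exact S.St_irr
      · exact S.W_irr
      · exact S.W_irr.conj
    · exact S.X_irr h
    · exact S.Y₁_irr h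
    · exact S.Y₂_irr h
  rw [hsum fun χ => χ 1 * χ g]
  simp only [S.St_one, S.X_one, S.Y₁_one, S.Y₂_one, S.W_one, ← Finset.mul_sum, map_mul, map_sub,
    map_pow, map_one, Complex.conj_natCast, Complex.conj_ofNat]
  rcases S.cases g with rfl | h | h | h | h | h
  · simp only [S.St_one, S.X_one, S.Y₁_one, S.Y₂_one, S.W_one, Finset.sum_const, nsmul_eq_mul,
      S.T₀.card_hom_erase, S.T₁.card_hom_erase, S.T₂.card_hom_erase, S.c₀C, S.c₁C, S.c₂C, S.GC,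
      if_true, map_mul, map_sub, map_pow, map_one, Complex.conj_natCast, Complex.conj_ofNat]
    ring
  · have hU := S.U_two h
    simp only [S.St_U hU, S.X_U _ hU, S.Y₁_two _ h, S.Y₂_two _ h, S.W_two h, Finset.sum_const,
      nsmul_eq_mul, S.T₀.card_hom_erase, S.T₁.card_hom_erase, S.T₂.card_hom_erase, S.c₀C, S.c₁C,
      S.c₂C, if_neg hU.1, map_neg, Complex.conj_natCast]
    ring
  · have hU := S.U_four h
    simp only [S.St_U hU, S.X_U _ hU, S.Y₁_four _ h, S.Y₂_four _ h, Finset.sum_const,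
      nsmul_eq_mul, S.T₀.card_hom_erase, S.T₁.card_hom_erase, S.T₂.card_hom_erase, S.c₀C, S.c₁C,
      S.c₂C, if_neg hU.1]
    linear_combination (s * (2 * s ^ 2 - 1)) * S.W_four_add_conj h
  · simp only [S.St_H h, S.X_H _ h, S.Y₁_H _ h, S.Y₂_H _ h, S.W_H h, S.T₀.sum_e_erase h,
      Finset.sum_const_zero, if_neg h.1, map_zero]
    push_cast
    ring
  · simp only [S.St_FPF (S.fpf₁ h), S.X_FPF _ (S.fpf₁ h), S.Y₁_₁ _ h, S.Y₂_₁ _ h, S.W_₁ h,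
      S.T₁.sum_e_erase h, Finset.sum_neg_distrib, Finset.sum_const_zero, if_neg h.1, map_one]
    push_cast
    ring
  · simp only [S.St_FPF (S.fpf₂ h), S.X_FPF _ (S.fpf₂ h), S.Y₁_₂ _ h, S.Y₂_₂ _ h, S.W_₂ h,
      S.T₂.sum_e_erase h, Finset.sum_neg_distrib, Finset.sum_const_zero, if_neg h.1, map_one,
      map_neg]
    push_cast
    ring

/-- Every irreducible character is in the table. -/
theorem irr_cases {χ : G → ℂ} (hχ : IsIrrCharacter G χ) :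
    χ = (fun _ => 1) ∨ χ = St M ∨ (∃ μ, μ ≠ 1 ∧ χ = X M μ) ∨
      (∃ l, l ≠ 1 ∧ χ = Y M s (s - 1) P₁ l) ∨ (∃ l, l ≠ 1 ∧ χ = Y M s (s + 1) P₂ l) ∨
      χ = W M s N₁ N₂ ∨ χ = fun g => conj (W M s N₁ N₂ g) := by
  classical
  have := Fintype.ofFinite (M.H →* ℂˣ)
  have := Fintype.ofFinite (P₁ →* ℂˣ)
  have := Fintype.ofFinite (P₂ →* ℂˣ)
  by_contra hne
  push Not at hne
  obtain ⟨h1, h2, h3, h4, h5, h6, h7⟩ := hne
  have := S.sum_irr fun ψ => if χ = ψ then 1 else 0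
  rw [Finset.sum_eq_single ⟨χ, hχ⟩ (fun ψ _ h => if_neg fun h' => h (Subtype.ext h'.symm))
    (by simp), if_pos rfl, if_neg h1, if_neg h2, if_neg h6, if_neg h7,
    Finset.sum_eq_zero fun μ h => if_neg (h3 μ (Finset.ne_of_mem_erase h)),
    Finset.sum_eq_zero fun μ h => if_neg (h4 μ (Finset.ne_of_mem_erase h)),
    Finset.sum_eq_zero fun μ h => if_neg (h5 μ (Finset.ne_of_mem_erase h))] at this
  simp at this

omit S in
theorem _root_.CL.Sz.Tor.exists_hom_ne_one {P N : Subgroup G} {s : ℕ} (T : Tor P N s) :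
    ∃ l : P →* ℂˣ, l ≠ 1 := by
  obtain ⟨c, hc, h1⟩ := T.exists_ne_one
  obtain ⟨l, hl⟩ := exists_hom_apply_ne_one_of_comm T.comm' (x := ⟨c, hc⟩)
    (fun h => h1 (congrArg Subtype.val h))
  exact ⟨l, by rintro rfl; exact hl rfl⟩

/-- The character degrees. -/
theorem mem_charDegrees_iff {d : ℕ} : d ∈ charDegrees G ↔ d = 1 ∨ d = Nat.card F ^ 2 ∨
    d = Nat.card F ^ 2 + 1 ∨ d = (Nat.card F - 1) * Nat.card P₂ ∨
    d = (Nat.card F - 1) * Nat.card P₁ ∨ d = s * (Nat.card F - 1) := by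
  have hq := (Model.one_lt_card (F := F)).le
  have d1 : charDegree (St M) = Nat.card F ^ 2 :=
    charDegree_eq_of_apply_one (by rw [S.St_one]; push_cast [S.qC]; ring)
  have d2 : ∀ μ, charDegree (X M μ) = Nat.card F ^ 2 + 1 := fun μ =>
    charDegree_eq_of_apply_one (by rw [S.X_one]; push_cast [S.qC]; ring)
  have d3 : ∀ l, charDegree (Y M s (s - 1) P₁ l) = (Nat.card F - 1) * Nat.card P₂ := fun l =>
    charDegree_eq_of_apply_one (by rw [S.Y₁_one]; push_cast [Nat.cast_sub hq, S.qC, S.c₂C]; ring)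
  have d4 : ∀ l, charDegree (Y M s (s + 1) P₂ l) = (Nat.card F - 1) * Nat.card P₁ := fun l =>
    charDegree_eq_of_apply_one (by rw [S.Y₂_one]; push_cast [Nat.cast_sub hq, S.qC, S.c₁C]; ring)
  have d5 : charDegree (W M s N₁ N₂) = s * (Nat.card F - 1) :=
    charDegree_eq_of_apply_one (by rw [S.W_one]; push_cast [Nat.cast_sub hq, S.qC]; ring)
  have d6 : charDegree (fun g => conj (W M s N₁ N₂ g)) = s * (Nat.card F - 1) :=
    charDegree_eq_of_apply_one (by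
      rw [S.W_irr.isCharacter.conj_one, S.W_one]; push_cast [Nat.cast_sub hq, S.qC]; ring)
  constructor
  · rintro ⟨⟨χ, hχ⟩, rfl⟩
    rcases S.irr_cases hχ with rfl | rfl | ⟨μ, -, rfl⟩ | ⟨l, -, rfl⟩ | ⟨l, -, rfl⟩ | rfl | rfl
    · exact Or.inl charDegree_const_one
    all_goals simp [d1, d2, d3, d4, d5, d6]
  · rintro (rfl | rfl | rfl | rfl | rfl | rfl)
    · exact ⟨⟨_, isIrrCharacter_one⟩, charDegree_const_one⟩
    · exact ⟨⟨_, S.St_irr⟩, d1⟩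
    · obtain ⟨l, hl⟩ := S.T₀.exists_hom_ne_one
      exact ⟨⟨_, S.X_irr hl⟩, d2 l⟩
    · obtain ⟨l, hl⟩ := S.T₁.exists_hom_ne_one
      exact ⟨⟨_, S.Y₁_irr hl⟩, d3 l⟩
    · obtain ⟨l, hl⟩ := S.T₂.exists_hom_ne_one
      exact ⟨⟨_, S.Y₂_irr hl⟩, d4 l⟩
    · exact ⟨⟨_, S.W_irr⟩, d5⟩

end Setup

end CL.Sz
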